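import Cfsg.Agent.Helper6.Brauer8
import Cfsg.Agent.Helper6.Brauer9
import Cfsg.Agent.Helper6.Brauer10

/-!
# BP: Brauer's characterization of characters, nilpotent `(S, C)`-form for a prime `p`

A class function whose restriction to every subgroup `S ⊔ C` (`S` a `p`-subgroup, `C` a `p'`-subgroup
centralizing `S`) is a generalized character, is a generalized character.  This is the corollary of
`Cfsg.Agent.Helper6.brauer_characterization` needed for L9 of the Broué–Puig blueprint.
-/

set_option autoImplicit false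
set_option linter.unusedSectionVars false
set_option linter.style.haveILetI false

namespace Cfsg.Agent.BP

universe u

/-- in an elementary group, an element whose order is prime to `q` lies in the central cyclic
subgroup -/
theorem bp_elementary_mem_zpowers {E : Type u} [Group E] [Finite E] {q : ℕ} (x : E) {k : ℕ}
    (hx : x ∈ Subgroup.center E) (hk : (Subgroup.zpowers x).index = q ^ k) (g : E)
    (hg : Nat.Coprime (orderOf g) q) : g ∈ Subgroup.zpowers x := by
  have hZ : Subgroup.zpowers x ≤ Subgroup.center E := by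
    rw [Subgroup.zpowers_le]
    exact hx
  haveI : (Subgroup.zpowers x).Normal := Cfsg.Agent.Helper6.normal_of_le_center _ hZ
  rw [← QuotientGroup.eq_one_iff (N := Subgroup.zpowers x), ← orderOf_eq_one_iff]
  have h1 : orderOf (g : E ⧸ Subgroup.zpowers x) ∣ orderOf g :=
    orderOf_map_dvd (QuotientGroup.mk' (Subgroup.zpowers x)) g
  have h2 : orderOf (g : E ⧸ Subgroup.zpowers x) ∣ q ^ k := by
    rw [← hk, Subgroup.index_eq_card]
    exact orderOf_dvd_natCard _
  exact Nat.eq_one_of_dvd_coprimes (Nat.Coprime.pow_right _ hg) h1 h2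

/-- in an elementary group, a `p`-element and a `p'`-element commute -/
theorem bp_elementary_commute {E : Type u} [Group E] [Finite E] {q : ℕ} (hq : q.Prime)
    (hE : Cfsg.IsElementary q E) (p : ℕ) [hp : Fact p.Prime] (u v : E)
    (hu : ∃ j : ℕ, u ^ (p ^ j) = 1) (hv : ¬ p ∣ orderOf v) : u * v = v * u := by
  obtain ⟨x, hx, hcop, k, hk⟩ := hE
  have hZ : Subgroup.zpowers x ≤ Subgroup.center E := by
    rw [Subgroup.zpowers_le]
    exact hx
  by_cases hqp : q = p
  · subst hqp
    have hvZ : v ∈ Subgroup.zpowers x :=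
      bp_elementary_mem_zpowers x hx hk v ((Nat.Prime.coprime_iff_not_dvd hq).mpr hv).symm
    exact (Subgroup.mem_center_iff.mp (hZ hvZ) u)
  · obtain ⟨j, hj⟩ := hu
    have h1 : orderOf u ∣ p ^ j := orderOf_dvd_of_pow_eq_one hj
    have h2 : Nat.Coprime (p ^ j) q :=
      Nat.Coprime.pow_left _ ((Nat.coprime_primes hp.out hq).mpr (fun h => hqp h.symm))
    have huZ : u ∈ Subgroup.zpowers x :=
      bp_elementary_mem_zpowers x hx hk u (Nat.Coprime.coprime_dvd_left h1 h2)
    exact (Subgroup.mem_center_iff.mp (hZ huZ) v).symm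

/-- Brauer's characterization, nilpotent form for the prime `p`: a class function whose restriction to
every subgroup `S ⊔ C` (`S` a `p`-subgroup, `C` a `p'`-subgroup centralizing `S`) is a generalized
character, is a generalized character. -/
theorem bp_brauer_char_pC {G : Type u} [Group G] [Fintype G] (p : ℕ) [Fact p.Prime] (θ : G → ℂ)
    (hθ : Cfsg.IsClassFunction G θ)
    (h : ∀ (S C : Subgroup G), IsPGroup p S → (∀ c ∈ C, ¬ p ∣ orderOf c) →
        C ≤ Subgroup.centralizer (S : Set G) →
        Cfsg.IsGeneralizedCharacter ↥(S ⊔ C) (fun e : ↥(S ⊔ C) => θ (e : G))) :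
    Cfsg.IsGeneralizedCharacter G θ := by
  classical
  apply Cfsg.Agent.Helper6.brauer_characterization θ hθ
  intro E q hq hE
  obtain ⟨B, hBn, hBcop, b, hb⟩ := Cfsg.Agent.Helper6.exists_normal_p_complement hq hE p
  haveI := hBn
  obtain ⟨P⟩ := (inferInstance : Nonempty (Sylow p E))
  have hPcard : Nat.card P = p ^ b :=
    Cfsg.Agent.Helper6.sylow_card_of_coprime_index B hBcop hb P
  have hBmem : ∀ x : E, x ∈ B ↔ ¬ p ∣ orderOf x :=
    fun x => Cfsg.Agent.Helper6.mem_iff_not_dvd_orderOf B hBcop hb x
  -- `P ⊔ B = ⊤` inside `E`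
  have hsup : (P : Subgroup E) ⊔ B = ⊤ := by
    rw [← Subgroup.index_eq_one]
    have h1 : ((P : Subgroup E) ⊔ B).index ∣ B.index := Subgroup.index_dvd_of_le le_sup_right
    have h2 : ((P : Subgroup E) ⊔ B).index ∣ (P : Subgroup E).index :=
      Subgroup.index_dvd_of_le le_sup_left
    have h3 : (P : Subgroup E).index = Nat.card B := by
      have e1 := Subgroup.card_mul_index (P : Subgroup E)
      have e2 := Subgroup.card_mul_index B
      rw [hb] at e2
      rw [hPcard, ← e2, mul_comm] at e1
      exact Nat.eq_of_mul_eq_mul_right (pow_pos (Fact.out : p.Prime).pos b) e1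
    rw [hb] at h1
    rw [h3] at h2
    exact Nat.eq_one_of_dvd_coprimes (Nat.Coprime.pow_left b hBcop.symm) h1 h2
  set S : Subgroup G := (P : Subgroup E).map E.subtype with hS
  set C : Subgroup G := B.map E.subtype with hC
  have hSp : IsPGroup p S := (P.2 : IsPGroup p P).map E.subtype
  have hCp : ∀ c ∈ C, ¬ p ∣ orderOf c := by
    intro c hc
    rw [hC, Subgroup.mem_map] at hc
    obtain ⟨y, hy, rfl⟩ := hc
    have : orderOf (E.subtype y) = orderOf y := Subgroup.orderOf_coe y
    rw [this]
    exact (hBmem y).mp hy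
  have hcent : C ≤ Subgroup.centralizer (S : Set G) := by
    intro c hc
    rw [hC, Subgroup.mem_map] at hc
    obtain ⟨y, hy, rfl⟩ := hc
    rw [Subgroup.mem_centralizer_iff]
    intro s hs
    rw [SetLike.mem_coe, hS, Subgroup.mem_map] at hs
    obtain ⟨z, hz, rfl⟩ := hs
    have hzp : ∃ j : ℕ, z ^ (p ^ j) = 1 := by
      obtain ⟨j, hj⟩ := (P.2 : IsPGroup p P) ⟨z, hz⟩
      refine ⟨j, ?_⟩
      have := congrArg Subtype.val hj
      simpa using this
    have hcomm := bp_elementary_commute hq hE p z y hzp ((hBmem y).mp hy)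
    have := congrArg E.subtype hcomm
    simpa using this
  have hEq : S ⊔ C = E := by
    rw [hS, hC, ← Subgroup.map_sup, hsup, ← MonoidHom.range_eq_map, Subgroup.range_subtype]
  have key := h S C hSp hCp hcent
  rw [hEq] at key
  exact key

end Cfsg.Agent.BP
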