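import Cfsg.Agent.BP.StarDef
import Cfsg.Agent.BP.BrauerChar
import Cfsg.Agent.Helper6.Linear
import Cfsg.Agent.Helper6.Brauer8

/-!
# BP: the glue `(restriction to all S ⊔ C) + (class function) ⇒ (BP)`

`bp_star_isGeneralizedCharacter`: if `η * χ` is a class function whose restriction to every
subgroup `S ⊔ C` (`S` a `p`-group, `C` a `p'`-group centralising `S`) is a generalized character,
then `η * χ` is a generalized character of `G` (Brauer's characterization, `bp_brauer_char_pC`).
The two packaged forms `bp_hBP_of_restrict` (shape used in §9/§10 by helper6) and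
`bp_hBP_linear` (shape used by helper9 for the linear characters trivial on the focal subgroup).
-/

set_option autoImplicit false

namespace Cfsg.Agent.BP

open Cfsg.Agent.Helper6

universe u

variable {G : Type u} [Group G] [Fintype G]

/-- **(BP)** from the restriction theorem L9 and the class-function property. -/
theorem bp_star_isGeneralizedCharacter (p : ℕ) [Fact p.Prime] (M : Ideal Cfsg.AlgInt)
    (D : Subgroup G) (e : Set (Cfsg.IrrCharacter (Subgroup.centralizer (D : Set G))))
    (η : D → ℂ) (χ : G → ℂ)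
    (hcf : Cfsg.IsClassFunction G (bp_star p M D e η χ))
    (hres : ∀ (S C : Subgroup G), IsPGroup p S → (∀ c ∈ C, ¬ p ∣ orderOf c) →
        C ≤ Subgroup.centralizer (S : Set G) →
        Cfsg.IsGeneralizedCharacter ↥(S ⊔ C) (fun h : ↥(S ⊔ C) => bp_star p M D e η χ (h : G))) :
    Cfsg.IsGeneralizedCharacter G (bp_star p M D e η χ) :=
  bp_brauer_char_pC p (bp_star p M D e η χ) hcf hres

/-- the hypothesis `hBP` of §9/§10 (helper6's shape) from L9 (`hres`) and the class-function
property (`hcf`), both quantified over stable generalized characters `η` of `D` and characters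
`χ` of `G`. -/
theorem bp_hBP_of_restrict (p : ℕ) [Fact p.Prime] (M : Ideal Cfsg.AlgInt)
    (D : Subgroup G) (e : Set (Cfsg.IrrCharacter (Subgroup.centralizer (D : Set G))))
    (hcf : ∀ (η : D → ℂ), Cfsg.IsGeneralizedCharacter D η → bp_stable p M D e η →
      ∀ (χ : G → ℂ), Cfsg.IsCharacter G χ → Cfsg.IsClassFunction G (bp_star p M D e η χ))
    (hres : ∀ (η : D → ℂ), Cfsg.IsGeneralizedCharacter D η → bp_stable p M D e η →
      ∀ (χ : G → ℂ), Cfsg.IsCharacter G χ →
      ∀ (S C : Subgroup G), IsPGroup p S → (∀ c ∈ C, ¬ p ∣ orderOf c) →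
        C ≤ Subgroup.centralizer (S : Set G) →
        Cfsg.IsGeneralizedCharacter ↥(S ⊔ C) (fun h : ↥(S ⊔ C) => bp_star p M D e η χ (h : G))) :
    ∀ (η : D → ℂ), Cfsg.IsGeneralizedCharacter D η → bp_stable p M D e η →
      ∀ (χ : G → ℂ), Cfsg.IsCharacter G χ →
        Cfsg.IsGeneralizedCharacter G (bp_star p M D e η χ) :=
  fun η hη hst χ hχ =>
    bp_star_isGeneralizedCharacter p M D e η χ (hcf η hη hst χ hχ) (hres η hη hst χ hχ)

/-- a linear character is a generalized character -/
theorem bp_linear_isGeneralizedCharacter {H : Type u} [Group H] (lam : H →* ℂˣ) :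
    Cfsg.IsGeneralizedCharacter H (fun w => ((lam w : ℂˣ) : ℂ)) :=
  IsGeneralizedCharacter.of_isCharacter (IsIrrCharacter.isCharacter (isIrrCharacter_of_hom lam))

/-- helper9's shape of `hBP`: linear characters of `D` trivial on the focal subgroup, irreducible
characters of the block. -/
theorem bp_hBP_linear (p : ℕ) [Fact p.Prime] (M : Ideal Cfsg.AlgInt)
    (B : Set (Cfsg.IrrCharacter G))
    (D : Subgroup G) (e : Set (Cfsg.IrrCharacter (Subgroup.centralizer (D : Set G))))
    (F : Cfsg.FusionSystem D) (hF : Cfsg.IsBlockFusionSystemOn p M B D e F)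
    (hBP : ∀ (η : D → ℂ), Cfsg.IsGeneralizedCharacter D η → bp_stable p M D e η →
      ∀ (χ : G → ℂ), Cfsg.IsCharacter G χ →
        Cfsg.IsGeneralizedCharacter G (bp_star p M D e η χ)) :
    ∀ (lam : D →* ℂˣ), (∀ w : D, (w : G) ∈ F.focalSubgroup → lam w = 1) →
      ∀ chi : Cfsg.IrrCharacter G, chi ∈ B →
        Cfsg.IsGeneralizedCharacter G
          (bp_star p M D e (fun w => ((lam w : ℂˣ) : ℂ)) (chi : G → ℂ)) :=
  fun lam hlam chi _ =>
    hBP _ (bp_linear_isGeneralizedCharacter lam) (bp_stable_of_focal B D e F hF lam hlam)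
      (chi : G → ℂ) (IsIrrCharacter.isCharacter chi.2)

end Cfsg.Agent.BP
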