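import Mathlib
import Cfsg.Prelude.Def_Characters
import Cfsg.Prelude.Def_Blocks
import Cfsg.Prelude.Def_BlockLocal
import Cfsg.Prelude.Def_BrauerPairs
import Cfsg.Prelude.Def_FusionSystem
import Cfsg.Prelude.Def_BlockFusion
import Cfsg.Agent.Helper6.PPartBasic
import Cfsg.Agent.Helper6.SecondMainE
import Cfsg.Agent.Helper6.StabPairs
import Cfsg.Agent.Helper6.NilpotentInner
import Cfsg.Agent.Helper6.BlockFusionDef
import Cfsg.Agent.Helper6.MajB

/-!
# BP: the Broué–Puig `*`-construction, definitions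

`(D, e)` a maximal Brauer pair, `η : D → ℂ`.  For a Brauer pair `a = (Q, f)` and `u ∈ Q` the number
`bp_etaAt … a u` is `η (t u t⁻¹)` for some `t` with `(Q, f)^t ≤ (D, e)` (and `0` if there is no such
`t`); it does not depend on `t` when `η` is `bp_stable`.  `bp_star … η χ` is the class function
`x ↦ ∑_f η[(⟨u⟩, f), u] · χ(x f̂)`, `u` the `p`-part of `x`, `f` running over the blocks of `C_G(u)`.
-/

set_option autoImplicit false

namespace Cfsg.Agent.BP

open Cfsg.Agent.Helper6 Cfsg.Agent.Helper6.Maj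

universe u

variable {G : Type u} [Group G] {M : Ideal Cfsg.AlgInt}

/-- the `p`-part of an element of a finite group -/
noncomputable def bp_pPart [Finite G] (p : ℕ) [Fact p.Prime] (x : G) : G :=
  (exists_isPPart p x).choose

theorem bp_pPart_spec [Finite G] (p : ℕ) [Fact p.Prime] (x : G) :
    Cfsg.IsPPart p x (bp_pPart p x) :=
  (exists_isPPart p x).choose_spec

theorem bp_pPart_eq [Finite G] {p : ℕ} [Fact p.Prime] {x u : G} (h : Cfsg.IsPPart p x u) :
    bp_pPart p x = u :=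
  isPPart_unique p (bp_pPart_spec p x) h

/-- the `p`-part of `u * s` for commuting `u` (a `p`-element) and `s` (a `p`-regular element) -/
theorem bp_pPart_mul [Finite G] {p : ℕ} [Fact p.Prime] {u s : G}
    (hu : ∃ k : ℕ, orderOf u = p ^ k) (hs : ¬ p ∣ orderOf s) (hus : Commute u s) :
    bp_pPart p (u * s) = u :=
  bp_pPart_eq ⟨s, rfl, hus, hu, hs⟩

theorem bp_pPart_conj [Finite G] (p : ℕ) [Fact p.Prime] (x t : G) :
    bp_pPart p (t * x * t⁻¹) = t * bp_pPart p x * t⁻¹ :=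
  bp_pPart_eq (IsPPart.conj (bp_pPart_spec p x) t)

/-- the `p`-part commutes with the element -/
theorem bp_pPart_commute [Finite G] (p : ℕ) [Fact p.Prime] (x : G) :
    Commute (bp_pPart p x) x := by
  obtain ⟨y, hxy, hc, -, -⟩ := bp_pPart_spec p x
  have h : Commute (bp_pPart p x) (bp_pPart p x * y) := (Commute.refl _).mul_right hc
  rwa [hxy] at h

/-- `u⁻¹ x` lies in the centralizer of `⟨u⟩`, `u` the `p`-part of `x` -/
theorem bp_pPart_inv_mul_mem [Finite G] (p : ℕ) [Fact p.Prime] (x : G) :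
    (bp_pPart p x)⁻¹ * x ∈
      Subgroup.centralizer ((Subgroup.zpowers (bp_pPart p x) : Subgroup G) : Set G) := by
  rw [Subgroup.mem_centralizer_iff]
  intro h hh
  obtain ⟨n, rfl⟩ := Subgroup.mem_zpowers_iff.mp hh
  have h1 : Commute (bp_pPart p x) ((bp_pPart p x)⁻¹ * x) :=
    (Commute.refl _).inv_right.mul_right (bp_pPart_commute p x)
  exact (h1.zpow_left n).eq

/-- the order of the `p`-part is a power of `p` -/
theorem bp_pPart_orderOf [Finite G] (p : ℕ) [Fact p.Prime] (x : G) :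
    ∃ k : ℕ, orderOf (bp_pPart p x) = p ^ k := by
  obtain ⟨y, -, -, hk, -⟩ := bp_pPart_spec p x
  exact hk

/-- `u⁻¹ x` is `p`-regular -/
theorem bp_pPart_inv_mul_regular [Finite G] (p : ℕ) [Fact p.Prime] (x : G) :
    ¬ p ∣ orderOf ((bp_pPart p x)⁻¹ * x) := by
  obtain ⟨y, hxy, -, -, hy⟩ := bp_pPart_spec p x
  have : (bp_pPart p x)⁻¹ * x = y := by
    have h : (bp_pPart p x)⁻¹ * (bp_pPart p x * y) = y := by group
    rwa [hxy] at h
  rw [this]
  exact hy

/-- `η[a; u]`: the value of `η` at a conjugate of `u` under an element carrying the pair `a`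
below `(D, e)`; zero if the pair is not conjugate to a pair below `(D, e)` -/
noncomputable def bp_etaAt (p : ℕ) (M : Ideal Cfsg.AlgInt) (D : Subgroup G)
    (e : Set (Cfsg.IrrCharacter (Subgroup.centralizer (D : Set G)))) (η : D → ℂ)
    (a : Cfsg.BrauerPairIdx G) (u : G) : ℂ := by
  classical exact
    if h : ∃ t : G, Relation.ReflTransGen (Cfsg.NormalSubpairRel p M) (conjPair t a) ⟨D, e⟩ then
      Cfsg.extendByZero D η (h.choose * u * h.choose⁻¹)
    else 0

/-- stability of `η` under the fusion of subpairs of `(D, e)` -/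
def bp_stable (p : ℕ) (M : Ideal Cfsg.AlgInt) (D : Subgroup G)
    (e : Set (Cfsg.IrrCharacter (Subgroup.centralizer (D : Set G)))) (η : D → ℂ) : Prop :=
  ∀ (a : Cfsg.BrauerPairIdx G) (x : G),
    Relation.ReflTransGen (Cfsg.NormalSubpairRel p M) a ⟨D, e⟩ →
    Relation.ReflTransGen (Cfsg.NormalSubpairRel p M) (conjPair x a) ⟨D, e⟩ →
    ∀ w ∈ a.1, Cfsg.extendByZero D η (x * w * x⁻¹) = Cfsg.extendByZero D η w

theorem bp_etaAt_of_not_exists {p : ℕ} (D : Subgroup G)
    (e : Set (Cfsg.IrrCharacter (Subgroup.centralizer (D : Set G)))) (η : D → ℂ)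
    (a : Cfsg.BrauerPairIdx G) (u : G)
    (h : ¬ ∃ t : G, Relation.ReflTransGen (Cfsg.NormalSubpairRel p M) (conjPair t a) ⟨D, e⟩) :
    bp_etaAt p M D e η a u = 0 := by
  unfold bp_etaAt
  rw [dif_neg h]

/-- for stable `η` the value `η[a; u]` can be computed with any `t` carrying `a` below `(D, e)` -/
theorem bp_etaAt_eq {p : ℕ} (D : Subgroup G)
    (e : Set (Cfsg.IrrCharacter (Subgroup.centralizer (D : Set G)))) (η : D → ℂ)
    (hst : bp_stable p M D e η) (a : Cfsg.BrauerPairIdx G) (u : G) (hu : u ∈ a.1) (t : G)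
    (ht : Relation.ReflTransGen (Cfsg.NormalSubpairRel p M) (conjPair t a) ⟨D, e⟩) :
    bp_etaAt p M D e η a u = Cfsg.extendByZero D η (t * u * t⁻¹) := by
  have hex : ∃ t : G, Relation.ReflTransGen (Cfsg.NormalSubpairRel p M) (conjPair t a) ⟨D, e⟩ :=
    ⟨t, ht⟩
  unfold bp_etaAt
  rw [dif_pos hex]
  set t₀ := hex.choose with ht₀
  have h₀ : Relation.ReflTransGen (Cfsg.NormalSubpairRel p M) (conjPair t₀ a) ⟨D, e⟩ :=
    hex.choose_spec
  -- apply stability to the pair `conjPair t₀ a` and the element `t * t₀⁻¹`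
  have h1 : conjPair (t * t₀⁻¹) (conjPair t₀ a) = conjPair t a := by
    rw [conjPair_conjPair]
    congr 1
    group
  have h2 := hst (conjPair t₀ a) (t * t₀⁻¹) h₀ (by rw [h1]; exact ht) (t₀ * u * t₀⁻¹) (by
    show t₀ * u * t₀⁻¹ ∈ a.1.map (MulAut.conj t₀).toMonoidHom
    exact ⟨u, hu, rfl⟩)
  rw [← h2]
  congr 1
  group

/-- `η[a; u]` is invariant under simultaneous conjugation -/
theorem bp_etaAt_conj {p : ℕ} (D : Subgroup G)
    (e : Set (Cfsg.IrrCharacter (Subgroup.centralizer (D : Set G)))) (η : D → ℂ)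
    (hst : bp_stable p M D e η) (a : Cfsg.BrauerPairIdx G) (u : G) (hu : u ∈ a.1) (g : G) :
    bp_etaAt p M D e η (conjPair g a) (g * u * g⁻¹) = bp_etaAt p M D e η a u := by
  by_cases hex : ∃ t : G,
      Relation.ReflTransGen (Cfsg.NormalSubpairRel p M) (conjPair t a) ⟨D, e⟩
  · obtain ⟨t, ht⟩ := hex
    have ht' : Relation.ReflTransGen (Cfsg.NormalSubpairRel p M)
        (conjPair (t * g⁻¹) (conjPair g a)) ⟨D, e⟩ := by
      rw [conjPair_conjPair]
      have : t * g⁻¹ * g = t := by group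
      rw [this]
      exact ht
    rw [bp_etaAt_eq D e η hst a u hu t ht,
      bp_etaAt_eq D e η hst (conjPair g a) (g * u * g⁻¹) ⟨u, hu, rfl⟩ (t * g⁻¹) ht']
    congr 1
    group
  · rw [bp_etaAt_of_not_exists D e η a u hex]
    apply bp_etaAt_of_not_exists
    rintro ⟨t, ht⟩
    apply hex
    refine ⟨t * g, ?_⟩
    rw [← conjPair_conjPair]
    exact ht

/-- the value of `η * χ` at an element with `p`-part `u` and `p'`-part `y`, as a function of
`(u, y)` -/
noncomputable def bp_starAt [Finite G] (p : ℕ) (M : Ideal Cfsg.AlgInt) (D : Subgroup G)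
    (e : Set (Cfsg.IrrCharacter (Subgroup.centralizer (D : Set G)))) (η : D → ℂ) (χ : G → ℂ)
    (u y : G) : ℂ :=
  ∑ᶠ f ∈ {f : Set (Cfsg.IrrCharacter
      (Subgroup.centralizer ((Subgroup.zpowers u : Subgroup G) : Set G))) | Cfsg.IsPBlock M f},
    bp_etaAt p M D e η ⟨Subgroup.zpowers u, f⟩ u *
      Cfsg.extendByZero (Subgroup.centralizer ((Subgroup.zpowers u : Subgroup G) : Set G))
        (Cfsg.blockPart f (fun c => χ (u * (c : G)))) y

/-- **the Broué–Puig `*`-construction** -/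
noncomputable def bp_star [Finite G] (p : ℕ) [Fact p.Prime] (M : Ideal Cfsg.AlgInt)
    (D : Subgroup G) (e : Set (Cfsg.IrrCharacter (Subgroup.centralizer (D : Set G))))
    (η : D → ℂ) (χ : G → ℂ) (x : G) : ℂ :=
  bp_starAt p M D e η χ (bp_pPart p x) ((bp_pPart p x)⁻¹ * x)

theorem bp_star_mul [Finite G] {p : ℕ} [Fact p.Prime] (D : Subgroup G)
    (e : Set (Cfsg.IrrCharacter (Subgroup.centralizer (D : Set G)))) (η : D → ℂ) (χ : G → ℂ)
    {u s : G} (hu : ∃ k : ℕ, orderOf u = p ^ k) (hs : ¬ p ∣ orderOf s) (hus : Commute u s) :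
    bp_star p M D e η χ (u * s) = bp_starAt p M D e η χ u s := by
  unfold bp_star
  rw [bp_pPart_mul hu hs hus]
  congr 1
  group

/-- the value of `η * χ` on the section of `u` in terms of the `p`-regular block parts `secPart` -/
theorem bp_starAt_eq_secPart [Finite G] {p : ℕ} (D : Subgroup G)
    (e : Set (Cfsg.IrrCharacter (Subgroup.centralizer (D : Set G)))) (η : D → ℂ) (χ : G → ℂ)
    (u : G) (s : Subgroup.centralizer ((Subgroup.zpowers u : Subgroup G) : Set G))
    (hs : ¬ p ∣ orderOf s) :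
    bp_starAt p M D e η χ u (s : G) =
      ∑ᶠ f ∈ {f : Set (Cfsg.IrrCharacter
          (Subgroup.centralizer ((Subgroup.zpowers u : Subgroup G) : Set G))) | Cfsg.IsPBlock M f},
        bp_etaAt p M D e η ⟨Subgroup.zpowers u, f⟩ u *
          secPart p (Subgroup.centralizer ((Subgroup.zpowers u : Subgroup G) : Set G)) f χ u s := by
  unfold bp_starAt
  apply finsum_mem_congr rfl
  intro f _
  congr 1
  unfold Cfsg.extendByZero secPart Cfsg.pRegularPart
  rw [Subtype.val_injective.extend_apply]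
  have : Cfsg.IsPRegular p s := hs
  rw [if_pos this]

/-- a linear character of `D` which is trivial on the focal subgroup is stable -/
theorem bp_stable_of_focal {p : ℕ} (B : Set (Cfsg.IrrCharacter G)) (D : Subgroup G)
    (e : Set (Cfsg.IrrCharacter (Subgroup.centralizer (D : Set G)))) (F : Cfsg.FusionSystem D)
    (hF : Cfsg.IsBlockFusionSystemOn p M B D e F) (lam : D →* ℂˣ)
    (hlam : ∀ w : D, (w : G) ∈ F.focalSubgroup → lam w = 1) :
    bp_stable p M D e (fun w => ((lam w : ℂˣ) : ℂ)) := by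
  rintro ⟨Q, f⟩ x hle hlex w hw
  have hQD : Q ≤ D := SubpairLE.le' _ _ hle
  have hQxD : Q.map (MulAut.conj x).toMonoidHom ≤ D := SubpairLE.le' _ _ hlex
  have hwD : w ∈ D := hQD hw
  have hxwD : x * w * x⁻¹ ∈ D := hQxD ⟨w, hw, rfl⟩
  -- conjugation by `x` on `Q` is a map of the fusion system
  set φ : Q →* G := ((MulAut.conj x).toMonoidHom).comp Q.subtype with hφ
  have hφF : φ ∈ F.Hom Q := by
    rw [hF.2 Q φ]
    exact ⟨hQD, x, fun u => rfl, hQxD, f, hle, hlex⟩
  have hfoc : w⁻¹ * (x * w * x⁻¹) ∈ F.focalSubgroup := by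
    apply Subgroup.subset_closure
    exact ⟨Q, φ, ⟨w, hw⟩, hφF, rfl⟩
  have h1 := hlam ⟨w⁻¹ * (x * w * x⁻¹), D.mul_mem (D.inv_mem hwD) hxwD⟩ hfoc
  have h2 : (⟨w⁻¹ * (x * w * x⁻¹), D.mul_mem (D.inv_mem hwD) hxwD⟩ : D) =
      (⟨w, hwD⟩ : D)⁻¹ * ⟨x * w * x⁻¹, hxwD⟩ := rfl
  rw [h2, map_mul, map_inv, inv_mul_eq_one] at h1
  have e1 : Cfsg.extendByZero D (fun w => ((lam w : ℂˣ) : ℂ)) (x * w * x⁻¹) =
      ((lam ⟨x * w * x⁻¹, hxwD⟩ : ℂˣ) : ℂ) := by
    unfold Cfsg.extendByZero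
    exact Subtype.val_injective.extend_apply _ _ (⟨x * w * x⁻¹, hxwD⟩ : D)
  have e2 : Cfsg.extendByZero D (fun w => ((lam w : ℂˣ) : ℂ)) w = ((lam ⟨w, hwD⟩ : ℂˣ) : ℂ) := by
    unfold Cfsg.extendByZero
    exact Subtype.val_injective.extend_apply _ _ (⟨w, hwD⟩ : D)
  rw [e1, e2, h1]

/-- for a nilpotent block every class function of `D` is stable -/
theorem bp_stable_of_nilpotent [Fintype G] {p : ℕ} [hp : Fact p.Prime]
    (hM : Cfsg.IsPModular p M) (B : Set (Cfsg.IrrCharacter G)) (D : Subgroup G)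
    (e : Set (Cfsg.IrrCharacter (Subgroup.centralizer (D : Set G))))
    (hmax : Cfsg.IsMaximalBrauerPair p M B D e) (hnil : Cfsg.IsNilpotentBlock p M B)
    (η : D → ℂ) (hη : Cfsg.IsClassFunction D η) : bp_stable p M D e η := by
  rintro ⟨Q, f⟩ x hle hlex w hw
  have hQD : Q ≤ D := SubpairLE.le' _ _ hle
  have hf : Cfsg.IsPBlock M f := (isBrauerPairOf_of_subpairLE hM D Q e f hle B hmax.1).1.2
  obtain ⟨v, hvD, hv⟩ := exists_conj_eq_of_nilpotent hM B D e hmax hnil _ Q f rfl hQD hf hle x hlex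
  rw [hv w hw]
  have hwD : w ∈ D := hQD hw
  have hvw : v * w * v⁻¹ ∈ D := D.mul_mem (D.mul_mem hvD hwD) (D.inv_mem hvD)
  have e1 : Cfsg.extendByZero D η (v * w * v⁻¹) = η ⟨v * w * v⁻¹, hvw⟩ := by
    unfold Cfsg.extendByZero
    exact Subtype.val_injective.extend_apply _ _ (⟨v * w * v⁻¹, hvw⟩ : D)
  have e2 : Cfsg.extendByZero D η w = η ⟨w, hwD⟩ := by
    unfold Cfsg.extendByZero
    exact Subtype.val_injective.extend_apply _ _ (⟨w, hwD⟩ : D)
  rw [e1, e2]
  exact hη ⟨w, hwD⟩ ⟨v, hvD⟩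

end Cfsg.Agent.BP
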