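import Mathlib
import Cfsg.Agent.BP.StarDef
import Cfsg.Agent.Helper6.PairConj2
import Cfsg.Agent.Helper6.SubpairBlock
import Cfsg.Agent.Helper6.PrincipalPairs
import Cfsg.Agent.Helper6.DadeIntE

/-!
# BP: monotonicity and integrality of the weights `η[a; u]`

`(D, e)` a maximal Brauer pair of the block `B`, `η : D → ℂ` stable under the fusion of the subpairs
of `(D, e)`.

* `bp_etaAt_mono`: for `a ≤ b` and `u ∈ a.1`, `η[a; u] = η[b; u]`;
* `bp_etaAt_isGeneralizedCharacter`: for a generalized character `η` of `D`, the function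
  `w ↦ η[(Q, g); w]` is a generalized character of `Q`.
-/

set_option autoImplicit false
set_option linter.style.haveILetI false

namespace Cfsg.Agent.BP

open Cfsg.Agent.Helper6 Cfsg.Agent.Helper6.Maj

universe u

variable {G : Type u} [Group G] {M : Ideal Cfsg.AlgInt}

/-- a pair above a Brauer pair is a Brauer pair -/
theorem bp_em_isBrauerPair_of_ge {p : ℕ} (a b : Cfsg.BrauerPairIdx G)
    (hab : Relation.ReflTransGen (Cfsg.NormalSubpairRel p M) a b)
    (ha : Cfsg.IsBrauerPair p M a.1 a.2) : Cfsg.IsBrauerPair p M b.1 b.2 := by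
  induction hab with
  | refl => exact ha
  | tail _ h _ => exact h.2.1

/-- a pair one of whose conjugates lies below a Brauer pair of `B` is a Brauer pair of `B` -/
theorem bp_em_isBrauerPairOf_of_conj_le [Finite G] {p : ℕ} [hp : Fact p.Prime]
    (hM : Cfsg.IsPModular p M) (B : Set (Cfsg.IrrCharacter G)) (D : Subgroup G)
    (e : Set (Cfsg.IrrCharacter (Subgroup.centralizer (D : Set G))))
    (hDe : Cfsg.IsBrauerPairOf p M B D e) (a : Cfsg.BrauerPairIdx G) (t : G)
    (ht : Relation.ReflTransGen (Cfsg.NormalSubpairRel p M) (conjPair t a) ⟨D, e⟩) :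
    Cfsg.IsBrauerPairOf p M B a.1 a.2 := by
  classical
  haveI : Fintype G := Fintype.ofFinite G
  have h1 : Cfsg.IsBrauerPairOf p M B (conjPair t a).1 (conjPair t a).2 :=
    isBrauerPairOf_of_subpairLE hM D _ e _ ht B hDe
  have h2 := isBrauerPairOf_conj (M := M) B _ _ t⁻¹ h1
  have h3 : conjPair t⁻¹ (conjPair t a) = a := by
    rw [conjPair_conjPair]
    have : t⁻¹ * t = 1 := by group
    rw [this, conjPair_one]
  have h4 : Cfsg.IsBrauerPairOf p M B (conjPair t⁻¹ (conjPair t a)).1
      (conjPair t⁻¹ (conjPair t a)).2 := h2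
  rw [h3] at h4
  exact h4

/-- **monotonicity of the weights**: for `a ≤ b` and `u ∈ a.1`, `η[a; u] = η[b; u]` -/
theorem bp_etaAt_mono [Finite G] {p : ℕ} [hp : Fact p.Prime]
    (hM : Cfsg.IsPModular p M) (B : Set (Cfsg.IrrCharacter G)) (D : Subgroup G)
    (e : Set (Cfsg.IrrCharacter (Subgroup.centralizer (D : Set G))))
    (hmax : Cfsg.IsMaximalBrauerPair p M B D e) (η : D → ℂ) (hst : bp_stable p M D e η)
    (a b : Cfsg.BrauerPairIdx G)
    (hab : Relation.ReflTransGen (Cfsg.NormalSubpairRel p M) a b) (u : G) (hu : u ∈ a.1) :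
    bp_etaAt p M D e η a u = bp_etaAt p M D e η b u := by
  classical
  haveI : Fintype G := Fintype.ofFinite G
  have hub : u ∈ b.1 := SubpairLE.le' a b hab hu
  by_cases hex : ∃ x : G,
      Relation.ReflTransGen (Cfsg.NormalSubpairRel p M) (conjPair x b) ⟨D, e⟩
  · obtain ⟨x, hx⟩ := hex
    have hxa : Relation.ReflTransGen (Cfsg.NormalSubpairRel p M) (conjPair x a) ⟨D, e⟩ :=
      (reflTransGen_conjPair (M := M) (p := p) x a b hab).trans hx
    rw [bp_etaAt_eq D e η hst a u hu x hxa, bp_etaAt_eq D e η hst b u hub x hx]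
  · have hexa : ¬ ∃ t : G,
        Relation.ReflTransGen (Cfsg.NormalSubpairRel p M) (conjPair t a) ⟨D, e⟩ := by
      rintro ⟨t, ht⟩
      apply hex
      have hBa : Cfsg.IsBrauerPairOf p M B a.1 a.2 :=
        bp_em_isBrauerPairOf_of_conj_le hM B D e hmax.1 a t ht
      have hb : Cfsg.IsBrauerPair p M b.1 b.2 := bp_em_isBrauerPair_of_ge a b hab hBa.1
      have hBb : Cfsg.IsBrauerPairOf p M B b.1 b.2 :=
        (isBrauerPairOf_iff_of_subpairLE hM b.1 a.1 b.2 a.2 hb hBa.1 hab B).mpr hBa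
      obtain ⟨x, hx⟩ := exists_conj_subpairLE hM B D b.1 e b.2 hmax hBb
      exact ⟨x, hx⟩
    rw [bp_etaAt_of_not_exists D e η a u hexa, bp_etaAt_of_not_exists D e η b u hex]

/-- **integrality of the weights**: for a generalized character `η` of `D`, stable under fusion,
`w ↦ η[(Q, g); w]` is a generalized character of `Q` -/
theorem bp_etaAt_isGeneralizedCharacter {p : ℕ} (D : Subgroup G)
    (e : Set (Cfsg.IrrCharacter (Subgroup.centralizer (D : Set G)))) (η : D → ℂ)
    (hη : Cfsg.IsGeneralizedCharacter D η) (hst : bp_stable p M D e η) (Q : Subgroup G)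
    (g : Set (Cfsg.IrrCharacter (Subgroup.centralizer (Q : Set G)))) :
    Cfsg.IsGeneralizedCharacter Q (fun w => bp_etaAt p M D e η ⟨Q, g⟩ (w : G)) := by
  classical
  by_cases hex : ∃ x : G,
      Relation.ReflTransGen (Cfsg.NormalSubpairRel p M) (conjPair x ⟨Q, g⟩) ⟨D, e⟩
  · obtain ⟨x, hx⟩ := hex
    have hle : Q.map (MulAut.conj x).toMonoidHom ≤ D := SubpairLE.le' _ _ hx
    have hmem : ∀ w : Q, x * (w : G) * x⁻¹ ∈ D := fun w => hle ⟨(w : G), w.2, rfl⟩
    let φ : Q →* D :=
      { toFun := fun w => ⟨x * (w : G) * x⁻¹, hmem w⟩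
        map_one' := by
          apply Subtype.ext
          show x * ((1 : Q) : G) * x⁻¹ = 1
          simp
        map_mul' := by
          intro w w'
          apply Subtype.ext
          show x * ((w * w' : Q) : G) * x⁻¹ = (x * (w : G) * x⁻¹) * (x * (w' : G) * x⁻¹)
          rw [Subgroup.coe_mul]
          group }
    have h1 := IsGeneralizedCharacter.comp_hom' φ hη
    have h2 : (fun w : Q => bp_etaAt p M D e η ⟨Q, g⟩ (w : G)) = fun w => η (φ w) := by
      funext w
      rw [bp_etaAt_eq D e η hst ⟨Q, g⟩ (w : G) w.2 x hx]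
      exact Subtype.val_injective.extend_apply η 0 (φ w)
    rw [h2]
    exact h1
  · have h2 : (fun w : Q => bp_etaAt p M D e η ⟨Q, g⟩ (w : G)) = fun _ => 0 := by
      funext w
      exact bp_etaAt_of_not_exists D e η ⟨Q, g⟩ (w : G) hex
    rw [h2]
    obtain ⟨χ, ψ, hχ, -, -⟩ := hη
    refine ⟨fun w => χ ((1 : Q →* D) w), fun w => χ ((1 : Q →* D) w),
      IsCharacter.comp_hom (1 : Q →* D) hχ, IsCharacter.comp_hom (1 : Q →* D) hχ, ?_⟩
    funext w
    simp

end Cfsg.Agent.BP
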