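import Cfsg.Agent.BP.IdemCharB

/-!
# BP / L9 character half, part C : assembling the restriction formula

If a function `F` on `G` satisfies, for `v ∈ S`, `s ∈ C`,
`F (v s) = ∑_j ∑_{t ∈ T_j, t⁻¹ v t ∈ Q_j} η_j (t⁻¹ v t) ψ_j (t⁻¹ v t · s)`
with generalized characters `η_j` of `Q_j` and `ψ_j` of `Q_j ⊔ C`, and left transversals `T_j` of
`Q_j` in `S`, then the restriction of `F` to `S ⊔ C` is a generalized character, namely
`∑_j Ind_{Q_j ⊔ C}^{S ⊔ C} ((η_j ∘ pr) · ψ_j)`.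
-/

set_option autoImplicit false
set_option linter.style.haveILetI false

namespace Cfsg.Agent.BP

open Module

universe u

variable {G : Type u} [Group G]

/-- for `Q ≤ S`, `C` centralizing `S`, `S ∩ C = 1`, `w ∈ S`, `s ∈ C`:
`w s ∈ Q ⊔ C ↔ w ∈ Q`. -/
theorem bp_mul_mem_sup_iff {Q S C : Subgroup G} (hQS : Q ≤ S)
    (hC : C ≤ Subgroup.centralizer (S : Set G)) (hd : S ⊓ C = ⊥) {w s : G} (hw : w ∈ S)
    (hs : s ∈ C) : w * s ∈ Q ⊔ C ↔ w ∈ Q := by
  have hCQ : C ≤ Subgroup.centralizer (Q : Set G) := hC.trans (Subgroup.centralizer_le hQS)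
  constructor
  · intro h
    obtain ⟨q, hq, c', hc', heq⟩ := (bp_mem_sup_iff hCQ _).mp h
    have h1 : q⁻¹ * w = c' * s⁻¹ := by
      have : w = q * c' * s⁻¹ := by rw [← heq, mul_inv_cancel_right]
      rw [this, mul_assoc, inv_mul_cancel_left]
    have h2 : q⁻¹ * w ∈ S ⊓ C := by
      rw [Subgroup.mem_inf]
      refine ⟨S.mul_mem (S.inv_mem (hQS hq)) hw, ?_⟩
      rw [h1]
      exact C.mul_mem hc' (C.inv_mem hs)
    rw [hd, Subgroup.mem_bot] at h2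
    have h3 : w = q := by
      have := congrArg (fun z => q * z) h2
      simpa using this
    rw [h3]
    exact hq
  · intro h
    exact (Q ⊔ C).mul_mem (Subgroup.mem_sup_left h) (Subgroup.mem_sup_right hs)

/-- **Assembling the restriction formula (abstract form).** -/
theorem bp_restrict_of_formula [Fintype G] (S C : Subgroup G)
    (hC : C ≤ Subgroup.centralizer (S : Set G)) (hd : S ⊓ C = ⊥)
    {J : Type*} [Fintype J] (Q : J → Subgroup G) [∀ j, DecidablePred (· ∈ Q j)]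
    (T : J → Finset G) (hT : ∀ j, bp_IsLT (T j) (Q j) S)
    (η : ∀ j, ↥(Q j) → ℂ) (hη : ∀ j, Cfsg.IsGeneralizedCharacter ↥(Q j) (η j))
    (ψ : ∀ j, ↥(Q j ⊔ C) → ℂ) (hψ : ∀ j, Cfsg.IsGeneralizedCharacter ↥(Q j ⊔ C) (ψ j))
    (F : G → ℂ)
    (hF : ∀ v ∈ S, ∀ s, ∀ hs : s ∈ C, F (v * s) = ∑ j, ∑ t ∈ T j,
      if hq : t⁻¹ * v * t ∈ Q j then
        η j ⟨t⁻¹ * v * t, hq⟩ *
          ψ j ⟨t⁻¹ * v * t * s,
            (Q j ⊔ C).mul_mem (Subgroup.mem_sup_left hq) (Subgroup.mem_sup_right hs)⟩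
      else 0) :
    Cfsg.IsGeneralizedCharacter ↥(S ⊔ C) (fun h => F (h : G)) := by
  classical
  have hcj : ∀ j, C ≤ Subgroup.centralizer (Q j : Set G) :=
    fun j => hC.trans (Subgroup.centralizer_le (hT j).le)
  have hdj : ∀ j, Q j ⊓ C = ⊥ := by
    intro j
    rw [eq_bot_iff, ← hd]
    exact inf_le_inf_right C (hT j).le
  let Φ : ∀ j, ↥(Q j ⊔ C) → ℂ :=
    fun j => (fun x => η j (bp_prL (Q j) C (hcj j) (hdj j) x)) * ψ j
  have hΦ : ∀ j, Cfsg.IsGeneralizedCharacter ↥(Q j ⊔ C) (Φ j) :=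
    fun j => bp_gc_mul (bp_infl_isGeneralizedCharacter (Q j) C (hcj j) (hdj j) (η j) (hη j)) (hψ j)
  have hind : ∀ j, Cfsg.IsGeneralizedCharacter ↥(S ⊔ C)
      (fun h => ∑ t ∈ T j, if hk : t⁻¹ * (h : G) * t ∈ Q j ⊔ C then
        Φ j ⟨t⁻¹ * (h : G) * t, hk⟩ else 0) :=
    fun j => bp_ind_isGeneralizedCharacter (Q j ⊔ C) (S ⊔ C) (T j) (bp_isLT_sup (hT j) hC hd)
      (Φ j) (hΦ j)
  have hsum := bp_gc_sum (G := ↥(S ⊔ C)) Finset.univ
    (fun j h => ∑ t ∈ T j, if hk : t⁻¹ * (h : G) * t ∈ Q j ⊔ C then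
        Φ j ⟨t⁻¹ * (h : G) * t, hk⟩ else 0) (fun j _ => hind j)
  have heq : (fun h : ↥(S ⊔ C) => F (h : G)) =
      (fun h : ↥(S ⊔ C) => ∑ j, ∑ t ∈ T j, if hk : t⁻¹ * (h : G) * t ∈ Q j ⊔ C then
        Φ j ⟨t⁻¹ * (h : G) * t, hk⟩ else 0) := by
    funext h
    obtain ⟨h, hh⟩ := h
    obtain ⟨v, hv, s, hs, rfl⟩ := (bp_mem_sup_iff hC h).mp hh
    show F (v * s) = _
    rw [hF v hv s hs]
    apply Finset.sum_congr rfl
    intro j _
    apply Finset.sum_congr rfl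
    intro t ht
    have htS : t ∈ S := (hT j).mem t ht
    have hst : s * t = t * s := (hC hs t htS).symm
    have hcomm : t⁻¹ * (v * s) * t = t⁻¹ * v * t * s := by
      simp only [mul_assoc]
      rw [hst]
    have hwS : t⁻¹ * v * t ∈ S := S.mul_mem (S.mul_mem (S.inv_mem htS) hv) htS
    by_cases hq : t⁻¹ * v * t ∈ Q j
    · have hk' : t⁻¹ * v * t * s ∈ Q j ⊔ C :=
        (Q j ⊔ C).mul_mem (Subgroup.mem_sup_left hq) (Subgroup.mem_sup_right hs)
      have hk : t⁻¹ * (v * s) * t ∈ Q j ⊔ C := by rw [hcomm]; exact hk'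
      rw [dif_pos hq, dif_pos hk]
      have hx : (⟨t⁻¹ * (v * s) * t, hk⟩ : ↥(Q j ⊔ C)) = ⟨t⁻¹ * v * t * s, hk'⟩ :=
        Subtype.ext hcomm
      rw [hx]
      show _ = η j (bp_prL (Q j) C (hcj j) (hdj j) ⟨t⁻¹ * v * t * s, hk'⟩) *
        ψ j ⟨t⁻¹ * v * t * s, hk'⟩
      rw [bp_prL_mul (Q j) C (hcj j) (hdj j) hq hs hk']
    · have hk : ¬ (t⁻¹ * (v * s) * t ∈ Q j ⊔ C) := by
        rw [hcomm, bp_mul_mem_sup_iff (hT j).le hC hd hwS hs]
        exact hq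
      rw [dif_neg hq, dif_neg hk]
  rw [heq]
  exact hsum

/-- pairing with a class function is invariant under conjugation of the group algebra. -/
theorem bp_gaPair_conj [Fintype G] (χ : G → ℂ) (hχ : Cfsg.IsClassFunction G χ) (t : G)
    (a : MonoidAlgebra ℂ G) : Helper6.gaPair χ (bp_conj t a) = Helper6.gaPair χ a := by
  rw [Helper6.gaPair_def, Helper6.gaPair_def]
  apply Fintype.sum_equiv (MulAut.conj t⁻¹).toEquiv
  intro g
  rw [bp_conj_coeff]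
  show a.coeff (t⁻¹ * g * t) * χ g = a.coeff (t⁻¹ * g * t⁻¹⁻¹) * χ (t⁻¹ * g * t⁻¹⁻¹)
  rw [hχ g t⁻¹, inv_inv]

/-- `χ (x · t i t⁻¹) = χ (t⁻¹ x t · i)` for a class function `χ`. -/
theorem bp_gaPair_single_mul_conj [Fintype G] (χ : G → ℂ) (hχ : Cfsg.IsClassFunction G χ)
    (t x : G) (i : MonoidAlgebra ℂ G) :
    Helper6.gaPair χ (MonoidAlgebra.single x 1 * bp_conj t i) =
      Helper6.gaPair χ (MonoidAlgebra.single (t⁻¹ * x * t) 1 * i) := by
  rw [← bp_gaPair_conj χ hχ t (MonoidAlgebra.single (t⁻¹ * x * t) 1 * i), map_mul,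
    bp_conj_single]
  congr 3
  simp only [mul_assoc, mul_inv_cancel, mul_one, mul_inv_cancel_left]

/-- the embedding `R_loc G → ℂG` commutes with conjugation. -/
theorem bp_gaEmb_conj {M : Ideal Cfsg.AlgInt} (hM : M.IsMaximal) (t : G)
    (a : MonoidAlgebra (Helper6.Cov.Rloc hM) G) :
    Helper6.Cov.gaEmb hM G (bp_conj t a) = bp_conj t (Helper6.Cov.gaEmb hM G a) := by
  apply Helper6.ga_ext
  intro g
  rw [Helper6.Cov.gaEmb_coeff, bp_conj_coeff, bp_conj_coeff, Helper6.Cov.gaEmb_coeff]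

/-- **Assembling the restriction formula, idempotent form:** `ψ_j (w s) = χ (w s · i_j)` for
idempotents `i_j` of `ℂG` fixed by `Q_j ⊔ C`. -/
theorem bp_restrict_of_formula_idem [Fintype G] (S C : Subgroup G)
    (hC : C ≤ Subgroup.centralizer (S : Set G)) (hd : S ⊓ C = ⊥)
    {J : Type*} [Fintype J] (Q : J → Subgroup G) [∀ j, DecidablePred (· ∈ Q j)]
    (T : J → Finset G) (hT : ∀ j, bp_IsLT (T j) (Q j) S)
    (η : ∀ j, ↥(Q j) → ℂ) (hη : ∀ j, Cfsg.IsGeneralizedCharacter ↥(Q j) (η j))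
    (i : J → MonoidAlgebra ℂ G) (hi : ∀ j, i j * i j = i j)
    (hfix : ∀ j, i j ∈ bp_fix (R := ℂ) (Q j ⊔ C))
    (χ : G → ℂ) (hχ : Cfsg.IsCharacter G χ) (F : G → ℂ)
    (hF : ∀ v ∈ S, ∀ s ∈ C, F (v * s) = ∑ j, ∑ t ∈ T j,
      if hq : t⁻¹ * v * t ∈ Q j then
        η j ⟨t⁻¹ * v * t, hq⟩ *
          Helper6.gaPair χ (MonoidAlgebra.single (t⁻¹ * v * t * s) 1 * i j)
      else 0) :
    Cfsg.IsGeneralizedCharacter ↥(S ⊔ C) (fun h => F (h : G)) := by
  apply bp_restrict_of_formula S C hC hd Q T hT η hη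
    (fun j x => Helper6.gaPair χ (MonoidAlgebra.single (x : G) 1 * i j))
    (fun j => Helper6.IsGeneralizedCharacter.of_isCharacter
      (bp_idem_isCharacter χ hχ (Q j ⊔ C) (i j) (hi j) (hfix j))) F
  intro v hv s hs
  exact hF v hv s hs

/-- **Assembling the restriction formula, conjugate-idempotent form:** the formula is given with
`χ (v s · t i_j t⁻¹)`, the shape produced by the second main theorem for idempotents. -/
theorem bp_restrict_of_formula_conj [Fintype G] (S C : Subgroup G)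
    (hC : C ≤ Subgroup.centralizer (S : Set G)) (hd : S ⊓ C = ⊥)
    {J : Type*} [Fintype J] (Q : J → Subgroup G) [∀ j, DecidablePred (· ∈ Q j)]
    (T : J → Finset G) (hT : ∀ j, bp_IsLT (T j) (Q j) S)
    (η : ∀ j, ↥(Q j) → ℂ) (hη : ∀ j, Cfsg.IsGeneralizedCharacter ↥(Q j) (η j))
    (i : J → MonoidAlgebra ℂ G) (hi : ∀ j, i j * i j = i j)
    (hfix : ∀ j, i j ∈ bp_fix (R := ℂ) (Q j ⊔ C))
    (χ : G → ℂ) (hχ : Cfsg.IsCharacter G χ) (F : G → ℂ)
    (hF : ∀ v ∈ S, ∀ s ∈ C, F (v * s) = ∑ j, ∑ t ∈ T j,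
      if hq : t⁻¹ * v * t ∈ Q j then
        η j ⟨t⁻¹ * v * t, hq⟩ *
          Helper6.gaPair χ (MonoidAlgebra.single (v * s) 1 * bp_conj t (i j))
      else 0) :
    Cfsg.IsGeneralizedCharacter ↥(S ⊔ C) (fun h => F (h : G)) := by
  apply bp_restrict_of_formula_idem S C hC hd Q T hT η hη i hi hfix χ hχ F
  intro v hv s hs
  rw [hF v hv s hs]
  apply Finset.sum_congr rfl
  intro j _
  apply Finset.sum_congr rfl
  intro t ht
  have htS : t ∈ S := (hT j).mem t ht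
  have hst : s * t = t * s := (hC hs t htS).symm
  have hcomm : t⁻¹ * (v * s) * t = t⁻¹ * v * t * s := by
    simp only [mul_assoc]
    rw [hst]
  rw [bp_gaPair_single_mul_conj χ (Helper6.IsCharacter.isClassFunction hχ), hcomm]

/-- local form of `bp_restrict_of_formula_conj`: idempotents in `R_loc G`. -/
theorem bp_restrict_of_formula_loc [Fintype G] {M : Ideal Cfsg.AlgInt} (hM : M.IsMaximal)
    (S C : Subgroup G)
    (hC : C ≤ Subgroup.centralizer (S : Set G)) (hd : S ⊓ C = ⊥)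
    {J : Type*} [Fintype J] (Q : J → Subgroup G) [∀ j, DecidablePred (· ∈ Q j)]
    (T : J → Finset G) (hT : ∀ j, bp_IsLT (T j) (Q j) S)
    (η : ∀ j, ↥(Q j) → ℂ) (hη : ∀ j, Cfsg.IsGeneralizedCharacter ↥(Q j) (η j))
    (i : J → MonoidAlgebra (Helper6.Cov.Rloc hM) G) (hi : ∀ j, IsIdempotentElem (i j))
    (hfix : ∀ j, i j ∈ bp_fix (R := Helper6.Cov.Rloc hM) (Q j ⊔ C))
    (χ : G → ℂ) (hχ : Cfsg.IsCharacter G χ) (F : G → ℂ)
    (hF : ∀ v ∈ S, ∀ s ∈ C, F (v * s) = ∑ j, ∑ t ∈ T j,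
      if hq : t⁻¹ * v * t ∈ Q j then
        η j ⟨t⁻¹ * v * t, hq⟩ *
          Helper6.gaPair χ
            (MonoidAlgebra.single (v * s) 1 * Helper6.Cov.gaEmb hM G (bp_conj t (i j)))
      else 0) :
    Cfsg.IsGeneralizedCharacter ↥(S ⊔ C) (fun h => F (h : G)) := by
  apply bp_restrict_of_formula_conj S C hC hd Q T hT η hη
    (fun j => Helper6.Cov.gaEmb hM G (i j))
    (fun j => by rw [← map_mul, (hi j).eq])
    (fun j => bp_gaEmb_mem_fix hM (Q j ⊔ C) (i j) (hfix j)) χ hχ F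
  intro v hv s hs
  rw [hF v hv s hs]
  apply Finset.sum_congr rfl
  intro j _
  apply Finset.sum_congr rfl
  intro t _
  rw [bp_gaEmb_conj]

end Cfsg.Agent.BP
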