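import Mathlib

/-!
# BP / Local: idempotents in finite algebras over a local ring whose monic polynomials split

Blueprint `notes/BP_blueprint_helper6.md`, section 2 (L1 and L2').  Pure algebra, Mathlib only.
All statements are elementwise in `Γ`: "x lies in the corner of e" is `e * x * e = x`.
-/

namespace Cfsg.Agent.BP

open Polynomial

/-- (H) every monic polynomial over `R` is a product of linear factors over `R`. -/
class SplitMonic (R : Type*) [CommRing R] : Prop where
  splits : ∀ f : R[X], f.Monic → ∃ s : Multiset R, f = (s.map fun a => X - C a).prod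

/-- the submodule `𝔪Γ` -/
def bp_mG (R Γ : Type*) [CommRing R] [IsLocalRing R] [Ring Γ] [Algebra R Γ] : Submodule R Γ :=
  IsLocalRing.maximalIdeal R • (⊤ : Submodule R Γ)

section basic

variable {R Γ : Type*} [CommRing R] [IsLocalRing R] [Ring Γ] [Algebra R Γ]

theorem bp_smul_mem_mG {π : R} (hπ : π ∈ IsLocalRing.maximalIdeal R) (y : Γ) :
    π • y ∈ bp_mG R Γ :=
  Submodule.smul_mem_smul hπ Submodule.mem_top

theorem bp_mul_mem_mG (a : Γ) {x : Γ} (hx : x ∈ bp_mG R Γ) : a * x ∈ bp_mG R Γ := by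
  refine Submodule.smul_induction_on hx ?_ ?_
  · intro π hπ y _
    rw [mul_smul_comm]
    exact bp_smul_mem_mG hπ _
  · intro x y hx hy
    rw [mul_add]
    exact Submodule.add_mem _ hx hy

theorem bp_mem_mG_mul {x : Γ} (hx : x ∈ bp_mG R Γ) (a : Γ) : x * a ∈ bp_mG R Γ := by
  refine Submodule.smul_induction_on hx ?_ ?_
  · intro π hπ y _
    rw [smul_mul_assoc]
    exact bp_smul_mem_mG hπ _
  · intro x y hx hy
    rw [add_mul]
    exact Submodule.add_mem _ hx hy

/-- a polynomial all of whose coefficients lie in `𝔪` evaluates into `𝔪Γ` -/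
theorem bp_aeval_mem_mG (x : Γ) (q : R[X])
    (hq : ∀ i, q.coeff i ∈ IsLocalRing.maximalIdeal R) : aeval x q ∈ bp_mG R Γ := by
  rw [aeval_eq_sum_range]
  refine Submodule.sum_mem _ ?_
  intro i _
  exact bp_smul_mem_mG (hq i) _

omit [IsLocalRing R] in
theorem bp_commute_aeval {y x : Γ} (h : Commute y x) (q : R[X]) : Commute y (aeval x q) := by
  rw [aeval_eq_sum_range]
  refine Commute.sum_right _ _ _ ?_
  intro i _
  exact (h.pow_right i).smul_right _

/-- primitive idempotent -/
def bp_IsPrim (e : Γ) : Prop :=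
  IsIdempotentElem e ∧ e ≠ 0 ∧
    ∀ e' : Γ, IsIdempotentElem e' → e * e' = e' → e' * e = e' → e' = 0 ∨ e' = e

/-- unit of the corner `e Γ e` -/
def bp_CornerUnit (e x : Γ) : Prop :=
  e * x * e = x ∧ ∃ y, e * y * e = y ∧ x * y = e ∧ y * x = e

end basic

section fitting

theorem bp_isCoprime_multiset_prod_left {A : Type*} [CommSemiring A] (s : Multiset A) (x : A)
    (h : ∀ a ∈ s, IsCoprime a x) : IsCoprime s.prod x := by
  induction s using Multiset.induction_on with
  | empty => simpa using isCoprime_one_left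
  | cons a s ih =>
    rw [Multiset.prod_cons]
    exact IsCoprime.mul_left (h a (Multiset.mem_cons_self a s))
      (ih fun b hb => h b (Multiset.mem_cons_of_mem hb))

theorem bp_isCoprime_multiset_prod_right {A : Type*} [CommSemiring A] (s : Multiset A) (x : A)
    (h : ∀ a ∈ s, IsCoprime x a) : IsCoprime x s.prod :=
  (bp_isCoprime_multiset_prod_left s x fun a ha => (h a ha).symm).symm

variable {R : Type*} [CommRing R] [IsLocalRing R]

theorem bp_isUnit_sub_of_mem_of_isUnit {a b : R} (ha : a ∈ IsLocalRing.maximalIdeal R)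
    (hb : IsUnit b) : IsUnit (a - b) := by
  by_contra h
  have h1 : a - b ∈ IsLocalRing.maximalIdeal R := (IsLocalRing.mem_maximalIdeal _).2 h
  have h2 : b ∈ IsLocalRing.maximalIdeal R := by
    have := Ideal.sub_mem _ ha h1
    simpa using this
  exact (IsLocalRing.mem_maximalIdeal _).1 h2 hb

/-- the product of the `X - C a`, `a ∈ 𝔪`, is `X ^ card` up to coefficients in `𝔪` -/
theorem bp_prod_X_sub_C_coeff_mem (s : Multiset R)
    (hs : ∀ a ∈ s, a ∈ IsLocalRing.maximalIdeal R) (i : ℕ) :
    ((s.map fun a => X - C a).prod - X ^ (Multiset.card s)).coeff i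
      ∈ IsLocalRing.maximalIdeal R := by
  rw [← Ideal.Quotient.eq_zero_iff_mem, ← coeff_map]
  have : ((s.map fun a => X - C a).prod - X ^ (Multiset.card s)).map
      (Ideal.Quotient.mk (IsLocalRing.maximalIdeal R)) = 0 := by
    rw [Polynomial.map_sub, Polynomial.map_pow, map_X, Polynomial.map_multiset_prod,
      Multiset.map_map]
    have h2 : (s.map ((Polynomial.map (Ideal.Quotient.mk (IsLocalRing.maximalIdeal R))) ∘
        fun a => X - C a)) = s.map (fun _ => (X : (R ⧸ IsLocalRing.maximalIdeal R)[X])) := by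
      refine Multiset.map_congr rfl ?_
      intro a ha
      simp only [Function.comp_apply, Polynomial.map_sub, map_X, map_C]
      rw [Ideal.Quotient.eq_zero_iff_mem.2 (hs a ha)]
      simp
    rw [h2, Multiset.map_const', Multiset.prod_replicate, sub_self]
  rw [this, coeff_zero]

/-! ### the multiplicative map `ψ p = e * aeval x p` for `e` idempotent commuting with `x` -/

variable {Γ : Type*} [Ring Γ] [Algebra R Γ]

omit [IsLocalRing R] in
theorem bp_psi_mul {e x : Γ} (he : IsIdempotentElem e) (hc : Commute e x) (p q : R[X]) :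
    (e * aeval x p) * (e * aeval x q) = e * aeval x (p * q) := by
  have h1 : Commute e (aeval x p) := bp_commute_aeval hc p
  calc (e * aeval x p) * (e * aeval x q) = e * (aeval x p * e) * aeval x q := by
        simp only [mul_assoc]
    _ = e * (e * aeval x p) * aeval x q := by rw [h1.eq]
    _ = (e * e) * (aeval x p * aeval x q) := by simp only [mul_assoc]
    _ = e * aeval x (p * q) := by rw [he.eq, map_mul]

omit [IsLocalRing R] in
theorem bp_psi_pow {e x : Γ} (he : IsIdempotentElem e) (hc : Commute e x) (p : R[X]) (n : ℕ) :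
    (e * aeval x p) ^ (n + 1) = e * aeval x (p ^ (n + 1)) := by
  induction n with
  | zero => simp
  | succ n ih => rw [pow_succ, ih, bp_psi_mul he hc, ← pow_succ]

omit [IsLocalRing R] in
theorem bp_psi_congr {e x : Γ} {f p q t : R[X]} (hf : aeval x f = 0) (h : p - q = f * t) :
    e * aeval x p = e * aeval x q := by
  have : aeval x p - aeval x q = 0 := by
    rw [← map_sub, h, map_mul, hf, zero_mul]
  rw [sub_eq_zero.1 this]

variable [SplitMonic R] [Module.Finite R Γ]

/-- L1.1 FITTING SPLIT of a corner element. -/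
theorem bp_fitting (e x : Γ) (he : IsIdempotentElem e) (hx : e * x * e = x) :
    ∃ e₁ e₂ : Γ, IsIdempotentElem e₁ ∧ IsIdempotentElem e₂ ∧ e₁ + e₂ = e ∧ e₁ * e₂ = 0 ∧
      e₂ * e₁ = 0 ∧ e₁ * x = x * e₁ ∧ e₂ * x = x * e₂ ∧ bp_CornerUnit e₁ (x * e₁) ∧
      ∃ N : ℕ, 0 < N ∧ (x * e₂) ^ N ∈ bp_mG R Γ := by
  classical
  have hex : e * x = x := by
    rw [← hx, ← mul_assoc, ← mul_assoc, he.eq]
  have hxe : x * e = x := by
    rw [← hx, mul_assoc, he.eq]
  have hc : Commute e x := by
    rw [Commute, SemiconjBy, hex, hxe]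
  obtain ⟨f, hfm, hf0⟩ := (Algebra.IsIntegral.of_finite R Γ).isIntegral x
  have hf0' : aeval x f = 0 := by rwa [aeval_def]
  obtain ⟨s, hs⟩ := SplitMonic.splits f hfm
  set s₁ := s.filter IsUnit with hs₁
  set s₂ := s.filter (fun a => ¬ IsUnit a) with hs₂
  set h := (s₁.map fun a => X - C a).prod with hh
  set g := (s₂.map fun a => X - C a).prod with hg
  have hfgh : f = h * g := by
    rw [hs, hh, hg, ← Multiset.prod_add, ← Multiset.map_add, Multiset.filter_add_not]
  have hcop : IsCoprime g h := by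
    apply bp_isCoprime_multiset_prod_left
    intro q hq
    obtain ⟨a, ha, rfl⟩ := Multiset.mem_map.1 hq
    apply bp_isCoprime_multiset_prod_right
    intro q' hq'
    obtain ⟨b, hb, rfl⟩ := Multiset.mem_map.1 hq'
    exact isCoprime_X_sub_C_of_isUnit_sub (bp_isUnit_sub_of_mem_of_isUnit
      ((IsLocalRing.mem_maximalIdeal _).2 (Multiset.mem_filter.1 ha).2) (Multiset.mem_filter.1 hb).2)
  obtain ⟨u, v, huv⟩ := hcop
  -- the constant coefficient of `h` is a unit
  have hc0 : IsUnit (h.coeff 0) := by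
    rw [coeff_zero_eq_eval_zero, hh, eval_multiset_prod, Multiset.map_map]
    refine Multiset.prod_induction IsUnit _ (fun a b ha hb => ha.mul hb) isUnit_one ?_
    intro a ha
    obtain ⟨b, hb, rfl⟩ := Multiset.mem_map.1 ha
    simp only [Function.comp_apply, eval_sub, eval_X, eval_C, zero_sub]
    exact (Multiset.mem_filter.1 hb).2.neg
  obtain ⟨c0, hc0'⟩ := hc0
  set k : R := -(↑c0⁻¹ : R) with hk
  have hkc : C k * C (h.coeff 0) = -1 := by
    rw [← C_mul, hk, ← hc0', neg_mul, Units.inv_mul, C_neg, C_1]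
  have hdiv : divX h * X + C (h.coeff 0) = h := divX_mul_X_add h
  set w := u * g with hw
  have hpsix : ∀ q : R[X], e * aeval x q * x = x * (e * aeval x q) := by
    intro q
    have h1 : Commute (aeval x q) x := (bp_commute_aeval (Commute.refl x) q).symm
    calc e * aeval x q * x = e * (aeval x q * x) := mul_assoc _ _ _
      _ = e * (x * aeval x q) := by rw [h1.eq]
      _ = (e * x) * aeval x q := (mul_assoc _ _ _).symm
      _ = (x * e) * aeval x q := by rw [hex, hxe]
      _ = x * (e * aeval x q) := mul_assoc _ _ _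
  have hxpsi : ∀ q : R[X], x * (e * aeval x q) = e * aeval x (X * q) := by
    intro q
    calc x * (e * aeval x q) = (x * e) * aeval x q := (mul_assoc _ _ _).symm
      _ = (e * x) * aeval x q := by rw [hex, hxe]
      _ = e * (x * aeval x q) := mul_assoc _ _ _
      _ = e * aeval x (X * q) := by rw [map_mul, aeval_X]
  refine ⟨e * aeval x w, e * aeval x (v * h), ?_, ?_, ?_, ?_, ?_, ?_, ?_, ?_, ?_⟩
  · -- e₁ idempotent
    rw [IsIdempotentElem, bp_psi_mul he hc]
    refine bp_psi_congr (f := f) (t := -(u * v)) hf0' ?_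
    rw [hfgh]; linear_combination (u * g) * huv
  · rw [IsIdempotentElem, bp_psi_mul he hc]
    refine bp_psi_congr (f := f) (t := -(u * v)) hf0' ?_
    rw [hfgh]; linear_combination (v * h) * huv
  · rw [← mul_add, ← map_add, hw, huv, map_one, mul_one]
  · rw [bp_psi_mul he hc]
    have : e * aeval x (w * (v * h)) = e * aeval x (0 : R[X]) := by
      refine bp_psi_congr (f := f) (t := u * v) hf0' ?_
      rw [hfgh, hw]; ring
    rw [this, map_zero, mul_zero]
  · rw [bp_psi_mul he hc]
    have : e * aeval x (v * h * w) = e * aeval x (0 : R[X]) := by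
      refine bp_psi_congr (f := f) (t := u * v) hf0' ?_
      rw [hfgh, hw]; ring
    rw [this, map_zero, mul_zero]
  · exact hpsix w
  · exact hpsix (v * h)
  · -- corner unit
    have hxw : x * (e * aeval x w) = e * aeval x (X * w) := hxpsi w
    refine ⟨?_, e * aeval x (C k * divX h * w), ?_, ?_, ?_⟩
    · rw [hxw, bp_psi_mul he hc, bp_psi_mul he hc]
      refine bp_psi_congr (f := f) (t := -(u * v * (X * (1 + w)))) hf0' ?_
      rw [hfgh, hw]; linear_combination (X * (u * g) * (1 + u * g)) * huv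
    · rw [bp_psi_mul he hc, bp_psi_mul he hc]
      refine bp_psi_congr (f := f) (t := -(C k * divX h * (u * v) * (1 + w))) hf0' ?_
      rw [hfgh, hw]; linear_combination (C k * divX h * (u * g) * (1 + u * g)) * huv
    · rw [hxw, bp_psi_mul he hc]
      refine bp_psi_congr (f := f) (t := C k * u * w - u * v) hf0' ?_
      rw [hfgh, hw]
      linear_combination (C k * (u * g) * (u * g)) * hdiv - ((u * g) * (u * g)) * hkc
        + (u * g) * huv
    · rw [hxw, bp_psi_mul he hc]
      refine bp_psi_congr (f := f) (t := C k * u * w - u * v) hf0' ?_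
      rw [hfgh, hw]
      linear_combination (C k * (u * g) * (u * g)) * hdiv - ((u * g) * (u * g)) * hkc
        + (u * g) * huv
  · -- the small part
    refine ⟨Multiset.card s₂ + 1, Nat.succ_pos _, ?_⟩
    have hxw : x * (e * aeval x (v * h)) = e * aeval x (X * (v * h)) := hxpsi (v * h)
    rw [hxw, bp_psi_pow he hc]
    have h1 : (X * (v * h)) ^ (Multiset.card s₂ + 1)
        = (X ^ (Multiset.card s₂) * (v * h)) * (X * (v * h) ^ (Multiset.card s₂)) := by ring
    rw [h1, ← bp_psi_mul he hc]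
    refine bp_mem_mG_mul ?_ _
    have h2 : e * aeval x (X ^ (Multiset.card s₂) * (v * h))
        = e * aeval x (-(g - X ^ (Multiset.card s₂)) * (v * h)) := by
      refine bp_psi_congr (f := f) (t := v) hf0' ?_
      rw [hfgh]; ring
    rw [h2, map_mul, ← mul_assoc]
    refine bp_mem_mG_mul (bp_mul_mem_mG _ ?_) _
    refine bp_aeval_mem_mG x _ ?_
    intro i
    rw [coeff_neg]
    refine Ideal.neg_mem_iff _ |>.2 ?_
    refine bp_prod_X_sub_C_coeff_mem s₂ ?_ i
    intro a ha
    exact (IsLocalRing.mem_maximalIdeal _).2 (Multiset.mem_filter.1 ha).2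

end fitting

section prim

variable {R Γ : Type*} [CommRing R] [IsLocalRing R] [Ring Γ] [Algebra R Γ] [Module.Finite R Γ]

/-- L1.2 (Nakayama): an idempotent in `𝔪Γ` is zero. -/
theorem bp_idem_mG_eq_zero (e : Γ) (he : IsIdempotentElem e) (h : e ∈ bp_mG R Γ) : e = 0 := by
  -- `N = Γ e`
  set N : Submodule R Γ := LinearMap.range (LinearMap.mulRight R e) with hN
  have hfg : N.FG := by
    rw [hN, LinearMap.range_eq_map]
    exact (Module.finite_def.1 inferInstance).map _
  have key : ∀ z ∈ bp_mG R Γ, ∀ γ : Γ, γ * z * e ∈ IsLocalRing.maximalIdeal R • N := by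
    intro z hz
    refine Submodule.smul_induction_on hz ?_ ?_
    · intro π hπ y _ γ
      rw [mul_smul_comm, smul_mul_assoc]
      refine Submodule.smul_mem_smul hπ ?_
      exact ⟨γ * y, by simp [LinearMap.mulRight_apply]⟩
    · intro a b ha hb γ
      rw [mul_add, add_mul]
      exact Submodule.add_mem _ (ha γ) (hb γ)
  have hle : N ≤ IsLocalRing.maximalIdeal R • N := by
    rintro _ ⟨γ, rfl⟩
    have := key e h γ
    rw [mul_assoc, he.eq] at this
    rwa [LinearMap.mulRight_apply]
  have hbot : N = ⊥ := Submodule.eq_bot_of_le_smul_of_le_jacobson_bot _ N hfg hle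
    (IsLocalRing.maximalIdeal_le_jacobson _)
  have : e ∈ N := ⟨1, by simp [LinearMap.mulRight_apply]⟩
  rw [hbot] at this
  simpa using this

omit [IsLocalRing R] [Module.Finite R Γ] [Algebra R Γ] in
theorem bp_corner_left {e x : Γ} (he : IsIdempotentElem e) (hx : e * x * e = x) : e * x = x := by
  rw [← hx, ← mul_assoc, ← mul_assoc, he.eq]

omit [IsLocalRing R] [Module.Finite R Γ] [Algebra R Γ] in
theorem bp_corner_right {e x : Γ} (he : IsIdempotentElem e) (hx : e * x * e = x) : x * e = x := by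
  rw [← hx, mul_assoc, he.eq]

omit [IsLocalRing R] [Module.Finite R Γ] [Algebra R Γ] in
theorem bp_corner_mul {e x y : Γ} (he : IsIdempotentElem e) (hx : e * x * e = x)
    (hy : e * y * e = y) : e * (x * y) * e = x * y := by
  rw [← mul_assoc, bp_corner_left he hx, mul_assoc, bp_corner_right he hy]

omit [IsLocalRing R] [Module.Finite R Γ] [Algebra R Γ] in
theorem bp_corner_self {e : Γ} (he : IsIdempotentElem e) : e * e * e = e := by
  rw [he.eq, he.eq]

omit [IsLocalRing R] [Module.Finite R Γ] [Algebra R Γ] in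
theorem bp_corner_pow {e x : Γ} (he : IsIdempotentElem e) (hx : e * x * e = x) (n : ℕ) :
    e * x ^ (n + 1) * e = x ^ (n + 1) := by
  induction n with
  | zero => simpa using hx
  | succ n ih =>
    rw [pow_succ]
    exact bp_corner_mul he ih hx

variable [SplitMonic R]

/-- L1.3 dichotomy in a primitive corner -/
theorem bp_prim_dichotomy (e x : Γ) (he : bp_IsPrim e) (hx : e * x * e = x) :
    bp_CornerUnit e x ∨ ∃ N : ℕ, 0 < N ∧ x ^ N ∈ bp_mG R Γ := by
  obtain ⟨e₁, e₂, h1, h2, hsum, h12, h21, -, -, hu, N, hN, hsmall⟩ := bp_fitting (R := R) e x he.1 hx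
  have hee₁ : e * e₁ = e₁ := by rw [← hsum, add_mul, h1.eq, h21, add_zero]
  have he₁e : e₁ * e = e₁ := by rw [← hsum, mul_add, h1.eq, h12, add_zero]
  have hxe : x * e = x := bp_corner_right he.1 hx
  rcases he.2.2 e₁ h1 hee₁ he₁e with h0 | h0
  · right
    have : e₂ = e := by rw [← hsum, h0, zero_add]
    rw [this, hxe] at hsmall
    exact ⟨N, hN, hsmall⟩
  · left
    rw [h0, hxe] at hu
    exact hu

omit [SplitMonic R] in
theorem bp_prim_not_both (e x : Γ) (he : bp_IsPrim e) (h1 : bp_CornerUnit e x) (N : ℕ)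
    (h2 : x ^ N ∈ bp_mG R Γ) : False := by
  obtain ⟨-, y, -, hxy, hyx⟩ := h1
  have hcomm : Commute x y := by rw [Commute, SemiconjBy, hxy, hyx]
  have h3 : e * (x ^ N * y ^ N) = e := by
    rw [← hcomm.mul_pow, hxy, ← pow_succ', he.1.pow_succ_eq]
  have h4 : e ∈ bp_mG R Γ := by
    rw [← h3]
    exact bp_mul_mem_mG _ (bp_mem_mG_mul h2 _)
  exact he.2.1 (bp_idem_mG_eq_zero e he.1 h4)

omit [IsLocalRing R] [Algebra R Γ] [Module.Finite R Γ] [SplitMonic R] in
/-- membership in a finite supremum of two-sided ideals, as an explicit sum -/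
theorem bp_mem_iSup_finset {ι : Type*} (s : Finset ι) (I : ι → TwoSidedIdeal Γ) (z : Γ)
    (h : z ∈ ⨆ i ∈ s, I i) : ∃ x : ι → Γ, (∀ i ∈ s, x i ∈ I i) ∧ z = ∑ i ∈ s, x i := by
  classical
  induction s using Finset.induction_on generalizing z with
  | empty =>
    refine ⟨fun _ => 0, by simp, ?_⟩
    simpa [TwoSidedIdeal.mem_bot] using h
  | insert a s ha ih =>
    rw [Finset.iSup_insert, TwoSidedIdeal.mem_sup] at h
    obtain ⟨y, hy, w, hw, rfl⟩ := h
    obtain ⟨x, hx, rfl⟩ := ih w hw
    refine ⟨Function.update x a y, ?_, ?_⟩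
    · intro i hi
      rcases Finset.mem_insert.1 hi with rfl | hi'
      · simpa using hy
      · have : i ≠ a := fun h => ha (h ▸ hi')
        rw [Function.update_of_ne this]
        exact hx i hi'
    · rw [Finset.sum_insert ha, Function.update_self]
      congr 1
      refine Finset.sum_congr rfl fun i hi => ?_
      have : i ≠ a := fun h => ha (h ▸ hi)
      rw [Function.update_of_ne this]

omit [IsLocalRing R] [Algebra R Γ] [Module.Finite R Γ] [SplitMonic R] in
/-- L1.7, general form (primitivity of `e` is not used). -/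
theorem bp_idem_summand (e e' a b : Γ) (he : IsIdempotentElem e) (he' : IsIdempotentElem e')
    (ha : e * a * e' = a) (hb : e' * b * e = b) (hab : bp_CornerUnit e (a * b)) :
    ∃ e'' a' b', IsIdempotentElem e'' ∧ e' * e'' = e'' ∧ e'' * e' = e'' ∧ e * a' * e'' = a' ∧
      e'' * b' * e = b' ∧ a' * b' = e ∧ b' * a' = e'' := by
  obtain ⟨-, w, hw, hw1, -⟩ := hab
  have hea : e * a = a := by
    rw [← ha, ← mul_assoc, ← mul_assoc, he.eq]
  have hae' : a * e' = a := by
    rw [← ha, mul_assoc, he'.eq]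
  have he'b : e' * b = b := by
    rw [← hb, ← mul_assoc, ← mul_assoc, he'.eq]
  have hwe : w * e = w := bp_corner_right he hw
  have habw : a * (b * w) = e := by rw [← mul_assoc, hw1]
  refine ⟨b * w * a, a, b * w, ?_, ?_, ?_, ?_, ?_, habw, rfl⟩
  · calc b * w * a * (b * w * a) = b * w * (a * (b * w)) * a := by simp only [mul_assoc]
      _ = b * (w * e) * a := by rw [habw]; simp only [mul_assoc]
      _ = b * w * a := by rw [hwe]
  · calc e' * (b * w * a) = (e' * b) * w * a := by simp only [mul_assoc]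
      _ = b * w * a := by rw [he'b]
  · calc b * w * a * e' = b * w * (a * e') := by simp only [mul_assoc]
      _ = b * w * a := by rw [hae']
  · calc e * a * (b * w * a) = e * (a * (b * w)) * a := by simp only [mul_assoc]
      _ = e * e * a := by rw [habw]
      _ = a := by rw [he.eq, hea]
  · calc b * w * a * (b * w) * e = b * w * (a * (b * w)) * e := by simp only [mul_assoc]
      _ = b * (w * e) * e := by rw [habw]; simp only [mul_assoc]
      _ = b * w := by rw [hwe, mul_assoc, hwe]

omit [IsLocalRing R] [Algebra R Γ] [Module.Finite R Γ] [SplitMonic R] in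
/-- L1.7 a primitive idempotent "contained up to iso" in an idempotent -/
theorem bp_prim_summand (e e' a b : Γ) (he : bp_IsPrim e) (he' : IsIdempotentElem e')
    (ha : e * a * e' = a) (hb : e' * b * e = b) (hab : bp_CornerUnit e (a * b)) :
    ∃ e'' a' b', IsIdempotentElem e'' ∧ e' * e'' = e'' ∧ e'' * e' = e'' ∧ e * a' * e'' = a' ∧
      e'' * b' * e = b' ∧ a' * b' = e ∧ b' * a' = e'' :=
  bp_idem_summand e e' a b he.1 he' ha hb hab

section explicitR

variable (R)
include R

/-- a right-invertible element of a primitive corner is a corner unit -/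
theorem bp_prim_unit_of_right_inv (e x u : Γ) (he : bp_IsPrim e) (hx : e * x * e = x)
    (hu : e * u * e = u) (hxu : x * u = e) : bp_CornerUnit e x := by
  rcases bp_prim_dichotomy (R := R) e x he hx with h | ⟨N, hN, hs⟩
  · exact h
  · exfalso
    have heu : e * u = u := bp_corner_left he.1 hu
    have key : ∀ n : ℕ, x ^ (n + 1) * u ^ (n + 1) = e := by
      intro n
      induction n with
      | zero => simpa using hxu
      | succ n ih =>
        have heun : e * u ^ (n + 1) = u ^ (n + 1) := by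
          rw [pow_succ', ← mul_assoc, heu]
        calc x ^ (n + 1 + 1) * u ^ (n + 1 + 1)
            = x ^ (n + 1) * (x * u) * u ^ (n + 1) := by
              rw [pow_succ x (n + 1), pow_succ' u (n + 1)]; simp only [mul_assoc]
          _ = x ^ (n + 1) * (e * u ^ (n + 1)) := by rw [hxu, mul_assoc]
          _ = e := by rw [heun, ih]
    obtain ⟨n, rfl⟩ : ∃ n, N = n + 1 := ⟨N - 1, by omega⟩
    have h4 : e ∈ bp_mG R Γ := by
      rw [← key n]
      exact bp_mem_mG_mul hs _
    exact he.2.1 (bp_idem_mG_eq_zero e he.1 h4)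

/-- a left-invertible element of a primitive corner is a corner unit -/
theorem bp_prim_unit_of_left_inv (e x u : Γ) (he : bp_IsPrim e) (hx : e * x * e = x)
    (hu : e * u * e = u) (hux : u * x = e) : bp_CornerUnit e x := by
  rcases bp_prim_dichotomy (R := R) e x he hx with h | ⟨N, hN, hs⟩
  · exact h
  · exfalso
    have hue : u * e = u := bp_corner_right he.1 hu
    have key : ∀ n : ℕ, u ^ (n + 1) * x ^ (n + 1) = e := by
      intro n
      induction n with
      | zero => simpa using hux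
      | succ n ih =>
        have hune : u ^ (n + 1) * e = u ^ (n + 1) := by
          rw [pow_succ, mul_assoc, hue]
        calc u ^ (n + 1 + 1) * x ^ (n + 1 + 1)
            = u ^ (n + 1) * (u * x) * x ^ (n + 1) := by
              rw [pow_succ u (n + 1), pow_succ' x (n + 1)]; simp only [mul_assoc]
          _ = (u ^ (n + 1) * e) * x ^ (n + 1) := by rw [hux]
          _ = e := by rw [hune, ih]
    obtain ⟨n, rfl⟩ : ∃ n, N = n + 1 := ⟨N - 1, by omega⟩
    have h4 : e ∈ bp_mG R Γ := by
      rw [← key n]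
      exact bp_mul_mem_mG _ hs
    exact he.2.1 (bp_idem_mG_eq_zero e he.1 h4)

/-- `e - t` is a corner unit for `t ∈ 𝔪Γ` in a primitive corner -/
theorem bp_prim_unit_sub_mG (e t : Γ) (he : bp_IsPrim e) (ht : e * t * e = t)
    (htm : t ∈ bp_mG R Γ) : bp_CornerUnit e (e - t) := by
  have hc : e * (e - t) * e = e - t := by
    rw [mul_sub, sub_mul, bp_corner_self he.1, ht]
  rcases bp_prim_dichotomy (R := R) e (e - t) he hc with h | ⟨K, hK, hs⟩
  · exact h
  · exfalso
    have key : ∀ n : ℕ, (e - t) ^ (n + 1) - e ∈ bp_mG R Γ := by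
      intro n
      induction n with
      | zero =>
        have : (e - t) ^ (0 + 1) - e = -t := by simp
        rw [this]
        exact Submodule.neg_mem _ htm
      | succ n ih =>
        have : (e - t) ^ (n + 1 + 1) - e = ((e - t) ^ (n + 1) - e) * (e - t) - e * t := by
          rw [pow_succ (e - t) (n + 1), sub_mul, mul_sub e e t, he.1.eq]
          abel
        rw [this]
        exact Submodule.sub_mem _ (bp_mem_mG_mul ih _) (bp_mul_mem_mG _ htm)
    obtain ⟨n, rfl⟩ : ∃ n, K = n + 1 := ⟨K - 1, by omega⟩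
    have h4 : e ∈ bp_mG R Γ := by
      have := Submodule.sub_mem _ hs (key n)
      simpa using this
    exact he.2.1 (bp_idem_mG_eq_zero e he.1 h4)

/-- `e - z` is a corner unit for `z` small in a primitive corner -/
theorem bp_prim_unit_sub_small (e z : Γ) (he : bp_IsPrim e) (hz : e * z * e = z) (N : ℕ)
    (hN : 0 < N) (hs : z ^ N ∈ bp_mG R Γ) : bp_CornerUnit e (e - z) := by
  have hc : e * (e - z) * e = e - z := by
    rw [mul_sub, sub_mul, bp_corner_self he.1, hz]
  obtain ⟨n, rfl⟩ : ∃ n, N = n + 1 := ⟨N - 1, by omega⟩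
  have hzN : e * z ^ (n + 1) * e = z ^ (n + 1) := bp_corner_pow he.1 hz n
  obtain ⟨-, v, hv, hv1, -⟩ := bp_prim_unit_sub_mG (R := R) e (z ^ (n + 1)) he hzN hs
  have hev : e * v = v := bp_corner_left he.1 hv
  have hve : v * e = v := bp_corner_right he.1 hv
  have hez : e * z = z := bp_corner_left he.1 hz
  -- `(e - z) * (e * Σ z^i * v) = e`
  refine bp_prim_unit_of_right_inv R e (e - z) (e * (∑ i ∈ Finset.range (n + 1), z ^ i) * v)
    he hc ?_ ?_
  · calc e * (e * (∑ i ∈ Finset.range (n + 1), z ^ i) * v) * e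
        = (e * e) * (∑ i ∈ Finset.range (n + 1), z ^ i) * (v * e) := by simp only [mul_assoc]
      _ = e * (∑ i ∈ Finset.range (n + 1), z ^ i) * v := by rw [he.1.eq, hve]
  · have h1 : (e - z) * e = e * (1 - z) := by
      rw [sub_mul, he.1.eq, mul_sub, mul_one, hez, bp_corner_right he.1 hz]
    have h2 : e * (1 - z ^ (n + 1)) = e - z ^ (n + 1) := by
      rw [mul_sub, mul_one, bp_corner_left he.1 hzN]
    calc (e - z) * (e * (∑ i ∈ Finset.range (n + 1), z ^ i) * v)
        = ((e - z) * e) * (∑ i ∈ Finset.range (n + 1), z ^ i) * v := by simp only [mul_assoc]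
      _ = e * ((1 - z) * ∑ i ∈ Finset.range (n + 1), z ^ i) * v := by rw [h1]; simp only [mul_assoc]
      _ = (e - z ^ (n + 1)) * v := by rw [mul_neg_geom_sum, h2]
      _ = e := hv1

/-- L1.4 the non-units of a primitive corner form a two-sided ideal of the corner -/
theorem bp_prim_add (e x y : Γ) (he : bp_IsPrim e) (hx : e * x * e = x) (hy : e * y * e = y)
    (hxy : bp_CornerUnit e (x + y)) : bp_CornerUnit e x ∨ bp_CornerUnit e y := by
  obtain ⟨-, w, hw, hw1, -⟩ := hxy
  have hxw : e * (x * w) * e = x * w := bp_corner_mul he.1 hx hw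
  rcases bp_prim_dichotomy (R := R) e (x * w) he hxw with h | ⟨N, hN, hs⟩
  · left
    obtain ⟨-, v, hv, hv1, -⟩ := h
    exact bp_prim_unit_of_right_inv R e x (w * v) he hx (bp_corner_mul he.1 hw hv)
      (by rw [← mul_assoc, hv1])
  · right
    have h1 := bp_prim_unit_sub_small (R := R) e (x * w) he hxw N hN hs
    have h2 : e - x * w = y * w := by rw [← hw1, add_mul]; abel
    rw [h2] at h1
    obtain ⟨-, v, hv, hv1, -⟩ := h1
    exact bp_prim_unit_of_right_inv R e y (w * v) he hy (bp_corner_mul he.1 hw hv)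
      (by rw [← mul_assoc, hv1])

theorem bp_prim_mul (e x y : Γ) (he : bp_IsPrim e) (hx : e * x * e = x) (hy : e * y * e = y)
    (hxy : bp_CornerUnit e (x * y)) : bp_CornerUnit e x ∧ bp_CornerUnit e y := by
  obtain ⟨-, w, hw, hw1, hw2⟩ := hxy
  refine ⟨bp_prim_unit_of_right_inv R e x (y * w) he hx (bp_corner_mul he.1 hy hw)
      (by rw [← mul_assoc, hw1]),
    bp_prim_unit_of_left_inv R e y (w * x) he hy (bp_corner_mul he.1 hw hx)
      (by rw [mul_assoc, hw2])⟩

theorem bp_prim_sum {ι : Type*} (s : Finset ι) (e : Γ) (x : ι → Γ) (he : bp_IsPrim e)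
    (hx : ∀ i ∈ s, e * x i * e = x i) (h : bp_CornerUnit e (∑ i ∈ s, x i)) :
    ∃ i ∈ s, bp_CornerUnit e (x i) := by
  classical
  induction s using Finset.induction_on with
  | empty =>
    exfalso
    obtain ⟨-, y, -, hy1, -⟩ := h
    rw [Finset.sum_empty, zero_mul] at hy1
    exact he.2.1 hy1.symm
  | insert a s ha ih =>
    rw [Finset.sum_insert ha] at h
    have hsum : e * (∑ i ∈ s, x i) * e = ∑ i ∈ s, x i := by
      rw [Finset.mul_sum, Finset.sum_mul]
      exact Finset.sum_congr rfl fun i hi => hx i (Finset.mem_insert_of_mem hi)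
    rcases bp_prim_add R e (x a) (∑ i ∈ s, x i) he (hx a (Finset.mem_insert_self a s)) hsum h
      with h1 | h1
    · exact ⟨a, Finset.mem_insert_self a s, h1⟩
    · obtain ⟨i, hi, hi'⟩ := ih (fun i hi => hx i (Finset.mem_insert_of_mem hi)) h1
      exact ⟨i, Finset.mem_insert_of_mem hi, hi'⟩

/-- L1.5 ROSENBERG, elementwise form: the `I i` are any sets absorbing two-sided multiplication. -/
theorem bp_rosenberg_sum {ι : Type*} (s : Finset ι) (e : Γ) (he : bp_IsPrim e) (I : ι → Set Γ)
    (hI : ∀ i ∈ s, ∀ a x b : Γ, x ∈ I i → a * x * b ∈ I i)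
    (x : ι → Γ) (hx : ∀ i ∈ s, x i ∈ I i) (hsum : e = ∑ i ∈ s, x i) : ∃ i ∈ s, e ∈ I i := by
  have h1 : ∑ i ∈ s, e * x i * e = e := by
    rw [← Finset.sum_mul, ← Finset.mul_sum, ← hsum, he.1.eq, he.1.eq]
  have h2 : bp_CornerUnit e (∑ i ∈ s, e * x i * e) := by
    rw [h1]
    exact ⟨bp_corner_self he.1, e, bp_corner_self he.1, he.1.eq, he.1.eq⟩
  have h3 : ∀ i ∈ s, e * (e * x i * e) * e = e * x i * e := by
    intro i _
    calc e * (e * x i * e) * e = (e * e) * x i * (e * e) := by simp only [mul_assoc]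
      _ = e * x i * e := by rw [he.1.eq]
  obtain ⟨i, hi, -, y, -, hy, -⟩ := bp_prim_sum R s e (fun i => e * x i * e) he h3 h2
  refine ⟨i, hi, ?_⟩
  have : e = e * x i * (e * y) := by
    calc e = e * x i * e * y := hy.symm
      _ = e * x i * (e * y) := by simp only [mul_assoc]
  rw [this]
  exact hI i hi _ _ _ (hx i hi)

/-- L1.5 ROSENBERG -/
theorem bp_rosenberg {ι : Type*} (s : Finset ι) (e : Γ) (he : bp_IsPrim e)
    (I : ι → TwoSidedIdeal Γ) (h : e ∈ ⨆ i ∈ s, I i) : ∃ i ∈ s, e ∈ I i := by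
  obtain ⟨x, hx, hsum⟩ := bp_mem_iSup_finset s I e h
  exact bp_rosenberg_sum R s e he (fun i => (I i : Set Γ))
    (fun i _ a y b hy => (I i).mul_mem_right _ _ ((I i).mul_mem_left _ _ hy)) x hx hsum

end explicitR

end prim

section decomp

variable {R Γ : Type*} [CommRing R] [IsLocalRing R] [Ring Γ] [Algebra R Γ] [Module.Finite R Γ]

/-- an upper bound for the number of pairwise orthogonal non-zero idempotents -/
noncomputable def bp_idemBound (R Γ : Type*) [CommRing R] [IsLocalRing R] [Ring Γ] [Algebra R Γ] : ℕ :=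
  Module.finrank (R ⧸ IsLocalRing.maximalIdeal R)
    (Γ ⧸ (IsLocalRing.maximalIdeal R • (⊤ : Submodule R Γ)))

theorem bp_orth_card_le {ι : Type*} [Fintype ι] (ε : ι → Γ) (h1 : ∀ i, IsIdempotentElem (ε i))
    (h0 : ∀ i, ε i ≠ 0) (horth : ∀ i j, i ≠ j → ε i * ε j = 0) :
    Fintype.card ι ≤ bp_idemBound R Γ := by
  classical
  have : Module.Finite (R ⧸ IsLocalRing.maximalIdeal R)
      (Γ ⧸ (IsLocalRing.maximalIdeal R • (⊤ : Submodule R Γ))) :=
    Module.Finite.of_restrictScalars_finite R _ _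
  have hli : LinearIndependent (R ⧸ IsLocalRing.maximalIdeal R)
      (fun i => (Submodule.Quotient.mk (ε i) :
        Γ ⧸ (IsLocalRing.maximalIdeal R • (⊤ : Submodule R Γ)))) := by
    rw [Fintype.linearIndependent_iff]
    intro c hc j
    choose r hr using fun i => Ideal.Quotient.mk_surjective (c i)
    have h2 : (∑ i, r i • ε i) ∈ bp_mG R Γ := by
      rw [bp_mG, ← Submodule.Quotient.mk_eq_zero, ← Submodule.mkQ_apply, map_sum, ← hc]
      refine Finset.sum_congr rfl fun i _ => ?_
      rw [← hr i]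
      rfl
    have h3 : ε j * (∑ i, r i • ε i) = r j • ε j := by
      rw [Finset.mul_sum, Finset.sum_eq_single j]
      · rw [mul_smul_comm, (h1 j).eq]
      · intro i _ hij
        rw [mul_smul_comm, horth j i (Ne.symm hij), smul_zero]
      · intro h; exact absurd (Finset.mem_univ j) h
    have h4 : r j • ε j ∈ bp_mG R Γ := by
      rw [← h3]; exact bp_mul_mem_mG _ h2
    rw [← hr j]
    by_contra hne
    have hu : IsUnit (r j) := by
      by_contra hnu
      exact hne (Ideal.Quotient.eq_zero_iff_mem.2 ((IsLocalRing.mem_maximalIdeal _).2 hnu))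
    obtain ⟨u, hu⟩ := hu
    have h5 : ε j ∈ bp_mG R Γ := by
      have := Submodule.smul_mem (bp_mG R Γ) (↑u⁻¹ : R) h4
      rwa [← hu, smul_smul, Units.inv_mul, one_smul] at this
    exact h0 j (bp_idem_mG_eq_zero (ε j) (h1 j) h5)
  exact hli.fintype_card_le_finrank

/-- orthogonal family of nonzero idempotents with sum `e` -/
def bp_OrthFam (e : Γ) (n : ℕ) (ε : Fin n → Γ) : Prop :=
  (∀ i, IsIdempotentElem (ε i)) ∧ (∀ i, ε i ≠ 0) ∧ (∀ i j, i ≠ j → ε i * ε j = 0) ∧ ∑ i, ε i = e

omit [IsLocalRing R] [Algebra R Γ] [Module.Finite R Γ] [CommRing R] in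
/-- refine an orthogonal family at a non-primitive member -/
theorem bp_orthFam_refine (e : Γ) (n : ℕ) (ε : Fin n → Γ) (h : bp_OrthFam e n ε) (i : Fin n)
    (f : Γ) (hf : IsIdempotentElem f) (h1 : ε i * f = f) (h2 : f * ε i = f) (hf0 : f ≠ 0)
    (hfe : f ≠ ε i) : ∃ ε' : Fin (n + 1) → Γ, bp_OrthFam e (n + 1) ε' := by
  classical
  obtain ⟨hid, hne, horth, hsum⟩ := h
  have hfj : ∀ j, j ≠ i → f * ε j = 0 := by
    intro j hj
    rw [← h2, mul_assoc, horth i j (Ne.symm hj), mul_zero]
  have hjf : ∀ j, j ≠ i → ε j * f = 0 := by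
    intro j hj
    rw [← h1, ← mul_assoc, horth j i hj, zero_mul]
  have hg : IsIdempotentElem (ε i - f) := by
    unfold IsIdempotentElem
    rw [mul_sub, sub_mul, sub_mul, (hid i).eq, h1, h2, hf.eq]; abel
  have hfg : f * (ε i - f) = 0 := by rw [mul_sub, h2, hf.eq, sub_self]
  have hgf : (ε i - f) * f = 0 := by rw [sub_mul, h1, hf.eq, sub_self]
  have hgj : ∀ j, j ≠ i → (ε i - f) * ε j = 0 := by
    intro j hj
    rw [sub_mul, horth i j (Ne.symm hj), hfj j hj, sub_self]
  have hjg : ∀ j, j ≠ i → ε j * (ε i - f) = 0 := by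
    intro j hj
    rw [mul_sub, horth j i hj, hjf j hj, sub_self]
  have hup : ∀ j, Function.update ε i (ε i - f) j = if j = i then ε i - f else ε j := by
    intro j
    by_cases hj : j = i
    · subst hj; simp
    · simp [hj]
  refine ⟨Fin.cons f (Function.update ε i (ε i - f)), ?_, ?_, ?_, ?_⟩
  · intro a
    refine Fin.cases ?_ (fun j => ?_) a
    · simpa using hf
    · rw [Fin.cons_succ, hup]
      split_ifs with hj
      · exact hg
      · exact hid j
  · intro a
    refine Fin.cases ?_ (fun j => ?_) a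
    · simpa using hf0
    · rw [Fin.cons_succ, hup]
      split_ifs with hj
      · exact fun h => hfe (sub_eq_zero.1 h).symm
      · exact hne j
  · intro a b
    refine Fin.cases ?_ (fun j => ?_) a <;> refine Fin.cases ?_ (fun l => ?_) b
    · intro h; exact absurd rfl h
    · intro _
      rw [Fin.cons_zero, Fin.cons_succ, hup]
      split_ifs with hl
      · exact hfg
      · exact hfj l hl
    · intro _
      rw [Fin.cons_zero, Fin.cons_succ, hup]
      split_ifs with hj
      · exact hgf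
      · exact hjf j hj
    · intro hjl
      have hjl' : j ≠ l := fun h => hjl (by rw [h])
      rw [Fin.cons_succ, Fin.cons_succ, hup, hup]
      split_ifs with hj hl hl
      · exact absurd (hj.trans hl.symm) hjl'
      · exact hgj l hl
      · exact hjg j hj
      · exact horth j l hjl'
  · rw [Fin.sum_univ_succ, Fin.cons_zero]
    simp only [Fin.cons_succ]
    rw [Finset.sum_update_of_mem (Finset.mem_univ i), ← hsum,
      ← Finset.add_sum_erase Finset.univ ε (Finset.mem_univ i)]
    have : Finset.univ \ {i} = Finset.univ.erase i := by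
      ext j; simp
    rw [this]; abel

/-- L1.6 primitive decompositions exist -/
theorem bp_exists_prim_decomp (R : Type*) {Γ : Type*} [CommRing R] [IsLocalRing R] [Ring Γ]
    [Algebra R Γ] [Module.Finite R Γ] (e : Γ) (he : IsIdempotentElem e) :
    ∃ (n : ℕ) (ε : Fin n → Γ), (∀ i, bp_IsPrim (ε i)) ∧ (∀ i j, i ≠ j → ε i * ε j = 0) ∧
      ∑ i, ε i = e := by
  classical
  by_cases h0 : e = 0
  · exact ⟨0, Fin.elim0, fun i => i.elim0, fun i => i.elim0, by simp [h0]⟩
  · let P : ℕ → Prop := fun n => ∃ ε : Fin n → Γ, bp_OrthFam e n ε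
    have hP1 : P 1 := ⟨fun _ => e, fun _ => he, fun _ => h0,
      fun i j hij => absurd (Subsingleton.elim i j) hij, by simp⟩
    have hbound : ∀ n, P n → n ≤ bp_idemBound R Γ := by
      rintro n ⟨ε, h1, h2, h3, -⟩
      simpa using bp_orth_card_le (R := R) ε h1 h2 h3
    have h1le : 1 ≤ bp_idemBound R Γ := hbound 1 hP1
    obtain ⟨ε, hε⟩ : P (Nat.findGreatest P (bp_idemBound R Γ)) := Nat.findGreatest_spec h1le hP1
    refine ⟨_, ε, ?_, hε.2.2.1, hε.2.2.2⟩
    intro i
    refine ⟨hε.1 i, hε.2.1 i, ?_⟩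
    intro f hf h1 h2
    by_contra hcon
    rw [not_or] at hcon
    obtain ⟨ε', hε'⟩ := bp_orthFam_refine e _ ε hε i f hf h1 h2 hcon.1 hcon.2
    have hle := hbound _ ⟨ε', hε'⟩
    have := Nat.le_findGreatest (P := P) hle ⟨ε', hε'⟩
    omega

end decomp

section trace

variable {R Γ : Type*} [CommRing R] [IsLocalRing R] [Ring Γ] [Algebra R Γ] [Module.Finite R Γ]

omit [IsLocalRing R] [Algebra R Γ] [Module.Finite R Γ] [CommRing R] in
/-- congruence of powers modulo an absorbing additive subgroup -/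
theorem bp_pow_sub_pow_mem (K : AddSubgroup Γ) (hKl : ∀ a x : Γ, x ∈ K → a * x ∈ K)
    (hKr : ∀ x a : Γ, x ∈ K → x * a ∈ K) (a b : Γ) (h : a - b ∈ K) (n : ℕ) :
    a ^ n - b ^ n ∈ K := by
  induction n with
  | zero => simp
  | succ n ih =>
    have : a ^ (n + 1) - b ^ (n + 1) = a ^ n * (a - b) + (a ^ n - b ^ n) * b := by
      rw [pow_succ, pow_succ, mul_sub, sub_mul]; abel
    rw [this]
    exact K.add_mem (hKl _ _ h) (hKr _ _ ih)

variable [SplitMonic R]

/-- L2' TRACE INVARIANCE MODULO AN IDEAL, with the ideal given as an additive subgroup absorbing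
multiplication on both sides. -/
theorem bp_trace_congr_addSubgroup {T : Type*} [AddCommGroup T] (τ : Γ →+ T)
    (hτ : ∀ a b, τ (a * b) = τ (b * a))
    (K : AddSubgroup Γ) (hKl : ∀ a x : Γ, x ∈ K → a * x ∈ K) (hKr : ∀ x a : Γ, x ∈ K → x * a ∈ K)
    (hK : ∀ x ∈ bp_mG R Γ, x ∈ K) (h0 : ∀ n : Γ, IsIdempotentElem n → n ∈ K → τ n = 0)
    (e e' : Γ) (he : IsIdempotentElem e) (he' : IsIdempotentElem e') (hee' : e - e' ∈ K) :
    τ e = τ e' := by
  set z := e * e' * e with hz
  have hzc : e * z * e = z := by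
    calc e * z * e = (e * e) * e' * (e * e) := by rw [hz]; simp only [mul_assoc]
      _ = z := by rw [he.eq]
  obtain ⟨e₁, e₂, h1, h2, hsum, h12, h21, hc1, -, hu, N, hN, hsmall⟩ :=
    bp_fitting (R := R) e z he hzc
  have hez : e - z ∈ K := by
    have : e - z = e * (e - e') * e := by rw [hz, mul_sub, sub_mul, he.eq, he.eq]
    rw [this]
    exact hKr _ _ (hKl _ _ hee')
  have hee₂ : e * e₂ = e₂ := by rw [← hsum, add_mul, h12, h2.eq, zero_add]
  have hee₁ : e * e₁ = e₁ := by rw [← hsum, add_mul, h1.eq, h21, add_zero]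
  have he₁e : e₁ * e = e₁ := by rw [← hsum, mul_add, h1.eq, h12, add_zero]
  -- `e₂ ∈ K`
  have h3 : e₂ - z * e₂ ∈ K := by
    have : e₂ - z * e₂ = (e - z) * e₂ := by rw [sub_mul, hee₂]
    rw [this]; exact hKr _ _ hez
  have h5 : e₂ ∈ K := by
    obtain ⟨n, rfl⟩ : ∃ n, N = n + 1 := ⟨N - 1, by omega⟩
    have h4 := bp_pow_sub_pow_mem K hKl hKr _ _ h3 (n + 1)
    rw [h2.pow_succ_eq] at h4
    have := K.add_mem h4 (hK _ hsmall)
    simpa using this
  have hτ2 : τ e₂ = 0 := h0 e₂ h2 h5
  have hτe : τ e = τ e₁ := by rw [← hsum, map_add, hτ2, add_zero]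
  obtain ⟨-, w, hw, hw1, hw2⟩ := hu
  have hze₁ : e₁ * e' * e₁ = z * e₁ := by
    calc e₁ * e' * e₁ = (e₁ * e) * e' * (e * e₁) := by rw [he₁e, hee₁]
      _ = e₁ * z * e₁ := by rw [hz]; simp only [mul_assoc]
      _ = z * e₁ * e₁ := by rw [hc1]
      _ = z * e₁ := by rw [mul_assoc, h1.eq]
  have hab : (e₁ * e') * (e' * e₁ * w) = e₁ := by
    calc (e₁ * e') * (e' * e₁ * w) = e₁ * (e' * e') * e₁ * w := by simp only [mul_assoc]
      _ = (e₁ * e' * e₁) * w := by rw [he'.eq]
      _ = e₁ := by rw [hze₁, hw1]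
  have hba : (e' * e₁ * w) * (e₁ * e') = e' * w * e' := by
    calc (e' * e₁ * w) * (e₁ * e') = e' * (e₁ * w * e₁) * e' := by simp only [mul_assoc]
      _ = e' * w * e' := by rw [hw]
  have hτ1 : τ (e' * w * e') = τ e₁ := by rw [← hba, hτ, hab]
  have hid : IsIdempotentElem (e' * w * e') := by
    unfold IsIdempotentElem
    calc e' * w * e' * (e' * w * e')
        = (e' * e₁ * w) * ((e₁ * e') * (e' * e₁ * w)) * (e₁ * e') := by
          rw [← hba]; simp only [mul_assoc]
      _ = (e' * e₁ * w) * (e₁ * (e₁ * e')) := by rw [hab]; simp only [mul_assoc]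
      _ = e' * w * e' := by rw [← mul_assoc e₁, h1.eq, hba]
  have hl : e' * (e' * w * e') = e' * w * e' := by
    rw [← mul_assoc, ← mul_assoc, he'.eq]
  have hr : (e' * w * e') * e' = e' * w * e' := by
    rw [mul_assoc, he'.eq]
  have hn : IsIdempotentElem (e' - e' * w * e') := by
    unfold IsIdempotentElem
    rw [mul_sub, sub_mul, sub_mul, he'.eq, hl, hr, hid.eq]; abel
  -- `w ≡ e₁ ≡ e` modulo `K`
  have hwe₁ : w * e₁ = w := bp_corner_right h1 hw
  have h7 : w - e₁ ∈ K := by
    have : w - e₁ = w * ((e - z) * e₁) := by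
      rw [sub_mul, hee₁, mul_sub, hwe₁, hw2]
    rw [this]
    exact hKl _ _ (hKr _ _ hez)
  have h8 : e' - w ∈ K := by
    have : e' - w = -(e - e') - (w - e₁) + e₂ := by rw [← hsum]; abel
    rw [this]
    exact K.add_mem (K.sub_mem (K.neg_mem hee') h7) h5
  have hnK : e' - e' * w * e' ∈ K := by
    have : e' - e' * w * e' = e' * (e' - w) * e' := by
      rw [mul_sub, sub_mul, he'.eq, he'.eq]
    rw [this]
    exact hKr _ _ (hKl _ _ h8)
  have h9 := h0 _ hn hnK
  rw [map_sub, sub_eq_zero] at h9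
  rw [hτe, ← hτ1, h9]

/-- L2' TRACE INVARIANCE MODULO AN IDEAL (replaces Krull–Schmidt). -/
theorem bp_trace_congr {T : Type*} [AddCommGroup T] (τ : Γ →+ T)
    (hτ : ∀ a b, τ (a * b) = τ (b * a))
    (K : TwoSidedIdeal Γ) (hK : ∀ x ∈ bp_mG R Γ, x ∈ K)
    (h0 : ∀ n : Γ, IsIdempotentElem n → n ∈ K → τ n = 0)
    (e e' : Γ) (he : IsIdempotentElem e) (he' : IsIdempotentElem e') (hee' : e - e' ∈ K) :
    τ e = τ e' :=
  bp_trace_congr_addSubgroup (R := R) τ hτ
    { carrier := K
      zero_mem' := K.zero_mem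
      add_mem' := K.add_mem
      neg_mem' := K.neg_mem }
    (fun a x hx => K.mul_mem_left a x hx) (fun x a hx => K.mul_mem_right x a hx) hK h0 e e' he he' hee'

end trace

end Cfsg.Agent.BP
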