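import Mathlib
import Cfsg.Agent.Helper6.CovLoc

/-!
# The local ring `Rloc hM` is local, integrally closed in `ℂ`, and every monic polynomial over it
splits into linear factors (input for the Broué–Puig blueprint, section 1).
-/

set_option autoImplicit false

namespace Cfsg.Agent.BP

open Polynomial
open Cfsg.Agent.Helper6 Cfsg.Agent.Helper6.Cov

variable {M : Ideal Cfsg.AlgInt}

/-- an element of the local ring outside the local ideal is a unit -/
theorem bp_Rloc_isUnit_of_not_mem (hM : M.IsMaximal) (x : Rloc hM) (hx : x ∉ Mloc hM) :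
    IsUnit x := by
  have hinv : Cfsg.MemLocalRing M ((x : ℂ))⁻¹ := memLocalRing_inv_of_unit hM x.2 hx
  have hx0 : (x : ℂ) ≠ 0 := by
    intro h0
    apply hx
    rw [mem_Mloc, h0]
    exact memLocalIdeal_zero hM
  refine IsUnit.of_mul_eq_one (⟨(x : ℂ)⁻¹, hinv⟩ : Rloc hM) ?_
  apply Subtype.ext
  simp [hx0]

/-- an element of the local ideal is not a unit -/
theorem bp_Rloc_not_isUnit_of_mem (hM : M.IsMaximal) (x : Rloc hM) (hx : x ∈ Mloc hM) :
    ¬ IsUnit x := by
  intro hu
  have hmax : (Mloc hM).IsMaximal := Mloc_isMaximal hM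
  exact hmax.ne_top ((Mloc hM).eq_top_of_isUnit_mem hx hu)

theorem bp_Rloc_mem_nonunits_iff (hM : M.IsMaximal) (x : Rloc hM) :
    x ∈ nonunits (Rloc hM) ↔ x ∈ Mloc hM := by
  constructor
  · intro hx
    by_contra h
    exact hx (bp_Rloc_isUnit_of_not_mem hM x h)
  · intro hx
    exact bp_Rloc_not_isUnit_of_mem hM x hx

instance bp_Rloc_isLocalRing (hM : M.IsMaximal) : IsLocalRing (Rloc hM) := by
  refine IsLocalRing.of_nonunits_add ?_
  intro a b ha hb
  rw [bp_Rloc_mem_nonunits_iff] at ha hb ⊢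
  exact (Mloc hM).add_mem ha hb

theorem bp_Rloc_maximalIdeal (hM : M.IsMaximal) :
    IsLocalRing.maximalIdeal (Rloc hM) = Mloc hM := by
  ext x
  rw [IsLocalRing.mem_maximalIdeal, bp_Rloc_mem_nonunits_iff]

/-- common denominators: finitely many elements of the local ring become algebraic integers after
multiplication by one algebraic integer outside `M` -/
theorem bp_common_denom (hM : M.IsMaximal) {ι : Type*} (s : Finset ι) (c : ι → ℂ)
    (hc : ∀ i ∈ s, Cfsg.MemLocalRing M (c i)) :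
    ∃ b : Cfsg.AlgInt, b ∉ M ∧ ∀ i ∈ s, IsIntegral ℤ ((b : ℂ) * c i) := by
  classical
  induction s using Finset.induction_on with
  | empty =>
    refine ⟨1, ?_, by simp⟩
    intro h
    exact hM.ne_top ((Ideal.eq_top_iff_one M).mpr h)
  | insert j s hj ih =>
    obtain ⟨b, hb, hbs⟩ := ih (fun i hi => hc i (Finset.mem_insert_of_mem hi))
    obtain ⟨a, b', hb', hab⟩ := hc j (Finset.mem_insert_self j s)
    have hprime : M.IsPrime := hM.isPrime
    refine ⟨b * b', ?_, ?_⟩
    · intro h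
      rcases hprime.mem_or_mem h with h | h
      · exact hb h
      · exact hb' h
    · intro i hi
      rcases Finset.mem_insert.mp hi with rfl | hi
      · have hb'0 : (b' : ℂ) ≠ 0 := algInt_coe_ne_zero hb'
        have : ((b * b' : Cfsg.AlgInt) : ℂ) * c i = (b : ℂ) * (a : ℂ) := by
          rw [← hab]
          push_cast
          field_simp
        rw [this]
        exact b.2.mul a.2
      · have : ((b * b' : Cfsg.AlgInt) : ℂ) * c i = (b' : ℂ) * ((b : ℂ) * c i) := by
          push_cast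
          ring
        rw [this]
        exact b'.2.mul (hbs i hi)

/-- the local ring is integrally closed in `ℂ` (monic polynomial form) -/
theorem bp_Rloc_mem_of_root (hM : M.IsMaximal) (p : (Rloc hM)[X]) (hp : p.Monic) (z : ℂ)
    (hz : p.eval₂ (Rloc hM).subtype z = 0) : z ∈ Rloc hM := by
  classical
  set m := p.natDegree with hm
  obtain ⟨b, hb, hbint⟩ := bp_common_denom hM (Finset.univ : Finset (Fin m))
    (fun i => ((p.coeff (i : ℕ) : Rloc hM) : ℂ)) (fun i _ => (p.coeff (i : ℕ)).2)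
  have hb0 : (b : ℂ) ≠ 0 := algInt_coe_ne_zero hb
  -- the coefficients of the scaled polynomial
  have hd : ∀ i : Fin m, IsIntegral ℤ
      (((p.coeff (i : ℕ) : Rloc hM) : ℂ) * (b : ℂ) ^ (m - (i : ℕ))) := by
    intro i
    have hi : (i : ℕ) < m := i.2
    have : ((p.coeff (i : ℕ) : Rloc hM) : ℂ) * (b : ℂ) ^ (m - (i : ℕ)) =
        ((b : ℂ) * ((p.coeff (i : ℕ) : Rloc hM) : ℂ)) * (b : ℂ) ^ (m - (i : ℕ) - 1) := by
      have : m - (i : ℕ) = (m - (i : ℕ) - 1) + 1 := by omega
      rw [this, pow_succ]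
      simp only [Nat.add_sub_cancel]
      ring
    rw [this]
    exact (hbint i (Finset.mem_univ i)).mul (b.2.pow _)
  let d : Fin m → Cfsg.AlgInt := fun i => ⟨_, hd i⟩
  let q : Cfsg.AlgInt[X] := X ^ m + ∑ i : Fin m, C (d i) * X ^ (i : ℕ)
  have hq : q.Monic := monic_X_pow_add (degree_sum_fin_lt d)
  have hw : IsIntegral Cfsg.AlgInt ((b : ℂ) * z) := by
    refine ⟨q, hq, ?_⟩
    -- expand `p(z) = 0`
    have hpz : z ^ m + ∑ i : Fin m, ((p.coeff (i : ℕ) : Rloc hM) : ℂ) * z ^ (i : ℕ) = 0 := by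
      have h1 := hz
      rw [eval₂_eq_sum_range, Finset.sum_range_succ, ← hm] at h1
      have h2 : p.coeff m = 1 := hp.coeff_natDegree
      rw [h2, map_one, one_mul, Finset.sum_range, add_comm] at h1
      simpa using h1
    have : eval₂ (algebraMap Cfsg.AlgInt ℂ) ((b : ℂ) * z) q =
        (b : ℂ) ^ m * (z ^ m + ∑ i : Fin m, ((p.coeff (i : ℕ) : Rloc hM) : ℂ) * z ^ (i : ℕ)) := by
      simp only [q, eval₂_add, eval₂_pow, eval₂_X, eval₂_finsetSum, eval₂_mul, eval₂_C]
      rw [mul_add, Finset.mul_sum, mul_pow]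
      congr 1
      apply Finset.sum_congr rfl
      intro i _
      have hi : (i : ℕ) < m := i.2
      have hsplit : (b : ℂ) ^ m = (b : ℂ) ^ (m - (i : ℕ)) * (b : ℂ) ^ (i : ℕ) := by
        rw [← pow_add]
        congr 1
        omega
      show ((d i : Cfsg.AlgInt) : ℂ) * ((b : ℂ) * z) ^ (i : ℕ) = _
      rw [hsplit, mul_pow]
      show (((p.coeff (i : ℕ) : Rloc hM) : ℂ) * (b : ℂ) ^ (m - (i : ℕ))) *
        ((b : ℂ) ^ (i : ℕ) * z ^ (i : ℕ)) = _
      ring
    rw [this, hpz, mul_zero]
  have hw' : (b : ℂ) * z ∈ integralClosure Cfsg.AlgInt ℂ := hw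
  rw [show integralClosure Cfsg.AlgInt ℂ = ⊥ from integralClosure_idem, Algebra.mem_bot] at hw'
  obtain ⟨a, ha⟩ := hw'
  rw [mem_Rloc]
  refine ⟨a, b, hb, ?_⟩
  have : (a : ℂ) = (b : ℂ) * z := ha
  rw [this]
  field_simp

/-- every monic polynomial over the local ring is a product of linear factors over it -/
theorem bp_Rloc_splits (hM : M.IsMaximal) (f : (Rloc hM)[X]) (hf : f.Monic) :
    ∃ s : Multiset (Rloc hM), f = (s.map fun a => X - C a).prod := by
  classical
  set F : ℂ[X] := f.map (Rloc hM).subtype with hF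
  have hFm : F.Monic := hf.map _
  have hsp : F.Splits := IsAlgClosed.splits F
  have hprod : F = (F.roots.map (X - C ·)).prod := hsp.eq_prod_roots_of_monic hFm
  have hmem : ∀ z ∈ F.roots, z ∈ Rloc hM := by
    intro z hz
    have hroot : F.IsRoot z := (mem_roots hFm.ne_zero).mp hz
    apply bp_Rloc_mem_of_root hM f hf z
    rw [← eval_map]
    exact hroot
  refine ⟨F.roots.pmap (fun z hz => (⟨z, hz⟩ : Rloc hM)) hmem, ?_⟩
  apply map_injective (Rloc hM).subtype Subtype.val_injective
  rw [← hF, Polynomial.map_multiset_prod, Multiset.map_map, Multiset.map_pmap]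
  conv_lhs => rw [hprod]
  congr 1
  rw [← Multiset.pmap_eq_map (p := fun z => z ∈ Rloc hM) _ _ hmem]
  apply Multiset.pmap_congr
  intro z _ _ _
  simp

end Cfsg.Agent.BP
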