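import Mathlib
import Cfsg.Agent.BP.Local
import Cfsg.Agent.BP.RlocSplit
import Cfsg.Agent.Lead.Ku_Fres

/-!
# Glue: the local ring `Rloc hM` satisfies all hypotheses of the BP blueprint, section 1

`SplitMonic (Rloc hM)`, the residue field is `Fres hM` (algebraically closed, of characteristic `p`),
and `p` lies in the maximal ideal.
-/

set_option autoImplicit false

namespace Cfsg.Agent.BP

open Polynomial
open Cfsg.Agent.Helper6 Cfsg.Agent.Helper6.Cov Cfsg.Agent.Helper6.Ku

variable {M : Ideal Cfsg.AlgInt}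

/-- (H) for the local ring of algebraic numbers that are `M`-integral -/
instance bp_Rloc_splitMonic (hM : M.IsMaximal) : SplitMonic (Rloc hM) :=
  ⟨bp_Rloc_splits hM⟩

/-- the residue field of `Rloc hM` is `Fres hM` -/
noncomputable def bp_resEquiv (hM : M.IsMaximal) :
    IsLocalRing.ResidueField (Rloc hM) ≃+* Fres hM :=
  Ideal.quotEquivOfEq (bp_Rloc_maximalIdeal hM)

theorem bp_resEquiv_residue (hM : M.IsMaximal) (x : Rloc hM) :
    bp_resEquiv hM (IsLocalRing.residue (Rloc hM) x) = Ideal.Quotient.mk (Mloc hM) x := by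
  rfl

theorem bp_Rloc_isAlgClosed_residueField (hM : M.IsMaximal) :
    IsAlgClosed (IsLocalRing.ResidueField (Rloc hM)) :=
  haveI := isAlgClosed_Fres hM
  IsAlgClosed.of_ringEquiv (k := Fres hM) _ (bp_resEquiv hM).symm

theorem bp_Rloc_prime_mem {p : ℕ} (hM : Cfsg.IsPModular p M) :
    ((p : ℕ) : Rloc hM.2.1) ∈ IsLocalRing.maximalIdeal (Rloc hM.2.1) := by
  rw [bp_Rloc_maximalIdeal, mem_Mloc]
  refine ⟨(p : Cfsg.AlgInt), 1, hM.2.2, ?_, ?_⟩
  · intro h
    exact hM.2.1.ne_top ((Ideal.eq_top_iff_one M).mpr h)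
  · simp

theorem bp_Rloc_charP_residueField {p : ℕ} (hM : Cfsg.IsPModular p M) :
    CharP (IsLocalRing.ResidueField (Rloc hM.2.1)) p := by
  have := charP_Fres hM
  exact charP_of_injective_ringHom (f := ((bp_resEquiv hM.2.1).symm : Fres hM.2.1 →+* _))
    (bp_resEquiv hM.2.1).symm.injective p

end Cfsg.Agent.BP
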