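import Mathlib
import Cfsg.Agent.BP.RlocInst
import Cfsg.Agent.Helper6.CovPrim
import Cfsg.Agent.Helper6.CovFinal
import Cfsg.Agent.Helper6.Osima3
import Cfsg.Agent.Helper6.BrauerPair

/-!
# BP: block idempotents over the local ring `Rloc hM` and over its residue field

For a finite group `H` and a block `b` of `H`:
`bp_blockLift hM H b : MonoidAlgebra (Rloc hM) H` is the block idempotent with its coefficients read
in the local ring, `bp_blockBar hM H b` is its reduction modulo the maximal ideal, an element of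
`MonoidAlgebra (IsLocalRing.ResidueField (Rloc hM)) H`.  The reductions are pairwise orthogonal
central idempotents with sum `1`, and each of them is primitive in the centre.
-/

set_option autoImplicit false
set_option linter.style.haveILetI false
set_option linter.unusedSectionVars false

namespace Cfsg.Agent.BP

open Cfsg.Agent.Helper6 Cfsg.Agent.Helper6.Cov

universe u

variable {H : Type u} [Group H] {M : Ideal Cfsg.AlgInt}

/-- a complex number read in the local ring (zero if it is not a local integer) -/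
noncomputable def bp_toRloc (hM : M.IsMaximal) (z : ℂ) : Rloc hM := by
  classical exact if h : Cfsg.MemLocalRing M z then ⟨z, h⟩ else 0

theorem bp_toRloc_coe (hM : M.IsMaximal) {z : ℂ} (h : Cfsg.MemLocalRing M z) :
    ((bp_toRloc hM z : Rloc hM) : ℂ) = z := by
  unfold bp_toRloc
  rw [dif_pos h]

/-- the element of the local group algebra with prescribed (local) coefficients -/
noncomputable def bp_ofFun [Finite H] (hM : M.IsMaximal) (a : H → ℂ) : MonoidAlgebra (Rloc hM) H :=
  MonoidAlgebra.ofCoeff (Finsupp.equivFunOnFinite.symm (fun h => bp_toRloc hM (a h)))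

theorem bp_ofFun_coeff [Finite H] (hM : M.IsMaximal) (a : H → ℂ) (h : H) :
    (bp_ofFun hM a).coeff h = bp_toRloc hM (a h) := by
  simp [bp_ofFun]

theorem bp_gaEmb_ofFun [Fintype H] (hM : M.IsMaximal) (a : H → ℂ)
    (ha : ∀ h, Cfsg.MemLocalRing M (a h)) : gaEmb hM H (bp_ofFun hM a) = gaOfFun a := by
  apply ga_ext
  intro h
  rw [gaEmb_coeff, bp_ofFun_coeff, gaOfFun_coeff, bp_toRloc_coe hM (ha h)]

/-- the block idempotent over the local ring -/
noncomputable def bp_blockLift [Finite H] (hM : M.IsMaximal) (b : Set (Cfsg.IrrCharacter H)) :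
    MonoidAlgebra (Rloc hM) H :=
  bp_ofFun hM (Cfsg.blockCoeff b)

theorem bp_gaEmb_blockLift [Fintype H] (hM : M.IsMaximal) (b : Set (Cfsg.IrrCharacter H))
    (hb : Cfsg.IsPBlock M b) :
    gaEmb hM H (bp_blockLift hM b) = gaOfFun (Cfsg.blockCoeff b) :=
  bp_gaEmb_ofFun hM _ (fun h => osima hM b hb h)

theorem bp_blockLift_idem [Finite H] (hM : M.IsMaximal) (b : Set (Cfsg.IrrCharacter H))
    (hb : Cfsg.IsPBlock M b) : IsIdempotentElem (bp_blockLift hM b) := by
  haveI := Fintype.ofFinite H
  apply gaEmb_injective hM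
  rw [map_mul, bp_gaEmb_blockLift hM b hb]
  exact gaOfFun_blockCoeff_idem b

theorem bp_blockLift_commute [Finite H] (hM : M.IsMaximal) (b : Set (Cfsg.IrrCharacter H))
    (hb : Cfsg.IsPBlock M b) (x : MonoidAlgebra (Rloc hM) H) : Commute (bp_blockLift hM b) x := by
  haveI := Fintype.ofFinite H
  apply gaEmb_injective hM
  rw [map_mul, map_mul, bp_gaEmb_blockLift hM b hb]
  exact gaOfFun_commute (blockCoeff_isClassFunction b) _

theorem bp_blockLift_mul_of_ne [Finite H] (hM : M.IsMaximal) (b b' : Set (Cfsg.IrrCharacter H))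
    (hb : Cfsg.IsPBlock M b) (hb' : Cfsg.IsPBlock M b') (hne : b ≠ b') :
    bp_blockLift hM b * bp_blockLift hM b' = 0 := by
  haveI := Fintype.ofFinite H
  apply gaEmb_injective hM
  rw [map_mul, bp_gaEmb_blockLift hM b hb, bp_gaEmb_blockLift hM b' hb', map_zero]
  apply gaOfFun_blockCoeff_mul_of_disjoint
  intro χ h1 h2
  apply hne
  rw [eq_blockOf_of_mem hM b hb χ h1, eq_blockOf_of_mem hM b' hb' χ h2]

theorem bp_sum_blockLift [Finite H] (hM : M.IsMaximal) :
    ∑ᶠ b ∈ {b : Set (Cfsg.IrrCharacter H) | Cfsg.IsPBlock M b}, bp_blockLift hM b = 1 := by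
  classical
  haveI := Fintype.ofFinite H
  haveI : Finite (Cfsg.IrrCharacter H) := irr_finite
  have hfin : Set.Finite {b : Set (Cfsg.IrrCharacter H) | Cfsg.IsPBlock M b} := Set.toFinite _
  apply gaEmb_injective hM
  rw [finsum_mem_eq_finite_toFinset_sum _ hfin, map_sum, map_one]
  rw [← sub_eq_zero]
  have hc : ∀ b ∈ hfin.toFinset, gaEmb hM H (bp_blockLift hM b) = gaOfFun (Cfsg.blockCoeff b) := by
    intro b hb
    exact bp_gaEmb_blockLift hM b (by simpa using hb)
  rw [Finset.sum_congr rfl hc]
  apply ga_eq_zero_of_central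
  · intro g
    apply Commute.sub_left
    · apply Commute.sum_left
      intro b _
      exact gaOfFun_commute_single (blockCoeff_isClassFunction b) g
    · exact Commute.one_left _
  · intro φ
    rw [gaPair_sub, gaPair_sum, gaPair_one]
    simp_rw [gaPair_blockIdem]
    rw [Finset.sum_eq_single (Cfsg.blockOf M (φ : H → ℂ))]
    · rw [if_pos (mem_blockOf_self hM φ), sub_self]
    · intro b hb hne
      rw [if_neg]
      intro hφ
      apply hne
      exact eq_blockOf_of_mem hM b (by simpa using hb) φ hφ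
    · intro h
      exfalso
      apply h
      simp only [Set.Finite.mem_toFinset, Set.mem_setOf_eq]
      exact ⟨φ, rfl⟩

/-- the reduction homomorphism of group algebras -/
noncomputable def bp_rd (hM : M.IsMaximal) (H : Type u) [Group H] :
    MonoidAlgebra (Rloc hM) H →+* MonoidAlgebra (IsLocalRing.ResidueField (Rloc hM)) H :=
  MonoidAlgebra.mapRingHom H (IsLocalRing.residue (Rloc hM))

theorem bp_rd_coeff (hM : M.IsMaximal) (x : MonoidAlgebra (Rloc hM) H) (h : H) :
    (bp_rd hM H x).coeff h = IsLocalRing.residue (Rloc hM) (x.coeff h) := by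
  unfold bp_rd
  rw [MonoidAlgebra.coeff_mapRingHom]

theorem bp_rd_surjective [Finite H] (hM : M.IsMaximal) : Function.Surjective (bp_rd hM H) := by
  intro y
  choose r hr using fun h => IsLocalRing.residue_surjective (R := Rloc hM) (y.coeff h)
  refine ⟨MonoidAlgebra.ofCoeff (Finsupp.equivFunOnFinite.symm r), ?_⟩
  apply cov_ext
  intro h
  rw [bp_rd_coeff]
  simp [hr]

/-- the block idempotent over the residue field -/
noncomputable def bp_blockBar [Finite H] (hM : M.IsMaximal) (b : Set (Cfsg.IrrCharacter H)) :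
    MonoidAlgebra (IsLocalRing.ResidueField (Rloc hM)) H :=
  bp_rd hM H (bp_blockLift hM b)

theorem bp_blockBar_coeff [Finite H] (hM : M.IsMaximal) (b : Set (Cfsg.IrrCharacter H)) (h : H) :
    (bp_blockBar hM b).coeff h =
      IsLocalRing.residue (Rloc hM) (bp_toRloc hM (Cfsg.blockCoeff b h)) := by
  unfold bp_blockBar bp_blockLift
  rw [bp_rd_coeff, bp_ofFun_coeff]

theorem bp_blockBar_idem [Finite H] (hM : M.IsMaximal) (b : Set (Cfsg.IrrCharacter H))
    (hb : Cfsg.IsPBlock M b) : IsIdempotentElem (bp_blockBar hM b) :=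
  (bp_blockLift_idem hM b hb).map (bp_rd hM H)

theorem bp_blockBar_commute [Finite H] (hM : M.IsMaximal) (b : Set (Cfsg.IrrCharacter H))
    (hb : Cfsg.IsPBlock M b) (y : MonoidAlgebra (IsLocalRing.ResidueField (Rloc hM)) H) :
    Commute (bp_blockBar hM b) y := by
  obtain ⟨x, rfl⟩ := bp_rd_surjective hM y
  exact (bp_blockLift_commute hM b hb x).map (bp_rd hM H)

theorem bp_blockBar_mul_of_ne [Finite H] (hM : M.IsMaximal) (b b' : Set (Cfsg.IrrCharacter H))
    (hb : Cfsg.IsPBlock M b) (hb' : Cfsg.IsPBlock M b') (hne : b ≠ b') :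
    bp_blockBar hM b * bp_blockBar hM b' = 0 := by
  unfold bp_blockBar
  rw [← map_mul, bp_blockLift_mul_of_ne hM b b' hb hb' hne, map_zero]

theorem bp_sum_blockBar [Finite H] (hM : M.IsMaximal) :
    ∑ᶠ b ∈ {b : Set (Cfsg.IrrCharacter H) | Cfsg.IsPBlock M b}, bp_blockBar hM b = 1 := by
  haveI : Finite (Cfsg.IrrCharacter H) := irr_finite
  have hfin : Set.Finite {b : Set (Cfsg.IrrCharacter H) | Cfsg.IsPBlock M b} := Set.toFinite _
  have h1 := bp_sum_blockLift (H := H) hM
  rw [finsum_mem_eq_finite_toFinset_sum _ hfin] at h1 ⊢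
  have h2 := congrArg (bp_rd hM H) h1
  rw [map_one, map_sum] at h2
  exact h2

/-- comparison of the two reductions -/
noncomputable def bp_kToFres (hM : M.IsMaximal) (H : Type u) [Group H] :
    MonoidAlgebra (IsLocalRing.ResidueField (Rloc hM)) H →+* MonoidAlgebra (Fres hM) H :=
  MonoidAlgebra.mapRingHom H (bp_resEquiv hM : IsLocalRing.ResidueField (Rloc hM) →+* Fres hM)

theorem bp_kToFres_coeff (hM : M.IsMaximal)
    (y : MonoidAlgebra (IsLocalRing.ResidueField (Rloc hM)) H) (h : H) :
    (bp_kToFres hM H y).coeff h = bp_resEquiv hM (y.coeff h) := by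
  unfold bp_kToFres
  rw [MonoidAlgebra.coeff_mapRingHom]
  rfl

theorem bp_kToFres_red (hM : M.IsMaximal) (x : MonoidAlgebra (Rloc hM) H) :
    bp_kToFres hM H (bp_rd hM H x) = gaRed hM H x := by
  apply cov_ext
  intro h
  rw [bp_kToFres_coeff, bp_rd_coeff, gaRed_coeff, bp_resEquiv_residue]

theorem bp_kToFres_injective (hM : M.IsMaximal) : Function.Injective (bp_kToFres hM H) := by
  intro y y' hyy'
  apply cov_ext
  intro h
  have := congrArg (fun w => w.coeff h) hyy'
  simp only [bp_kToFres_coeff] at this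
  exact (bp_resEquiv hM).injective this

theorem bp_kToFres_surjective [Finite H] (hM : M.IsMaximal) :
    Function.Surjective (bp_kToFres hM H) := by
  intro w
  obtain ⟨x, rfl⟩ := gaRed_surjective hM w
  exact ⟨bp_rd hM H x, bp_kToFres_red hM x⟩

theorem bp_rd_eq_zero_iff (hM : M.IsMaximal) (x : MonoidAlgebra (Rloc hM) H) :
    bp_rd hM H x = 0 ↔ gaRed hM H x = 0 := by
  rw [← bp_kToFres_red]
  constructor
  · intro h
    rw [h, map_zero]
  · intro h
    apply bp_kToFres_injective hM
    rw [h, map_zero]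

/-- **primitivity of the reduced block idempotent in the centre** -/
theorem bp_blockBar_primitive [Finite H] (hM : M.IsMaximal) (b : Set (Cfsg.IrrCharacter H))
    (hb : Cfsg.IsPBlock M b) (z : MonoidAlgebra (IsLocalRing.ResidueField (Rloc hM)) H)
    (hz : IsIdempotentElem z) (hzc : ∀ y, Commute z y) (hzb : z * bp_blockBar hM b = z) :
    z = 0 ∨ z = bp_blockBar hM b := by
  haveI := Fintype.ofFinite H
  have hE := bp_gaEmb_blockLift hM b hb
  have h1 := blockIdem_red_primitive hM b hb (bp_blockLift hM b) hE (bp_kToFres hM H z)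
    (by rw [← map_mul, hz.eq])
    (by
      intro a
      obtain ⟨y, rfl⟩ := bp_kToFres_surjective hM a
      exact (hzc y).map (bp_kToFres hM H))
    (by
      rw [← bp_kToFres_red, ← map_mul]
      exact congrArg _ hzb)
  rcases h1 with h1 | h1
  · left
    apply bp_kToFres_injective hM
    rw [h1, map_zero]
  · right
    apply bp_kToFres_injective hM
    rw [h1]
    exact (bp_kToFres_red hM _).symm

/-- the reduced block idempotent is not zero -/
theorem bp_blockBar_ne_zero [Finite H] (hM : M.IsMaximal) (b : Set (Cfsg.IrrCharacter H))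
    (hb : Cfsg.IsPBlock M b) : bp_blockBar hM b ≠ 0 := by
  classical
  haveI := Fintype.ofFinite H
  intro h0
  have h1 : gaRed hM H (bp_blockLift hM b) = 0 := (bp_rd_eq_zero_iff hM _).mp h0
  rw [gaRed_eq_zero_iff, bp_gaEmb_blockLift hM b hb] at h1
  obtain ⟨ξ, hξ⟩ := hb
  have hξb : ξ ∈ b := by rw [hξ]; exact mem_blockOf_self hM ξ
  have h2 := classVec_memLocalIdeal hM (Cfsg.blockCoeff b) (blockCoeff_isClassFunction b)
    (fun h => by simpa using h1 h) ξ
  have h3 : classVec (Cfsg.blockCoeff b) ξ = 1 := by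
    have h4 := gaPair_div_eq_classVec ξ (gaOfFun (Cfsg.blockCoeff b))
    simp only [gaOfFun_coeff] at h4
    rw [← h4, gaPair_blockIdem, if_pos hξb, div_self (IsIrrCharacter.apply_one_ne_zero ξ.2)]
  rw [h3] at h2
  exact not_memLocalIdeal_one h2

end Cfsg.Agent.BP
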