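import Mathlib

/-!
# Orbit sums under a `p`-group (BP blueprint, section 3, auxiliary file)

A function constant on the orbits of a finite `p`-group action, summed over the points that are not fixed
by the whole group, gives a multiple of `p`.  This is the counting fact behind the multiplicativity of the
Brauer map and behind the description of its kernel.
-/

set_option autoImplicit false

namespace Cfsg.Agent.BP

open MulAction

variable {P : Type*} [Group P] {α : Type*} [MulAction P α] {R : Type*} [CommRing R]

/-- The sum over one orbit of an invariant function is the orbit length times its value. -/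
theorem bp_sum_orbit_eq [Fintype α] (φ : α → R)
    (hφ : ∀ (x : P) (a : α), φ (x • a) = φ a) (a : α) [DecidablePred fun b => b ∈ orbit P a] :
    (∑ b ∈ Finset.univ.filter (fun b => b ∈ orbit P a), φ b) =
      (Nat.card (orbit P a) : R) * φ a := by
  classical
  have h1 : ∀ b ∈ Finset.univ.filter (fun b => b ∈ orbit P a), φ b = φ a := by
    intro b hb
    rw [Finset.mem_filter] at hb
    obtain ⟨x, rfl⟩ := hb.2
    exact hφ x a
  rw [Finset.sum_congr rfl h1, Finset.sum_const, nsmul_eq_mul]
  congr 2
  rw [Nat.card_eq_fintype_card, Fintype.card_subtype]

/-- Points outside the fixed-point set of a finite `p`-group: an invariant function sums to a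
multiple of `p` over them. -/
theorem bp_sum_nonfixed_mem_span [Fintype α] (p : ℕ) [Fact p.Prime]
    (hP : IsPGroup p P) (φ : α → R) (hφ : ∀ (x : P) (a : α), φ (x • a) = φ a)
    [DecidablePred fun a : α => a ∈ fixedPoints P α] :
    (∑ a ∈ Finset.univ.filter (fun a : α => a ∉ fixedPoints P α), φ a) ∈
      Ideal.span ({(p : R)} : Set R) := by
  classical
  let _ : Fintype (Quotient (orbitRel P α)) := Fintype.ofFinite _
  rw [← Finset.sum_fiberwise (Finset.univ.filter (fun a : α => a ∉ fixedPoints P α))
    (fun a => (Quotient.mk'' a : Quotient (orbitRel P α))) φ]
  refine Ideal.sum_mem _ (fun ω _ => ?_)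
  induction ω using Quotient.inductionOn' with
  | h a =>
    by_cases hfix : a ∈ fixedPoints P α
    · -- the whole orbit is fixed: empty sum
      have : (Finset.univ.filter (fun a : α => a ∉ fixedPoints P α)).filter
          (fun b => (Quotient.mk'' b : Quotient (orbitRel P α)) = Quotient.mk'' a) = ∅ := by
        rw [Finset.eq_empty_iff_forall_notMem]
        intro b hb
        rw [Finset.mem_filter, Finset.mem_filter] at hb
        have hb2 : b ∈ orbit P a := by
          have := Quotient.exact' hb.2
          exact this
        obtain ⟨x, rfl⟩ := hb2
        apply hb.1.2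
        have hxa : x • a = a := hfix x
        change x • a ∈ fixedPoints P α
        rw [hxa]
        exact hfix
      rw [this, Finset.sum_empty]
      exact Ideal.zero_mem _
    · -- a genuine orbit of length p^n, n ≥ 1
      have hset : (Finset.univ.filter (fun a : α => a ∉ fixedPoints P α)).filter
          (fun b => (Quotient.mk'' b : Quotient (orbitRel P α)) = Quotient.mk'' a) =
          Finset.univ.filter (fun b => b ∈ orbit P a) := by
        ext b
        simp only [Finset.mem_filter, Finset.mem_univ, true_and]
        constructor
        · rintro ⟨_, h2⟩
          exact Quotient.exact' h2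
        · intro hb
          refine ⟨?_, Quotient.sound' hb⟩
          obtain ⟨x, rfl⟩ := hb
          intro hxa
          apply hfix
          intro y
          have := hxa (x * y * x⁻¹)
          rw [smul_smul] at this
          have h3 : x * y * x⁻¹ * x = x * y := by group
          rw [h3, mul_smul] at this
          exact smul_left_cancel x this
      rw [hset, bp_sum_orbit_eq φ hφ a]
      obtain ⟨n, hn⟩ := hP.card_orbit a
      have hn0 : n ≠ 0 := by
        rintro rfl
        rw [pow_zero] at hn
        apply hfix
        rw [Nat.card_eq_one_iff_unique] at hn
        obtain ⟨hsub, _⟩ := hn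
        intro x
        have h1 : (⟨x • a, mem_orbit a x⟩ : orbit P a) = ⟨a, mem_orbit_self a⟩ :=
          Subsingleton.elim _ _
        exact congrArg Subtype.val h1
      rw [hn]
      obtain ⟨m, rfl⟩ := Nat.exists_eq_succ_of_ne_zero hn0
      rw [pow_succ, Nat.cast_mul, mul_assoc, mul_comm ((p ^ m : ℕ) : R)]
      rw [mul_assoc]
      exact Ideal.mul_mem_right _ _ (Ideal.subset_span rfl)

section module

variable {M : Type*} [AddCommGroup M] [Module R M]

/-- Summation over the non-fixed points, orbit by orbit: if every orbit sum over a non-fixed orbit lies in a
submodule, so does the whole sum. -/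
theorem bp_sum_nonfixed_mem_submodule [Fintype α] (T : Submodule R M) (ψ : α → M)
    [DecidablePred fun a : α => a ∈ fixedPoints P α]
    (hψ : ∀ a : α, a ∉ fixedPoints P α → ∀ [DecidablePred fun b => b ∈ orbit P a],
      (∑ b ∈ Finset.univ.filter (fun b => b ∈ orbit P a), ψ b) ∈ T) :
    (∑ a ∈ Finset.univ.filter (fun a : α => a ∉ fixedPoints P α), ψ a) ∈ T := by
  classical
  let _ : Fintype (Quotient (orbitRel P α)) := Fintype.ofFinite _
  rw [← Finset.sum_fiberwise (Finset.univ.filter (fun a : α => a ∉ fixedPoints P α))
    (fun a => (Quotient.mk'' a : Quotient (orbitRel P α))) ψ]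
  refine Submodule.sum_mem _ (fun ω _ => ?_)
  induction ω using Quotient.inductionOn' with
  | h a =>
    by_cases hfix : a ∈ fixedPoints P α
    · have : (Finset.univ.filter (fun a : α => a ∉ fixedPoints P α)).filter
          (fun b => (Quotient.mk'' b : Quotient (orbitRel P α)) = Quotient.mk'' a) = ∅ := by
        rw [Finset.eq_empty_iff_forall_notMem]
        intro b hb
        rw [Finset.mem_filter, Finset.mem_filter] at hb
        have hb2 : b ∈ orbit P a := by
          have := Quotient.exact' hb.2
          exact this
        obtain ⟨x, rfl⟩ := hb2
        apply hb.1.2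
        have hxa : x • a = a := hfix x
        change x • a ∈ fixedPoints P α
        rw [hxa]
        exact hfix
      rw [this, Finset.sum_empty]
      exact Submodule.zero_mem _
    · have hset : (Finset.univ.filter (fun a : α => a ∉ fixedPoints P α)).filter
          (fun b => (Quotient.mk'' b : Quotient (orbitRel P α)) = Quotient.mk'' a) =
          Finset.univ.filter (fun b => b ∈ orbit P a) := by
        ext b
        simp only [Finset.mem_filter, Finset.mem_univ, true_and]
        constructor
        · rintro ⟨_, h2⟩
          exact Quotient.exact' h2
        · intro hb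
          refine ⟨?_, Quotient.sound' hb⟩
          obtain ⟨x, rfl⟩ := hb
          intro hxa
          apply hfix
          intro y
          have := hxa (x * y * x⁻¹)
          rw [smul_smul] at this
          have h3 : x * y * x⁻¹ * x = x * y := by group
          rw [h3, mul_smul] at this
          exact smul_left_cancel x this
      rw [hset]
      exact hψ a hfix

end module

end Cfsg.Agent.BP
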