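import Mathlib
import Cfsg.Agent.BP.BrOrb

/-!
# The Brauer map on coefficients (BP blueprint, section 3; core computations, Mathlib only)

`bp_brFun P a` truncates an element `a` of the group algebra `RG` to the centralizer `C_G(P)` and reduces the
coefficients modulo the maximal ideal of the local ring `R`.  The statements here are phrased with the
coefficientwise invariance `a.coeff (x * g * x⁻¹) = a.coeff g` (for `x ∈ P`), so that they do not depend on the
packaging of the fixed-point subalgebra.
-/

set_option autoImplicit false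

namespace Cfsg.Agent.BP

open MonoidAlgebra

variable {R : Type*} [CommRing R] [IsLocalRing R] {G : Type*} [Group G]

/-- `a` is fixed under conjugation by the subgroup `H`, coefficientwise. -/
def bp_CoeffInv (H : Subgroup G) (a : MonoidAlgebra R G) : Prop :=
  ∀ x ∈ H, ∀ g : G, a.coeff (x * g * x⁻¹) = a.coeff g

/-- Truncation to the centralizer of `P` followed by reduction modulo the maximal ideal. -/
noncomputable def bp_brFun (P : Subgroup G) (a : MonoidAlgebra R G) :
    MonoidAlgebra (IsLocalRing.ResidueField R) (Subgroup.centralizer (P : Set G)) :=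
  MonoidAlgebra.ofCoeff
    ((a.coeff.comapDomain (Subtype.val : Subgroup.centralizer (P : Set G) → G)
      (Subtype.val_injective.injOn)).mapRange (IsLocalRing.residue R) (map_zero _))

@[simp] theorem bp_brFun_coeff (P : Subgroup G) (a : MonoidAlgebra R G)
    (c : Subgroup.centralizer (P : Set G)) :
    (bp_brFun P a).coeff c = IsLocalRing.residue R (a.coeff (c : G)) := by
  simp [bp_brFun, Finsupp.mapRange_apply, Finsupp.comapDomain_apply]

theorem bp_brFun_zero (P : Subgroup G) : bp_brFun P (0 : MonoidAlgebra R G) = 0 := by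
  ext c; simp

theorem bp_brFun_add (P : Subgroup G) (a b : MonoidAlgebra R G) :
    bp_brFun P (a + b) = bp_brFun P a + bp_brFun P b := by
  ext c; simp

theorem bp_brFun_smul (P : Subgroup G) (r : R) (a : MonoidAlgebra R G) :
    bp_brFun P (r • a) = IsLocalRing.residue R r • bp_brFun P a := by
  ext c; simp

theorem bp_brFun_one (P : Subgroup G) : bp_brFun P (1 : MonoidAlgebra R G) = 1 := by
  classical
  ext c
  rw [bp_brFun_coeff, MonoidAlgebra.one_def, MonoidAlgebra.one_def, coeff_single, coeff_single,
    Finsupp.single_apply, Finsupp.single_apply]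
  by_cases h : (1 : Subgroup.centralizer (P : Set G)) = c
  · have h' : (1 : G) = (c : G) := by rw [← h]; rfl
    rw [if_pos h, if_pos h', map_one]
  · have h' : ¬ (1 : G) = (c : G) := fun h' => h (Subtype.ext h')
    rw [if_neg h, if_neg h', map_zero]

/-- The conjugation action of a subgroup on the group (as an explicit structure, not an instance). -/
@[reducible] def bp_conjAct (P : Subgroup G) : MulAction P G :=
  MulAction.compHom G ((MulAut.conj : G →* MulAut G).comp P.subtype)

theorem bp_conjAct_smul (P : Subgroup G) (x : P) (g : G) :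
    (bp_conjAct P).smul x g = (x : G) * g * (x : G)⁻¹ := rfl

theorem bp_conjAct_fixed (P : Subgroup G) (g : G) :
    g ∈ @MulAction.fixedPoints P G _ (bp_conjAct P) ↔ g ∈ Subgroup.centralizer (P : Set G) := by
  let _ := bp_conjAct P
  rw [MulAction.mem_fixedPoints, Subgroup.mem_centralizer_iff]
  constructor
  · intro h x hx
    have := h ⟨x, hx⟩
    change x * g * x⁻¹ = g at this
    rw [mul_inv_eq_iff_eq_mul] at this
    exact this
  · intro h x
    change (x : G) * g * (x : G)⁻¹ = g
    rw [mul_inv_eq_iff_eq_mul]
    exact h x x.2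


omit [IsLocalRing R] in
theorem bp_coeff_mul_fintype [Fintype G] (a b : MonoidAlgebra R G) (c : G) :
    (a * b).coeff c = ∑ g : G, a.coeff g * b.coeff (g⁻¹ * c) := by
  rw [coeff_mul_apply_left, Finsupp.sum_fintype]
  intro i; rw [zero_mul]

/-- MULTIPLICATIVITY of the Brauer map on `P`-invariant elements (`P` a `p`-group, `p ∈ 𝔪`). -/
theorem bp_brFun_mul [Finite G] (p : ℕ) [Fact p.Prime]
    (hpR : (p : R) ∈ IsLocalRing.maximalIdeal R) (P : Subgroup G) (hP : IsPGroup p P)
    (a b : MonoidAlgebra R G) (ha : bp_CoeffInv P a) (hb : bp_CoeffInv P b) :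
    bp_brFun P (a * b) = bp_brFun P a * bp_brFun P b := by
  classical
  have : Fintype G := Fintype.ofFinite G
  have : Fintype (Subgroup.centralizer (P : Set G)) := Fintype.ofFinite _
  ext c
  rw [bp_brFun_coeff, bp_coeff_mul_fintype, bp_coeff_mul_fintype]
  set φ : G → R := fun g => a.coeff g * b.coeff (g⁻¹ * (c : G)) with hφdef
  -- invariance of φ under the conjugation action of P
  have hφ : ∀ (x : P) (g : G), φ ((bp_conjAct P).smul x g) = φ g := by
    intro x g
    rw [bp_conjAct_smul]
    simp only [hφdef]
    rw [ha x x.2 g]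
    have hc : (x : G)⁻¹ * (c : G) = (c : G) * (x : G)⁻¹ := by
      have := (Subgroup.mem_centralizer_iff.mp c.2) (x : G) x.2
      -- this : x * c = c * x
      rw [inv_mul_eq_iff_eq_mul, ← mul_assoc, this, mul_assoc, mul_inv_cancel, mul_one]
    have : ((x : G) * g * (x : G)⁻¹)⁻¹ * (c : G) = (x : G) * (g⁻¹ * (c : G)) * (x : G)⁻¹ := by
      rw [mul_inv_rev, mul_inv_rev, inv_inv, mul_assoc, mul_assoc, hc]
      group
    rw [this, hb x x.2]
  have hsplit := Finset.sum_filter_add_sum_filter_not (Finset.univ : Finset G)
    (fun g => g ∈ @MulAction.fixedPoints P G _ (bp_conjAct P)) φ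
  rw [← hsplit, map_add]
  have h2 : IsLocalRing.residue R
      (∑ g ∈ Finset.univ.filter (fun g => g ∉ @MulAction.fixedPoints P G _ (bp_conjAct P)), φ g) = 0 := by
    rw [IsLocalRing.residue_eq_zero_iff]
    have hmem := @bp_sum_nonfixed_mem_span P _ G (bp_conjAct P) R _ _ p _ hP φ hφ _
    have hle : Ideal.span ({(p : R)} : Set R) ≤ IsLocalRing.maximalIdeal R := by
      rw [Ideal.span_le]
      intro y hy
      rw [Set.mem_singleton_iff] at hy
      rw [hy]; exact hpR
    exact hle hmem
  rw [h2, add_zero]
  have h1 : (Finset.univ.filter (fun g => g ∈ @MulAction.fixedPoints P G _ (bp_conjAct P))) =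
      Finset.univ.filter (fun g => g ∈ Subgroup.centralizer (P : Set G)) := by
    ext g
    simp only [Finset.mem_filter, Finset.mem_univ, true_and]
    exact bp_conjAct_fixed P g
  rw [h1, Finset.sum_subtype (p := fun g => g ∈ Subgroup.centralizer (P : Set G))
    (Finset.univ.filter (fun g => g ∈ Subgroup.centralizer (P : Set G)))
    (by intro x; simp) φ, map_sum]
  refine Finset.sum_congr rfl (fun h _ => ?_)
  simp only [hφdef, map_mul, bp_brFun_coeff]
  congr 2

/-- Brauer map of a single group element. -/
theorem bp_brFun_single_mem (P : Subgroup G) (g : G) (r : R)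
    (hg : g ∈ Subgroup.centralizer (P : Set G)) :
    bp_brFun P (single g r) = single ⟨g, hg⟩ (IsLocalRing.residue R r) := by
  classical
  ext c
  rw [bp_brFun_coeff, coeff_single, coeff_single, Finsupp.single_apply, Finsupp.single_apply]
  by_cases h : (⟨g, hg⟩ : Subgroup.centralizer (P : Set G)) = c
  · have h' : g = (c : G) := by rw [← h]
    rw [if_pos h, if_pos h']
  · have h' : ¬ g = (c : G) := fun h' => h (Subtype.ext h')
    rw [if_neg h, if_neg h', map_zero]

theorem bp_brFun_single_not_mem (P : Subgroup G) (g : G) (r : R)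
    (hg : g ∉ Subgroup.centralizer (P : Set G)) :
    bp_brFun P (single g r) = 0 := by
  classical
  ext c
  rw [bp_brFun_coeff, coeff_single, Finsupp.single_apply]
  have h' : ¬ g = (c : G) := fun h' => hg (h' ▸ c.2)
  rw [if_neg h', map_zero]
  rfl

/-- Transitivity of the Brauer map, coefficientwise: for `Q ≤ P` the truncation to `C_G(P)` of the
image at `Q` is the image at `P` (no invariance hypothesis is needed). -/
theorem bp_brFun_trans_coeff (P Q : Subgroup G) (hQP : Q ≤ P) (a : MonoidAlgebra R G)
    (c : Subgroup.centralizer (P : Set G)) :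
    (bp_brFun P a).coeff c =
      (bp_brFun Q a).coeff ⟨(c : G), Subgroup.centralizer_le hQP c.2⟩ := by
  rw [bp_brFun_coeff, bp_brFun_coeff]

omit [IsLocalRing R] in
/-- Coefficients of a conjugate. -/
theorem bp_coeff_domCongr_conj (x : G) (a : MonoidAlgebra R G) (g : G) :
    (MonoidAlgebra.domCongr R R (MulAut.conj x) a).coeff g = a.coeff (x⁻¹ * g * x) := by
  rw [coeff_domCongr, MulAut.conj_symm_apply]

/-- Conjugation by an element of `P` does not change the Brauer image at `P`. -/
theorem bp_brFun_conj_of_mem (P : Subgroup G) (x : G) (hx : x ∈ P) (a : MonoidAlgebra R G) :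
    bp_brFun P (MonoidAlgebra.domCongr R R (MulAut.conj x) a) = bp_brFun P a := by
  ext c
  rw [bp_brFun_coeff, bp_brFun_coeff, bp_coeff_domCongr_conj]
  have := (Subgroup.mem_centralizer_iff.mp c.2) x hx
  -- this : x * c = c * x
  have h2 : x⁻¹ * (c : G) * x = (c : G) := by
    rw [mul_assoc, ← this, ← mul_assoc, inv_mul_cancel, one_mul]
  rw [h2]

/-- The Brauer image at `P` of a sum of `P`-conjugates of `a` is the number of terms times the image
of `a`; in particular it vanishes when the number of terms is divisible by `p`. -/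
theorem bp_brFun_sum_conj {ι : Type*} (s : Finset ι) (P : Subgroup G) (x : ι → G)
    (hx : ∀ i ∈ s, x i ∈ P) (a : MonoidAlgebra R G) :
    bp_brFun P (∑ i ∈ s, MonoidAlgebra.domCongr R R (MulAut.conj (x i)) a) =
      (s.card : IsLocalRing.ResidueField R) • bp_brFun P a := by
  classical
  induction s using Finset.induction_on with
  | empty => simp [bp_brFun_zero]
  | insert i s hi ih =>
    rw [Finset.sum_insert hi, bp_brFun_add, Finset.card_insert_of_notMem hi,
      bp_brFun_conj_of_mem P (x i) (hx i (Finset.mem_insert_self i s)),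
      ih (fun j hj => hx j (Finset.mem_insert_of_mem hj))]
    push_cast
    rw [add_smul, one_smul, add_comm]

theorem bp_brFun_sum_conj_eq_zero {ι : Type*} (s : Finset ι) (p : ℕ)
    (hpR : (p : R) ∈ IsLocalRing.maximalIdeal R) (P : Subgroup G) (x : ι → G)
    (hx : ∀ i ∈ s, x i ∈ P) (hcard : p ∣ s.card) (a : MonoidAlgebra R G) :
    bp_brFun P (∑ i ∈ s, MonoidAlgebra.domCongr R R (MulAut.conj (x i)) a) = 0 := by
  rw [bp_brFun_sum_conj s P x hx a]
  obtain ⟨m, hm⟩ := hcard
  have h0 : ((p : ℕ) : IsLocalRing.ResidueField R) = 0 := by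
    have : IsLocalRing.residue R (p : R) = 0 := by
      rw [IsLocalRing.residue_eq_zero_iff]; exact hpR
    rw [← this, map_natCast]
  rw [hm, Nat.cast_mul, h0, zero_mul, zero_smul]

/-- Transport under conjugation by an arbitrary element, coefficientwise. -/
theorem bp_brFun_conj_coeff (P : Subgroup G) (g : G) (a : MonoidAlgebra R G)
    (c : Subgroup.centralizer (P : Set G))
    (c' : Subgroup.centralizer ((P.map (MulAut.conj g).toMonoidHom : Subgroup G) : Set G))
    (hcc' : (c' : G) = g * (c : G) * g⁻¹) :
    (bp_brFun (P.map (MulAut.conj g).toMonoidHom)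
      (MonoidAlgebra.domCongr R R (MulAut.conj g) a)).coeff c' = (bp_brFun P a).coeff c := by
  rw [bp_brFun_coeff, bp_brFun_coeff, bp_coeff_domCongr_conj, hcc']
  congr 2
  group

omit [IsLocalRing R] in
/-- Coefficients of the image in `RG` of an element of `R C_G(P)`. -/
theorem bp_coeff_mapDomain_val (P : Subgroup G)
    (y : MonoidAlgebra R (Subgroup.centralizer (P : Set G))) (c : Subgroup.centralizer (P : Set G)) :
    (MonoidAlgebra.mapDomain (Subtype.val : Subgroup.centralizer (P : Set G) → G) y).coeff (c : G) =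
      y.coeff c := by
  simp only [MonoidAlgebra.mapDomain, coeff_ofCoeff]
  exact Finsupp.mapDomain_apply Subtype.val_injective _ _

omit [IsLocalRing R] in
theorem bp_coeff_mapDomain_val_not_mem (P : Subgroup G)
    (y : MonoidAlgebra R (Subgroup.centralizer (P : Set G))) (g : G)
    (hg : g ∉ Subgroup.centralizer (P : Set G)) :
    (MonoidAlgebra.mapDomain (Subtype.val : Subgroup.centralizer (P : Set G) → G) y).coeff g = 0 := by
  simp only [MonoidAlgebra.mapDomain, coeff_ofCoeff]
  apply Finsupp.mapDomain_of_notMem_range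
  rintro ⟨c, rfl⟩
  exact hg c.2

/-- The Brauer image at `P` of an element supported on `C_G(P)` is its reduction. -/
theorem bp_brFun_mapDomain_val (P : Subgroup G)
    (y : MonoidAlgebra R (Subgroup.centralizer (P : Set G))) :
    bp_brFun P (MonoidAlgebra.mapDomain (Subtype.val : Subgroup.centralizer (P : Set G) → G) y) =
      MonoidAlgebra.map (IsLocalRing.residue R : R →+ IsLocalRing.ResidueField R) y := by
  ext c
  rw [bp_brFun_coeff, bp_coeff_mapDomain_val, coeff_map]
  rfl

omit [IsLocalRing R] in
/-- Elements supported on `C_G(P)` are fixed by `P`. -/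
theorem bp_coeffInv_mapDomain_val (P : Subgroup G)
    (y : MonoidAlgebra R (Subgroup.centralizer (P : Set G))) :
    bp_CoeffInv P (MonoidAlgebra.mapDomain (Subtype.val : Subgroup.centralizer (P : Set G) → G) y) := by
  intro x hx g
  by_cases hg : g ∈ Subgroup.centralizer (P : Set G)
  · have : x * g * x⁻¹ = g := by
      have h := (Subgroup.mem_centralizer_iff.mp hg) x hx
      rw [h, mul_assoc, mul_inv_cancel, mul_one]
    rw [this]
  · have hg' : x * g * x⁻¹ ∉ Subgroup.centralizer (P : Set G) := by
      intro h
      apply hg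
      rw [Subgroup.mem_centralizer_iff] at h ⊢
      intro y hy
      have h1 := h (x * y * x⁻¹) (P.mul_mem (P.mul_mem hx hy) (P.inv_mem hx))
      -- h1 : x*y*x⁻¹ * (x*g*x⁻¹) = (x*g*x⁻¹) * (x*y*x⁻¹)
      have h2 : x * (y * g) * x⁻¹ = x * (g * y) * x⁻¹ := by
        calc x * (y * g) * x⁻¹ = x * y * x⁻¹ * (x * g * x⁻¹) := by group
          _ = x * g * x⁻¹ * (x * y * x⁻¹) := h1
          _ = x * (g * y) * x⁻¹ := by group
      exact mul_left_cancel (mul_right_cancel h2)
    rw [bp_coeff_mapDomain_val_not_mem P y _ hg', bp_coeff_mapDomain_val_not_mem P y _ hg]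

/-- Surjectivity of the Brauer map (already from the elements supported on `C_G(P)`). -/
theorem bp_brFun_surjective (P : Subgroup G)
    (z : MonoidAlgebra (IsLocalRing.ResidueField R) (Subgroup.centralizer (P : Set G))) :
    ∃ a : MonoidAlgebra R G, bp_CoeffInv P a ∧ bp_brFun P a = z := by
  obtain ⟨y, hy⟩ := MonoidAlgebra.map_surjective (M := Subgroup.centralizer (P : Set G))
    (IsLocalRing.residue R : R →+ IsLocalRing.ResidueField R) (IsLocalRing.residue_surjective) z
  exact ⟨_, bp_coeffInv_mapDomain_val P y, by rw [bp_brFun_mapDomain_val, hy]⟩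

end Cfsg.Agent.BP
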