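import Cfsg.Agent.BP.GAlg

/-!
# BP / L3 part B : relative trace maps on `RG`, Mackey formula

Blueprint `notes/BP_blueprint_helper6.md`, section 3.  Mathlib only.
Transversals are finsets of elements of `G` with the predicate `bp_IsLT`.
-/

set_option autoImplicit false

namespace Cfsg.Agent.BP

open MonoidAlgebra

variable {R : Type*} [CommRing R] {G : Type*} [Group G]

/-- `T` is a left transversal of `K` in `H` (`K ≤ H`): `H` is the disjoint union of the cosets
`t K`, `t ∈ T`. -/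
structure bp_IsLT (T : Finset G) (K H : Subgroup G) : Prop where
  le : K ≤ H
  mem : ∀ t ∈ T, t ∈ H
  uniq : ∀ h ∈ H, ∃! t, t ∈ T ∧ t⁻¹ * h ∈ K

theorem bp_IsLT.eq_of_mem {T : Finset G} {K H : Subgroup G} (hT : bp_IsLT T K H) {t t' : G}
    (ht : t ∈ T) (ht' : t' ∈ T) (h : t⁻¹ * t' ∈ K) : t = t' := by
  obtain ⟨u, _, hu⟩ := hT.uniq t' (hT.mem t' ht')
  have h1 := hu t ⟨ht, h⟩
  have h2 := hu t' ⟨ht', by simp [K.one_mem]⟩
  rw [h1, h2]

/-- sums over two left transversals of a function constant on left cosets agree. -/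
theorem bp_sum_transversal_eq {T T' : Finset G} {K H : Subgroup G} (hT : bp_IsLT T K H)
    (hT' : bp_IsLT T' K H) {M : Type*} [AddCommMonoid M] (φ : G → M)
    (hφ : ∀ x, ∀ k ∈ K, φ (x * k) = φ x) : ∑ t ∈ T, φ t = ∑ t ∈ T', φ t := by
  classical
  refine Finset.sum_bij
    (fun t ht => Classical.choose (hT'.uniq t (hT.mem t ht)).exists) ?_ ?_ ?_ ?_
  · intro t ht
    exact (Classical.choose_spec (hT'.uniq t (hT.mem t ht)).exists).1
  · intro t1 ht1 t2 ht2 e
    have h1 := (Classical.choose_spec (hT'.uniq t1 (hT.mem t1 ht1)).exists).2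
    have h2 := (Classical.choose_spec (hT'.uniq t2 (hT.mem t2 ht2)).exists).2
    rw [e] at h1
    set u := Classical.choose (hT'.uniq t2 (hT.mem t2 ht2)).exists
    refine hT.eq_of_mem ht1 ht2 ?_
    have : t1⁻¹ * t2 = (u⁻¹ * t1)⁻¹ * (u⁻¹ * t2) := by group
    rw [this]
    exact K.mul_mem (K.inv_mem h1) h2
  · intro t' ht'
    obtain ⟨t, ⟨htT, htK⟩, _⟩ := hT.uniq t' (hT'.mem t' ht')
    refine ⟨t, htT, ?_⟩
    have hs := Classical.choose_spec (hT'.uniq t (hT.mem t htT)).exists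
    refine hT'.eq_of_mem hs.1 ht' ?_
    set u := Classical.choose (hT'.uniq t (hT.mem t htT)).exists
    have : u⁻¹ * t' = (u⁻¹ * t) * (t⁻¹ * t') := by group
    rw [this]
    exact K.mul_mem hs.2 htK
  · intro t ht
    have hs := Classical.choose_spec (hT'.uniq t (hT.mem t ht)).exists
    set u := Classical.choose (hT'.uniq t (hT.mem t ht)).exists
    have : t = u * (u⁻¹ * t) := by group
    conv_lhs => rw [this]
    exact hφ u _ hs.2

/-- left translate of a transversal by an element of `H`. -/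
theorem bp_IsLT.mul_left [DecidableEq G] {T : Finset G} {K H : Subgroup G} (hT : bp_IsLT T K H)
    {h : G} (hh : h ∈ H) : bp_IsLT (T.image (fun t => h * t)) K H := by
  refine ⟨hT.le, ?_, ?_⟩
  · intro t ht
    obtain ⟨u, hu, rfl⟩ := Finset.mem_image.1 ht
    exact H.mul_mem hh (hT.mem u hu)
  · intro x hx
    obtain ⟨u, ⟨huT, huK⟩, huniq⟩ := hT.uniq (h⁻¹ * x) (H.mul_mem (H.inv_mem hh) hx)
    refine ⟨h * u, ⟨Finset.mem_image.2 ⟨u, huT, rfl⟩, ?_⟩, ?_⟩
    · have : (h * u)⁻¹ * x = u⁻¹ * (h⁻¹ * x) := by group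
      rw [this]; exact huK
    · rintro y ⟨hy, hyK⟩
      obtain ⟨v, hv, rfl⟩ := Finset.mem_image.1 hy
      have : v = u := huniq v ⟨hv, by
        have : v⁻¹ * (h⁻¹ * x) = (h * v)⁻¹ * x := by group
        rw [this]; exact hyK⟩
      rw [this]

theorem bp_mem_map_conj (g : G) (S : Subgroup G) (x : G) :
    x ∈ S.map (MulAut.conj g).toMonoidHom ↔ g⁻¹ * x * g ∈ S := by
  constructor
  · rintro ⟨s, hs, rfl⟩
    simpa [MulAut.conj_apply, mul_assoc] using hs
  · intro hx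
    exact ⟨g⁻¹ * x * g, hx, by simp [MulAut.conj_apply, mul_assoc]⟩

/-- conjugate of a transversal. -/
theorem bp_IsLT.conj [DecidableEq G] {T : Finset G} {K H : Subgroup G} (hT : bp_IsLT T K H)
    (g : G) : bp_IsLT (T.image (fun t => g * t * g⁻¹)) (K.map (MulAut.conj g).toMonoidHom)
      (H.map (MulAut.conj g).toMonoidHom) := by
  refine ⟨Subgroup.map_mono hT.le, ?_, ?_⟩
  · intro t ht
    obtain ⟨u, hu, rfl⟩ := Finset.mem_image.1 ht
    rw [bp_mem_map_conj]
    have : g⁻¹ * (g * u * g⁻¹) * g = u := by group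
    rw [this]; exact hT.mem u hu
  · intro x hx
    rw [bp_mem_map_conj] at hx
    obtain ⟨u, ⟨huT, huK⟩, huniq⟩ := hT.uniq _ hx
    refine ⟨g * u * g⁻¹, ⟨Finset.mem_image.2 ⟨u, huT, rfl⟩, ?_⟩, ?_⟩
    · rw [bp_mem_map_conj]
      have : g⁻¹ * ((g * u * g⁻¹)⁻¹ * x) * g = u⁻¹ * (g⁻¹ * x * g) := by group
      rw [this]; exact huK
    · rintro y ⟨hy, hyK⟩
      obtain ⟨v, hv, rfl⟩ := Finset.mem_image.1 hy
      rw [bp_mem_map_conj] at hyK
      have : v = u := huniq v ⟨hv, by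
        have : v⁻¹ * (g⁻¹ * x * g) = g⁻¹ * ((g * v * g⁻¹)⁻¹ * x) * g := by group
        rw [this]; exact hyK⟩
      rw [this]

/-- product of transversals: `H/K` and `K/L` give `H/L`. -/
theorem bp_IsLT.mul [DecidableEq G] {T U : Finset G} {L K H : Subgroup G}
    (hT : bp_IsLT T K H) (hU : bp_IsLT U L K) :
    bp_IsLT ((T ×ˢ U).image (fun p => p.1 * p.2)) L H := by
  refine ⟨hU.le.trans hT.le, ?_, ?_⟩
  · intro x hx
    obtain ⟨⟨t, u⟩, hp, rfl⟩ := Finset.mem_image.1 hx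
    rw [Finset.mem_product] at hp
    exact H.mul_mem (hT.mem t hp.1) (hT.le (hU.mem u hp.2))
  · intro x hx
    obtain ⟨t, ⟨htT, htK⟩, htuniq⟩ := hT.uniq x hx
    obtain ⟨u, ⟨huU, huL⟩, huuniq⟩ := hU.uniq (t⁻¹ * x) htK
    refine ⟨t * u, ⟨Finset.mem_image.2 ⟨(t, u), Finset.mem_product.2 ⟨htT, huU⟩, rfl⟩, ?_⟩, ?_⟩
    · have : (t * u)⁻¹ * x = u⁻¹ * (t⁻¹ * x) := by group
      rw [this]; exact huL
    · rintro y ⟨hy, hyL⟩
      obtain ⟨⟨t', u'⟩, hp, rfl⟩ := Finset.mem_image.1 hy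
      rw [Finset.mem_product] at hp
      have e : (t' * u')⁻¹ * x = u'⁻¹ * (t'⁻¹ * x) := by group
      have h1 : t'⁻¹ * x ∈ K := by
        have : t'⁻¹ * x = u' * ((t' * u')⁻¹ * x) := by group
        rw [this]; exact K.mul_mem (hU.mem u' hp.2) (hU.le hyL)
      have ht' : t' = t := htuniq t' ⟨hp.1, h1⟩
      subst ht'
      have hu' : u' = u := huuniq u' ⟨hp.2, by rw [← e]; exact hyL⟩
      rw [hu']

theorem bp_IsLT.mul_injOn {T U : Finset G} {L K H : Subgroup G}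
    (hT : bp_IsLT T K H) (hU : bp_IsLT U L K) :
    Set.InjOn (fun p : G × G => p.1 * p.2) (T ×ˢ U : Finset (G × G)) := by
  rintro ⟨t, u⟩ hp ⟨t', u'⟩ hp' e
  rw [Finset.mem_coe, Finset.mem_product] at hp hp'
  simp only at e hp hp'
  have h1 : t⁻¹ * t' ∈ K := by
    have : t⁻¹ * t' = u * u'⁻¹ := by
      have : t' = t * u * u'⁻¹ := by rw [e]; group
      rw [this]; group
    rw [this]; exact K.mul_mem (hU.mem u hp.2) (K.inv_mem (hU.mem u' hp'.2))
  have ht : t = t' := hT.eq_of_mem hp.1 hp'.1 h1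
  subst ht
  have hu : u = u' := mul_left_cancel e
  rw [hu]


section Trace

variable [Finite G]

open Classical in
/-- a chosen left transversal of `K` in `H`. -/
noncomputable def bp_transv (K H : Subgroup G) : Finset G :=
  haveI := Fintype.ofFinite (G ⧸ K)
  ((Finset.univ : Finset (G ⧸ K)).filter (fun q => (Quotient.out q : G) ∈ H)).image
    (fun q => (Quotient.out q : G))

theorem bp_transv_isLT {K H : Subgroup G} (hKH : K ≤ H) : bp_IsLT (bp_transv K H) K H := by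
  classical
  have := Fintype.ofFinite (G ⧸ K)
  have hmem : ∀ t : G, t ∈ bp_transv K H ↔ ∃ q : G ⧸ K, (Quotient.out q : G) ∈ H ∧
      (Quotient.out q : G) = t := by
    intro t
    simp only [bp_transv, Finset.mem_image, Finset.mem_filter, Finset.mem_univ, true_and]
    constructor
    · rintro ⟨q, hq, rfl⟩
      exact ⟨q, by convert hq, rfl⟩
    · rintro ⟨q, hq, rfl⟩
      exact ⟨q, by convert hq, rfl⟩
  refine ⟨hKH, ?_, ?_⟩
  · intro t ht
    obtain ⟨q, hq, rfl⟩ := (hmem t).1 ht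
    exact hq
  · intro h hh
    have hout : (Quotient.out (QuotientGroup.mk h : G ⧸ K))⁻¹ * h ∈ K := by
      have : (QuotientGroup.mk (Quotient.out (QuotientGroup.mk h : G ⧸ K)) : G ⧸ K) =
          QuotientGroup.mk h := Quotient.out_eq _
      exact QuotientGroup.eq.1 this
    refine ⟨Quotient.out (QuotientGroup.mk h : G ⧸ K), ⟨(hmem _).2 ⟨_, ?_, rfl⟩, hout⟩, ?_⟩
    · have : Quotient.out (QuotientGroup.mk h : G ⧸ K) =
          h * ((Quotient.out (QuotientGroup.mk h : G ⧸ K))⁻¹ * h)⁻¹ := by group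
      rw [this]
      exact H.mul_mem hh (H.inv_mem (hKH hout))
    · rintro t ⟨ht, htK⟩
      obtain ⟨q, _, rfl⟩ := (hmem t).1 ht
      have : q = QuotientGroup.mk h := by
        rw [← Quotient.out_eq q]
        exact QuotientGroup.eq.2 htK
      rw [this]

/-- the relative trace `Tr_K^H` on `RG`, as an `R`-linear map (it lands in `(RG)^H` on `(RG)^K`). -/
noncomputable def bp_tr (K H : Subgroup G) : MonoidAlgebra R G →ₗ[R] MonoidAlgebra R G :=
  ∑ t ∈ bp_transv K H, (bp_conj (R := R) t).toLinearMap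

theorem bp_tr_apply (K H : Subgroup G) (a : MonoidAlgebra R G) :
    bp_tr K H a = ∑ t ∈ bp_transv K H, bp_conj t a := by
  simp [bp_tr, LinearMap.sum_apply]

/-- on `(RG)^K` the relative trace can be computed with any left transversal. -/
theorem bp_tr_eq_sum {K H : Subgroup G} {T : Finset G} (hT : bp_IsLT T K H)
    {a : MonoidAlgebra R G} (ha : a ∈ bp_fix K) : bp_tr K H a = ∑ t ∈ T, bp_conj t a := by
  rw [bp_tr_apply]
  exact bp_sum_transversal_eq (bp_transv_isLT hT.le) hT (fun t => bp_conj t a)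
    (fun x k hk => bp_conj_mul_of_mem ha x hk)

theorem bp_tr_mem {K H : Subgroup G} (hKH : K ≤ H) {a : MonoidAlgebra R G} (ha : a ∈ bp_fix K) :
    bp_tr K H a ∈ bp_fix H := by
  classical
  intro h hh
  have hT := bp_transv_isLT hKH
  rw [bp_tr_apply, map_sum]
  have h1 : ∑ t ∈ bp_transv K H, bp_conj h (bp_conj t a) =
      ∑ t ∈ (bp_transv K H).image (fun t => h * t), bp_conj t a := by
    rw [Finset.sum_image (fun x _ y _ e => mul_left_cancel e)]
    exact Finset.sum_congr rfl (fun t _ => (bp_conj_mul h t a).symm)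
  rw [h1]
  exact bp_sum_transversal_eq (hT.mul_left hh) hT (fun t => bp_conj t a)
    (fun x k hk => bp_conj_mul_of_mem ha x hk)

theorem bp_tr_mul_left {K H : Subgroup G} (hKH : K ≤ H) {a b : MonoidAlgebra R G}
    (hb : b ∈ bp_fix H) : bp_tr K H (b * a) = b * bp_tr K H a := by
  rw [bp_tr_apply, bp_tr_apply, Finset.mul_sum]
  refine Finset.sum_congr rfl (fun t ht => ?_)
  rw [map_mul, hb t ((bp_transv_isLT hKH).mem t ht)]

theorem bp_tr_mul_right {K H : Subgroup G} (hKH : K ≤ H) {a b : MonoidAlgebra R G}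
    (hb : b ∈ bp_fix H) : bp_tr K H (a * b) = bp_tr K H a * b := by
  rw [bp_tr_apply, bp_tr_apply, Finset.sum_mul]
  refine Finset.sum_congr rfl (fun t ht => ?_)
  rw [map_mul, hb t ((bp_transv_isLT hKH).mem t ht)]

theorem bp_tr_trans {L K H : Subgroup G} (hLK : L ≤ K) (hKH : K ≤ H) {a : MonoidAlgebra R G}
    (ha : a ∈ bp_fix L) : bp_tr K H (bp_tr L K a) = bp_tr L H a := by
  classical
  have hT := bp_transv_isLT hKH
  have hU := bp_transv_isLT hLK
  rw [bp_tr_eq_sum (hT.mul hU) ha, Finset.sum_image (hT.mul_injOn hU), Finset.sum_product,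
    bp_tr_apply]
  refine Finset.sum_congr rfl (fun t _ => ?_)
  rw [bp_tr_apply, map_sum]
  exact Finset.sum_congr rfl (fun u _ => (bp_conj_mul t u a).symm)

theorem bp_tr_conj (g : G) {K H : Subgroup G} (hKH : K ≤ H) {a : MonoidAlgebra R G}
    (ha : a ∈ bp_fix K) :
    bp_conj g (bp_tr K H a) =
      bp_tr (K.map (MulAut.conj g).toMonoidHom) (H.map (MulAut.conj g).toMonoidHom)
        (bp_conj g a) := by
  classical
  have hT := bp_transv_isLT hKH
  rw [bp_tr_eq_sum (hT.conj g) (bp_conj_mem_fix g ha), bp_tr_apply, map_sum,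
    Finset.sum_image (fun x _ y _ e => by simpa using e)]
  refine Finset.sum_congr rfl (fun t _ => ?_)
  rw [← bp_conj_mul, ← bp_conj_mul]
  congr 1
  group

/-- on `(RG)^H` the relative trace is multiplication by the index. -/
theorem bp_tr_of_mem_fix {K H : Subgroup G} (hKH : K ≤ H) {a : MonoidAlgebra R G}
    (ha : a ∈ bp_fix H) : bp_tr K H a = (bp_transv K H).card • a := by
  rw [bp_tr_apply, Finset.sum_congr rfl (fun t ht => ha t ((bp_transv_isLT hKH).mem t ht)),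
    Finset.sum_const]

theorem bp_tr_self (H : Subgroup G) {a : MonoidAlgebra R G} (ha : a ∈ bp_fix H) :
    bp_tr H H a = a := by
  classical
  have h1 : bp_IsLT ({1} : Finset G) H H := by
    refine ⟨le_rfl, ?_, ?_⟩
    · intro t ht; rw [Finset.mem_singleton] at ht; rw [ht]; exact H.one_mem
    · intro h hh
      refine ⟨1, ⟨Finset.mem_singleton_self 1, by simpa using hh⟩, ?_⟩
      rintro y ⟨hy, _⟩
      exact Finset.mem_singleton.1 hy
  rw [bp_tr_eq_sum h1 (ha), Finset.sum_singleton, bp_conj_one]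


/-- `X` is a set of `(L, K)`-double coset representatives in `H`. -/
structure bp_IsDC (X : Finset G) (L K H : Subgroup G) : Prop where
  mem : ∀ x ∈ X, x ∈ H
  uniq : ∀ h ∈ H, ∃! x, x ∈ X ∧ ∃ l ∈ L, ∃ k ∈ K, h = l * x * k

open Classical in
/-- a chosen set of `(L, K)`-double coset representatives in `H`. -/
noncomputable def bp_dcReps (L K H : Subgroup G) : Finset G :=
  haveI : Finite (DoubleCoset.Quotient (L : Set G) K) :=
    inferInstanceAs (Finite (_root_.Quotient (DoubleCoset.setoid (L : Set G) K)))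
  haveI := Fintype.ofFinite (DoubleCoset.Quotient (L : Set G) K)
  ((Finset.univ : Finset (DoubleCoset.Quotient (L : Set G) K)).filter
    (fun q => (Quotient.out q : G) ∈ H)).image (fun q => (Quotient.out q : G))

theorem bp_dcReps_isDC {L K H : Subgroup G} (hL : L ≤ H) (hK : K ≤ H) :
    bp_IsDC (bp_dcReps L K H) L K H := by
  classical
  have : Finite (DoubleCoset.Quotient (L : Set G) K) :=
    inferInstanceAs (Finite (_root_.Quotient (DoubleCoset.setoid (L : Set G) K)))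
  have := Fintype.ofFinite (DoubleCoset.Quotient (L : Set G) K)
  have hmem : ∀ t : G, t ∈ bp_dcReps L K H ↔ ∃ q : DoubleCoset.Quotient (L : Set G) K,
      (Quotient.out q : G) ∈ H ∧ (Quotient.out q : G) = t := by
    intro t
    simp only [bp_dcReps, Finset.mem_image]
    constructor
    · rintro ⟨q, hq, rfl⟩
      exact ⟨q, (Finset.mem_filter.1 hq).2, rfl⟩
    · rintro ⟨q, hq, rfl⟩
      exact ⟨q, Finset.mem_filter.2
        ⟨@Finset.mem_univ (DoubleCoset.Quotient (L : Set G) K) (Fintype.ofFinite _) q, hq⟩, rfl⟩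
  refine ⟨?_, ?_⟩
  · intro t ht
    obtain ⟨q, hq, rfl⟩ := (hmem t).1 ht
    exact hq
  · intro h hh
    obtain ⟨l, k, hl, hk, e⟩ := DoubleCoset.mk_out_eq_mul L K h
    set x := (DoubleCoset.mk L K h : DoubleCoset.Quotient (L : Set G) K).out with hx
    have hxH : x ∈ H := by rw [e]; exact H.mul_mem (H.mul_mem (hL hl) hh) (hK hk)
    refine ⟨x, ⟨(hmem x).2 ⟨_, hxH, rfl⟩, l⁻¹, L.inv_mem hl, k⁻¹, K.inv_mem hk, ?_⟩, ?_⟩
    · rw [e]; group
    · rintro y ⟨hy, l', hl', k', hk', e'⟩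
      obtain ⟨q, _, rfl⟩ := (hmem y).1 hy
      have : q = DoubleCoset.mk L K h := by
        rw [← DoubleCoset.out_eq' L K q]
        exact (DoubleCoset.eq L K _ _).2 ⟨l', hl', k', hk', e'⟩
      rw [this]

/-- **Mackey formula** for relative traces: for `K, L ≤ H`, `a ∈ (RG)^K` and `X` a set of
`(L,K)`-double coset representatives in `H`,
`Tr_K^H a = ∑_{x ∈ X} Tr_{L ∩ xKx⁻¹}^L (x a x⁻¹)`. -/
theorem bp_mackey {K L H : Subgroup G} (hK : K ≤ H) (hL : L ≤ H) {X : Finset G}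
    (hX : bp_IsDC X L K H) {a : MonoidAlgebra R G} (ha : a ∈ bp_fix K) :
    bp_tr K H a =
      ∑ x ∈ X, bp_tr (L ⊓ K.map (MulAut.conj x).toMonoidHom) L (bp_conj x a) := by
  classical
  -- the transversal `{t * x : x ∈ X, t ∈ T_x}`
  set Tx : G → Finset G := fun x => bp_transv (L ⊓ K.map (MulAut.conj x).toMonoidHom) L with hTx
  have hTxLT : ∀ x, bp_IsLT (Tx x) (L ⊓ K.map (MulAut.conj x).toMonoidHom) L :=
    fun x => bp_transv_isLT inf_le_left
  set S : Finset (G × G) := X.sigma (fun x => Tx x) |>.image (fun p => (p.1, p.2)) with hS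
  have hSmem : ∀ p : G × G, p ∈ S ↔ p.1 ∈ X ∧ p.2 ∈ Tx p.1 := by
    rintro ⟨x, t⟩
    simp only [hS, Finset.mem_image, Finset.mem_sigma]
    constructor
    · rintro ⟨⟨x', t'⟩, ⟨h1, h2⟩, e⟩
      simp only [Prod.mk.injEq] at e
      obtain ⟨rfl, rfl⟩ := e
      exact ⟨h1, h2⟩
    · rintro ⟨h1, h2⟩
      exact ⟨⟨x, t⟩, ⟨h1, h2⟩, rfl⟩
  -- key facts about membership in `K`
  have key : ∀ x t h : G, (t * x)⁻¹ * h ∈ K → ∀ t' : G, (t' * x)⁻¹ * h ∈ K →
      t⁻¹ * t' ∈ K.map (MulAut.conj x).toMonoidHom := by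
    intro x t h h1 t' h2
    rw [bp_mem_map_conj]
    have : x⁻¹ * (t⁻¹ * t') * x = ((t * x)⁻¹ * h) * ((t' * x)⁻¹ * h)⁻¹ := by group
    rw [this]
    exact K.mul_mem h1 (K.inv_mem h2)
  have hinj : Set.InjOn (fun p : G × G => p.2 * p.1) (S : Set (G × G)) := by
    rintro ⟨x, t⟩ hp ⟨x', t'⟩ hp' e
    rw [Finset.mem_coe, hSmem] at hp hp'
    simp only at e hp hp'
    have htL : t ∈ L := (hTxLT x).mem t hp.2
    have ht'L : t' ∈ L := (hTxLT x').mem t' hp'.2
    have hxx' : x = x' := by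
      obtain ⟨y, _, hy⟩ := hX.uniq (t * x) (H.mul_mem (hL htL) (hX.mem x hp.1))
      have h1 := hy x ⟨hp.1, t, htL, 1, K.one_mem, by simp⟩
      have h2 := hy x' ⟨hp'.1, t', ht'L, 1, K.one_mem, by rw [e]; simp⟩
      rw [h1, h2]
    subst hxx'
    have : t = t' := mul_right_cancel e
    rw [this]
  have hLT : bp_IsLT (S.image (fun p => p.2 * p.1)) K H := by
    refine ⟨hK, ?_, ?_⟩
    · intro y hy
      obtain ⟨⟨x, t⟩, hp, rfl⟩ := Finset.mem_image.1 hy
      rw [hSmem] at hp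
      exact H.mul_mem (hL ((hTxLT x).mem t hp.2)) (hX.mem x hp.1)
    · intro h hh
      obtain ⟨x, ⟨hxX, l, hl, k, hk, e⟩, hxuniq⟩ := hX.uniq h hh
      obtain ⟨t, ⟨htT, htK⟩, htuniq⟩ := (hTxLT x).uniq l hl
      have h1 : (t * x)⁻¹ * h ∈ K := by
        have h3 := (bp_mem_map_conj x K _).1 htK.2
        have : (t * x)⁻¹ * h = (x⁻¹ * (t⁻¹ * l) * x) * k := by rw [e]; group
        rw [this]; exact K.mul_mem h3 hk
      refine ⟨t * x, ⟨Finset.mem_image.2 ⟨(x, t), (hSmem _).2 ⟨hxX, htT⟩, rfl⟩, h1⟩, ?_⟩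
      rintro y ⟨hy, hyK⟩
      obtain ⟨⟨x', t'⟩, hp, rfl⟩ := Finset.mem_image.1 hy
      rw [hSmem] at hp
      simp only at hp hyK ⊢
      have ht'L : t' ∈ L := (hTxLT x').mem t' hp.2
      have hx' : x' = x := hxuniq x' ⟨hp.1, t', ht'L, ((t' * x')⁻¹ * h), hyK, by group⟩
      subst hx'
      have h4 : t'⁻¹ * l ∈ L ⊓ K.map (MulAut.conj x').toMonoidHom := by
        refine Subgroup.mem_inf.2 ⟨L.mul_mem (L.inv_mem ht'L) hl, (bp_mem_map_conj _ _ _).2 ?_⟩
        have : x'⁻¹ * (t'⁻¹ * l) * x' = ((t' * x')⁻¹ * h) * k⁻¹ := by rw [e]; group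
        rw [this]; exact K.mul_mem hyK (K.inv_mem hk)
      have : t' = t := htuniq t' ⟨hp.2, h4⟩
      rw [this]
  rw [bp_tr_eq_sum hLT ha, Finset.sum_image hinj]
  -- reorganise the sum over `S` as a double sum
  have hsum : ∑ p ∈ S, bp_conj (p.2 * p.1) a = ∑ x ∈ X, ∑ t ∈ Tx x, bp_conj (t * x) a := by
    rw [hS, Finset.sum_image, Finset.sum_sigma]
    rintro ⟨x, t⟩ _ ⟨x', t'⟩ _ e
    simp only [Prod.mk.injEq] at e
    obtain ⟨rfl, rfl⟩ := e
    rfl
  rw [hsum]
  refine Finset.sum_congr rfl (fun x _ => ?_)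
  rw [bp_tr_apply]
  exact Finset.sum_congr rfl (fun t _ => bp_conj_mul t x a)


/-- the ideal `Tr_K^H((RG)^K)` of `(RG)^H`, as a two-sided ideal (meaningful for `K ≤ H`). -/
noncomputable def bp_trIdeal (K H : Subgroup G) (hKH : K ≤ H) :
    TwoSidedIdeal (bp_fix (R := R) H) :=
  TwoSidedIdeal.mk' {x | ∃ a ∈ bp_fix (R := R) K, bp_tr K H a = (x : MonoidAlgebra R G)}
    ⟨0, (bp_fix K).zero_mem, by simp⟩
    (by
      rintro x y ⟨a, ha, hax⟩ ⟨b, hb, hby⟩
      exact ⟨a + b, (bp_fix K).add_mem ha hb, by rw [map_add, hax, hby]; rfl⟩)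
    (by
      rintro x ⟨a, ha, hax⟩
      exact ⟨-a, (bp_fix K).neg_mem ha, by rw [map_neg, hax]; rfl⟩)
    (by
      rintro x y ⟨a, ha, hay⟩
      refine ⟨(x : MonoidAlgebra R G) * a,
        (bp_fix K).mul_mem (bp_fix_mono hKH x.2) ha, ?_⟩
      rw [bp_tr_mul_left hKH x.2, hay]; rfl)
    (by
      rintro x y ⟨a, ha, hax⟩
      refine ⟨a * (y : MonoidAlgebra R G),
        (bp_fix K).mul_mem ha (bp_fix_mono hKH y.2), ?_⟩
      rw [bp_tr_mul_right hKH y.2, hax]; rfl)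

theorem bp_mem_trIdeal {K H : Subgroup G} (hKH : K ≤ H) (x : bp_fix (R := R) H) :
    x ∈ bp_trIdeal K H hKH ↔ ∃ a ∈ bp_fix (R := R) K, bp_tr K H a = (x : MonoidAlgebra R G) := by
  simp [bp_trIdeal]

end Trace

end Cfsg.Agent.BP
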