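import Mathlib
import Cfsg.Agent.BP.BrCore
import Cfsg.Agent.BP.RelTrace

/-!
# The kernel of the Brauer map, coefficientwise (BP blueprint, section 3)

Every `P`-invariant element of `RG` is congruent, modulo any submodule containing the `P`-orbit sums of the
elements outside `C_G(P)`, to its part supported on `C_G(P)`.  Together with the description of `𝔪 • ⊤`
by coefficients this gives the kernel of the Brauer map.
-/

set_option autoImplicit false

namespace Cfsg.Agent.BP

open MonoidAlgebra MulAction

variable {R : Type*} [CommRing R] [IsLocalRing R] {G : Type*} [Group G]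

omit [IsLocalRing R] in
theorem bp_coeffInv_iff_mem_fix (H : Subgroup G) (a : MonoidAlgebra R G) :
    bp_CoeffInv H a ↔ a ∈ bp_fix H := (bp_mem_fix_iff H a).symm

omit [IsLocalRing R] in
theorem bp_orb_eq_orbit [Finite G] (P : Subgroup G) (g b : G) :
    b ∈ bp_orb P g ↔ b ∈ @MulAction.orbit P G (bp_conjAct P).toSMul g := by
  rw [bp_mem_orb]
  constructor
  · rintro ⟨x, hx, rfl⟩
    exact ⟨⟨x, hx⟩, rfl⟩
  · rintro ⟨x, rfl⟩
    exact ⟨x, x.2, rfl⟩

omit [IsLocalRing R] in
/-- The orbit of an element outside `C_G(P)` does not meet `C_G(P)`. -/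
theorem bp_orb_disjoint_centralizer [Finite G] (P : Subgroup G) (g : G)
    (hg : g ∉ Subgroup.centralizer (P : Set G)) (c : G) (hc : c ∈ Subgroup.centralizer (P : Set G)) :
    c ∉ bp_orb P g := by
  rw [bp_mem_orb]
  rintro ⟨x, hx, rfl⟩
  apply hg
  rw [Subgroup.mem_centralizer_iff] at hc ⊢
  intro y hy
  have h1 := hc (x * y * x⁻¹) (P.mul_mem (P.mul_mem hx hy) (P.inv_mem hx))
  have h2 : x * (y * g) * x⁻¹ = x * (g * y) * x⁻¹ := by
    calc x * (y * g) * x⁻¹ = x * y * x⁻¹ * (x * g * x⁻¹) := by group
      _ = x * g * x⁻¹ * (x * y * x⁻¹) := h1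
      _ = x * (g * y) * x⁻¹ := by group
  exact mul_left_cancel (mul_right_cancel h2)

theorem bp_brFun_orbSum_of_not_mem [Finite G] (P : Subgroup G) (g : G)
    (hg : g ∉ Subgroup.centralizer (P : Set G)) :
    bp_brFun P (bp_orbSum (R := R) P g) = 0 := by
  classical
  ext c
  rw [bp_brFun_coeff, bp_orbSum_coeff, if_neg (bp_orb_disjoint_centralizer P g hg c c.2), map_zero]
  rfl

/-- Truncation of an element of a group algebra to a subgroup. -/
noncomputable def bp_truncTo {S : Type*} [Semiring S] (H : Subgroup G) (a : MonoidAlgebra S G) :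
    MonoidAlgebra S H :=
  MonoidAlgebra.ofCoeff (a.coeff.comapDomain (Subtype.val : H → G) (Subtype.val_injective.injOn))

@[simp] theorem bp_truncTo_coeff {S : Type*} [Semiring S] (H : Subgroup G) (a : MonoidAlgebra S G) (h : H) :
    (bp_truncTo H a).coeff h = a.coeff (h : G) := by
  simp [bp_truncTo, Finsupp.comapDomain_apply]

theorem bp_brFun_eq_map_truncTo (P : Subgroup G) (a : MonoidAlgebra R G) :
    bp_brFun P a = MonoidAlgebra.map (IsLocalRing.residue R : R →+ IsLocalRing.ResidueField R)
      (bp_truncTo (Subgroup.centralizer (P : Set G)) a) := by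
  ext c
  rw [bp_brFun_coeff, coeff_map, Finsupp.mapRange_apply, bp_truncTo_coeff]
  rfl

omit [IsLocalRing R] [Group G] in
theorem bp_eq_sum_single [Fintype G] (a : MonoidAlgebra R G) :
    a = ∑ g : G, single g (a.coeff g) := by
  classical
  ext b
  rw [coeff_sum, Finsupp.finsetSum_apply]
  simp [coeff_single, Finsupp.single_apply]

omit [IsLocalRing R] in
/-- Membership in `I • ⊤` is coefficientwise. -/
theorem bp_mem_ideal_smul_top_iff [Finite G] (I : Ideal R) (a : MonoidAlgebra R G) :
    a ∈ I • (⊤ : Submodule R (MonoidAlgebra R G)) ↔ ∀ g, a.coeff g ∈ I := by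
  classical
  have : Fintype G := Fintype.ofFinite G
  constructor
  · intro h
    refine Submodule.smul_induction_on h ?_ ?_
    · intro r hr n _ g
      rw [coeff_smul, Finsupp.smul_apply, smul_eq_mul]
      exact I.mul_mem_right _ hr
    · intro x y hx hy g
      rw [coeff_add, Finsupp.add_apply]
      exact I.add_mem (hx g) (hy g)
  · intro h
    rw [bp_eq_sum_single a]
    refine Submodule.sum_mem _ (fun g _ => ?_)
    have : single g (a.coeff g) = (a.coeff g) • (single g (1 : R) : MonoidAlgebra R G) := by
      rw [smul_single, smul_eq_mul, mul_one]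
    rw [this]
    exact Submodule.smul_mem_smul (h g) Submodule.mem_top

theorem bp_brFun_eq_zero_iff (P : Subgroup G) (a : MonoidAlgebra R G) :
    bp_brFun P a = 0 ↔
      ∀ c ∈ Subgroup.centralizer (P : Set G), a.coeff c ∈ IsLocalRing.maximalIdeal R := by
  constructor
  · intro h c hc
    have := congrArg (fun z => z.coeff ⟨c, hc⟩) h
    simp only [bp_brFun_coeff] at this
    rw [← IsLocalRing.residue_eq_zero_iff]
    exact this
  · intro h
    ext c
    rw [bp_brFun_coeff, (IsLocalRing.residue_eq_zero_iff _).mpr (h c c.2)]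
    rfl

theorem bp_brFun_of_mem_smul_top [Finite G] (P : Subgroup G) (a : MonoidAlgebra R G)
    (ha : a ∈ IsLocalRing.maximalIdeal R • (⊤ : Submodule R (MonoidAlgebra R G))) :
    bp_brFun P a = 0 := by
  rw [bp_brFun_eq_zero_iff]
  intro c _
  exact (bp_mem_ideal_smul_top_iff _ a).mp ha c

omit [IsLocalRing R] in
/-- Removing the part supported on `C_G(P)` leaves the sum over the elements outside `C_G(P)`. -/
theorem bp_sub_trunc_eq [Fintype G] (P : Subgroup G) (a : MonoidAlgebra R G)
    [DecidablePred fun g : G => g ∈ Subgroup.centralizer (P : Set G)] :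
    a - MonoidAlgebra.mapDomain (Subtype.val : Subgroup.centralizer (P : Set G) → G)
        (bp_truncTo (Subgroup.centralizer (P : Set G)) a) =
      ∑ g ∈ Finset.univ.filter (fun g : G => g ∉ Subgroup.centralizer (P : Set G)),
        single g (a.coeff g) := by
  classical
  ext b
  rw [coeff_sub, Finsupp.sub_apply, coeff_sum, Finsupp.finsetSum_apply]
  simp only [coeff_single, Finsupp.single_apply]
  rw [Finset.sum_ite_eq']
  by_cases hb : b ∈ Subgroup.centralizer (P : Set G)
  · have h1 := bp_coeff_mapDomain_val P (bp_truncTo (Subgroup.centralizer (P : Set G)) a) ⟨b, hb⟩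
    rw [bp_truncTo_coeff] at h1
    change (MonoidAlgebra.mapDomain Subtype.val (bp_truncTo (Subgroup.centralizer (P : Set G)) a)).coeff b
      = a.coeff b at h1
    rw [h1, sub_self, if_neg]
    simp [hb]
  · rw [bp_coeff_mapDomain_val_not_mem P _ b hb, sub_zero, if_pos]
    simp [hb]

omit [IsLocalRing R] in
/-- KERNEL DECOMPOSITION (core).  If a submodule `T` contains the `P`-orbit sums of all elements outside
`C_G(P)`, then every `P`-invariant element is congruent modulo `T` to its part supported on `C_G(P)`. -/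
theorem bp_sub_trunc_mem [Finite G] (P : Subgroup G) (T : Submodule R (MonoidAlgebra R G))
    (hT : ∀ g : G, g ∉ Subgroup.centralizer (P : Set G) → bp_orbSum P g ∈ T)
    (a : MonoidAlgebra R G) (ha : a ∈ bp_fix P) :
    a - MonoidAlgebra.mapDomain (Subtype.val : Subgroup.centralizer (P : Set G) → G)
        (bp_truncTo (Subgroup.centralizer (P : Set G)) a) ∈ T := by
  classical
  have : Fintype G := Fintype.ofFinite G
  rw [bp_sub_trunc_eq]
  have hfilt : (Finset.univ.filter (fun g : G => g ∉ Subgroup.centralizer (P : Set G))) =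
      Finset.univ.filter (fun g : G => g ∉ @MulAction.fixedPoints P G _ (bp_conjAct P)) := by
    ext g
    simp only [Finset.mem_filter, Finset.mem_univ, true_and]
    rw [bp_conjAct_fixed]
  rw [hfilt]
  refine @bp_sum_nonfixed_mem_submodule P _ G (bp_conjAct P) R _ _ _ _ _ T
    (fun g => single g (a.coeff g)) _ ?_
  intro g hg inst
  rw [bp_conjAct_fixed] at hg
  have hsum : (∑ b ∈ Finset.univ.filter
      (fun b => b ∈ @MulAction.orbit P G (bp_conjAct P).toSMul g), single b (a.coeff b)) =
      (a.coeff g) • bp_orbSum (R := R) P g := by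
    unfold bp_orbSum
    rw [Finset.smul_sum]
    have hf : (Finset.univ.filter (fun b => b ∈ @MulAction.orbit P G (bp_conjAct P).toSMul g)) =
        bp_orb P g := by
      ext b
      simp only [Finset.mem_filter, Finset.mem_univ, true_and]
      rw [bp_orb_eq_orbit]
    rw [hf]
    refine Finset.sum_congr rfl (fun b hb => ?_)
    rw [bp_fix_coeff_orb ha hb, smul_single, smul_eq_mul, mul_one]
  convert T.smul_mem (a.coeff g) (hT g hg) using 1

/-- The part supported on `C_G(P)` of an element killed by the Brauer map lies in `𝔪 • ⊤`. -/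
theorem bp_trunc_mem_smul_top [Finite G] (P : Subgroup G) (a : MonoidAlgebra R G)
    (h0 : bp_brFun P a = 0) :
    MonoidAlgebra.mapDomain (Subtype.val : Subgroup.centralizer (P : Set G) → G)
        (bp_truncTo (Subgroup.centralizer (P : Set G)) a) ∈
      IsLocalRing.maximalIdeal R • (⊤ : Submodule R (MonoidAlgebra R G)) := by
  rw [bp_mem_ideal_smul_top_iff]
  intro g
  by_cases hg : g ∈ Subgroup.centralizer (P : Set G)
  · have h1 := bp_coeff_mapDomain_val P (bp_truncTo (Subgroup.centralizer (P : Set G)) a) ⟨g, hg⟩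
    rw [bp_truncTo_coeff] at h1
    change (MonoidAlgebra.mapDomain Subtype.val (bp_truncTo (Subgroup.centralizer (P : Set G)) a)).coeff g
      = a.coeff g at h1
    rw [h1]
    exact (bp_brFun_eq_zero_iff P a).mp h0 g hg
  · rw [bp_coeff_mapDomain_val_not_mem P _ g hg]
    exact Ideal.zero_mem _

/-- KERNEL of the Brauer map on the `P`-fixed points: `T + 𝔪 RG` for any submodule `T` of the kernel
containing the orbit sums of the elements outside `C_G(P)`. -/
theorem bp_brFun_eq_zero_iff_mem [Finite G] (P : Subgroup G) (T : Submodule R (MonoidAlgebra R G))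
    (hT : ∀ g : G, g ∉ Subgroup.centralizer (P : Set G) → bp_orbSum P g ∈ T)
    (hT0 : ∀ t ∈ T, bp_brFun P t = 0)
    (a : MonoidAlgebra R G) (ha : a ∈ bp_fix P) :
    bp_brFun P a = 0 ↔
      a ∈ T ⊔ IsLocalRing.maximalIdeal R • (⊤ : Submodule R (MonoidAlgebra R G)) := by
  constructor
  · intro h0
    have h1 := bp_sub_trunc_mem P T hT a ha
    have h2 := bp_trunc_mem_smul_top P a h0
    have := Submodule.add_mem_sup h1 h2
    rwa [sub_add_cancel] at this
  · intro h
    obtain ⟨t, ht, m, hm, rfl⟩ := Submodule.mem_sup.mp h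
    rw [bp_brFun_add, hT0 t ht, bp_brFun_of_mem_smul_top P m hm, add_zero]

end Cfsg.Agent.BP
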