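import Cfsg.Agent.BP.RelTrace

/-!
# BP / L3 part B, complements: cardinality of transversals, orbit sums as relative traces
-/

set_option autoImplicit false

namespace Cfsg.Agent.BP

open MonoidAlgebra

variable {R : Type*} [CommRing R] {G : Type*} [Group G]

/-- a left transversal of `K` in `H` has `|H : K|` elements. -/
theorem bp_IsLT.card_mul_card [Finite G] {T : Finset G} {K H : Subgroup G} (hT : bp_IsLT T K H) :
    T.card * Nat.card K = Nat.card H := by
  classical
  have e : (T × K) ≃ H := by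
    refine Equiv.ofBijective
      (fun p => (⟨(p.1 : G) * (p.2 : G), H.mul_mem (hT.mem _ p.1.2) (hT.le p.2.2)⟩ : H)) ⟨?_, ?_⟩
    · rintro ⟨⟨t, ht⟩, ⟨k, hk⟩⟩ ⟨⟨t', ht'⟩, ⟨k', hk'⟩⟩ e
      simp only [Subtype.mk.injEq] at e
      have h1 : t⁻¹ * t' ∈ K := by
        have : t⁻¹ * t' = k * k'⁻¹ := by
          have : t' = t * k * k'⁻¹ := by rw [e]; group
          rw [this]; group
        rw [this]; exact K.mul_mem hk (K.inv_mem hk')
      have htt : t = t' := hT.eq_of_mem ht ht' h1
      subst htt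
      have : k = k' := mul_left_cancel e
      subst this
      rfl
    · rintro ⟨h, hh⟩
      obtain ⟨t, ⟨htT, htK⟩, _⟩ := hT.uniq h hh
      refine ⟨⟨⟨t, htT⟩, ⟨t⁻¹ * h, htK⟩⟩, ?_⟩
      simp
  have := Nat.card_congr e
  rw [Nat.card_prod, Nat.card_eq_fintype_card, Fintype.card_coe] at this
  exact this

theorem bp_IsLT.card_eq_relIndex [Finite G] {T : Finset G} {K H : Subgroup G}
    (hT : bp_IsLT T K H) : T.card = K.relIndex H := by
  have h1 := hT.card_mul_card
  have h2 : K.relIndex H * Nat.card K = Nat.card H := by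
    have := Subgroup.relIndex_mul_relIndex (⊥ : Subgroup G) K H bot_le hT.le
    rw [Subgroup.relIndex_bot_left, Subgroup.relIndex_bot_left] at this
    rw [mul_comm]; exact this
  have hpos : 0 < Nat.card K := Nat.card_pos
  exact Nat.eq_of_mul_eq_mul_right hpos (h1.trans h2.symm)

theorem bp_transv_card [Finite G] {K H : Subgroup G} (hKH : K ≤ H) :
    (bp_transv K H).card = K.relIndex H := (bp_transv_isLT hKH).card_eq_relIndex

/-- on `(RG)^H` the relative trace is multiplication by the index `|H : K|`. -/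
theorem bp_tr_of_mem_fix_relIndex [Finite G] {K H : Subgroup G} (hKH : K ≤ H)
    {a : MonoidAlgebra R G} (ha : a ∈ bp_fix H) : bp_tr K H a = (K.relIndex H) • a := by
  rw [bp_tr_of_mem_fix hKH ha, bp_transv_card hKH]

/-- the centraliser of `g` in `P`. -/
def bp_cent (P : Subgroup G) (g : G) : Subgroup G := P ⊓ Subgroup.centralizer {g}

theorem bp_mem_cent (P : Subgroup G) (g x : G) : x ∈ bp_cent P g ↔ x ∈ P ∧ x * g = g * x := by
  rw [bp_cent, Subgroup.mem_inf, Subgroup.mem_centralizer_iff]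
  constructor
  · rintro ⟨h1, h2⟩
    exact ⟨h1, (h2 g (Set.mem_singleton g)).symm⟩
  · rintro ⟨h1, h2⟩
    refine ⟨h1, ?_⟩
    intro y hy
    rw [Set.mem_singleton_iff] at hy
    rw [hy, h2]

theorem bp_single_mem_fix_cent (P : Subgroup G) (g : G) (r : R) :
    MonoidAlgebra.single g r ∈ bp_fix (R := R) (bp_cent P g) := by
  intro x hx
  rw [bp_mem_cent] at hx
  rw [bp_conj_single]
  congr 1
  rw [hx.2]; group

/-- the `P`-orbit sum of `g` is the relative trace from the centraliser of `g` in `P`. -/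
theorem bp_orbSum_eq_tr [Finite G] (P : Subgroup G) (g : G) :
    bp_orbSum (R := R) P g = bp_tr (bp_cent P g) P (MonoidAlgebra.single g (1 : R)) := by
  classical
  have hT := bp_transv_isLT (K := bp_cent P g) (H := P) inf_le_left
  rw [bp_tr_apply, bp_orbSum]
  symm
  refine Finset.sum_bij (fun t _ => t * g * t⁻¹) ?_ ?_ ?_ ?_
  · intro t ht
    exact (bp_mem_orb P g _).2 ⟨t, hT.mem t ht, rfl⟩
  · intro t ht t' ht' e
    refine hT.eq_of_mem ht ht' ?_
    rw [bp_mem_cent]
    refine ⟨P.mul_mem (P.inv_mem (hT.mem t ht)) (hT.mem t' ht'), ?_⟩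
    have : t⁻¹ * t' * g = t⁻¹ * (t' * g * t'⁻¹) * t' := by group
    rw [this, ← e]; group
  · intro y hy
    obtain ⟨h, hh, rfl⟩ := (bp_mem_orb P g y).1 hy
    obtain ⟨t, ⟨htT, htK⟩, _⟩ := hT.uniq h hh
    refine ⟨t, htT, ?_⟩
    rw [bp_mem_cent] at htK
    have : h = t * (t⁻¹ * h) := by group
    rw [this]
    have h2 := htK.2
    calc t * g * t⁻¹ = t * (g * (t⁻¹ * h)) * (t⁻¹ * h)⁻¹ * t⁻¹ := by group
      _ = t * ((t⁻¹ * h) * g) * (t⁻¹ * h)⁻¹ * t⁻¹ := by rw [h2]
      _ = t * (t⁻¹ * h) * g * (t * (t⁻¹ * h))⁻¹ := by group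
  · intro t _
    rw [bp_conj_single]

theorem bp_cent_le (P : Subgroup G) (g : G) : bp_cent P g ≤ P := inf_le_left

/-- `C_P(g) = P` iff `g` centralises `P`. -/
theorem bp_cent_eq_iff (P : Subgroup G) (g : G) :
    bp_cent P g = P ↔ g ∈ Subgroup.centralizer (P : Set G) := by
  constructor
  · intro h
    rw [Subgroup.mem_centralizer_iff]
    intro x hx
    have hx' : x ∈ bp_cent P g := by rw [h]; exact hx
    exact ((bp_mem_cent P g x).1 hx').2
  · intro h
    refine le_antisymm (bp_cent_le P g) ?_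
    intro x hx
    rw [bp_mem_cent]
    rw [Subgroup.mem_centralizer_iff] at h
    exact ⟨hx, h x hx⟩

/-- if `g` centralises `P` its `P`-orbit is `{g}`. -/
theorem bp_orb_of_mem_centralizer [Finite G] (P : Subgroup G) {g : G}
    (hg : g ∈ Subgroup.centralizer (P : Set G)) : bp_orb P g = {g} := by
  classical
  ext y
  rw [bp_mem_orb, Finset.mem_singleton]
  rw [Subgroup.mem_centralizer_iff] at hg
  constructor
  · rintro ⟨h, hh, rfl⟩
    rw [hg h hh]; group
  · rintro rfl
    exact ⟨1, P.one_mem, by group⟩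

theorem bp_orbSum_of_mem_centralizer [Finite G] (P : Subgroup G) {g : G}
    (hg : g ∈ Subgroup.centralizer (P : Set G)) :
    bp_orbSum (R := R) P g = MonoidAlgebra.single g (1 : R) := by
  rw [bp_orbSum, bp_orb_of_mem_centralizer P hg, Finset.sum_singleton]

/-- if `g` does not centralise `P`, its `P`-orbit sum is a relative trace from the PROPER subgroup
`C_P(g)` of `P`. -/
theorem bp_cent_lt_of_not_mem_centralizer (P : Subgroup G) {g : G}
    (hg : g ∉ Subgroup.centralizer (P : Set G)) : bp_cent P g < P :=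
  lt_of_le_of_ne (bp_cent_le P g) (fun h => hg ((bp_cent_eq_iff P g).1 h))

theorem bp_orbSum_mem_trIdeal [Finite G] (P : Subgroup G) (g : G) :
    (⟨bp_orbSum (R := R) P g, bp_orbSum_mem_fix P g⟩ : bp_fix (R := R) P) ∈
      bp_trIdeal (bp_cent P g) P (bp_cent_le P g) := by
  rw [bp_mem_trIdeal]
  exact ⟨MonoidAlgebra.single g (1 : R), bp_single_mem_fix_cent P g 1, (bp_orbSum_eq_tr P g).symm⟩

end Cfsg.Agent.BP
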