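import Mathlib
import Cfsg.Agent.BP.BrKer
import Cfsg.Agent.BP.RelTraceB

/-!
# BP / L3 part C : the Brauer map (blueprint `notes/BP_blueprint_helper6.md`, section 3)

`bp_br hpR P hP : (RG)^P →+* k C_G(P)` for a `p`-subgroup `P` (`hpR : (p : R) ∈ 𝔪`), its values on relative
traces, on elements supported on `C_G(P)`, its kernel `Σ_{Q<P} Tr_Q^P((RG)^Q) + 𝔪 RG`, transitivity and
behaviour under conjugation.  Built on `GAlg`/`RelTrace`/`RelTraceB` (helper7) and the coefficient level files
`BrOrb`/`BrCore`/`BrKer`.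
-/

set_option autoImplicit false

namespace Cfsg.Agent.BP

open MonoidAlgebra

section traces

variable {R : Type*} [CommRing R] {G : Type*} [Group G]

/-- The `R`-submodule of `RG` generated by the relative traces from the proper subgroups of `P`. -/
noncomputable def bp_trLt [Finite G] (P : Subgroup G) : Submodule R (MonoidAlgebra R G) :=
  Submodule.span R {x | ∃ Q : Subgroup G, Q < P ∧ ∃ a ∈ bp_fix (R := R) Q, bp_tr Q P a = x}

theorem bp_tr_mem_trLt [Finite G] {Q P : Subgroup G} (hQP : Q < P) {a : MonoidAlgebra R G}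
    (ha : a ∈ bp_fix Q) : bp_tr Q P a ∈ bp_trLt (R := R) P :=
  Submodule.subset_span ⟨Q, hQP, a, ha, rfl⟩

theorem bp_orbSum_mem_trLt [Finite G] (P : Subgroup G) (g : G)
    (hg : g ∉ Subgroup.centralizer (P : Set G)) : bp_orbSum (R := R) P g ∈ bp_trLt P := by
  rw [bp_orbSum_eq_tr]
  exact bp_tr_mem_trLt (bp_cent_lt_of_not_mem_centralizer P hg) (bp_single_mem_fix_cent P g 1)

theorem bp_trLt_le_fix [Finite G] (P : Subgroup G) :
    bp_trLt (R := R) P ≤ Subalgebra.toSubmodule (bp_fix P) := by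
  unfold bp_trLt
  rw [Submodule.span_le]
  rintro x ⟨Q, hQP, a, ha, rfl⟩
  exact bp_tr_mem hQP.le ha

/-- `bp_trLt P` is a left ideal of the `P`-fixed points. -/
theorem bp_mul_mem_trLt [Finite G] (P : Subgroup G) {b t : MonoidAlgebra R G} (hb : b ∈ bp_fix P)
    (ht : t ∈ bp_trLt (R := R) P) : b * t ∈ bp_trLt P := by
  unfold bp_trLt at ht ⊢
  induction ht using Submodule.span_induction with
  | mem x hx =>
    obtain ⟨Q, hQP, a, ha, rfl⟩ := hx
    rw [← bp_tr_mul_left hQP.le hb]
    exact Submodule.subset_span ⟨Q, hQP, b * a, (bp_fix Q).mul_mem (bp_fix_mono hQP.le hb) ha, rfl⟩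
  | zero => rw [mul_zero]; exact Submodule.zero_mem _
  | add x y _ _ hx hy => rw [mul_add]; exact Submodule.add_mem _ hx hy
  | smul r x _ hx => rw [mul_smul_comm]; exact Submodule.smul_mem _ r hx

/-- `bp_trLt P` is a right ideal of the `P`-fixed points. -/
theorem bp_mem_trLt_mul [Finite G] (P : Subgroup G) {b t : MonoidAlgebra R G} (hb : b ∈ bp_fix P)
    (ht : t ∈ bp_trLt (R := R) P) : t * b ∈ bp_trLt P := by
  unfold bp_trLt at ht ⊢
  induction ht using Submodule.span_induction with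
  | mem x hx =>
    obtain ⟨Q, hQP, a, ha, rfl⟩ := hx
    rw [← bp_tr_mul_right hQP.le hb]
    exact Submodule.subset_span ⟨Q, hQP, a * b, (bp_fix Q).mul_mem ha (bp_fix_mono hQP.le hb), rfl⟩
  | zero => rw [zero_mul]; exact Submodule.zero_mem _
  | add x y _ _ hx hy => rw [add_mul]; exact Submodule.add_mem _ hx hy
  | smul r x _ hx => rw [smul_mul_assoc]; exact Submodule.smul_mem _ r hx

end traces

variable {R : Type*} [CommRing R] [IsLocalRing R] {G : Type*} [Group G]

omit [IsLocalRing R] in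
/-- The index of a proper subgroup of a finite `p`-group is divisible by `p`. -/
theorem bp_dvd_relindex_of_lt [Finite G] (p : ℕ) [Fact p.Prime] {Q P : Subgroup G}
    (hP : IsPGroup p P) (hQP : Q < P) : p ∣ Q.relIndex P := by
  obtain ⟨n, hn⟩ := hP.index (Q.subgroupOf P)
  have hn0 : n ≠ 0 := by
    rintro rfl
    rw [pow_zero, Subgroup.index_eq_one, Subgroup.subgroupOf_eq_top] at hn
    exact (not_le_of_gt hQP) hn
  change p ∣ (Q.subgroupOf P).index
  rw [hn]
  exact dvd_pow_self p hn0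

section br

variable [Finite G] {p : ℕ} [Fact p.Prime]

/-- The Brauer map as a plain function on the `P`-fixed points. -/
noncomputable def bp_brOn (P : Subgroup G) (a : bp_fix (R := R) P) :
    MonoidAlgebra (IsLocalRing.ResidueField R) (Subgroup.centralizer (P : Set G)) :=
  bp_brFun P (a : MonoidAlgebra R G)

omit [Finite G] in
theorem bp_brOn_one (P : Subgroup G) : bp_brOn (R := R) P 1 = 1 := by
  unfold bp_brOn
  rw [OneMemClass.coe_one]
  exact bp_brFun_one P

omit [Finite G] in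
theorem bp_brOn_zero (P : Subgroup G) : bp_brOn (R := R) P 0 = 0 := by
  unfold bp_brOn
  rw [ZeroMemClass.coe_zero]
  exact bp_brFun_zero P

omit [Finite G] in
theorem bp_brOn_add (P : Subgroup G) (a b : bp_fix (R := R) P) :
    bp_brOn P (a + b) = bp_brOn P a + bp_brOn P b := by
  unfold bp_brOn
  rw [AddMemClass.coe_add]
  exact bp_brFun_add P _ _

theorem bp_brOn_mul (hpR : (p : R) ∈ IsLocalRing.maximalIdeal R) (P : Subgroup G) (hP : IsPGroup p P)
    (a b : bp_fix (R := R) P) :
    bp_brOn P (a * b) = bp_brOn P a * bp_brOn P b := by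
  unfold bp_brOn
  rw [MulMemClass.coe_mul]
  exact bp_brFun_mul p hpR P hP a b ((bp_mem_fix_iff P _).1 a.2) ((bp_mem_fix_iff P _).1 b.2)

/-- BRAUER MAP at a `p`-subgroup `P`: truncate to `C_G(P)`, reduce modulo `𝔪`.  A ring homomorphism on
the `P`-fixed points. -/
noncomputable def bp_br (hpR : (p : R) ∈ IsLocalRing.maximalIdeal R) (P : Subgroup G)
    (hP : IsPGroup p P) :
    bp_fix (R := R) P →+*
      MonoidAlgebra (IsLocalRing.ResidueField R) (Subgroup.centralizer (P : Set G)) where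
  toFun := bp_brOn P
  map_one' := bp_brOn_one P
  map_mul' := bp_brOn_mul hpR P hP
  map_zero' := bp_brOn_zero P
  map_add' := bp_brOn_add P

theorem bp_br_apply (hpR : (p : R) ∈ IsLocalRing.maximalIdeal R) (P : Subgroup G)
    (hP : IsPGroup p P) (a : bp_fix (R := R) P) :
    bp_br hpR P hP a = bp_brFun P (a : MonoidAlgebra R G) := rfl

theorem bp_br_coeff (hpR : (p : R) ∈ IsLocalRing.maximalIdeal R) (P : Subgroup G)
    (hP : IsPGroup p P) (a : bp_fix (R := R) P) (c : Subgroup.centralizer (P : Set G)) :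
    (bp_br hpR P hP a).coeff c = IsLocalRing.residue R ((a : MonoidAlgebra R G).coeff (c : G)) := by
  rw [bp_br_apply, bp_brFun_coeff]

theorem bp_br_smul (hpR : (p : R) ∈ IsLocalRing.maximalIdeal R) (P : Subgroup G)
    (hP : IsPGroup p P) (r : R) (a : bp_fix (R := R) P) :
    bp_br hpR P hP (r • a) = IsLocalRing.residue R r • bp_br hpR P hP a := by
  rw [bp_br_apply, bp_br_apply]
  exact bp_brFun_smul P r _

/-- The Brauer map kills the relative traces from proper subgroups. -/
theorem bp_brFun_tr_eq_zero (hpR : (p : R) ∈ IsLocalRing.maximalIdeal R) {Q P : Subgroup G}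
    (hP : IsPGroup p P) (hQP : Q < P) (a : MonoidAlgebra R G) :
    bp_brFun P (bp_tr Q P a) = 0 := by
  rw [bp_tr_apply]
  have hT := bp_transv_isLT (G := G) hQP.le
  have hcard : p ∣ (bp_transv Q P).card := by
    rw [hT.card_eq_relIndex]
    exact bp_dvd_relindex_of_lt p hP hQP
  exact bp_brFun_sum_conj_eq_zero (bp_transv Q P) p hpR P (fun t => t) (fun t ht => hT.mem t ht) hcard a

theorem bp_br_tr_eq_zero (hpR : (p : R) ∈ IsLocalRing.maximalIdeal R) {Q P : Subgroup G}
    (hP : IsPGroup p P) (hQP : Q < P) {a : MonoidAlgebra R G} (ha : a ∈ bp_fix Q) :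
    bp_br hpR P hP ⟨bp_tr Q P a, bp_tr_mem hQP.le ha⟩ = 0 := by
  rw [bp_br_apply]
  exact bp_brFun_tr_eq_zero hpR hP hQP a

/-- On elements supported on `C_G(P)` the Brauer map is the reduction of the coefficients. -/
theorem bp_br_of_centralizer (hpR : (p : R) ∈ IsLocalRing.maximalIdeal R) (P : Subgroup G)
    (hP : IsPGroup p P) (y : MonoidAlgebra R (Subgroup.centralizer (P : Set G))) :
    bp_br hpR P hP ⟨MonoidAlgebra.mapDomain (Subtype.val : Subgroup.centralizer (P : Set G) → G) y,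
        (bp_mem_fix_iff P _).2 (bp_coeffInv_mapDomain_val P y)⟩ =
      MonoidAlgebra.map (IsLocalRing.residue R : R →+ IsLocalRing.ResidueField R) y := by
  rw [bp_br_apply]
  exact bp_brFun_mapDomain_val P y

theorem bp_br_surjective (hpR : (p : R) ∈ IsLocalRing.maximalIdeal R) (P : Subgroup G)
    (hP : IsPGroup p P) : Function.Surjective (bp_br (R := R) hpR P hP) := by
  intro z
  obtain ⟨a, ha, haz⟩ := bp_brFun_surjective (R := R) P z
  exact ⟨⟨a, (bp_mem_fix_iff P a).2 ha⟩, haz⟩

/-- The Brauer map kills `bp_trLt P`. -/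
theorem bp_brFun_trLt (hpR : (p : R) ∈ IsLocalRing.maximalIdeal R) {P : Subgroup G}
    (hP : IsPGroup p P) {t : MonoidAlgebra R G} (ht : t ∈ bp_trLt (R := R) P) :
    bp_brFun P t = 0 := by
  unfold bp_trLt at ht
  induction ht using Submodule.span_induction with
  | mem x hx =>
    obtain ⟨Q, hQP, a, _, rfl⟩ := hx
    exact bp_brFun_tr_eq_zero hpR hP hQP a
  | zero => exact bp_brFun_zero P
  | add x y _ _ hx hy => rw [bp_brFun_add, hx, hy, add_zero]
  | smul r x _ hx => rw [bp_brFun_smul, hx, smul_zero]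

/-- KERNEL of the Brauer map: `Σ_{Q<P} Tr_Q^P((RG)^Q) + 𝔪 RG`. -/
theorem bp_br_ker (hpR : (p : R) ∈ IsLocalRing.maximalIdeal R) (P : Subgroup G)
    (hP : IsPGroup p P) (a : bp_fix (R := R) P) :
    bp_br hpR P hP a = 0 ↔
      (a : MonoidAlgebra R G) ∈
        bp_trLt P ⊔ IsLocalRing.maximalIdeal R • (⊤ : Submodule R (MonoidAlgebra R G)) :=
  bp_brFun_eq_zero_iff_mem P (bp_trLt P) (bp_orbSum_mem_trLt P)
    (fun _ ht => bp_brFun_trLt hpR hP ht) a a.2

/-- Finer form of the kernel: the `𝔪`-part can be taken supported on `C_G(P)` (hence in `(RG)^P`). -/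
theorem bp_br_ker_decomp (hpR : (p : R) ∈ IsLocalRing.maximalIdeal R) (P : Subgroup G)
    (hP : IsPGroup p P) (a : bp_fix (R := R) P) (h : bp_br hpR P hP a = 0) :
    ∃ t ∈ bp_trLt (R := R) P, ∃ y : MonoidAlgebra R (Subgroup.centralizer (P : Set G)),
      (∀ c, y.coeff c ∈ IsLocalRing.maximalIdeal R) ∧
      (a : MonoidAlgebra R G) =
        t + MonoidAlgebra.mapDomain (Subtype.val : Subgroup.centralizer (P : Set G) → G) y := by
  refine ⟨_, bp_sub_trunc_mem P (bp_trLt P) (bp_orbSum_mem_trLt P) a a.2,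
    bp_truncTo (Subgroup.centralizer (P : Set G)) (a : MonoidAlgebra R G), ?_, ?_⟩
  · intro c
    rw [bp_truncTo_coeff]
    exact (bp_brFun_eq_zero_iff P _).mp h c c.2
  · rw [sub_add_cancel]

omit [IsLocalRing R] [Finite G] in
/-- Truncation from a subgroup to a smaller subgroup. -/
noncomputable def bp_truncK {S : Type*} [Semiring S] {H K : Subgroup G} (h : H ≤ K)
    (a : MonoidAlgebra S K) : MonoidAlgebra S H :=
  MonoidAlgebra.ofCoeff
    (a.coeff.comapDomain (Subgroup.inclusion h) ((Subgroup.inclusion_injective h).injOn))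

omit [Finite G] in
@[simp] theorem bp_truncK_coeff {S : Type*} [Semiring S] {H K : Subgroup G} (h : H ≤ K)
    (a : MonoidAlgebra S K) (x : H) :
    (bp_truncK h a).coeff x = a.coeff (Subgroup.inclusion h x) := by
  simp [bp_truncK, Finsupp.comapDomain_apply]

/-- TRANSITIVITY: for `Q ≤ P` the Brauer map at `P` is the truncation to `C_G(P)` of the one at `Q`. -/
theorem bp_br_trans (hpR : (p : R) ∈ IsLocalRing.maximalIdeal R) {Q P : Subgroup G} (hQP : Q ≤ P)
    (hQ : IsPGroup p Q) (hP : IsPGroup p P) (a : bp_fix (R := R) P) :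
    bp_br hpR P hP a =
      bp_truncK (Subgroup.centralizer_le hQP) (bp_br hpR Q hQ ⟨a, bp_fix_mono hQP a.2⟩) := by
  ext c
  rw [bp_br_coeff, bp_truncK_coeff, bp_br_coeff]
  rfl

end br

section conjugation

omit [IsLocalRing R] in
theorem bp_conj_mem_centralizer_map (g : G) (P : Subgroup G) {c : G}
    (hc : c ∈ Subgroup.centralizer (P : Set G)) :
    g * c * g⁻¹ ∈ Subgroup.centralizer ((P.map (MulAut.conj g).toMonoidHom : Subgroup G) : Set G) := by
  rw [Subgroup.mem_centralizer_iff]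
  intro y hy
  rw [SetLike.mem_coe, bp_mem_map_conj] at hy
  have h1 := (Subgroup.mem_centralizer_iff.mp hc) _ hy
  -- h1 : g⁻¹ * y * g * c = c * (g⁻¹ * y * g)
  calc y * (g * c * g⁻¹) = g * (g⁻¹ * y * g * c) * g⁻¹ := by group
    _ = g * (c * (g⁻¹ * y * g)) * g⁻¹ := by rw [h1]
    _ = g * c * g⁻¹ * y := by group

omit [IsLocalRing R] in
theorem bp_conj_inv_mem_centralizer (g : G) (P : Subgroup G) {c : G}
    (hc : c ∈ Subgroup.centralizer ((P.map (MulAut.conj g).toMonoidHom : Subgroup G) : Set G)) :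
    g⁻¹ * c * g ∈ Subgroup.centralizer (P : Set G) := by
  rw [Subgroup.mem_centralizer_iff]
  intro y hy
  have hy' : g * y * g⁻¹ ∈ ((P.map (MulAut.conj g).toMonoidHom : Subgroup G) : Set G) := by
    rw [SetLike.mem_coe, bp_mem_map_conj]
    have : g⁻¹ * (g * y * g⁻¹) * g = y := by group
    rw [this]; exact hy
  have h1 := (Subgroup.mem_centralizer_iff.mp hc) _ hy'
  calc y * (g⁻¹ * c * g) = g⁻¹ * (g * y * g⁻¹ * c) * g := by group
    _ = g⁻¹ * (c * (g * y * g⁻¹)) * g := by rw [h1]
    _ = g⁻¹ * c * g * y := by group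

/-- Conjugation by `g` as an isomorphism `C_G(P) ≃* C_G(gPg⁻¹)`. -/
def bp_centConj (g : G) (P : Subgroup G) :
    Subgroup.centralizer (P : Set G) ≃*
      Subgroup.centralizer ((P.map (MulAut.conj g).toMonoidHom : Subgroup G) : Set G) where
  toFun c := ⟨g * (c : G) * g⁻¹, bp_conj_mem_centralizer_map g P c.2⟩
  invFun c := ⟨g⁻¹ * (c : G) * g, bp_conj_inv_mem_centralizer g P c.2⟩
  left_inv c := by
    apply Subtype.ext
    change g⁻¹ * (g * (c : G) * g⁻¹) * g = c
    group
  right_inv c := by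
    apply Subtype.ext
    change g * (g⁻¹ * (c : G) * g) * g⁻¹ = c
    group
  map_mul' c d := by
    apply Subtype.ext
    change g * ((c : G) * (d : G)) * g⁻¹ = g * (c : G) * g⁻¹ * (g * (d : G) * g⁻¹)
    group

omit [IsLocalRing R] in
@[simp] theorem bp_centConj_coe (g : G) (P : Subgroup G) (c : Subgroup.centralizer (P : Set G)) :
    ((bp_centConj g P c : _) : G) = g * (c : G) * g⁻¹ := rfl

omit [IsLocalRing R] in
@[simp] theorem bp_centConj_symm_coe (g : G) (P : Subgroup G)
    (c : Subgroup.centralizer ((P.map (MulAut.conj g).toMonoidHom : Subgroup G) : Set G)) :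
    (((bp_centConj g P).symm c : _) : G) = g⁻¹ * (c : G) * g := rfl

variable [Finite G] {p : ℕ} [Fact p.Prime]

/-- CONJUGATION: `br_{gPg⁻¹}(g a g⁻¹)` is the transport of `br_P(a)` under `c ↦ g c g⁻¹`. -/
theorem bp_br_conj (hpR : (p : R) ∈ IsLocalRing.maximalIdeal R) (P : Subgroup G)
    (hP : IsPGroup p P) (g : G) (a : bp_fix (R := R) P) :
    bp_br hpR (P.map (MulAut.conj g).toMonoidHom) (hP.map _)
        ⟨bp_conj g (a : MonoidAlgebra R G), bp_conj_mem_fix g a.2⟩ =
      MonoidAlgebra.domCongr (IsLocalRing.ResidueField R) (IsLocalRing.ResidueField R)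
        (bp_centConj g P) (bp_br hpR P hP a) := by
  ext c
  rw [bp_br_coeff, coeff_domCongr, bp_br_coeff, bp_conj_coeff]
  rfl

end conjugation

end Cfsg.Agent.BP
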