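import Mathlib
import Cfsg.Agent.BP.BlockBar
import Cfsg.Agent.BP.BrauerMap
import Cfsg.Agent.Helper6.StabilizerCoeff
import Cfsg.Agent.Helper6.PairConj
import Cfsg.Agent.Helper6.SubpairDown
import Cfsg.Agent.Helper6.BrauerMult
import Cfsg.Agent.Helper6.CentPairs
import Cfsg.Agent.Helper6.GroupAlgC

/-!
# BP / L7.B : the bridge between the Brauer map on `RG` and the Brauer pairs of the Prelude

`R = Rloc hM`, `k` its residue field.  For a subgroup `H` of `G` and a block `b` of `H`,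
`bp_subIdem hM H b ∈ RG` is the block idempotent of `b` read inside `RG` (coefficient function
`subgroupBlockCoeff H b`).  For a subgroup `Q` and a block `f` of `C_G(Q)`,
`bp_pairIdem hM Q f := bp_subIdem hM C_G(Q) f` is the element written `f̂` in the blueprint; its image
under the Brauer map at `Q` is `bp_blockBar hM f` (written `f̄`).

Main results:
* `bp_pairIdem_idem`, `bp_pairIdem_mul_of_ne`, `bp_sum_pairIdem`: the `f̂` are pairwise orthogonal
  idempotents with sum `1`;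
* `bp_pairIdem_mem_fix`: `f̂ ∈ bp_fix (Q ⊔ C)` for `C ≤ C_G(Q)`;
* `bp_conj_pairIdem`: `x f̂ x⁻¹ = (conjBlock Q x f)^`;
* `bp_conj_subIdem_eq_iff`: for `x` normalizing `H`, `x` fixes `b̂` iff `StabilizesBlock H b x`;
* `bp_brFun_pairIdem`: `br_Q(f̂) = f̄`;
* `bp_blockBar_mul_brFun_pairIdem`: for `Q ≤ P ≤ N_G(Q)` with `f` `P`-stable, and a block `g` of
  `C_G(P)`: `ḡ · br_P(f̂) ∈ {ḡ, 0}`;
* `bp_isNormalSubpair_of_br` (THE BRIDGE): `ḡ · br_P(f̂) = ḡ` implies `IsNormalSubpair p M Q f P g`;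
* `bp_br_of_isNormalSubpair`: the converse.
-/

set_option autoImplicit false
set_option linter.style.haveILetI false
set_option linter.unusedSectionVars false

namespace Cfsg.Agent.BP

open Cfsg.Agent.Helper6 Cfsg.Agent.Helper6.Cov

universe u

variable {G : Type u} [Group G] {M : Ideal Cfsg.AlgInt}

theorem bp_toRloc_zero (hM : M.IsMaximal) : bp_toRloc hM 0 = 0 := by
  apply Subtype.ext
  rw [bp_toRloc_coe hM (memLocalRing_zero hM)]
  rfl

theorem bp_toRloc_inj (hM : M.IsMaximal) {z w : ℂ} (hz : Cfsg.MemLocalRing M z)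
    (hw : Cfsg.MemLocalRing M w) (h : bp_toRloc hM z = bp_toRloc hM w) : z = w := by
  rw [← bp_toRloc_coe hM hz, ← bp_toRloc_coe hM hw, h]

/-- coefficients of the image in `RG` of an element of `RH` -/
theorem bp_coeff_mapDomain_subtype {S : Type*} [Semiring S] (H : Subgroup G)
    (y : MonoidAlgebra S H) (c : H) :
    (MonoidAlgebra.mapDomain (Subtype.val : H → G) y).coeff (c : G) = y.coeff c := by
  simp only [MonoidAlgebra.mapDomain, MonoidAlgebra.coeff_ofCoeff]
  exact Finsupp.mapDomain_apply Subtype.val_injective _ _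

theorem bp_coeff_mapDomain_subtype_not_mem {S : Type*} [Semiring S] (H : Subgroup G)
    (y : MonoidAlgebra S H) (g : G) (hg : g ∉ H) :
    (MonoidAlgebra.mapDomain (Subtype.val : H → G) y).coeff g = 0 := by
  simp only [MonoidAlgebra.mapDomain, MonoidAlgebra.coeff_ofCoeff]
  apply Finsupp.mapDomain_of_notMem_range
  rintro ⟨c, rfl⟩
  exact hg c.2

/-- the inclusion `RH → RG` as a ring homomorphism -/
noncomputable def bp_incl (S : Type*) [Semiring S] (H : Subgroup G) :
    MonoidAlgebra S H →+* MonoidAlgebra S G :=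
  MonoidAlgebra.mapDomainRingHom S H.subtype

theorem bp_incl_apply (S : Type*) [Semiring S] (H : Subgroup G) (y : MonoidAlgebra S H) :
    bp_incl S H y = MonoidAlgebra.mapDomain (Subtype.val : H → G) y := rfl

/-- the block idempotent of a block `b` of the subgroup `H`, read in `RG` -/
noncomputable def bp_subIdem [Finite G] (hM : M.IsMaximal) (H : Subgroup G)
    (b : Set (Cfsg.IrrCharacter H)) : MonoidAlgebra (Rloc hM) G :=
  bp_incl (Rloc hM) H (bp_blockLift hM b)

theorem bp_subIdem_coeff [Finite G] (hM : M.IsMaximal) (H : Subgroup G)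
    (b : Set (Cfsg.IrrCharacter H)) (g : G) :
    (bp_subIdem hM H b).coeff g = bp_toRloc hM (Cfsg.subgroupBlockCoeff H b g) := by
  unfold bp_subIdem
  rw [bp_incl_apply]
  by_cases hg : g ∈ H
  · rw [subgroupBlockCoeff_of_mem H b g hg]
    have := bp_coeff_mapDomain_subtype H (bp_blockLift hM b) ⟨g, hg⟩
    rw [this]
    unfold bp_blockLift
    rw [bp_ofFun_coeff]
  · rw [subgroupBlockCoeff_of_not_mem H b g hg, bp_coeff_mapDomain_subtype_not_mem H _ g hg,
      bp_toRloc_zero]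

theorem bp_subIdem_idem [Finite G] (hM : M.IsMaximal) (H : Subgroup G)
    (b : Set (Cfsg.IrrCharacter H)) (hb : Cfsg.IsPBlock M b) :
    IsIdempotentElem (bp_subIdem hM H b) :=
  (bp_blockLift_idem hM b hb).map (bp_incl (Rloc hM) H)

theorem bp_subIdem_mul_of_ne [Finite G] (hM : M.IsMaximal) (H : Subgroup G)
    (b b' : Set (Cfsg.IrrCharacter H)) (hb : Cfsg.IsPBlock M b) (hb' : Cfsg.IsPBlock M b')
    (hne : b ≠ b') : bp_subIdem hM H b * bp_subIdem hM H b' = 0 := by
  unfold bp_subIdem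
  rw [← map_mul, bp_blockLift_mul_of_ne hM b b' hb hb' hne, map_zero]

/-- the sum of the block idempotents of `H` is the identity of `RG` -/
theorem bp_sum_subIdem [Finite G] (hM : M.IsMaximal) (H : Subgroup G) :
    ∑ᶠ b ∈ {b : Set (Cfsg.IrrCharacter H) | Cfsg.IsPBlock M b}, bp_subIdem hM H b = 1 := by
  haveI : Finite (Cfsg.IrrCharacter H) := irr_finite
  have hfin : Set.Finite {b : Set (Cfsg.IrrCharacter H) | Cfsg.IsPBlock M b} := Set.toFinite _
  have h1 := bp_sum_blockLift (H := H) hM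
  rw [finsum_mem_eq_finite_toFinset_sum _ hfin] at h1 ⊢
  have h2 := congrArg (bp_incl (Rloc hM) H) h1
  rw [map_one, map_sum] at h2
  exact h2

/-- `b̂` commutes with everything supported on `H` -/
theorem bp_subIdem_commute_incl [Finite G] (hM : M.IsMaximal) (H : Subgroup G)
    (b : Set (Cfsg.IrrCharacter H)) (hb : Cfsg.IsPBlock M b) (y : MonoidAlgebra (Rloc hM) H) :
    Commute (bp_subIdem hM H b) (bp_incl (Rloc hM) H y) :=
  (bp_blockLift_commute hM b hb y).map (bp_incl (Rloc hM) H)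

/-- conjugation of `b̂`, coefficientwise criterion -/
theorem bp_conj_subIdem_eq_of_conjInv [Finite G] (hM : M.IsMaximal) (H : Subgroup G)
    (b : Set (Cfsg.IrrCharacter H)) (S : Subgroup G)
    (hS : ConjInv S (Cfsg.subgroupBlockCoeff H b)) : bp_subIdem hM H b ∈ bp_fix S := by
  rw [bp_mem_fix_iff]
  intro h hh g
  rw [bp_subIdem_coeff, bp_subIdem_coeff, hS g h hh]

theorem bp_subIdem_mem_fix_self [Finite G] (hM : M.IsMaximal) (H : Subgroup G)
    (b : Set (Cfsg.IrrCharacter H)) : bp_subIdem hM H b ∈ bp_fix H :=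
  bp_conj_subIdem_eq_of_conjInv hM H b H (conjInv_subgroupBlockCoeff_self H b)

theorem bp_subIdem_mem_fix_of_stabilizes [Finite G] (hM : M.IsMaximal) (H : Subgroup G)
    (b : Set (Cfsg.IrrCharacter H)) (S : Subgroup G)
    (hst : ∀ x ∈ S, Cfsg.StabilizesBlock H b x) : bp_subIdem hM H b ∈ bp_fix S :=
  bp_conj_subIdem_eq_of_conjInv hM H b S (conjInv_subgroupBlockCoeff_of_stabilizes H S b hst)

/-- an element normalizing `H` fixes `b̂` iff it stabilizes the block `b` -/
theorem bp_conj_subIdem_eq_iff [Finite G] (hM : M.IsMaximal) (H : Subgroup G)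
    (b : Set (Cfsg.IrrCharacter H)) (hb : Cfsg.IsPBlock M b) (x : G)
    (hx : x ∈ Subgroup.normalizer (H : Set G)) :
    bp_conj x (bp_subIdem hM H b) = bp_subIdem hM H b ↔ Cfsg.StabilizesBlock H b x := by
  rw [stabilizesBlock_iff_subgroupBlockCoeff H x hx b]
  constructor
  · intro h g
    have h1 := congrArg (fun a => a.coeff g) h
    simp only [bp_conj_coeff, bp_subIdem_coeff] at h1
    exact bp_toRloc_inj hM (memLocalRing_subgroupBlockCoeff hM H b hb _)
      (memLocalRing_subgroupBlockCoeff hM H b hb _) h1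
  · intro h
    apply cov_ext
    intro g
    rw [bp_conj_coeff, bp_subIdem_coeff, bp_subIdem_coeff, h g]

/-! ### the idempotent `f̂` of a Brauer pair `(Q, f)` -/

/-- `f̂`: the block idempotent of the block `f` of `C_G(Q)`, read in `RG` -/
noncomputable def bp_pairIdem [Finite G] (hM : M.IsMaximal) (Q : Subgroup G)
    (f : Set (Cfsg.IrrCharacter (Subgroup.centralizer (Q : Set G)))) : MonoidAlgebra (Rloc hM) G :=
  bp_subIdem hM (Subgroup.centralizer (Q : Set G)) f

theorem bp_pairIdem_coeff [Finite G] (hM : M.IsMaximal) (Q : Subgroup G)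
    (f : Set (Cfsg.IrrCharacter (Subgroup.centralizer (Q : Set G)))) (g : G) :
    (bp_pairIdem hM Q f).coeff g =
      bp_toRloc hM (Cfsg.subgroupBlockCoeff (Subgroup.centralizer (Q : Set G)) f g) :=
  bp_subIdem_coeff hM _ f g

theorem bp_pairIdem_idem [Finite G] (hM : M.IsMaximal) (Q : Subgroup G)
    (f : Set (Cfsg.IrrCharacter (Subgroup.centralizer (Q : Set G)))) (hf : Cfsg.IsPBlock M f) :
    IsIdempotentElem (bp_pairIdem hM Q f) :=
  bp_subIdem_idem hM _ f hf

theorem bp_pairIdem_mul_of_ne [Finite G] (hM : M.IsMaximal) (Q : Subgroup G)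
    (f f' : Set (Cfsg.IrrCharacter (Subgroup.centralizer (Q : Set G)))) (hf : Cfsg.IsPBlock M f)
    (hf' : Cfsg.IsPBlock M f') (hne : f ≠ f') : bp_pairIdem hM Q f * bp_pairIdem hM Q f' = 0 :=
  bp_subIdem_mul_of_ne hM _ f f' hf hf' hne

theorem bp_sum_pairIdem [Finite G] (hM : M.IsMaximal) (Q : Subgroup G) :
    ∑ᶠ f ∈ {f : Set (Cfsg.IrrCharacter (Subgroup.centralizer (Q : Set G))) | Cfsg.IsPBlock M f},
      bp_pairIdem hM Q f = 1 :=
  bp_sum_subIdem hM _

/-- `f̂` is fixed by `Q ⊔ C` for every `C ≤ C_G(Q)` -/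
theorem bp_pairIdem_mem_fix [Finite G] (hM : M.IsMaximal) (Q : Subgroup G)
    (f : Set (Cfsg.IrrCharacter (Subgroup.centralizer (Q : Set G)))) (C : Subgroup G)
    (hC : C ≤ Subgroup.centralizer (Q : Set G)) : bp_pairIdem hM Q f ∈ bp_fix (Q ⊔ C) := by
  apply bp_subIdem_mem_fix_of_stabilizes
  intro x hx
  exact stabilizesBlock_of_mem_sup Q f x (sup_le_sup_left hC Q hx)

theorem bp_pairIdem_mem_fix_of_stabilizes [Finite G] (hM : M.IsMaximal) (Q : Subgroup G)
    (f : Set (Cfsg.IrrCharacter (Subgroup.centralizer (Q : Set G)))) (S : Subgroup G)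
    (hst : ∀ x ∈ S, Cfsg.StabilizesBlock (Subgroup.centralizer (Q : Set G)) f x) :
    bp_pairIdem hM Q f ∈ bp_fix S :=
  bp_subIdem_mem_fix_of_stabilizes hM _ f S hst

/-- an element normalizing `Q` fixes `f̂` iff it stabilizes `f` -/
theorem bp_conj_pairIdem_eq_iff [Finite G] (hM : M.IsMaximal) (Q : Subgroup G)
    (f : Set (Cfsg.IrrCharacter (Subgroup.centralizer (Q : Set G)))) (hf : Cfsg.IsPBlock M f) (x : G)
    (hx : x ∈ Subgroup.normalizer (Q : Set G)) :
    bp_conj x (bp_pairIdem hM Q f) = bp_pairIdem hM Q f ↔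
      Cfsg.StabilizesBlock (Subgroup.centralizer (Q : Set G)) f x :=
  bp_conj_subIdem_eq_iff hM _ f hf x (normalizer_le_normalizer_centralizer Q hx)

/-- conjugation: `x f̂ x⁻¹ = (conjBlock Q x f)^` -/
theorem bp_conj_pairIdem [Finite G] (hM : M.IsMaximal) (Q : Subgroup G)
    (f : Set (Cfsg.IrrCharacter (Subgroup.centralizer (Q : Set G)))) (x : G) :
    bp_conj x (bp_pairIdem hM Q f) =
      bp_pairIdem hM (Q.map (MulAut.conj x).toMonoidHom) (Cfsg.conjBlock Q x f) := by
  apply cov_ext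
  intro g
  rw [bp_conj_coeff, bp_pairIdem_coeff, bp_pairIdem_coeff, subgroupBlockCoeff_conjBlock]

/-- the truncation of `f̂` to `C_G(P)`, as an element of `R C_G(P)` -/
noncomputable def bp_pairTrunc [Finite G] (hM : M.IsMaximal) (Q : Subgroup G)
    (f : Set (Cfsg.IrrCharacter (Subgroup.centralizer (Q : Set G)))) (P : Subgroup G) :
    MonoidAlgebra (Rloc hM) (Subgroup.centralizer (P : Set G)) :=
  bp_ofFun hM (fun c => Cfsg.subgroupBlockCoeff (Subgroup.centralizer (Q : Set G)) f (c : G))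

theorem bp_brFun_pairIdem_eq_rd [Finite G] (hM : M.IsMaximal) (Q : Subgroup G)
    (f : Set (Cfsg.IrrCharacter (Subgroup.centralizer (Q : Set G)))) (P : Subgroup G) :
    bp_brFun P (bp_pairIdem hM Q f) = bp_rd hM _ (bp_pairTrunc hM Q f P) := by
  apply cov_ext
  intro c
  rw [bp_brFun_coeff, bp_rd_coeff, bp_pairIdem_coeff]
  unfold bp_pairTrunc
  rw [bp_ofFun_coeff]

/-- `br_Q(f̂) = f̄` -/
theorem bp_brFun_pairIdem [Finite G] (hM : M.IsMaximal) (Q : Subgroup G)
    (f : Set (Cfsg.IrrCharacter (Subgroup.centralizer (Q : Set G)))) :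
    bp_brFun Q (bp_pairIdem hM Q f) = bp_blockBar hM f := by
  apply cov_ext
  intro c
  rw [bp_brFun_coeff, bp_blockBar_coeff, bp_pairIdem_coeff, subgroupBlockCoeff_of_mem _ f (c : G) c.2]

/-- the coefficient function of the truncation of `f̂` to `C_G(P)`, `Q ≤ P`, is a class function -/
theorem bp_pairTrunc_classFunction [Finite G] (Q : Subgroup G)
    (f : Set (Cfsg.IrrCharacter (Subgroup.centralizer (Q : Set G)))) (P : Subgroup G) (hQP : Q ≤ P) :
    Cfsg.IsClassFunction (Subgroup.centralizer (P : Set G))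
      (fun c => Cfsg.subgroupBlockCoeff (Subgroup.centralizer (Q : Set G)) f (c : G)) := by
  intro k c
  exact conjInv_subgroupBlockCoeff_self (Subgroup.centralizer (Q : Set G)) f (k : G) (c : G)
    (Subgroup.centralizer_le hQP c.2)

/-- an element of `RH` whose coefficient function is a class function with local values is central -/
theorem bp_ofFun_commute {H : Type u} [Group H] [Finite H] (hM : M.IsMaximal) (d : H → ℂ)
    (hd : Cfsg.IsClassFunction H d) (hdloc : ∀ h, Cfsg.MemLocalRing M (d h))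
    (x : MonoidAlgebra (Rloc hM) H) : Commute (bp_ofFun hM d) x := by
  haveI := Fintype.ofFinite H
  apply gaEmb_injective hM
  rw [map_mul, map_mul, bp_gaEmb_ofFun hM d hdloc]
  exact gaOfFun_commute hd _

/-- `br_P(f̂)` is central in `k C_G(P)` when `Q ≤ P` -/
theorem bp_brFun_pairIdem_commute [Finite G] (hM : M.IsMaximal) (Q : Subgroup G)
    (f : Set (Cfsg.IrrCharacter (Subgroup.centralizer (Q : Set G)))) (hf : Cfsg.IsPBlock M f)
    (P : Subgroup G) (hQP : Q ≤ P)
    (y : MonoidAlgebra (IsLocalRing.ResidueField (Rloc hM)) (Subgroup.centralizer (P : Set G))) :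
    Commute (bp_brFun P (bp_pairIdem hM Q f)) y := by
  rw [bp_brFun_pairIdem_eq_rd]
  obtain ⟨x, rfl⟩ := bp_rd_surjective hM y
  unfold bp_pairTrunc
  exact (bp_ofFun_commute hM _ (bp_pairTrunc_classFunction Q f P hQP)
    (fun c => memLocalRing_subgroupBlockCoeff hM _ f hf _) x).map (bp_rd hM _)

section withp

variable {p : ℕ}

/-- `br_P(f̂)` is an idempotent when `P` is a `p`-group fixing `f̂` -/
theorem bp_brFun_pairIdem_idem [Finite G] (hM : Cfsg.IsPModular p M) (Q : Subgroup G)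
    (f : Set (Cfsg.IrrCharacter (Subgroup.centralizer (Q : Set G)))) (hf : Cfsg.IsPBlock M f)
    (P : Subgroup G) (hP : IsPGroup p P) (hfix : bp_pairIdem hM.2.1 Q f ∈ bp_fix P) :
    IsIdempotentElem (bp_brFun P (bp_pairIdem hM.2.1 Q f)) := by
  haveI : Fact p.Prime := ⟨hM.1⟩
  have hinv := (bp_mem_fix_iff P _).1 hfix
  unfold IsIdempotentElem
  rw [← bp_brFun_mul p (bp_Rloc_prime_mem hM) P hP _ _ hinv hinv, (bp_pairIdem_idem hM.2.1 Q f hf).eq]

/-- `ḡ · br_P(f̂) ∈ {ḡ, 0}` -/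
theorem bp_blockBar_mul_brFun_pairIdem [Finite G] (hM : Cfsg.IsPModular p M) (Q P : Subgroup G)
    (f : Set (Cfsg.IrrCharacter (Subgroup.centralizer (Q : Set G))))
    (g : Set (Cfsg.IrrCharacter (Subgroup.centralizer (P : Set G))))
    (hf : Cfsg.IsPBlock M f) (hg : Cfsg.IsPBlock M g) (hP : IsPGroup p P) (hQP : Q ≤ P)
    (hfix : bp_pairIdem hM.2.1 Q f ∈ bp_fix P) :
    bp_blockBar hM.2.1 g * bp_brFun P (bp_pairIdem hM.2.1 Q f) = bp_blockBar hM.2.1 g ∨
      bp_blockBar hM.2.1 g * bp_brFun P (bp_pairIdem hM.2.1 Q f) = 0 := by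
  have he := bp_brFun_pairIdem_idem hM Q f hf P hP hfix
  have hec := bp_brFun_pairIdem_commute hM.2.1 Q f hf P hQP
  have hgi := bp_blockBar_idem hM.2.1 g hg
  have hgc := bp_blockBar_commute hM.2.1 g hg
  set e := bp_brFun P (bp_pairIdem hM.2.1 Q f) with hedef
  set gb := bp_blockBar hM.2.1 g with hgdef
  have hz : IsIdempotentElem (gb * e) := hgi.mul_of_commute (hgc e) he
  have hzc : ∀ y, Commute (gb * e) y := fun y => (hgc y).mul_left (hec y)
  have hzb : gb * e * gb = gb * e := by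
    rw [mul_assoc, (hec gb).eq, ← mul_assoc, hgi.eq]
  rcases bp_blockBar_primitive hM.2.1 g hg (gb * e) hz hzc hzb with h | h
  · exact Or.inr h
  · exact Or.inl h

end withp

/-! ### central characters of elements with zero reduction -/

section omega

variable {H : Type u} [Group H]

/-- if `ḡ · z̄ = ḡ` for a central `z ∈ RH` with coefficient function `d`, then `ω_ξ(z) ≡ 1` for all
`ξ ∈ g` -/
theorem bp_classVec_sub_one_mem [Fintype H] (hM : M.IsMaximal) (g : Set (Cfsg.IrrCharacter H))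
    (d : H → ℂ) (hd : Cfsg.IsClassFunction H d) (hdloc : ∀ h, Cfsg.MemLocalRing M (d h))
    (hg : Cfsg.IsPBlock M g)
    (h : bp_blockBar hM g * bp_rd hM H (bp_ofFun hM d) = bp_blockBar hM g)
    (ξ : Cfsg.IrrCharacter H) (hξ : ξ ∈ g) : Cfsg.MemLocalIdeal M (classVec d ξ - 1) := by
  classical
  set Eg : MonoidAlgebra ℂ H := gaOfFun (Cfsg.blockCoeff g) with hEg
  set Zc : MonoidAlgebra ℂ H := gaOfFun d with hZc
  have h1 : bp_rd hM H (bp_blockLift hM g * bp_ofFun hM d - bp_blockLift hM g) = 0 := by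
    rw [map_sub, map_mul]
    exact sub_eq_zero.mpr h
  have h2 := (gaRed_eq_zero_iff hM _).mp ((bp_rd_eq_zero_iff hM _).mp h1)
  rw [map_sub, map_mul, bp_gaEmb_blockLift hM g hg, bp_gaEmb_ofFun hM d hdloc] at h2
  have hEgc : ∀ x : H, Commute Eg (MonoidAlgebra.single x 1) :=
    fun x => gaOfFun_commute_single (blockCoeff_isClassFunction g) x
  have hc : ∀ x : H, Commute (Eg * Zc - Eg) (MonoidAlgebra.single x 1) := by
    intro x
    exact ((hEgc x).mul_left (gaOfFun_commute_single hd x)).sub_left (hEgc x)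
  have hcf := isClassFunction_coeff_of_commute _ hc
  have h4 := classVec_memLocalIdeal hM (fun x => (Eg * Zc - Eg).coeff x) hcf h2 ξ
  rw [← gaPair_div_eq_classVec ξ (Eg * Zc - Eg), gaPair_sub, gaPair_mul_of_central ξ Eg Zc hEgc,
    hEg, gaPair_blockIdem g ξ, if_pos hξ] at h4
  have hne : (ξ : H → ℂ) 1 ≠ 0 := IsIrrCharacter.apply_one_ne_zero ξ.2
  have h5 : classVec d ξ = gaPair (ξ : H → ℂ) Zc / (ξ : H → ℂ) 1 := by
    rw [gaPair_div_eq_classVec ξ Zc]
    congr 1
  rw [h5]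
  have e : ((ξ : H → ℂ) 1 / (ξ : H → ℂ) 1 * gaPair (ξ : H → ℂ) Zc - (ξ : H → ℂ) 1) / (ξ : H → ℂ) 1 =
      gaPair (ξ : H → ℂ) Zc / (ξ : H → ℂ) 1 - 1 := by
    field_simp
  rw [e] at h4
  exact h4

/-- if `ḡ · z̄ = 0` for a central `z ∈ RH` with coefficient function `d`, then `ω_ξ(z) ≡ 0` for all
`ξ ∈ g` -/
theorem bp_classVec_mem_of_mul_eq_zero [Fintype H] (hM : M.IsMaximal)
    (g : Set (Cfsg.IrrCharacter H))
    (d : H → ℂ) (hd : Cfsg.IsClassFunction H d) (hdloc : ∀ h, Cfsg.MemLocalRing M (d h))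
    (hg : Cfsg.IsPBlock M g)
    (h : bp_blockBar hM g * bp_rd hM H (bp_ofFun hM d) = 0)
    (ξ : Cfsg.IrrCharacter H) (hξ : ξ ∈ g) : Cfsg.MemLocalIdeal M (classVec d ξ) := by
  classical
  set Eg : MonoidAlgebra ℂ H := gaOfFun (Cfsg.blockCoeff g) with hEg
  set Zc : MonoidAlgebra ℂ H := gaOfFun d with hZc
  have h1 : bp_rd hM H (bp_blockLift hM g * bp_ofFun hM d) = 0 := by
    rw [map_mul]
    exact h
  have h2 := (gaRed_eq_zero_iff hM _).mp ((bp_rd_eq_zero_iff hM _).mp h1)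
  rw [map_mul, bp_gaEmb_blockLift hM g hg, bp_gaEmb_ofFun hM d hdloc] at h2
  have hEgc : ∀ x : H, Commute Eg (MonoidAlgebra.single x 1) :=
    fun x => gaOfFun_commute_single (blockCoeff_isClassFunction g) x
  have hc : ∀ x : H, Commute (Eg * Zc) (MonoidAlgebra.single x 1) := by
    intro x
    exact (hEgc x).mul_left (gaOfFun_commute_single hd x)
  have hcf := isClassFunction_coeff_of_commute _ hc
  have h4 := classVec_memLocalIdeal hM (fun x => (Eg * Zc).coeff x) hcf h2 ξ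
  rw [← gaPair_div_eq_classVec ξ (Eg * Zc), gaPair_mul_of_central ξ Eg Zc hEgc,
    hEg, gaPair_blockIdem g ξ, if_pos hξ] at h4
  have hne : (ξ : H → ℂ) 1 ≠ 0 := IsIrrCharacter.apply_one_ne_zero ξ.2
  have h5 : classVec d ξ = gaPair (ξ : H → ℂ) Zc / (ξ : H → ℂ) 1 := by
    rw [gaPair_div_eq_classVec ξ Zc]
    congr 1
  rw [h5]
  have e : ((ξ : H → ℂ) 1 / (ξ : H → ℂ) 1 * gaPair (ξ : H → ℂ) Zc) / (ξ : H → ℂ) 1 =
      gaPair (ξ : H → ℂ) Zc / (ξ : H → ℂ) 1 := by
    field_simp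
  rw [e] at h4
  exact h4

end omega

/-! ### the bridge -/

section bridge

variable {p : ℕ}

/-- **THE BRIDGE** (L7.B): `ḡ · br_P(f̂) = ḡ` implies that `(Q, f)` is normally below `(P, g)` -/
theorem bp_isNormalSubpair_of_br [Finite G] (hM : Cfsg.IsPModular p M) (Q P : Subgroup G)
    (f : Set (Cfsg.IrrCharacter (Subgroup.centralizer (Q : Set G))))
    (g : Set (Cfsg.IrrCharacter (Subgroup.centralizer (P : Set G))))
    (hQ : IsPGroup p Q) (hP : IsPGroup p P) (hf : Cfsg.IsPBlock M f) (hg : Cfsg.IsPBlock M g)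
    (hQP : Q ≤ P) (hPN : P ≤ Subgroup.normalizer (Q : Set G))
    (hst : ∀ x ∈ P, Cfsg.StabilizesBlock (Subgroup.centralizer (Q : Set G)) f x)
    (h : bp_blockBar hM.2.1 g * bp_brFun P (bp_pairIdem hM.2.1 Q f) = bp_blockBar hM.2.1 g) :
    Cfsg.IsNormalSubpair p M Q f P g := by
  classical
  haveI : Fintype (Subgroup.centralizer (P : Set G)) := Fintype.ofFinite _
  refine ⟨⟨hQ, hf⟩, ⟨hP, hg⟩, hQP, hPN, hst, ?_⟩
  intro ξ hξ
  rw [brauerOmega_eq_classVec]
  rw [bp_brFun_pairIdem_eq_rd] at h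
  exact bp_classVec_sub_one_mem hM.2.1 g _ (bp_pairTrunc_classFunction Q f P hQP)
    (fun c => memLocalRing_subgroupBlockCoeff hM.2.1 _ f hf _) hg h ξ hξ

/-- the converse of the bridge -/
theorem bp_br_of_isNormalSubpair [Finite G] (hM : Cfsg.IsPModular p M) (Q P : Subgroup G)
    (f : Set (Cfsg.IrrCharacter (Subgroup.centralizer (Q : Set G))))
    (g : Set (Cfsg.IrrCharacter (Subgroup.centralizer (P : Set G))))
    (hn : Cfsg.IsNormalSubpair p M Q f P g) :
    bp_blockBar hM.2.1 g * bp_brFun P (bp_pairIdem hM.2.1 Q f) = bp_blockBar hM.2.1 g := by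
  classical
  haveI : Fintype (Subgroup.centralizer (P : Set G)) := Fintype.ofFinite _
  obtain ⟨⟨hQ, hf⟩, ⟨hP, hg⟩, hQP, hPN, hst, hω⟩ := hn
  have hfix := bp_pairIdem_mem_fix_of_stabilizes hM.2.1 Q f P hst
  rcases bp_blockBar_mul_brFun_pairIdem hM Q P f g hf hg hP hQP hfix with h | h
  · exact h
  · exfalso
    obtain ⟨ζ, rfl⟩ := hg
    have hζ := mem_blockOf_self hM.2.1 ζ
    have h1 := hω ζ hζ
    rw [brauerOmega_eq_classVec] at h1
    rw [bp_brFun_pairIdem_eq_rd] at h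
    have h2 := bp_classVec_mem_of_mul_eq_zero hM.2.1 _ _ (bp_pairTrunc_classFunction Q f P hQP)
      (fun c => memLocalRing_subgroupBlockCoeff hM.2.1 _ f hf _) ⟨ζ, rfl⟩ h ζ hζ
    apply not_memLocalIdeal_one_sub hM.2.1 h2
    have := MemLocalIdeal.neg h1
    rwa [neg_sub] at this

end bridge

end Cfsg.Agent.BP
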