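import Cfsg.Agent.BP.BrKerC

/-!
# BP / DefectB: blueprint L4.2–L4.4 in the `Γ_Q = (RG)^{Q ⊔ C}` form

* `bp_rosenberg_iSup`, `bp_rosenberg_iSup_submodule` : Rosenberg for arbitrary families
* `bp_InTrC C Q P x` : `x ∈ T(Q,P) = Tr_Q^P(Γ_Q)`
* L4.2 `bp_higman`, L4.3 `bp_defect_contains`, L4.4 `bp_defect_local`
-/

namespace Cfsg.Agent.BP

section ros

variable (R : Type*) {Γ : Type*} [CommRing R] [IsLocalRing R] [SplitMonic R] [Ring Γ] [Algebra R Γ]
  [Module.Finite R Γ]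
include R

/-- ROSENBERG for an arbitrary family of additive subgroups absorbing two-sided multiplication. -/
theorem bp_rosenberg_iSup {ι : Type*} (e : Γ) (he : bp_IsPrim e) (I : ι → AddSubgroup Γ)
    (hI : ∀ i, ∀ a x b : Γ, x ∈ I i → a * x * b ∈ I i) (h : e ∈ ⨆ i, I i) : ∃ i, e ∈ I i := by
  classical
  have key : ∀ z ∈ ⨆ i, I i, ∃ (s : Finset ι) (x : ι → Γ),
      (∀ i ∈ s, x i ∈ I i) ∧ z = ∑ i ∈ s, x i := by
    intro z hz
    refine AddSubgroup.iSup_induction I (C := fun z => ∃ (s : Finset ι) (x : ι → Γ),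
      (∀ i ∈ s, x i ∈ I i) ∧ z = ∑ i ∈ s, x i) hz ?_ ?_ ?_
    · intro i x hx
      exact ⟨{i}, fun _ => x, by simpa using hx, by simp⟩
    · exact ⟨∅, fun _ => 0, by simp, by simp⟩
    · rintro x y ⟨s, f, hf, rfl⟩ ⟨t, g, hg, rfl⟩
      refine ⟨s ∪ t, fun i => (if i ∈ s then f i else 0) + (if i ∈ t then g i else 0), ?_, ?_⟩
      · intro i _
        refine (I i).add_mem ?_ ?_
        · split_ifs with h
          · exact hf i h
          · exact (I i).zero_mem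
        · split_ifs with h
          · exact hg i h
          · exact (I i).zero_mem
      · rw [Finset.sum_add_distrib, Finset.sum_ite_mem, Finset.sum_ite_mem,
          Finset.union_inter_cancel_left, Finset.union_inter_cancel_right]
  obtain ⟨s, x, hx, hsum⟩ := key e h
  obtain ⟨i, -, hi⟩ := bp_rosenberg_sum R s e he (fun i => (I i : Set Γ))
    (fun i _ => hI i) x hx hsum
  exact ⟨i, hi⟩

/-- ROSENBERG for an arbitrary family of `R`-submodules absorbing two-sided multiplication. -/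
theorem bp_rosenberg_iSup_submodule {ι : Type*} (e : Γ) (he : bp_IsPrim e) (I : ι → Submodule R Γ)
    (hI : ∀ i, ∀ a x b : Γ, x ∈ I i → a * x * b ∈ I i) (h : e ∈ ⨆ i, I i) : ∃ i, e ∈ I i := by
  classical
  have key : ∀ z ∈ ⨆ i, I i, ∃ (s : Finset ι) (x : ι → Γ),
      (∀ i ∈ s, x i ∈ I i) ∧ z = ∑ i ∈ s, x i := by
    intro z hz
    refine Submodule.iSup_induction I (motive := fun z => ∃ (s : Finset ι) (x : ι → Γ),
      (∀ i ∈ s, x i ∈ I i) ∧ z = ∑ i ∈ s, x i) hz ?_ ?_ ?_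
    · intro i x hx
      exact ⟨{i}, fun _ => x, by simpa using hx, by simp⟩
    · exact ⟨∅, fun _ => 0, by simp, by simp⟩
    · rintro x y ⟨s, f, hf, rfl⟩ ⟨t, g, hg, rfl⟩
      refine ⟨s ∪ t, fun i => (if i ∈ s then f i else 0) + (if i ∈ t then g i else 0), ?_, ?_⟩
      · intro i _
        refine (I i).add_mem ?_ ?_
        · split_ifs with h
          · exact hf i h
          · exact (I i).zero_mem
        · split_ifs with h
          · exact hg i h
          · exact (I i).zero_mem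
      · rw [Finset.sum_add_distrib, Finset.sum_ite_mem, Finset.sum_ite_mem,
          Finset.union_inter_cancel_left, Finset.union_inter_cancel_right]
  obtain ⟨s, x, hx, hsum⟩ := key e h
  obtain ⟨i, -, hi⟩ := bp_rosenberg_sum R s e he (fun i => (I i : Set Γ))
    (fun i _ => hI i) x hx hsum
  exact ⟨i, hi⟩

end ros

variable {R : Type*} [CommRing R] {G : Type*} [Group G] [Finite G]

/-- `x ∈ T(Q,P) = Tr_Q^P((RG)^{Q ⊔ C})`. -/
def bp_InTrC (C Q P : Subgroup G) (x : MonoidAlgebra R G) : Prop :=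
  ∃ a ∈ bp_fix (R := R) (Q ⊔ C), bp_tr Q P a = x

/-- L4.2 HIGMAN. -/
theorem bp_higman {Q P : Subgroup G} (hQP : Q ≤ P) {j a : MonoidAlgebra R G}
    (hjP : j ∈ bp_fix (R := R) P) (hj : IsIdempotentElem j) (h : bp_tr Q P a = j) :
    bp_tr Q P (j * a * j) = j := by
  rw [bp_tr_mul_right hQP hjP, bp_tr_mul_left hQP hjP, h, hj.eq, hj.eq]

variable [IsLocalRing R] {p : ℕ} [Fact p.Prime]

/-- L4.3: if `br_S` does not kill `Tr_Q^P(a)` (`S ≤ P` a `p`-group) then `S` is contained in a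
`P`-conjugate of `Q`. -/
theorem bp_defect_contains (hpR : (p : R) ∈ IsLocalRing.maximalIdeal R) {Q P S : Subgroup G}
    (hQP : Q ≤ P) (hSP : S ≤ P) (hS : IsPGroup p S) {a : MonoidAlgebra R G}
    (ha : a ∈ bp_fix (R := R) Q) (hbr : bp_brFun S (bp_tr Q P a) ≠ 0) :
    ∃ x ∈ P, S ≤ Q.map (MulAut.conj x).toMonoidHom := by
  classical
  have hX := bp_dcReps_isDC (L := S) (K := Q) (H := P) hSP hQP
  by_contra hcon
  apply hbr
  rw [bp_mackey hQP hSP hX ha]
  have hadd : ∀ (s : Finset G) (f : G → MonoidAlgebra R G),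
      bp_brFun S (∑ x ∈ s, f x) = ∑ x ∈ s, bp_brFun S (f x) := by
    intro s f
    induction s using Finset.induction_on with
    | empty => simp [bp_brFun_zero]
    | insert x s hx ih => rw [Finset.sum_insert hx, Finset.sum_insert hx, bp_brFun_add, ih]
  rw [hadd]
  refine Finset.sum_eq_zero fun x hx => ?_
  have hlt : S ⊓ Q.map (MulAut.conj x).toMonoidHom < S := by
    refine lt_of_le_of_ne inf_le_left fun heq => hcon ⟨x, hX.mem x hx, ?_⟩
    exact inf_eq_left.1 heq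
  exact bp_brFun_tr_eq_zero hpR hS hlt _

variable [SplitMonic R]

/-- the submodule `T(Q',P)` of `Γ_P = (RG)^{P ⊔ C}`. -/
def bp_trSub (C Q' P : Subgroup G) : Submodule R (bp_fix (R := R) (P ⊔ C)) where
  carrier := {z | bp_InTrC C Q' P (z : MonoidAlgebra R G)}
  zero_mem' := ⟨0, (bp_fix (R := R) (Q' ⊔ C)).zero_mem, by simp⟩
  add_mem' := by
    rintro x y ⟨a, ha, hax⟩ ⟨b, hb, hby⟩
    exact ⟨a + b, (bp_fix (R := R) (Q' ⊔ C)).add_mem ha hb, by rw [map_add, hax, hby]; rfl⟩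
  smul_mem' := by
    rintro r x ⟨a, ha, hax⟩
    exact ⟨r • a, (bp_fix (R := R) (Q' ⊔ C)).smul_mem ha r, by rw [map_smul, hax]; rfl⟩

omit [IsLocalRing R] [SplitMonic R] in
theorem bp_mem_trSub (C Q' P : Subgroup G) (z : bp_fix (R := R) (P ⊔ C)) :
    z ∈ bp_trSub C Q' P ↔ bp_InTrC C Q' P (z : MonoidAlgebra R G) := Iff.rfl

/-- L4.4: a primitive idempotent `j` of `Γ_P = (RG)^{P ⊔ C}` which is a trace from `Γ_Q` and from no
`Γ_{Q'}`, `Q' < Q`, is not killed by `br_Q`. -/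
theorem bp_defect_local (hpR : (p : R) ∈ IsLocalRing.maximalIdeal R) {Q P C : Subgroup G}
    (hP : IsPGroup p P) (hC : (Nat.card C).Coprime p)
    (hCP : C ≤ Subgroup.centralizer (P : Set G)) (hQP : Q ≤ P) (j : MonoidAlgebra R G)
    (hj : bp_IsPrimFix (P ⊔ C) j) (hQ : bp_InTrC C Q P j)
    (hmin : ∀ Q' : Subgroup G, Q' < Q → ¬ bp_InTrC C Q' P j) : bp_brFun Q j ≠ 0 := by
  classical
  intro hbr
  have hQp : IsPGroup p Q := hP.to_le hQP
  have hCQ : C ≤ Subgroup.centralizer (Q : Set G) := hCP.trans (Subgroup.centralizer_le hQP)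
  obtain ⟨a, ha, haj⟩ := hQ
  have hjPC : j ∈ bp_fix (R := R) (P ⊔ C) := hj.1
  have hjQC : j ∈ bp_fix (R := R) (Q ⊔ C) := bp_fix_mono (sup_le_sup_right hQP C) hjPC
  have hjP : j ∈ bp_fix (R := R) P := bp_fix_mono le_sup_left hjPC
  have hjQ : j ∈ bp_fix (R := R) Q := bp_fix_mono le_sup_left hjQC
  have haQ : a ∈ bp_fix (R := R) Q := bp_fix_mono le_sup_left ha
  -- Higman: replace `a` by `j a j`
  have ha' : j * a * j ∈ bp_fix (R := R) (Q ⊔ C) :=
    (bp_fix _).mul_mem ((bp_fix _).mul_mem hjQC ha) hjQC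
  have htr : bp_tr Q P (j * a * j) = j := bp_higman hQP hjP hj.2.1 haj
  -- `br_Q (j a j) = 0`
  have hbr' : bp_brFun Q (j * a * j) = 0 := by
    have h1 : bp_br hpR Q hQp (⟨j, hjQ⟩ * ⟨a, haQ⟩ * ⟨j, hjQ⟩) = 0 := by
      rw [map_mul, map_mul, bp_br_apply, bp_br_apply]
      show bp_brFun Q j * bp_brFun Q a * bp_brFun Q j = 0
      rw [hbr, zero_mul, zero_mul]
    rw [bp_br_apply] at h1
    exact h1
  obtain ⟨t, ht, m, hm, hmc, hsum⟩ := bp_br_ker_C hpR Q C hQp hC hCQ _ ha' hbr'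
  -- the family of ideals of `Γ_P`
  have hfin := bp_fix_finite (R := R) (G := G) (P ⊔ C)
  obtain ⟨hjPC', hprim⟩ := (bp_isPrimFix_iff (P ⊔ C) j).1 hj
  let I : Option {Q' : Subgroup G // Q' < Q} → Submodule R (bp_fix (R := R) (P ⊔ C)) := fun o =>
    match o with
    | none => bp_mG R (bp_fix (R := R) (P ⊔ C))
    | some Q' => bp_trSub C Q'.1 P
  have hI : ∀ i, ∀ u x v : bp_fix (R := R) (P ⊔ C), x ∈ I i → u * x * v ∈ I i := by
    rintro (_ | ⟨Q', hQ'⟩) u x v hx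
    · exact bp_mem_mG_mul (bp_mul_mem_mG u hx) v
    · obtain ⟨b, hb, hbx⟩ := hx
      have hQ'P : Q' ≤ P := hQ'.le.trans hQP
      refine ⟨(u : MonoidAlgebra R G) * b * (v : MonoidAlgebra R G), ?_, ?_⟩
      · exact (bp_fix _).mul_mem ((bp_fix _).mul_mem
          (bp_fix_mono (sup_le_sup_right hQ'P C) u.2) hb) (bp_fix_mono (sup_le_sup_right hQ'P C) v.2)
      · rw [bp_tr_mul_right hQ'P (bp_fix_mono le_sup_left v.2),
          bp_tr_mul_left hQ'P (bp_fix_mono le_sup_left u.2), hbx]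
        rfl
  -- `Tr_Q^P` maps `trLtC C Q` into the supremum
  have htmem : ∀ t ∈ bp_trLtC (R := R) C Q, ∀ h : bp_tr Q P t ∈ bp_fix (R := R) (P ⊔ C),
      (⟨bp_tr Q P t, h⟩ : bp_fix (R := R) (P ⊔ C)) ∈ ⨆ i, I i := by
    intro t ht
    unfold bp_trLtC at ht
    induction ht using Submodule.span_induction with
    | mem x hx =>
      obtain ⟨Q', hQ'Q, b, hb, rfl⟩ := hx
      intro h
      refine Submodule.mem_iSup_of_mem (some ⟨Q', hQ'Q⟩) ?_
      exact ⟨b, hb, (bp_tr_trans hQ'Q.le hQP (bp_fix_mono le_sup_left hb)).symm⟩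
    | zero =>
      intro h
      have : (⟨bp_tr Q P 0, h⟩ : bp_fix (R := R) (P ⊔ C)) = 0 := Subtype.ext (map_zero _)
      rw [this]; exact Submodule.zero_mem _
    | add x y hx hy ihx ihy =>
      intro h
      have hx' : bp_tr Q P x ∈ bp_fix (R := R) (P ⊔ C) :=
        bp_tr_mem_fix_sup hQP hCP (bp_trLtC_le_fix hCQ hx)
      have hy' : bp_tr Q P y ∈ bp_fix (R := R) (P ⊔ C) :=
        bp_tr_mem_fix_sup hQP hCP (bp_trLtC_le_fix hCQ hy)
      have : (⟨bp_tr Q P (x + y), h⟩ : bp_fix (R := R) (P ⊔ C)) =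
          ⟨bp_tr Q P x, hx'⟩ + ⟨bp_tr Q P y, hy'⟩ := Subtype.ext (map_add _ _ _)
      rw [this]
      exact Submodule.add_mem _ (ihx hx') (ihy hy')
    | smul r x hx ihx =>
      intro h
      have hx' : bp_tr Q P x ∈ bp_fix (R := R) (P ⊔ C) :=
        bp_tr_mem_fix_sup hQP hCP (bp_trLtC_le_fix hCQ hx)
      have : (⟨bp_tr Q P (r • x), h⟩ : bp_fix (R := R) (P ⊔ C)) = r • ⟨bp_tr Q P x, hx'⟩ :=
        Subtype.ext (map_smul _ _ _)
      rw [this]
      exact Submodule.smul_mem _ r (ihx hx')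
  -- `j = Tr t + Tr m`
  have htP : bp_tr Q P t ∈ bp_fix (R := R) (P ⊔ C) :=
    bp_tr_mem_fix_sup hQP hCP (bp_trLtC_le_fix hCQ ht)
  have hmP : bp_tr Q P m ∈ bp_fix (R := R) (P ⊔ C) := bp_tr_mem_fix_sup hQP hCP hm
  have hmc' : ∀ g, (bp_tr Q P m).coeff g ∈ IsLocalRing.maximalIdeal R := by
    rw [← bp_mem_ideal_smul_top_iff]
    have hm0 : m ∈ IsLocalRing.maximalIdeal R • (⊤ : Submodule R (MonoidAlgebra R G)) :=
      (bp_mem_ideal_smul_top_iff _ _).2 hmc
    refine Submodule.smul_induction_on hm0 ?_ ?_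
    · intro r hr x _
      rw [map_smul]
      exact Submodule.smul_mem_smul hr Submodule.mem_top
    · intro x y hx hy
      rw [map_add]; exact Submodule.add_mem _ hx hy
  have hjsum : (⟨j, hjPC'⟩ : bp_fix (R := R) (P ⊔ C)) =
      ⟨bp_tr Q P t, htP⟩ + ⟨bp_tr Q P m, hmP⟩ := by
    apply Subtype.ext
    show j = bp_tr Q P t + bp_tr Q P m
    rw [← map_add, ← hsum, htr]
  have hjmem : (⟨j, hjPC'⟩ : bp_fix (R := R) (P ⊔ C)) ∈ ⨆ i, I i := by
    rw [hjsum]
    refine Submodule.add_mem _ (htmem t ht htP) ?_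
    exact Submodule.mem_iSup_of_mem none (bp_mem_smul_top_fix _ _ _ hmP hmc')
  obtain ⟨i, hi⟩ := bp_rosenberg_iSup_submodule R _ hprim I hI hjmem
  rcases i with _ | ⟨Q', hQ'⟩
  · exact hprim.2.1 (bp_idem_mG_eq_zero _ hprim.1 hi)
  · exact hmin Q' hQ' hi

end Cfsg.Agent.BP
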