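import Cfsg.Agent.BP.LocalExtra

/-!
# BP / LocalB: the small facts (S1)–(S5) and L1.9 of the blueprint, PART 2

* `bp_Iso e e'`  : isomorphic idempotents (`e ≅ e'`)
* (S1) `bp_iso_prim`, (S2) `bp_iso_refl/symm/trans/map`, (S3) `bp_iso_of_cornerUnit`,
  (S4) `bp_cornerUnit_map`, `bp_nonunit_map_nilpotent`, (S5) `bp_prim_scalar_nonunit`
* non-units of a primitive corner: `bp_nonunit_iff_small`, `bp_nonunit_add`, `bp_nonunit_mul_left/right`
* L1.9 `bp_idem_radical`
-/

namespace Cfsg.Agent.BP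

section iso

variable {Γ : Type*} [Ring Γ]

/-- isomorphic idempotents -/
def bp_Iso (e e' : Γ) : Prop :=
  IsIdempotentElem e ∧ IsIdempotentElem e' ∧
    ∃ a b : Γ, e * a * e' = a ∧ e' * b * e = b ∧ a * b = e ∧ b * a = e'

theorem bp_iso_refl {e : Γ} (he : IsIdempotentElem e) : bp_Iso e e :=
  ⟨he, he, e, e, bp_corner_self he, bp_corner_self he, he.eq, he.eq⟩

theorem bp_iso_symm {e e' : Γ} (h : bp_Iso e e') : bp_Iso e' e := by
  obtain ⟨he, he', a, b, ha, hb, hab, hba⟩ := h
  exact ⟨he', he, b, a, hb, ha, hba, hab⟩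

theorem bp_iso_trans {e e' e'' : Γ} (h : bp_Iso e e') (h' : bp_Iso e' e'') : bp_Iso e e'' := by
  obtain ⟨he, he', a, b, ha, hb, hab, hba⟩ := h
  obtain ⟨-, he'', c, d, hc, hd, hcd, hdc⟩ := h'
  have hea : e * a = a := by rw [← ha, ← mul_assoc, ← mul_assoc, he.eq]
  have hae' : a * e' = a := by rw [← ha, mul_assoc, he'.eq]
  have he'b : e' * b = b := by rw [← hb, ← mul_assoc, ← mul_assoc, he'.eq]
  have hbe : b * e = b := by rw [← hb, mul_assoc, he.eq]
  have he'c : e' * c = c := by rw [← hc, ← mul_assoc, ← mul_assoc, he'.eq]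
  have hce'' : c * e'' = c := by rw [← hc, mul_assoc, he''.eq]
  have he''d : e'' * d = d := by rw [← hd, ← mul_assoc, ← mul_assoc, he''.eq]
  have hde' : d * e' = d := by rw [← hd, mul_assoc, he'.eq]
  refine ⟨he, he'', a * c, d * b, ?_, ?_, ?_, ?_⟩
  · calc e * (a * c) * e'' = (e * a) * (c * e'') := by simp only [mul_assoc]
      _ = a * c := by rw [hea, hce'']
  · calc e'' * (d * b) * e = (e'' * d) * (b * e) := by simp only [mul_assoc]
      _ = d * b := by rw [he''d, hbe]
  · calc a * c * (d * b) = a * (c * d) * b := by simp only [mul_assoc]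
      _ = e := by rw [hcd, hae', hab]
  · calc d * b * (a * c) = d * (b * a) * c := by simp only [mul_assoc]
      _ = e'' := by rw [hba, hde', hdc]

/-- ring homomorphisms preserve `≅`. -/
theorem bp_iso_map {Γ' : Type*} [Ring Γ'] (φ : Γ →+* Γ') {e e' : Γ} (h : bp_Iso e e') :
    bp_Iso (φ e) (φ e') := by
  obtain ⟨he, he', a, b, ha, hb, hab, hba⟩ := h
  refine ⟨?_, ?_, φ a, φ b, ?_, ?_, ?_, ?_⟩
  · unfold IsIdempotentElem; rw [← map_mul, he.eq]
  · unfold IsIdempotentElem; rw [← map_mul, he'.eq]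
  · rw [← map_mul, ← map_mul, ha]
  · rw [← map_mul, ← map_mul, hb]
  · rw [← map_mul, hab]
  · rw [← map_mul, hba]

/-- (S1) an idempotent isomorphic to a primitive one is primitive. -/
theorem bp_iso_prim {e e' : Γ} (h : bp_Iso e e') (hp : bp_IsPrim e) : bp_IsPrim e' := by
  obtain ⟨he, he', a, b, ha, hb, hab, hba⟩ := h
  have hea : e * a = a := by rw [← ha, ← mul_assoc, ← mul_assoc, he.eq]
  have hae' : a * e' = a := by rw [← ha, mul_assoc, he'.eq]
  have he'b : e' * b = b := by rw [← hb, ← mul_assoc, ← mul_assoc, he'.eq]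
  have hbe : b * e = b := by rw [← hb, mul_assoc, he.eq]
  refine ⟨he', ?_, ?_⟩
  · intro h0
    apply hp.2.1
    rw [← hab, ← hae', h0, mul_zero, zero_mul]
  · intro f hf h1 h2
    have hg : IsIdempotentElem (a * f * b) := by
      unfold IsIdempotentElem
      calc a * f * b * (a * f * b) = a * (f * (b * a) * f) * b := by simp only [mul_assoc]
        _ = a * f * b := by rw [hba, h2, hf.eq]
    have hg1 : e * (a * f * b) = a * f * b := by
      rw [← mul_assoc, ← mul_assoc, hea]
    have hg2 : (a * f * b) * e = a * f * b := by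
      rw [mul_assoc, hbe]
    have hback : b * (a * f * b) * a = f := by
      calc b * (a * f * b) * a = (b * a) * f * (b * a) := by simp only [mul_assoc]
        _ = f := by rw [hba, h1, h2]
    rcases hp.2.2 _ hg hg1 hg2 with h3 | h3
    · left
      rw [← hback, h3, mul_zero, zero_mul]
    · right
      rw [← hback, h3, hbe, hba]

/-- (S3) if `a = e a e'`, `b = e' b e` and `ab` is a unit of the corner of `e ≠ 0`, with `e'`
primitive, then `e ≅ e'`. -/
theorem bp_iso_of_cornerUnit {e e' a b : Γ} (he : IsIdempotentElem e) (hne : e ≠ 0)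
    (he' : bp_IsPrim e') (ha : e * a * e' = a) (hb : e' * b * e = b)
    (hab : bp_CornerUnit e (a * b)) : bp_Iso e e' := by
  obtain ⟨e'', a', b', hid, h1, h2, ha', hb', hab', hba'⟩ :=
    bp_idem_summand e e' a b he he'.1 ha hb hab
  have hne'' : e'' ≠ 0 := by
    intro h0
    apply hne
    rw [← hab', ← ha', h0, mul_zero, zero_mul]
  rcases he'.2.2 e'' hid h1 h2 with h3 | h3
  · exact absurd h3 hne''
  · rw [h3] at ha' hb' hba'
    exact ⟨he, he'.1, a', b', ha', hb', hab', hba'⟩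

/-- (S4), unit part: ring homomorphisms preserve corner units. -/
theorem bp_cornerUnit_map {Γ' : Type*} [Ring Γ'] (φ : Γ →+* Γ') {e x : Γ}
    (h : bp_CornerUnit e x) : bp_CornerUnit (φ e) (φ x) := by
  obtain ⟨hx, y, hy, hxy, hyx⟩ := h
  refine ⟨?_, φ y, ?_, ?_, ?_⟩
  · rw [← map_mul, ← map_mul, hx]
  · rw [← map_mul, ← map_mul, hy]
  · rw [← map_mul, hxy]
  · rw [← map_mul, hyx]

theorem bp_nonunit_neg (e x : Γ) (hnx : ¬ bp_CornerUnit e x) : ¬ bp_CornerUnit e (-x) := by
  rintro ⟨h0, y, hy, h1, h2⟩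
  apply hnx
  refine ⟨by simpa using h0, -y, by simpa using hy, by simpa using h1, by simpa using h2⟩

end iso

section nonunits

variable {R Γ : Type*} [CommRing R] [IsLocalRing R] [SplitMonic R] [Ring Γ] [Algebra R Γ]
  [Module.Finite R Γ]

/-- in a primitive corner, the non-units are exactly the small elements. -/
theorem bp_nonunit_iff_small (e x : Γ) (he : bp_IsPrim e) (hx : e * x * e = x) :
    ¬ bp_CornerUnit e x ↔ ∃ N : ℕ, 0 < N ∧ x ^ N ∈ bp_mG R Γ := by
  constructor
  · intro h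
    rcases bp_prim_dichotomy (R := R) e x he hx with h1 | h1
    · exact absurd h1 h
    · exact h1
  · rintro ⟨N, -, hs⟩ h
    exact bp_prim_not_both e x he h N hs

variable (R)
include R

theorem bp_nonunit_add (e x y : Γ) (he : bp_IsPrim e) (hx : e * x * e = x) (hy : e * y * e = y)
    (hnx : ¬ bp_CornerUnit e x) (hny : ¬ bp_CornerUnit e y) : ¬ bp_CornerUnit e (x + y) := by
  intro h
  rcases bp_prim_add R e x y he hx hy h with h1 | h1
  · exact hnx h1
  · exact hny h1

theorem bp_nonunit_mul_left (e x y : Γ) (he : bp_IsPrim e) (hx : e * x * e = x)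
    (hy : e * y * e = y) (hnx : ¬ bp_CornerUnit e x) : ¬ bp_CornerUnit e (x * y) :=
  fun h => hnx (bp_prim_mul R e x y he hx hy h).1

theorem bp_nonunit_mul_right (e x y : Γ) (he : bp_IsPrim e) (hx : e * x * e = x)
    (hy : e * y * e = y) (hny : ¬ bp_CornerUnit e y) : ¬ bp_CornerUnit e (x * y) :=
  fun h => hny (bp_prim_mul R e x y he hx hy h).2

theorem bp_nonunit_sum {ι : Type*} (s : Finset ι) (e : Γ) (x : ι → Γ) (he : bp_IsPrim e)
    (hx : ∀ i ∈ s, e * x i * e = x i) (hn : ∀ i ∈ s, ¬ bp_CornerUnit e (x i)) :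
    ¬ bp_CornerUnit e (∑ i ∈ s, x i) := by
  intro h
  obtain ⟨i, hi, hi'⟩ := bp_prim_sum R s e x he hx h
  exact hn i hi hi'

/-- (S5) in non-unit form: every element of a primitive corner is a scalar multiple of `e`
modulo the non-units. -/
theorem bp_prim_scalar_nonunit (e x : Γ) (he : bp_IsPrim e) (hx : e * x * e = x) :
    ∃ c : R, ¬ bp_CornerUnit e (x - c • e) := by
  obtain ⟨c, N, -, hs⟩ := bp_prim_scalar (R := R) e x he hx
  exact ⟨c, fun h => bp_prim_not_both e _ he h N hs⟩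

omit [SplitMonic R] [IsLocalRing R] [Module.Finite R Γ] in
theorem bp_smul_corner (e : Γ) (he : IsIdempotentElem e) (c : R) : e * (c • e) * e = c • e := by
  rw [mul_smul_comm, smul_mul_assoc, he.eq, he.eq]

/-- (S4), non-unit part: a ring homomorphism killing `𝔪Γ` maps the non-units of a primitive
corner to nilpotent elements. -/
theorem bp_nonunit_map_nilpotent {Γ' : Type*} [Ring Γ'] (π : Γ →+* Γ')
    (hπ : ∀ x ∈ bp_mG R Γ, π x = 0) (e x : Γ) (he : bp_IsPrim e) (hx : e * x * e = x)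
    (hnx : ¬ bp_CornerUnit e x) : IsNilpotent (π x) := by
  obtain ⟨N, -, hs⟩ := (bp_nonunit_iff_small (R := R) e x he hx).1 hnx
  exact ⟨N, by rw [← map_pow, hπ _ hs]⟩

end nonunits

section radical

variable (R : Type*) {Γ : Type*} [CommRing R] [IsLocalRing R] [SplitMonic R] [Ring Γ] [Algebra R Γ]
  [Module.Finite R Γ]
include R

/-- L1.9: `E = ∑ E_r` a sum of pairwise orthogonal primitive idempotents, `K` an additive subgroup
absorbing multiplication by the corner of `E` and containing no `E_r`.  Then every idempotent of the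
corner of `E` lying in `K` vanishes. -/
theorem bp_idem_radical {ι : Type*} (s : Finset ι) (E : ι → Γ) (hprim : ∀ r ∈ s, bp_IsPrim (E r))
    (horth : ∀ r ∈ s, ∀ t ∈ s, r ≠ t → E r * E t = 0) (Eb : Γ) (hEb : Eb = ∑ r ∈ s, E r)
    (K : AddSubgroup Γ)
    (hK : ∀ a z b : Γ, z ∈ K → (Eb * a * Eb) * z * (Eb * b * Eb) ∈ K)
    (hE : ∀ r ∈ s, E r ∉ K) (δ : Γ) (hδ : IsIdempotentElem δ) (hδE : Eb * δ * Eb = δ)
    (hδK : δ ∈ K) : δ = 0 := by
  classical
  by_contra hδ0
  -- `Eb` dominates each `E r`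
  have hEbr : ∀ r ∈ s, Eb * E r = E r := by
    intro r hr
    rw [hEb, Finset.sum_mul, Finset.sum_eq_single r]
    · exact (hprim r hr).1.eq
    · intro t ht htr
      exact horth t ht r hr htr
    · intro h; exact absurd hr h
  have hrEb : ∀ r ∈ s, E r * Eb = E r := by
    intro r hr
    rw [hEb, Finset.mul_sum, Finset.sum_eq_single r]
    · exact (hprim r hr).1.eq
    · intro t ht htr
      exact horth r hr t ht (Ne.symm htr)
    · intro h; exact absurd hr h
  have hEbid : IsIdempotentElem Eb := by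
    unfold IsIdempotentElem
    conv_lhs => rw [hEb, Finset.mul_sum]
    rw [hEb]
    refine Finset.sum_congr rfl fun r hr => ?_
    rw [← hEb]; exact hEbr r hr
  have hEbδ : Eb * δ = δ := bp_corner_left hEbid hδE
  have hδEb : δ * Eb = δ := bp_corner_right hEbid hδE
  -- a primitive `δ' ≤ δ`
  obtain ⟨n, ε, hε, hεo, hεs⟩ := bp_exists_prim_decomp R δ hδ
  have hn : n ≠ 0 := by
    rintro rfl
    apply hδ0
    rw [← hεs]; simp
  obtain ⟨m, rfl⟩ : ∃ m, n = m + 1 := ⟨n - 1, by omega⟩
  set δ' := ε 0 with hδ'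
  have hp' : bp_IsPrim δ' := hε 0
  have hδ'δ : δ' * δ = δ' := by
    rw [← hεs, Finset.mul_sum, Finset.sum_eq_single 0]
    · exact hp'.1.eq
    · intro t _ ht
      exact hεo 0 t (Ne.symm ht)
    · intro h; exact absurd (Finset.mem_univ _) h
  have hδδ' : δ * δ' = δ' := by
    rw [← hεs, Finset.sum_mul, Finset.sum_eq_single 0]
    · exact hp'.1.eq
    · intro t _ ht
      exact hεo t 0 ht
    · intro h; exact absurd (Finset.mem_univ _) h
  have hEbδ' : Eb * δ' = δ' := by rw [← hδδ', ← mul_assoc, hEbδ]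
  have hδ'Eb : δ' * Eb = δ' := by rw [← hδ'δ, mul_assoc, hδEb]
  have hcorn : ∀ y : Γ, δ' * y * δ' = y → Eb * y * Eb = y := by
    intro y hy
    rw [← hy]
    calc Eb * (δ' * y * δ') * Eb = (Eb * δ') * y * (δ' * Eb) := by simp only [mul_assoc]
      _ = δ' * y * δ' := by rw [hEbδ', hδ'Eb]
  have hδ'K : δ' ∈ K := by
    have := hK δ' δ δ hδK
    rwa [hcorn δ' (bp_corner_self hp'.1), hδE, hδ'δ, hδ'δ] at this
  -- `δ' = ∑ δ' E_r δ'`
  have hsum : ∑ r ∈ s, δ' * E r * δ' = δ' := by
    rw [← Finset.sum_mul, ← Finset.mul_sum, ← hEb, hδ'Eb, hp'.1.eq]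
  have hcu : bp_CornerUnit δ' (∑ r ∈ s, δ' * E r * δ') := by
    rw [hsum]; exact bp_cornerUnit_self hp'.1
  have hcr : ∀ r ∈ s, δ' * (δ' * E r * δ') * δ' = δ' * E r * δ' := by
    intro r _
    calc δ' * (δ' * E r * δ') * δ' = (δ' * δ') * E r * (δ' * δ') := by simp only [mul_assoc]
      _ = δ' * E r * δ' := by rw [hp'.1.eq]
  obtain ⟨r, hr, -, w, hw, hw1, -⟩ := bp_prim_sum R s δ' (fun r => δ' * E r * δ') hp' hcr hcu
  have hδ'w : δ' * w = w := bp_corner_left hp'.1 hw
  have hwδ' : w * δ' = w := bp_corner_right hp'.1 hw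
  have hwK : w ∈ K := by
    have := hK w δ' δ' hδ'K
    rwa [hcorn w hw, hcorn δ' (bp_corner_self hp'.1), hwδ', hwδ'] at this
  have hab : δ' * E r * (E r * w) = δ' := by
    calc δ' * E r * (E r * w) = δ' * (E r * E r) * (δ' * w) := by rw [hδ'w]; simp only [mul_assoc]
      _ = δ' * E r * δ' * w := by rw [(hprim r hr).1.eq]; simp only [mul_assoc]
      _ = δ' := hw1
  have hid : IsIdempotentElem (E r * w * E r) := by
    unfold IsIdempotentElem
    calc E r * w * E r * (E r * w * E r) = E r * (w * δ') * (E r * E r) * w * E r := by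
          rw [hwδ']; simp only [mul_assoc]
      _ = E r * w * (δ' * E r * (E r * w)) * E r := by simp only [mul_assoc]
      _ = E r * w * E r := by rw [hab, mul_assoc (E r) w δ', hwδ']
  have hne : E r * w * E r ≠ 0 := by
    intro h0
    apply hp'.2.1
    calc δ' = δ' * δ' := hp'.1.eq.symm
      _ = δ' * E r * (E r * w) * (δ' * E r * (E r * w)) := by rw [hab]
      _ = δ' * E r * ((E r * (w * δ')) * E r) * (E r * w) := by simp only [mul_assoc]
      _ = 0 := by rw [hwδ', h0, mul_zero, zero_mul]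
  have h1 : E r * (E r * w * E r) = E r * w * E r := by
    rw [← mul_assoc, ← mul_assoc, (hprim r hr).1.eq]
  have h2 : (E r * w * E r) * E r = E r * w * E r := by
    rw [mul_assoc, (hprim r hr).1.eq]
  rcases (hprim r hr).2.2 _ hid h1 h2 with h3 | h3
  · exact hne h3
  · apply hE r hr
    have := hK (E r) w (E r) hwK
    have hEr : Eb * E r * Eb = E r := by rw [hEbr r hr, hrEb r hr]
    rwa [hEr, h3] at this

end radical

end Cfsg.Agent.BP
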