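import Mathlib
import Cfsg.Agent.BP.BrauerMap
import Cfsg.Agent.BP.LocalB

/-!
# BP / L7, part A: ring-theoretic lemmas for "local" primitive idempotents

`Γ` a finite `R`-algebra (`R` local, split monic), `β : Γ →+* Λ` a ring homomorphism killing `𝔪Γ`
(in the applications `Γ = (RG)^H` and `β` a Brauer map).  Plus the Brauer map of a `p`-subgroup
`T ≤ H` as a ring homomorphism on `(RG)^H`.
-/

set_option autoImplicit false

namespace Cfsg.Agent.BP

open MonoidAlgebra

section abs

variable {R Γ Λ : Type*} [CommRing R] [IsLocalRing R] [SplitMonic R] [Ring Γ] [Algebra R Γ]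
  [Module.Finite R Γ] [Ring Λ]

/-- an idempotent which is nilpotent vanishes -/
theorem bp_lp_idem_nilpotent {Λ : Type*} [Ring Λ] (z : Λ) (hz : IsIdempotentElem z) (N : ℕ)
    (hN : 0 < N) (h : z ^ N = 0) : z = 0 := by
  obtain ⟨n, rfl⟩ : ∃ n, N = n + 1 := ⟨N - 1, by omega⟩
  rw [hz.pow_succ_eq] at h
  exact h

/-- a corner element of a primitive idempotent whose image is a non-zero idempotent is a corner
unit -/
theorem bp_lp_unit_of_idem_image (β : Γ →+* Λ) (hβ : ∀ x ∈ bp_mG R Γ, β x = 0) (ι x : Γ)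
    (hι : bp_IsPrim ι) (hx : ι * x * ι = x) (hid : IsIdempotentElem (β x)) (hne : β x ≠ 0) :
    bp_CornerUnit ι x := by
  rcases bp_prim_dichotomy (R := R) ι x hι hx with h | ⟨N, hN, hs⟩
  · exact h
  · exfalso
    have h1 : β x ^ N = 0 := by rw [← map_pow]; exact hβ _ hs
    exact hne (bp_lp_idem_nilpotent _ hid N hN h1)

/-- a corner unit is not killed by `β` unless the idempotent is -/
theorem bp_lp_image_eq_zero_of_unit (β : Γ →+* Λ) (ι u : Γ) (hu : bp_CornerUnit ι u)
    (h0 : β u = 0) : β ι = 0 := by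
  obtain ⟨-, y, -, huy, -⟩ := hu
  rw [← huy, map_mul, h0, zero_mul]

/-- ABSORPTION: if `β e` is an idempotent commuting with `β ι` (`ι` primitive) and `β ι * β e ≠ 0`
then `β ι * β e = β ι`. -/
theorem bp_lp_absorb (β : Γ →+* Λ) (hβ : ∀ x ∈ bp_mG R Γ, β x = 0) (ι e : Γ)
    (hι : bp_IsPrim ι) (he : IsIdempotentElem e) (hc : Commute (β ι) (β e))
    (hne : β ι * β e ≠ 0) : β ι * β e = β ι := by
  have hιι : β ι * β ι = β ι := by rw [← map_mul, hι.1.eq]
  have hee : β e * β e = β e := by rw [← map_mul, he.eq]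
  set x₁ : Γ := ι * e * ι with hx₁
  set x₂ : Γ := ι * (1 - e) * ι with hx₂
  have hx₁c : ι * x₁ * ι = x₁ := by
    rw [hx₁]
    calc ι * (ι * e * ι) * ι = (ι * ι) * e * (ι * ι) := by simp only [mul_assoc]
      _ = ι * e * ι := by rw [hι.1.eq]
  have hx₂c : ι * x₂ * ι = x₂ := by
    rw [hx₂]
    calc ι * (ι * (1 - e) * ι) * ι = (ι * ι) * (1 - e) * (ι * ι) := by simp only [mul_assoc]
      _ = ι * (1 - e) * ι := by rw [hι.1.eq]
  have hβ₁ : β x₁ = β ι * β e := by
    rw [hx₁, map_mul, map_mul]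
    calc β ι * β e * β ι = β ι * (β e * β ι) := by rw [mul_assoc]
      _ = β ι * (β ι * β e) := by rw [hc.eq]
      _ = (β ι * β ι) * β e := by rw [mul_assoc]
      _ = β ι * β e := by rw [hιι]
  have hβ₂ : β x₂ = β ι - β ι * β e := by
    rw [hx₂, map_mul, map_mul, map_sub, map_one, mul_sub, mul_one, sub_mul, hιι]
    congr 1
    calc β ι * β e * β ι = β ι * (β e * β ι) := by rw [mul_assoc]
      _ = β ι * (β ι * β e) := by rw [hc.eq]
      _ = (β ι * β ι) * β e := by rw [mul_assoc]
      _ = β ι * β e := by rw [hιι]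
  have hid₁ : IsIdempotentElem (β ι * β e) := by
    unfold IsIdempotentElem
    calc β ι * β e * (β ι * β e) = β ι * (β e * β ι) * β e := by simp only [mul_assoc]
      _ = β ι * (β ι * β e) * β e := by rw [hc.eq]
      _ = (β ι * β ι) * (β e * β e) := by simp only [mul_assoc]
      _ = β ι * β e := by rw [hιι, hee]
  have hu₁ : bp_CornerUnit ι x₁ :=
    bp_lp_unit_of_idem_image β hβ ι x₁ hι hx₁c (by rw [hβ₁]; exact hid₁) (by rw [hβ₁]; exact hne)
  have hprod : β x₁ * β x₂ = 0 := by
    rw [hβ₁, hβ₂, mul_sub]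
    rw [hid₁.eq]
    have : β ι * β e * β ι = β ι * β e := by
      calc β ι * β e * β ι = β ι * (β e * β ι) := by rw [mul_assoc]
        _ = β ι * (β ι * β e) := by rw [hc.eq]
        _ = (β ι * β ι) * β e := by rw [mul_assoc]
        _ = β ι * β e := by rw [hιι]
    rw [this, sub_self]
  have hnu₂ : ¬ bp_CornerUnit ι x₂ := by
    intro hu₂
    have hu := bp_cornerUnit_mul hι.1 hu₁ hu₂
    have h0 : β (x₁ * x₂) = 0 := by rw [map_mul, hprod]
    have := bp_lp_image_eq_zero_of_unit β ι (x₁ * x₂) hu h0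
    apply hne
    rw [this, zero_mul]
  rcases bp_prim_dichotomy (R := R) ι x₂ hι hx₂c with h | ⟨N, hN, hs⟩
  · exact absurd h hnu₂
  · have h1 : β x₂ ^ N = 0 := by rw [← map_pow]; exact hβ _ hs
    have hid₂ : IsIdempotentElem (β x₂) := by
      rw [hβ₂]
      unfold IsIdempotentElem
      have h3 : β ι * β e * β ι = β ι * β e := by
        calc β ι * β e * β ι = β ι * (β e * β ι) := by rw [mul_assoc]
          _ = β ι * (β ι * β e) := by rw [hc.eq]
          _ = (β ι * β ι) * β e := by rw [mul_assoc]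
          _ = β ι * β e := by rw [hιι]
      have h4 : β ι * (β ι * β e) = β ι * β e := by rw [← mul_assoc, hιι]
      rw [mul_sub, sub_mul, sub_mul, hιι, h3, h4, hid₁.eq]
      abel
    have h2 := bp_lp_idem_nilpotent _ hid₂ N hN h1
    rw [hβ₂, sub_eq_zero] at h2
    exact h2.symm

end abs

section grp

variable {R : Type*} [CommRing R] [IsLocalRing R] {G : Type*} [Group G]

/-- `bp_brFun` as an additive homomorphism -/
noncomputable def bp_lp_brAdd (T : Subgroup G) :
    MonoidAlgebra R G →+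
      MonoidAlgebra (IsLocalRing.ResidueField R) (Subgroup.centralizer (T : Set G)) where
  toFun := bp_brFun T
  map_zero' := bp_brFun_zero T
  map_add' := bp_brFun_add T

theorem bp_lp_brAdd_apply (T : Subgroup G) (a : MonoidAlgebra R G) : bp_lp_brAdd T a = bp_brFun T a :=
  rfl

theorem bp_lp_brFun_sum {ι : Type*} (s : Finset ι) (T : Subgroup G) (f : ι → MonoidAlgebra R G) :
    bp_brFun T (∑ i ∈ s, f i) = ∑ i ∈ s, bp_brFun T (f i) := by
  rw [← bp_lp_brAdd_apply, map_sum]
  rfl

theorem bp_lp_brFun_sub (T : Subgroup G) (a b : MonoidAlgebra R G) :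
    bp_brFun T (a - b) = bp_brFun T a - bp_brFun T b := by
  rw [← bp_lp_brAdd_apply, map_sub]
  rfl

/-- transitivity, vanishing form: `br_Q a = 0 → br_T a = 0` for `Q ≤ T`. -/
theorem bp_lp_brFun_eq_zero_of_le {Q T : Subgroup G} (hQT : Q ≤ T) (a : MonoidAlgebra R G)
    (h : bp_brFun Q a = 0) : bp_brFun T a = 0 := by
  rw [bp_brFun_eq_zero_iff] at h ⊢
  intro c hc
  exact h c (Subgroup.centralizer_le hQT hc)

/-- elements of `𝔪 (RG)^H` are killed by every Brauer map -/
theorem bp_lp_brFun_mG (T H : Subgroup G) (x : bp_fix (R := R) H)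
    (hx : x ∈ bp_mG R (bp_fix (R := R) H)) : bp_brFun T (x : MonoidAlgebra R G) = 0 := by
  refine Submodule.smul_induction_on hx ?_ ?_
  · intro π hπ y _
    change bp_brFun T (π • (y : MonoidAlgebra R G)) = 0
    rw [bp_brFun_smul, (IsLocalRing.residue_eq_zero_iff π).2 hπ, zero_smul]
  · intro a b ha hb
    change bp_brFun T ((a : MonoidAlgebra R G) + (b : MonoidAlgebra R G)) = 0
    rw [bp_brFun_add, ha, hb, add_zero]

/-- conjugation by an element normalizing `T` preserves `br_T = 0` -/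
theorem bp_lp_brFun_conj_eq_zero {T : Subgroup G} {x : G}
    (hx : x ∈ Subgroup.normalizer (T : Set G)) (a : MonoidAlgebra R G) (h : bp_brFun T a = 0) :
    bp_brFun T (bp_conj x a) = 0 := by
  rw [bp_brFun_eq_zero_iff] at h ⊢
  intro c hc
  rw [bp_conj_coeff]
  apply h
  rw [Subgroup.mem_centralizer_iff] at hc ⊢
  intro t ht
  have hx' : x * t * x⁻¹ ∈ T := (Subgroup.mem_normalizer_iff.1 hx t).1 ht
  have := hc _ hx'
  -- this : x * t * x⁻¹ * c = c * (x * t * x⁻¹)
  calc t * (x⁻¹ * c * x) = x⁻¹ * ((x * t * x⁻¹) * c) * x := by group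
    _ = x⁻¹ * (c * (x * t * x⁻¹)) * x := by rw [this]
    _ = x⁻¹ * c * x * t := by group

/-- an element of a group algebra whose coefficients are constant on conjugacy classes is central -/
theorem bp_lp_commute_of_classFun {S : Type*} [CommSemiring S] {H : Type*} [Group H]
    (z : MonoidAlgebra S H) (hz : ∀ c d : H, z.coeff (c * d * c⁻¹) = z.coeff d)
    (a : MonoidAlgebra S H) : Commute z a := by
  induction a using MonoidAlgebra.induction_linear with
  | zero => exact Commute.zero_right z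
  | add x y hx hy => exact hx.add_right hy
  | single c r =>
    unfold Commute SemiconjBy
    ext h
    rw [coeff_mul_single_apply, coeff_single_mul_apply, mul_comm]
    congr 1
    have := hz c (c⁻¹ * h)
    rw [← this]
    congr 1
    group

variable [Finite G] {p : ℕ} [Fact p.Prime]

/-- the Brauer map at a `p`-subgroup `T ≤ H`, as a ring homomorphism on `(RG)^H`. -/
noncomputable def bp_lp_brH (hpR : (p : R) ∈ IsLocalRing.maximalIdeal R) (T : Subgroup G)
    (hT : IsPGroup p T) (H : Subgroup G) (hTH : T ≤ H) :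
    bp_fix (R := R) H →+*
      MonoidAlgebra (IsLocalRing.ResidueField R) (Subgroup.centralizer (T : Set G)) :=
  (bp_br hpR T hT).comp (Subalgebra.inclusion (bp_fix_mono hTH)).toRingHom

theorem bp_lp_brH_apply (hpR : (p : R) ∈ IsLocalRing.maximalIdeal R) (T : Subgroup G)
    (hT : IsPGroup p T) (H : Subgroup G) (hTH : T ≤ H) (a : bp_fix (R := R) H) :
    bp_lp_brH hpR T hT H hTH a = bp_brFun T (a : MonoidAlgebra R G) := rfl

theorem bp_lp_brH_mG (hpR : (p : R) ∈ IsLocalRing.maximalIdeal R) (T : Subgroup G)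
    (hT : IsPGroup p T) (H : Subgroup G) (hTH : T ≤ H) :
    ∀ x ∈ bp_mG R (bp_fix (R := R) H), bp_lp_brH hpR T hT H hTH x = 0 := by
  intro x hx
  rw [bp_lp_brH_apply]
  exact bp_lp_brFun_mG T H x hx

/-- multiplicativity of the Brauer map at `T` on `T`-fixed elements (ambient form) -/
theorem bp_lp_brFun_mul_fix (hpR : (p : R) ∈ IsLocalRing.maximalIdeal R) (T : Subgroup G)
    (hT : IsPGroup p T) {a b : MonoidAlgebra R G} (ha : a ∈ bp_fix (R := R) T)
    (hb : b ∈ bp_fix (R := R) T) : bp_brFun T (a * b) = bp_brFun T a * bp_brFun T b :=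
  bp_brFun_mul p hpR T hT a b ((bp_mem_fix_iff T a).1 ha) ((bp_mem_fix_iff T b).1 hb)

/-- the Brauer image at `T` of an element fixed by `C_G(T)` is central in `k C_G(T)` -/
theorem bp_lp_brFun_central (T : Subgroup G) (e : MonoidAlgebra R G)
    (he : e ∈ bp_fix (R := R) (Subgroup.centralizer (T : Set G)))
    (a : MonoidAlgebra (IsLocalRing.ResidueField R) (Subgroup.centralizer (T : Set G))) :
    Commute (bp_brFun T e) a := by
  apply bp_lp_commute_of_classFun
  intro c d
  rw [bp_brFun_coeff, bp_brFun_coeff]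
  congr 1
  exact (bp_mem_fix_iff _ e).1 he c c.2 d

end grp

end Cfsg.Agent.BP
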