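import Mathlib
import Cfsg.Agent.BP.LocalPairA
import Cfsg.Agent.BP.DefectB

/-!
# BP / L7, part B: Mackey computations at a normalizer, containment of defect groups
-/

set_option autoImplicit false

namespace Cfsg.Agent.BP

open MonoidAlgebra

section grp0

variable {G : Type*} [Group G]

theorem bp_lp_map_conj_of_mem_normalizer {T : Subgroup G} {x : G}
    (hx : x ∈ Subgroup.normalizer (T : Set G)) : T.map (MulAut.conj x).toMonoidHom = T := by
  ext g
  rw [bp_mem_map_conj]
  have hx' : x⁻¹ ∈ Subgroup.normalizer (T : Set G) := Subgroup.inv_mem _ hx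
  have h1 := Subgroup.mem_normalizer_iff.1 hx' g
  rw [inv_inv] at h1
  exact h1.symm

theorem bp_lp_mem_normalizer_of_le_map [Finite G] {T : Subgroup G} {x : G}
    (h : T ≤ T.map (MulAut.conj x).toMonoidHom) : x ∈ Subgroup.normalizer (T : Set G) := by
  have hcard : Nat.card (T.map (MulAut.conj x).toMonoidHom) = Nat.card T :=
    Subgroup.card_map_of_injective (MulAut.conj x).injective
  have heq : T = T.map (MulAut.conj x).toMonoidHom :=
    Subgroup.eq_of_le_of_card_ge h (le_of_eq hcard)
  rw [Subgroup.mem_normalizer_iff]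
  intro g
  constructor
  · intro hg
    rw [heq]
    exact ⟨g, hg, by simp [MulAut.conj_apply]⟩
  · intro hg
    rw [heq, bp_mem_map_conj] at hg
    have : x⁻¹ * (x * g * x⁻¹) * x = g := by group
    rw [this] at hg
    exact hg

end grp0

section main

variable {R : Type*} [CommRing R] [IsLocalRing R] {G : Type*} [Group G] [Finite G] {p : ℕ}
  [Fact p.Prime]

/-- Mackey at the normalizer: modulo the kernel of `br_{R'}`, `Tr_{R'}^Q` is `Tr_{R'}^{N_Q(R')}`. -/
theorem bp_lp_br_tr_normalizer (hpR : (p : R) ∈ IsLocalRing.maximalIdeal R) {R' Q : Subgroup G}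
    (hRQ : R' ≤ Q) (hR' : IsPGroup p R') {a : MonoidAlgebra R G} (ha : a ∈ bp_fix (R := R) R') :
    bp_brFun R' (bp_tr R' Q a) =
      bp_brFun R' (bp_tr R' (Q ⊓ Subgroup.normalizer (R' : Set G)) a) := by
  classical
  have hX := bp_dcReps_isDC (L := R') (K := R') (H := Q) hRQ hRQ
  set X := bp_dcReps R' R' Q with hXdef
  set XN := X.filter (fun x => x ∈ Subgroup.normalizer (R' : Set G)) with hXN
  have hRN' : R' ≤ Q ⊓ Subgroup.normalizer (R' : Set G) := le_inf hRQ Subgroup.le_normalizer
  -- `XN` is a left transversal of `R'` in `N_Q(R')`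
  have hLT : bp_IsLT XN R' (Q ⊓ Subgroup.normalizer (R' : Set G)) := by
    refine ⟨hRN', ?_, ?_⟩
    · intro t ht
      rw [hXN, Finset.mem_filter] at ht
      exact ⟨hX.mem t ht.1, ht.2⟩
    · intro h hh
      obtain ⟨x, ⟨hxX, l, hl, k, hk, hlk⟩, huniq⟩ := hX.uniq h hh.1
      have hxn : x ∈ Subgroup.normalizer (R' : Set G) := by
        have : x = l⁻¹ * h * k⁻¹ := by rw [hlk]; group
        rw [this]
        exact Subgroup.mul_mem _ (Subgroup.mul_mem _
          (Subgroup.inv_mem _ (Subgroup.le_normalizer hl)) hh.2)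
          (Subgroup.inv_mem _ (Subgroup.le_normalizer hk))
      refine ⟨x, ⟨?_, ?_⟩, ?_⟩
      · rw [hXN, Finset.mem_filter]; exact ⟨hxX, hxn⟩
      · have h1 : x⁻¹ * h = (x⁻¹ * l * x) * k := by rw [hlk]; group
        rw [h1]
        have hxi : x⁻¹ ∈ Subgroup.normalizer (R' : Set G) := Subgroup.inv_mem _ hxn
        have h2 := (Subgroup.mem_normalizer_iff.1 hxi l).1 hl
        rw [inv_inv] at h2
        exact R'.mul_mem h2 hk
      · rintro t ⟨htX, hth⟩
        rw [hXN, Finset.mem_filter] at htX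
        apply huniq
        refine ⟨htX.1, 1, R'.one_mem, t⁻¹ * h, hth, ?_⟩
        group
  rw [bp_mackey hRQ hRQ hX ha, bp_lp_brFun_sum, bp_tr_eq_sum hLT ha, bp_lp_brFun_sum,
    ← Finset.sum_filter_add_sum_filter_not X (fun x => x ∈ Subgroup.normalizer (R' : Set G))]
  have h2 : ∑ x ∈ X.filter (fun x => ¬ x ∈ Subgroup.normalizer (R' : Set G)),
      bp_brFun R' (bp_tr (R' ⊓ R'.map (MulAut.conj x).toMonoidHom) R' (bp_conj x a)) = 0 := by
    apply Finset.sum_eq_zero
    intro x hx
    rw [Finset.mem_filter] at hx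
    have hlt : R' ⊓ R'.map (MulAut.conj x).toMonoidHom < R' :=
      lt_of_le_of_ne inf_le_left
        (fun h => hx.2 (bp_lp_mem_normalizer_of_le_map (inf_eq_left.1 h)))
    exact bp_brFun_tr_eq_zero hpR hR' hlt _
  rw [h2, add_zero]
  apply Finset.sum_congr rfl
  intro x hx
  rw [← hXN] at hx
  have hxn : x ∈ Subgroup.normalizer (R' : Set G) := by
    rw [hXN, Finset.mem_filter] at hx; exact hx.2
  have hmap := bp_lp_map_conj_of_mem_normalizer hxn
  have hfix : bp_conj x a ∈ bp_fix (R := R) R' := by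
    have := bp_conj_mem_fix x ha
    rw [hmap] at this
    exact this
  rw [hmap, inf_idem, bp_tr_self R' hfix]

end main

end Cfsg.Agent.BP
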