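import Mathlib
import Cfsg.Agent.BP.LocalPairB

/-!
# BP / L7, part C: abstract block data, the Puig step (CLAIM P)
-/

set_option autoImplicit false

namespace Cfsg.Agent.BP

open MonoidAlgebra

/-- abstract block data: for every subgroup `T` a finite set `blk T` of "block idempotents of
`R C_G(T)`" inside `RG`. -/
structure bp_BlockData (R : Type*) [CommRing R] [IsLocalRing R] (G : Type*) [Group G] (p : ℕ) where
  blk : Subgroup G → Set (MonoidAlgebra R G)
  fin : ∀ T : Subgroup G, (blk T).Finite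
  sum_one : ∀ T : Subgroup G, IsPGroup p T → ∑ e ∈ (fin T).toFinset, e = 1
  idem : ∀ (T : Subgroup G) (e : MonoidAlgebra R G), e ∈ blk T → IsIdempotentElem e
  supp : ∀ (T : Subgroup G) (e : MonoidAlgebra R G), e ∈ blk T →
    ∀ g, g ∉ Subgroup.centralizer (T : Set G) → e.coeff g = 0
  cent : ∀ (T : Subgroup G) (e : MonoidAlgebra R G), e ∈ blk T →
    e ∈ bp_fix (R := R) (Subgroup.centralizer (T : Set G))
  orth : ∀ (T : Subgroup G) (e e' : MonoidAlgebra R G), e ∈ blk T → e' ∈ blk T → e ≠ e' →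
    e * e' = 0
  conj : ∀ (T : Subgroup G) (e : MonoidAlgebra R G) (x : G), e ∈ blk T →
    bp_conj x e ∈ blk (T.map (MulAut.conj x).toMonoidHom)
  prim : ∀ (T : Subgroup G) (e : MonoidAlgebra R G), IsPGroup p T → e ∈ blk T →
    ∀ z : MonoidAlgebra (IsLocalRing.ResidueField R) (Subgroup.centralizer (T : Set G)),
      z * z = z → (∀ a, Commute z a) → z * bp_brFun T e = z → z = 0 ∨ z = bp_brFun T e

section helpers

variable {R : Type*} [CommRing R] {G : Type*} [Group G]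

/-- an element supported on `C_G(T)` and fixed by `C_G(T)` is fixed by `T`. -/
theorem bp_lp_fix_self_of_supp (T : Subgroup G) (e : MonoidAlgebra R G)
    (hs : ∀ g, g ∉ Subgroup.centralizer (T : Set G) → e.coeff g = 0) :
    e ∈ bp_fix (R := R) T := by
  rw [bp_mem_fix_iff]
  intro h hh g
  by_cases hg : g ∈ Subgroup.centralizer (T : Set G)
  · have := (Subgroup.mem_centralizer_iff.1 hg) h hh
    -- this : h * g = g * h
    have h2 : h * g * h⁻¹ = g := by rw [this]; group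
    rw [h2]
  · rw [hs g hg]
    apply hs
    intro hcon
    apply hg
    rw [Subgroup.mem_centralizer_iff] at hcon ⊢
    intro t ht
    have h1 := hcon (h * t * h⁻¹) (T.mul_mem (T.mul_mem hh ht) (T.inv_mem hh))
    -- h1 : h * t * h⁻¹ * (h * g * h⁻¹) = h * g * h⁻¹ * (h * t * h⁻¹)
    calc t * g = h⁻¹ * (h * t * h⁻¹ * (h * g * h⁻¹)) * h := by group
      _ = h⁻¹ * (h * g * h⁻¹ * (h * t * h⁻¹)) * h := by rw [h1]
      _ = g * t := by group

variable [Finite G]

/-- a relative trace inside `Q` of a `C`-fixed element is `C`-fixed when `C` centralizes `Q`. -/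
theorem bp_lp_tr_mem_fix_centralizer {C Q R' : Subgroup G} (hRQ : R' ≤ Q)
    (hCQ : C ≤ Subgroup.centralizer (Q : Set G)) {a : MonoidAlgebra R G}
    (ha : a ∈ bp_fix (R := R) C) : bp_tr R' Q a ∈ bp_fix (R := R) C := by
  intro c hc
  rw [bp_tr_apply, map_sum]
  apply Finset.sum_congr rfl
  intro t ht
  have htQ : t ∈ Q := (bp_transv_isLT hRQ).mem t ht
  have hcomm : t * c = c * t := (Subgroup.mem_centralizer_iff.1 (hCQ hc)) t htQ
  rw [← bp_conj_mul, ← hcomm, bp_conj_mul, ha c hc]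

omit [Finite G] in
/-- conjugation by an element normalizing `T` preserves `(RG)^T`. -/
theorem bp_lp_conj_mem_fix_normalizer {T : Subgroup G} {y : G}
    (hy : y ∈ Subgroup.normalizer (T : Set G)) {a : MonoidAlgebra R G}
    (ha : a ∈ bp_fix (R := R) T) : bp_conj y a ∈ bp_fix (R := R) T := by
  have := bp_conj_mem_fix y ha
  rw [bp_lp_map_conj_of_mem_normalizer hy] at this
  exact this

end helpers

section orth

/-- a finite sum of pairwise orthogonal idempotents is an idempotent absorbing each summand -/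
theorem bp_lp_sum_orth_idem {Λ ι : Type*} [Ring Λ] [DecidableEq ι] (Y : Finset ι) (ε : ι → Λ)
    (h1 : ∀ y ∈ Y, ε y * ε y = ε y) (h2 : ∀ y ∈ Y, ∀ y' ∈ Y, y ≠ y' → ε y * ε y' = 0) :
    IsIdempotentElem (∑ y ∈ Y, ε y) ∧ ∀ y₁ ∈ Y, (∑ y ∈ Y, ε y) * ε y₁ = ε y₁ := by
  have habs : ∀ y₁ ∈ Y, (∑ y ∈ Y, ε y) * ε y₁ = ε y₁ := by
    intro y₁ hy₁
    rw [Finset.sum_mul, Finset.sum_eq_single y₁]
    · exact h1 y₁ hy₁
    · intro y hy hne
      exact h2 y hy y₁ hy₁ hne
    · intro h; exact absurd hy₁ h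
  refine ⟨?_, habs⟩
  unfold IsIdempotentElem
  rw [Finset.mul_sum]
  exact Finset.sum_congr rfl habs

end orth

section main

variable {R : Type*} [CommRing R] [IsLocalRing R] [SplitMonic R] {G : Type*} [Group G] [Finite G]
  {p : ℕ} [Fact p.Prime]

/-- LEMMA D: a primitive idempotent `κ` of `(RG)^{N × C}` which is not killed by `br_{R'}`
(`R' ⊴ N`) but is killed by `br_T` for all `R' < T ≤ N` is a relative trace from `R'`. -/
theorem bp_lp_tr_of_br_zero (hpR : (p : R) ∈ IsLocalRing.maximalIdeal R) (C N R' : Subgroup G)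
    (hN : IsPGroup p N) (hC : (Nat.card C).Coprime p)
    (hCN : C ≤ Subgroup.centralizer (N : Set G)) (hRN : R' ≤ N)
    (hnorm : N ≤ Subgroup.normalizer (R' : Set G)) (κ : MonoidAlgebra R G)
    (hκ : bp_IsPrimFix (R := R) (N ⊔ C) κ) (hbr : bp_brFun R' κ ≠ 0)
    (hz : ∀ T : Subgroup G, R' < T → T ≤ N → bp_brFun T κ = 0) :
    ∃ a' ∈ bp_fix (R := R) (R' ⊔ C), bp_tr R' N a' = κ := by
  classical
  let 𝒮 : Set (Subgroup G) :=
    {S | S ≤ N ∧ ∃ a ∈ bp_fix (R := R) (S ⊔ C), bp_tr S N a = κ}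
  have hκN : κ ∈ bp_fix (R := R) N := bp_fix_mono le_sup_left hκ.1
  have hN𝒮 : N ∈ 𝒮 := ⟨le_rfl, κ, hκ.1, bp_tr_self N hκN⟩
  obtain ⟨S, hS, hmin⟩ := WellFounded.has_min (wellFounded_lt (α := Subgroup G)) 𝒮 ⟨N, hN𝒮⟩
  obtain ⟨hSN, a, ha, hta⟩ := hS
  have hloc : bp_brFun S κ ≠ 0 := by
    apply bp_defect_local hpR hN hC hCN hSN κ hκ ⟨a, ha, hta⟩
    intro S' hS' hex
    exact hmin S' ⟨hS'.le.trans hSN, hex⟩ hS'
  have haS : a ∈ bp_fix (R := R) S := bp_fix_mono le_sup_left ha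
  have hbr' : bp_brFun R' (bp_tr S N a) ≠ 0 := by rw [hta]; exact hbr
  obtain ⟨x, hxN, hx⟩ := bp_defect_contains hpR hSN hRN (hN.to_le hRN) haS hbr'
  have hRS : R' ≤ S := by
    intro r hr
    have hxn : x ∈ Subgroup.normalizer (R' : Set G) := hnorm hxN
    have h1 : x * r * x⁻¹ ∈ R' := (Subgroup.mem_normalizer_iff.1 hxn r).1 hr
    have h2 := hx h1
    rw [bp_mem_map_conj] at h2
    have : x⁻¹ * (x * r * x⁻¹) * x = r := by group
    rw [this] at h2
    exact h2
  rcases lt_or_eq_of_le hRS with hlt | heq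
  · exact absurd (hz S hlt hSN) hloc
  · subst heq
    exact ⟨a, ha, hta⟩

end main

end Cfsg.Agent.BP
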