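import Mathlib
import Cfsg.Agent.BP.LocalPairC

/-!
# BP / L7, part D: the Puig step (CLAIM P)

`ι` a primitive idempotent of `(RG)^{Q × C}` with `br_Q ι ≠ 0`, `R' < Q`, `e` a block idempotent of
`R C_G(R')` with `br_{R'}(ι) br_{R'}(e) ≠ 0`.  Then there is `T`, `R' < T ≤ N_Q(R')`, stabilizing `e`,
with `br_T(ι) br_T(e) ≠ 0`.
-/

set_option autoImplicit false

namespace Cfsg.Agent.BP

open MonoidAlgebra

variable {R : Type*} [CommRing R] [IsLocalRing R] [SplitMonic R] {G : Type*} [Group G] [Finite G]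
  {p : ℕ} [Fact p.Prime]

set_option maxHeartbeats 1000000 in
theorem bp_lp_claimP (𝔅 : bp_BlockData R G p) (hpR : (p : R) ∈ IsLocalRing.maximalIdeal R)
    (C Q R' : Subgroup G) (hQ : IsPGroup p Q) (hC : (Nat.card C).Coprime p)
    (hCQ : C ≤ Subgroup.centralizer (Q : Set G)) (ι : MonoidAlgebra R G)
    (hι : bp_IsPrimFix (R := R) (Q ⊔ C) ι) (hloc : bp_brFun Q ι ≠ 0) (hRQ : R' < Q)
    (e : MonoidAlgebra R G) (he : e ∈ 𝔅.blk R') (hne : bp_brFun R' ι * bp_brFun R' e ≠ 0) :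
    ∃ T : Subgroup G, R' < T ∧ T ≤ Q ∧ T ≤ Subgroup.normalizer (R' : Set G) ∧
      e ∈ bp_fix (R := R) T ∧ bp_brFun T ι * bp_brFun T e ≠ 0 := by
  classical
  by_contra hcon
  push Not at hcon
  have hfinQ := bp_fix_finite (R := R) (G := G) (Q ⊔ C)
  set N : Subgroup G := Q ⊓ Subgroup.normalizer (R' : Set G) ⊓ bp_stab e with hNdef
  have hNQ : N ≤ Q := inf_le_left.trans inf_le_left
  have hNn : N ≤ Subgroup.normalizer (R' : Set G) := inf_le_left.trans inf_le_right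
  have heN : e ∈ bp_fix (R := R) N := (bp_mem_fix_iff_le_stab N e).2 inf_le_right
  have heR : e ∈ bp_fix (R := R) R' := bp_lp_fix_self_of_supp R' e (𝔅.supp R' e he)
  have hRN : R' ≤ N :=
    le_inf (le_inf hRQ.le Subgroup.le_normalizer) ((bp_mem_fix_iff_le_stab R' e).1 heR)
  have hNp : IsPGroup p N := hQ.to_le hNQ
  have hRp : IsPGroup p R' := hQ.to_le hRQ.le
  have hCN : C ≤ Subgroup.centralizer (N : Set G) := hCQ.trans (Subgroup.centralizer_le hNQ)
  have hCR : C ≤ Subgroup.centralizer (R' : Set G) :=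
    hCQ.trans (Subgroup.centralizer_le hRQ.le)
  have heC : e ∈ bp_fix (R := R) C := bp_fix_mono hCR (𝔅.cent R' e he)
  have heNC : e ∈ bp_fix (R := R) (N ⊔ C) := by rw [bp_fix_sup]; exact ⟨heN, heC⟩
  have hιQC : ι ∈ bp_fix (R := R) (Q ⊔ C) := hι.1
  have hιN : ι ∈ bp_fix (R := R) (N ⊔ C) := bp_fix_mono (sup_le_sup_right hNQ C) hιQC
  have hιid : IsIdempotentElem ι := hι.2.1
  -- Step 1: a primitive constituent `k` of `ι` in `(RG)^{N × C}` inside the block `e`
  have hfinN := bp_fix_finite (R := R) (G := G) (N ⊔ C)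
  obtain ⟨n, κ, hκprim, hκorth, hκsum⟩ :=
    bp_exists_prim_decomp R (⟨ι, hιN⟩ : bp_fix (R := R) (N ⊔ C)) (Subtype.ext hιid)
  have hne' : bp_lp_brH hpR R' hRp (N ⊔ C) (hRN.trans le_sup_left) ⟨ι, hιN⟩ *
      bp_lp_brH hpR R' hRp (N ⊔ C) (hRN.trans le_sup_left) ⟨e, heNC⟩ ≠ 0 := hne
  rw [← hκsum, map_sum, Finset.sum_mul] at hne'
  obtain ⟨a, -, hane⟩ := Finset.exists_ne_zero_of_sum_ne_zero hne'
  have heid : IsIdempotentElem (⟨e, heNC⟩ : bp_fix (R := R) (N ⊔ C)) :=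
    Subtype.ext (𝔅.idem R' e he)
  have hcomm : Commute (bp_lp_brH hpR R' hRp (N ⊔ C) (hRN.trans le_sup_left) (κ a))
      (bp_lp_brH hpR R' hRp (N ⊔ C) (hRN.trans le_sup_left) ⟨e, heNC⟩) :=
    (bp_lp_brFun_central R' e (𝔅.cent R' e he) _).symm
  have habs := bp_lp_absorb (bp_lp_brH hpR R' hRp (N ⊔ C) (hRN.trans le_sup_left))
    (bp_lp_brH_mG hpR R' hRp (N ⊔ C) _) (κ a) ⟨e, heNC⟩ (hκprim a) heid hcomm hane
  obtain ⟨k, hkdef⟩ : ∃ k : MonoidAlgebra R G, k = (κ a : MonoidAlgebra R G) := ⟨_, rfl⟩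
  have hkNC : k ∈ bp_fix (R := R) (N ⊔ C) := by rw [hkdef]; exact (κ a).2
  have hk1 : bp_brFun R' k * bp_brFun R' e = bp_brFun R' k := by rw [hkdef]; exact habs
  have hkprim : bp_IsPrimFix (R := R) (N ⊔ C) k := by
    rw [hkdef]; exact (bp_isPrimFix_iff _ _).2 ⟨(κ a).2, hκprim a⟩
  have hkid : IsIdempotentElem k := hkprim.2.1
  have hbrk : bp_brFun R' k ≠ 0 := by
    intro h
    apply hane
    have : bp_lp_brH hpR R' hRp (N ⊔ C) (hRN.trans le_sup_left) (κ a) = bp_brFun R' k := by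
      rw [hkdef]; rfl
    rw [this, h, zero_mul]
  have hkι : k * ι = k := by
    have h1 : κ a * ∑ i, κ i = κ a := by
      rw [Finset.mul_sum, Finset.sum_eq_single a]
      · exact (hκprim a).1.eq
      · intro b _ hb
        exact hκorth a b (Ne.symm hb)
      · intro h; exact absurd (Finset.mem_univ a) h
    rw [hκsum] at h1
    have := congrArg Subtype.val h1
    rw [hkdef]
    exact this
  have hιk : ι * k = k := by
    have h1 : (∑ i, κ i) * κ a = κ a := by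
      rw [Finset.sum_mul, Finset.sum_eq_single a]
      · exact (hκprim a).1.eq
      · intro b _ hb
        exact hκorth b a hb
      · intro h; exact absurd (Finset.mem_univ a) h
    rw [hκsum] at h1
    have := congrArg Subtype.val h1
    rw [hkdef]
    exact this
  have hkR : k ∈ bp_fix (R := R) R' := bp_fix_mono (hRN.trans le_sup_left) hkNC
  have hkek : bp_brFun R' (k - k * e) = 0 := by
    rw [bp_lp_brFun_sub, bp_lp_brFun_mul_fix hpR R' hRp hkR heR, hk1, sub_self]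
  have hkek' : bp_brFun R' (k - e * k) = 0 := by
    rw [bp_lp_brFun_sub, bp_lp_brFun_mul_fix hpR R' hRp heR hkR,
      (bp_lp_brFun_central R' e (𝔅.cent R' e he) (bp_brFun R' k)).eq, hk1, sub_self]
  -- Step 2: `k` is killed by `br_T` for `R' < T ≤ N`
  have hz : ∀ T : Subgroup G, R' < T → T ≤ N → bp_brFun T k = 0 := by
    intro T hRT hTN
    have hTp : IsPGroup p T := hNp.to_le hTN
    have heT : e ∈ bp_fix (R := R) T := bp_fix_mono hTN heN
    have hkT : k ∈ bp_fix (R := R) T := bp_fix_mono (hTN.trans le_sup_left) hkNC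
    have hιT : ι ∈ bp_fix (R := R) T := bp_fix_mono (hTN.trans le_sup_left) hιN
    have h0 := hcon T hRT (hTN.trans hNQ) (hTN.trans hNn) heT
    have h2 : bp_brFun T (k - k * e) = 0 := bp_lp_brFun_eq_zero_of_le hRT.le _ hkek
    have h3 : bp_brFun T (k * e) = 0 := by
      have : k * e = k * (ι * e) := by rw [← mul_assoc, hkι]
      rw [this, bp_lp_brFun_mul_fix hpR T hTp hkT ((bp_fix T).mul_mem hιT heT),
        bp_lp_brFun_mul_fix hpR T hTp hιT heT, h0, mul_zero]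
    have : k = (k - k * e) + k * e := by abel
    rw [this, bp_brFun_add, h2, h3, add_zero]
  -- Step 3: `k` is a trace from `R'`
  obtain ⟨a', ha', hta'⟩ :=
    bp_lp_tr_of_br_zero hpR C N R' hNp hC hCN hRN hNn k hkprim hbrk hz
  have hkN : k ∈ bp_fix (R := R) N := bp_fix_mono le_sup_left hkNC
  have hkRC : k ∈ bp_fix (R := R) (R' ⊔ C) := bp_fix_mono (sup_le_sup_right hRN C) hkNC
  obtain ⟨a'', ha''def⟩ : ∃ a'' : MonoidAlgebra R G, a'' = k * a' * k := ⟨_, rfl⟩
  have hta'' : bp_tr R' N a'' = k := by rw [ha''def]; exact bp_higman hRN hkN hkid hta'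
  have ha''RC : a'' ∈ bp_fix (R := R) (R' ⊔ C) := by
    rw [ha''def]
    exact (bp_fix _).mul_mem ((bp_fix _).mul_mem hkRC ha') hkRC
  have ha''R : a'' ∈ bp_fix (R := R) R' := bp_fix_mono le_sup_left ha''RC
  have ha''C : a'' ∈ bp_fix (R := R) C := bp_fix_mono le_sup_right ha''RC
  have hιa'' : ι * a'' * ι = a'' := by
    rw [ha''def]
    calc ι * (k * a' * k) * ι = (ι * k) * a' * (k * ι) := by simp only [mul_assoc]
      _ = k * a' * k := by rw [hιk, hkι]
  -- Step 4: `c = Tr_{R'}^Q a''` is a non-unit of the corner of `ι`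
  obtain ⟨c, hcdef⟩ : ∃ c : MonoidAlgebra R G, c = bp_tr R' Q a'' := ⟨_, rfl⟩
  have hcQ : c ∈ bp_fix (R := R) Q := by rw [hcdef]; exact bp_tr_mem hRQ.le ha''R
  have hcC : c ∈ bp_fix (R := R) C := by
    rw [hcdef]; exact bp_lp_tr_mem_fix_centralizer hRQ.le hCQ ha''C
  have hcQC : c ∈ bp_fix (R := R) (Q ⊔ C) := by rw [bp_fix_sup]; exact ⟨hcQ, hcC⟩
  have hιQ : ι ∈ bp_fix (R := R) Q := bp_fix_mono le_sup_left hιQC
  have hcorner : ι * c * ι = c := by
    rw [hcdef]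
    calc ι * bp_tr R' Q a'' * ι = bp_tr R' Q (ι * a'') * ι := by
          rw [bp_tr_mul_left hRQ.le hιQ]
      _ = bp_tr R' Q (ι * a'' * ι) := by rw [bp_tr_mul_right hRQ.le hιQ]
      _ = bp_tr R' Q a'' := by rw [hιa'']
  have hιprimQ : bp_IsPrim (⟨ι, hιQC⟩ : bp_fix (R := R) (Q ⊔ C)) := by
    obtain ⟨_, hp⟩ := (bp_isPrimFix_iff _ _).1 hι
    exact hp
  have hβQc : bp_lp_brH hpR Q hQ (Q ⊔ C) le_sup_left ⟨c, hcQC⟩ = 0 := by
    rw [bp_lp_brH_apply]
    change bp_brFun Q c = 0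
    rw [hcdef]
    exact bp_brFun_tr_eq_zero hpR hQ hRQ a''
  have hnotunit : ¬ bp_CornerUnit (⟨ι, hιQC⟩ : bp_fix (R := R) (Q ⊔ C)) ⟨c, hcQC⟩ := by
    intro hu
    have h := bp_lp_image_eq_zero_of_unit (bp_lp_brH hpR Q hQ (Q ⊔ C) le_sup_left) _ _ hu hβQc
    rw [bp_lp_brH_apply] at h
    exact hloc h
  rcases bp_prim_dichotomy (R := R) (⟨ι, hιQC⟩ : bp_fix (R := R) (Q ⊔ C)) ⟨c, hcQC⟩ hιprimQ
    (Subtype.ext hcorner) with hu | ⟨M, hM, hs⟩
  · exact hnotunit hu
  · have hpow : (bp_brFun R' c) ^ M = 0 := by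
      have h1 := bp_lp_brH_mG hpR R' hRp (Q ⊔ C) (hRQ.le.trans le_sup_left) _ hs
      rw [map_pow] at h1
      exact h1
    -- Step 5: `br_{R'} c` is a non-zero idempotent
    have hNN' : N ≤ Q ⊓ Subgroup.normalizer (R' : Set G) := inf_le_left
    have hz1 : bp_brFun R' c =
        ∑ y ∈ bp_transv N (Q ⊓ Subgroup.normalizer (R' : Set G)), bp_brFun R' (bp_conj y k) := by
      rw [hcdef, bp_lp_br_tr_normalizer hpR hRQ.le hRp ha''R, ← bp_tr_trans hRN hNN' ha''R, hta'',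
        bp_tr_apply, bp_lp_brFun_sum]
    have hY := bp_transv_isLT (G := G) hNN'
    have hYn : ∀ y ∈ bp_transv N (Q ⊓ Subgroup.normalizer (R' : Set G)),
        y ∈ Subgroup.normalizer (R' : Set G) := fun y hy => (hY.mem y hy).2
    have hfixk : ∀ y ∈ bp_transv N (Q ⊓ Subgroup.normalizer (R' : Set G)),
        bp_conj y k ∈ bp_fix (R := R) R' :=
      fun y hy => bp_lp_conj_mem_fix_normalizer (hYn y hy) hkR
    have hfixe : ∀ y ∈ bp_transv N (Q ⊓ Subgroup.normalizer (R' : Set G)),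
        bp_conj y e ∈ bp_fix (R := R) R' :=
      fun y hy => bp_lp_conj_mem_fix_normalizer (hYn y hy) heR
    have h1 : ∀ y ∈ bp_transv N (Q ⊓ Subgroup.normalizer (R' : Set G)),
        bp_brFun R' (bp_conj y k) * bp_brFun R' (bp_conj y k) = bp_brFun R' (bp_conj y k) := by
      intro y hy
      rw [← bp_lp_brFun_mul_fix hpR R' hRp (hfixk y hy) (hfixk y hy), ← map_mul, hkid.eq]
    have hr : ∀ y ∈ bp_transv N (Q ⊓ Subgroup.normalizer (R' : Set G)),
        bp_brFun R' (bp_conj y k) = bp_brFun R' (bp_conj y k) * bp_brFun R' (bp_conj y e) := by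
      intro y hy
      have := bp_lp_brFun_conj_eq_zero (hYn y hy) _ hkek
      rw [map_sub, map_mul, bp_lp_brFun_sub,
        bp_lp_brFun_mul_fix hpR R' hRp (hfixk y hy) (hfixe y hy), sub_eq_zero] at this
      exact this
    have hl : ∀ y ∈ bp_transv N (Q ⊓ Subgroup.normalizer (R' : Set G)),
        bp_brFun R' (bp_conj y k) = bp_brFun R' (bp_conj y e) * bp_brFun R' (bp_conj y k) := by
      intro y hy
      have := bp_lp_brFun_conj_eq_zero (hYn y hy) _ hkek'
      rw [map_sub, map_mul, bp_lp_brFun_sub,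
        bp_lp_brFun_mul_fix hpR R' hRp (hfixe y hy) (hfixk y hy), sub_eq_zero] at this
      exact this
    have h2 : ∀ y ∈ bp_transv N (Q ⊓ Subgroup.normalizer (R' : Set G)),
        ∀ y' ∈ bp_transv N (Q ⊓ Subgroup.normalizer (R' : Set G)), y ≠ y' →
        bp_brFun R' (bp_conj y k) * bp_brFun R' (bp_conj y' k) = 0 := by
      intro y hy y' hy' hyy'
      have hg' : y⁻¹ * y' ∈ Q ⊓ Subgroup.normalizer (R' : Set G) :=
        Subgroup.mul_mem _ (Subgroup.inv_mem _ (hY.mem y hy)) (hY.mem y' hy')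
      have hgN : y⁻¹ * y' ∉ N := fun h => hyy' (hY.eq_of_mem hy hy' h)
      have hgstab : y⁻¹ * y' ∉ bp_stab e := fun h => hgN ⟨hg', h⟩
      have hgne : bp_conj (y⁻¹ * y') e ≠ e := hgstab
      have hgblk : bp_conj (y⁻¹ * y') e ∈ 𝔅.blk R' := by
        have := 𝔅.conj R' e (y⁻¹ * y') he
        rw [bp_lp_map_conj_of_mem_normalizer hg'.2] at this
        exact this
      have horth : e * bp_conj (y⁻¹ * y') e = 0 := 𝔅.orth R' e _ he hgblk (Ne.symm hgne)
      have hzero : bp_conj y e * bp_conj y' e = 0 := by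
        have h5 := congrArg (bp_conj (R := R) y) horth
        rw [map_mul, map_zero, ← bp_conj_mul, mul_inv_cancel_left] at h5
        exact h5
      rw [hr y hy, hl y' hy', mul_assoc, ← mul_assoc (bp_brFun R' (bp_conj y e)),
        ← bp_lp_brFun_mul_fix hpR R' hRp (hfixe y hy) (hfixe y' hy'), hzero, bp_brFun_zero, zero_mul,
        mul_zero]
    obtain ⟨hid, habs'⟩ := bp_lp_sum_orth_idem
      (bp_transv N (Q ⊓ Subgroup.normalizer (R' : Set G)))
      (fun y => bp_brFun R' (bp_conj y k)) h1 h2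
    obtain ⟨t, ⟨htY, -⟩, -⟩ := hY.uniq 1 (Subgroup.one_mem _)
    have htne : bp_brFun R' (bp_conj t k) ≠ 0 := by
      intro h
      have htn : t⁻¹ ∈ Subgroup.normalizer (R' : Set G) := Subgroup.inv_mem _ (hYn t htY)
      have := bp_lp_brFun_conj_eq_zero htn _ h
      rw [bp_conj_inv_conj] at this
      exact hbrk this
    rw [hz1] at hpow
    have hzero := bp_lp_idem_nilpotent _ hid M hM hpow
    have := habs' t htY
    rw [hzero, zero_mul] at this
    exact htne this.symm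

end Cfsg.Agent.BP
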