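import Mathlib
import Cfsg.Agent.BP.LocalPairD

/-!
# BP / L7: the Brauer pairs of a local idempotent (abstract form)

`𝔅 : bp_BlockData R G p` abstract block data; `ι` a primitive idempotent of `(RG)^{Q × C}` with
`br_Q ι ≠ 0` (`ι` is *local at `Q`*).

* `bp_NStep 𝔅 (R', e) (T, f)` : the abstract normal step `(R', e) ⊴ (T, f)`;
* `bp_lp_top`   : there is exactly one `g ∈ blk Q` with `br_Q ι * br_Q g ≠ 0`, and it absorbs;
* `bp_lp_chain` : every `(R', e)`, `R' ≤ Q`, with `br_{R'} ι * br_{R'} e ≠ 0` is joined to `(Q, g)`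
  by a chain of normal steps;
* `bp_lp_local_block` : if the chains below `(Q, g)` determine the block at `R'` (uniqueness of
  subpairs), then `br_{R'} ι = br_{R'} ι * br_{R'} e` for THE subpair `(R', e)` of `(Q, g)`.
-/

set_option autoImplicit false

namespace Cfsg.Agent.BP

open MonoidAlgebra

variable {R : Type*} [CommRing R] [IsLocalRing R] [SplitMonic R] {G : Type*} [Group G] [Finite G]
  {p : ℕ} [Fact p.Prime]

/-- the abstract normal step `(R', e) ⊴ (T, f)` between pairs -/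
def bp_NStep (𝔅 : bp_BlockData R G p) (a b : Subgroup G × MonoidAlgebra R G) : Prop :=
  a.1 ≤ b.1 ∧ b.1 ≤ Subgroup.normalizer (a.1 : Set G) ∧ IsPGroup p b.1 ∧ a.2 ∈ 𝔅.blk a.1 ∧
    b.2 ∈ 𝔅.blk b.1 ∧ a.2 ∈ bp_fix (R := R) b.1 ∧
    bp_brFun b.1 b.2 * bp_brFun b.1 a.2 = bp_brFun b.1 b.2

theorem bp_lp_nstep_iff (𝔅 : bp_BlockData R G p) (R' T : Subgroup G) (e f : MonoidAlgebra R G) :
    bp_NStep 𝔅 (R', e) (T, f) ↔
      R' ≤ T ∧ T ≤ Subgroup.normalizer (R' : Set G) ∧ IsPGroup p T ∧ e ∈ 𝔅.blk R' ∧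
        f ∈ 𝔅.blk T ∧ e ∈ bp_fix (R := R) T ∧ bp_brFun T f * bp_brFun T e = bp_brFun T f :=
  Iff.rfl

/-- a block idempotent at `T` is fixed by `T` -/
theorem bp_lp_blk_fix (𝔅 : bp_BlockData R G p) (T : Subgroup G) (e : MonoidAlgebra R G)
    (he : e ∈ 𝔅.blk T) : e ∈ bp_fix (R := R) T :=
  bp_lp_fix_self_of_supp T e (𝔅.supp T e he)

/-- EXISTENCE: an element not killed by `br_T` is not killed by some block at `T`. -/
theorem bp_lp_exists_block (𝔅 : bp_BlockData R G p) (hpR : (p : R) ∈ IsLocalRing.maximalIdeal R)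
    (T : Subgroup G) (hT : IsPGroup p T) (a : MonoidAlgebra R G) (ha : a ∈ bp_fix (R := R) T)
    (hne : bp_brFun T a ≠ 0) : ∃ e ∈ 𝔅.blk T, bp_brFun T a * bp_brFun T e ≠ 0 := by
  classical
  by_contra hcon
  push Not at hcon
  apply hne
  have h1 : bp_brFun T a = ∑ e ∈ (𝔅.fin T).toFinset, bp_brFun T (a * e) := by
    rw [← bp_lp_brFun_sum, ← Finset.mul_sum, 𝔅.sum_one T hT, mul_one]
  rw [h1]
  apply Finset.sum_eq_zero
  intro e he
  have he' : e ∈ 𝔅.blk T := (𝔅.fin T).mem_toFinset.1 he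
  rw [bp_lp_brFun_mul_fix hpR T hT ha (bp_lp_blk_fix 𝔅 T e he')]
  exact hcon e he'

/-- the decomposition `br_T a = ∑_e br_T a * br_T e` -/
theorem bp_lp_br_eq_sum (𝔅 : bp_BlockData R G p) (hpR : (p : R) ∈ IsLocalRing.maximalIdeal R)
    (T : Subgroup G) (hT : IsPGroup p T) (a : MonoidAlgebra R G) (ha : a ∈ bp_fix (R := R) T) :
    bp_brFun T a = ∑ e ∈ (𝔅.fin T).toFinset, bp_brFun T a * bp_brFun T e := by
  have h1 : bp_brFun T a = ∑ e ∈ (𝔅.fin T).toFinset, bp_brFun T (a * e) := by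
    rw [← bp_lp_brFun_sum, ← Finset.mul_sum, 𝔅.sum_one T hT, mul_one]
  refine h1.trans (Finset.sum_congr rfl fun e he => ?_)
  have he' : e ∈ 𝔅.blk T := (𝔅.fin T).mem_toFinset.1 he
  rw [bp_lp_brFun_mul_fix hpR T hT ha (bp_lp_blk_fix 𝔅 T e he')]

/-- L7.0 at the top: the block of a local idempotent. -/
theorem bp_lp_top (𝔅 : bp_BlockData R G p) (hpR : (p : R) ∈ IsLocalRing.maximalIdeal R)
    (C Q : Subgroup G) (hQ : IsPGroup p Q) (hCQ : C ≤ Subgroup.centralizer (Q : Set G))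
    (ι : MonoidAlgebra R G) (hι : bp_IsPrimFix (R := R) (Q ⊔ C) ι) (hloc : bp_brFun Q ι ≠ 0) :
    ∃ g ∈ 𝔅.blk Q, bp_brFun Q ι * bp_brFun Q g = bp_brFun Q ι ∧
      ∀ g' ∈ 𝔅.blk Q, bp_brFun Q ι * bp_brFun Q g' ≠ 0 → g' = g := by
  classical
  have hfinQ := bp_fix_finite (R := R) (G := G) (Q ⊔ C)
  obtain ⟨hιQC, hιprim⟩ := (bp_isPrimFix_iff _ _).1 hι
  have hιQ : ι ∈ bp_fix (R := R) Q := bp_fix_mono le_sup_left hιQC
  have habsorb : ∀ g ∈ 𝔅.blk Q, bp_brFun Q ι * bp_brFun Q g ≠ 0 →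
      bp_brFun Q ι * bp_brFun Q g = bp_brFun Q ι := by
    intro g hg hne
    have hgQ : g ∈ bp_fix (R := R) Q := bp_lp_blk_fix 𝔅 Q g hg
    have hgC : g ∈ bp_fix (R := R) C := bp_fix_mono hCQ (𝔅.cent Q g hg)
    have hgQC : g ∈ bp_fix (R := R) (Q ⊔ C) := by rw [bp_fix_sup]; exact ⟨hgQ, hgC⟩
    have hcomm : Commute (bp_lp_brH hpR Q hQ (Q ⊔ C) le_sup_left ⟨ι, hιQC⟩)
        (bp_lp_brH hpR Q hQ (Q ⊔ C) le_sup_left ⟨g, hgQC⟩) :=
      (bp_lp_brFun_central Q g (𝔅.cent Q g hg) _).symm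
    have hne' : bp_lp_brH hpR Q hQ (Q ⊔ C) le_sup_left ⟨ι, hιQC⟩ *
        bp_lp_brH hpR Q hQ (Q ⊔ C) le_sup_left ⟨g, hgQC⟩ ≠ 0 := hne
    exact bp_lp_absorb (bp_lp_brH hpR Q hQ (Q ⊔ C) le_sup_left) (bp_lp_brH_mG hpR Q hQ (Q ⊔ C) _)
      ⟨ι, hιQC⟩ ⟨g, hgQC⟩ hιprim (Subtype.ext (𝔅.idem Q g hg)) hcomm hne'
  obtain ⟨g, hg, hgne⟩ := bp_lp_exists_block 𝔅 hpR Q hQ ι hιQ hloc
  refine ⟨g, hg, habsorb g hg hgne, ?_⟩
  intro g' hg' hne'
  by_contra hgg'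
  have h1 := habsorb g hg hgne
  have h2 := habsorb g' hg' hne'
  apply hloc
  calc bp_brFun Q ι = bp_brFun Q ι * bp_brFun Q g := h1.symm
    _ = (bp_brFun Q ι * bp_brFun Q g') * bp_brFun Q g := by rw [h2]
    _ = bp_brFun Q ι * (bp_brFun Q g' * bp_brFun Q g) := mul_assoc _ _ _
    _ = bp_brFun Q ι * bp_brFun Q (g' * g) := by
      rw [bp_lp_brFun_mul_fix hpR Q hQ (bp_lp_blk_fix 𝔅 Q g' hg') (bp_lp_blk_fix 𝔅 Q g hg)]
    _ = 0 := by rw [𝔅.orth Q g' g hg' hg hgg', bp_brFun_zero, mul_zero]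

/-- one step up: if `e ∈ blk R'` is `T`-stable (`R' ≤ T`) and `br_T ι * br_T e ≠ 0`, there is a block
`f'` at `T` covering `e` with `br_T ι * br_T f' ≠ 0`. -/
theorem bp_lp_step (𝔅 : bp_BlockData R G p) (hpR : (p : R) ∈ IsLocalRing.maximalIdeal R)
    (T : Subgroup G) (hT : IsPGroup p T) (R' : Subgroup G) (hRT : R' ≤ T)
    (ι e : MonoidAlgebra R G) (hιT : ι ∈ bp_fix (R := R) T) (he : e ∈ 𝔅.blk R')
    (heT : e ∈ bp_fix (R := R) T) (hne : bp_brFun T ι * bp_brFun T e ≠ 0) :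
    ∃ f' ∈ 𝔅.blk T, bp_brFun T f' * bp_brFun T e = bp_brFun T f' ∧
      bp_brFun T ι * bp_brFun T f' ≠ 0 := by
  have hιe : ι * e ∈ bp_fix (R := R) T := (bp_fix T).mul_mem hιT heT
  have hne' : bp_brFun T (ι * e) ≠ 0 := by
    rw [bp_lp_brFun_mul_fix hpR T hT hιT heT]; exact hne
  obtain ⟨f', hf', hf'ne⟩ := bp_lp_exists_block 𝔅 hpR T hT (ι * e) hιe hne'
  have hf'T : f' ∈ bp_fix (R := R) T := bp_lp_blk_fix 𝔅 T f' hf'
  have hecent : e ∈ bp_fix (R := R) (Subgroup.centralizer (T : Set G)) :=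
    bp_fix_mono (Subgroup.centralizer_le hRT) (𝔅.cent R' e he)
  have hce := bp_lp_brFun_central T e hecent
  have hcf := bp_lp_brFun_central T f' (𝔅.cent T f' hf')
  have hide : bp_brFun T e * bp_brFun T e = bp_brFun T e := by
    rw [← bp_lp_brFun_mul_fix hpR T hT heT heT, (𝔅.idem R' e he).eq]
  have hidf : bp_brFun T f' * bp_brFun T f' = bp_brFun T f' := by
    rw [← bp_lp_brFun_mul_fix hpR T hT hf'T hf'T, (𝔅.idem T f' hf').eq]
  have hzz : (bp_brFun T f' * bp_brFun T e) * (bp_brFun T f' * bp_brFun T e) =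
      bp_brFun T f' * bp_brFun T e := by
    calc (bp_brFun T f' * bp_brFun T e) * (bp_brFun T f' * bp_brFun T e)
        = bp_brFun T f' * (bp_brFun T e * bp_brFun T f') * bp_brFun T e := by
          simp only [mul_assoc]
      _ = bp_brFun T f' * (bp_brFun T f' * bp_brFun T e) * bp_brFun T e := by
          rw [(hce (bp_brFun T f')).eq]
      _ = (bp_brFun T f' * bp_brFun T f') * (bp_brFun T e * bp_brFun T e) := by
          simp only [mul_assoc]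
      _ = bp_brFun T f' * bp_brFun T e := by rw [hidf, hide]
  have hzc : ∀ a, Commute (bp_brFun T f' * bp_brFun T e) a := fun a => (hcf a).mul_left (hce a)
  have hzf : (bp_brFun T f' * bp_brFun T e) * bp_brFun T f' = bp_brFun T f' * bp_brFun T e := by
    calc (bp_brFun T f' * bp_brFun T e) * bp_brFun T f'
        = bp_brFun T f' * (bp_brFun T e * bp_brFun T f') := mul_assoc _ _ _
      _ = bp_brFun T f' * (bp_brFun T f' * bp_brFun T e) := by rw [(hce (bp_brFun T f')).eq]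
      _ = (bp_brFun T f' * bp_brFun T f') * bp_brFun T e := (mul_assoc _ _ _).symm
      _ = bp_brFun T f' * bp_brFun T e := by rw [hidf]
  have hexp : bp_brFun T (ι * e) * bp_brFun T f' =
      bp_brFun T ι * (bp_brFun T f' * bp_brFun T e) := by
    rw [bp_lp_brFun_mul_fix hpR T hT hιT heT, mul_assoc, (hce (bp_brFun T f')).eq]
  rcases 𝔅.prim T f' hT hf' _ hzz hzc hzf with h0 | h1
  · exfalso
    apply hf'ne
    rw [hexp, h0, mul_zero]
  · refine ⟨f', hf', h1, ?_⟩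
    intro h
    apply hf'ne
    rw [hexp, h1, h]

theorem bp_lp_card_lt {H K : Subgroup G} (h : H < K) : Nat.card H < Nat.card K := by
  rcases lt_or_eq_of_le (Subgroup.card_le_of_le h.le) with h1 | h1
  · exact h1
  · exact absurd (Subgroup.eq_of_le_of_card_ge h.le h1.ge) h.ne

/-- L7 CHAIN THEOREM (induction form). -/
theorem bp_lp_chain_aux (𝔅 : bp_BlockData R G p) (hpR : (p : R) ∈ IsLocalRing.maximalIdeal R)
    (C Q : Subgroup G) (hQ : IsPGroup p Q) (hC : (Nat.card C).Coprime p)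
    (hCQ : C ≤ Subgroup.centralizer (Q : Set G)) (ι : MonoidAlgebra R G)
    (hι : bp_IsPrimFix (R := R) (Q ⊔ C) ι) (hloc : bp_brFun Q ι ≠ 0) :
    ∀ (n : ℕ) (R' : Subgroup G), R' ≤ Q → Nat.card Q - Nat.card R' = n →
      ∀ e ∈ 𝔅.blk R', bp_brFun R' ι * bp_brFun R' e ≠ 0 →
      ∃ g ∈ 𝔅.blk Q, bp_brFun Q ι * bp_brFun Q g ≠ 0 ∧
        Relation.ReflTransGen (bp_NStep 𝔅) (R', e) (Q, g) := by
  intro n
  induction n using Nat.strong_induction_on with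
  | _ n ih =>
    intro R' hRQ hn e he hne
    rcases eq_or_lt_of_le hRQ with heq | hlt
    · subst heq
      exact ⟨e, he, hne, Relation.ReflTransGen.refl⟩
    · obtain ⟨T, hRT, hTQ, hTn, heT, hTne⟩ :=
        bp_lp_claimP 𝔅 hpR C Q R' hQ hC hCQ ι hι hloc hlt e he hne
      have hTp : IsPGroup p T := hQ.to_le hTQ
      have hιT : ι ∈ bp_fix (R := R) T := bp_fix_mono (hTQ.trans le_sup_left) hι.1
      obtain ⟨f', hf', hf'e, hf'ne⟩ := bp_lp_step 𝔅 hpR T hTp R' hRT.le ι e hιT he heT hTne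
      have hcard : Nat.card R' < Nat.card T := bp_lp_card_lt hRT
      have hcard2 : Nat.card T ≤ Nat.card Q := Subgroup.card_le_of_le hTQ
      obtain ⟨g, hg, hgne, hchain⟩ :=
        ih (Nat.card Q - Nat.card T) (by omega) T hTQ rfl f' hf' hf'ne
      refine ⟨g, hg, hgne, Relation.ReflTransGen.head ?_ hchain⟩
      exact (bp_lp_nstep_iff 𝔅 R' T e f').2 ⟨hRT.le, hTn, hTp, he, hf', heT, hf'e⟩

/-- L7 (abstract form): the Brauer pairs of a local idempotent `ι` at `Q`.  There is a block `g` at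
`Q` absorbing `br_Q ι`, unique with `br_Q ι * br_Q g ≠ 0`, and every pair `(R', e)`, `R' ≤ Q`, with
`br_{R'} ι * br_{R'} e ≠ 0` is joined to `(Q, g)` by a chain of normal steps. -/
theorem bp_lp_pair (𝔅 : bp_BlockData R G p) (hpR : (p : R) ∈ IsLocalRing.maximalIdeal R)
    (C Q : Subgroup G) (hQ : IsPGroup p Q) (hC : (Nat.card C).Coprime p)
    (hCQ : C ≤ Subgroup.centralizer (Q : Set G)) (ι : MonoidAlgebra R G)
    (hι : bp_IsPrimFix (R := R) (Q ⊔ C) ι) (hloc : bp_brFun Q ι ≠ 0) :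
    ∃ g ∈ 𝔅.blk Q, bp_brFun Q ι * bp_brFun Q g = bp_brFun Q ι ∧
      (∀ g' ∈ 𝔅.blk Q, bp_brFun Q ι * bp_brFun Q g' ≠ 0 → g' = g) ∧
      ∀ R' : Subgroup G, R' ≤ Q → ∀ e ∈ 𝔅.blk R', bp_brFun R' ι * bp_brFun R' e ≠ 0 →
        Relation.ReflTransGen (bp_NStep 𝔅) (R', e) (Q, g) := by
  obtain ⟨g, hg, hgabs, hguniq⟩ := bp_lp_top 𝔅 hpR C Q hQ hCQ ι hι hloc
  refine ⟨g, hg, hgabs, hguniq, ?_⟩
  intro R' hRQ e he hne
  obtain ⟨g', hg', hg'ne, hchain⟩ :=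
    bp_lp_chain_aux 𝔅 hpR C Q hQ hC hCQ ι hι hloc _ R' hRQ rfl e he hne
  rw [hguniq g' hg' hg'ne] at hchain
  exact hchain

/-- L7.4 (abstract form): if chains below `(Q, g)` determine the block at `R'`, then `br_{R'} ι` lies
in THE block `e` at `R'` below `(Q, g)`: `br_{R'} ι * br_{R'} e = br_{R'} ι ≠ 0`. -/
theorem bp_lp_local_block (𝔅 : bp_BlockData R G p) (hpR : (p : R) ∈ IsLocalRing.maximalIdeal R)
    (C Q : Subgroup G) (hQ : IsPGroup p Q) (hC : (Nat.card C).Coprime p)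
    (hCQ : C ≤ Subgroup.centralizer (Q : Set G)) (ι : MonoidAlgebra R G)
    (hι : bp_IsPrimFix (R := R) (Q ⊔ C) ι) (hloc : bp_brFun Q ι ≠ 0)
    (g : MonoidAlgebra R G) (hg : g ∈ 𝔅.blk Q) (hgι : bp_brFun Q ι * bp_brFun Q g ≠ 0)
    (R' : Subgroup G) (hRQ : R' ≤ Q)
    (huniq : ∀ e ∈ 𝔅.blk R', ∀ e' ∈ 𝔅.blk R',
      Relation.ReflTransGen (bp_NStep 𝔅) (R', e) (Q, g) →
      Relation.ReflTransGen (bp_NStep 𝔅) (R', e') (Q, g) → e = e') :
    bp_brFun R' ι ≠ 0 ∧ ∃ e ∈ 𝔅.blk R', Relation.ReflTransGen (bp_NStep 𝔅) (R', e) (Q, g) ∧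
      bp_brFun R' ι * bp_brFun R' e = bp_brFun R' ι := by
  classical
  obtain ⟨g₀, hg₀, -, hg₀uniq, hchain⟩ := bp_lp_pair 𝔅 hpR C Q hQ hC hCQ ι hι hloc
  have hgg₀ : g = g₀ := hg₀uniq g hg hgι
  subst hgg₀
  have hRp : IsPGroup p R' := hQ.to_le hRQ
  have hιR : ι ∈ bp_fix (R := R) R' := bp_fix_mono (hRQ.trans le_sup_left) hι.1
  have hne : bp_brFun R' ι ≠ 0 := fun h => hloc (bp_lp_brFun_eq_zero_of_le hRQ ι h)
  refine ⟨hne, ?_⟩
  obtain ⟨e, he, hene⟩ := bp_lp_exists_block 𝔅 hpR R' hRp ι hιR hne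
  have hce := hchain R' hRQ e he hene
  refine ⟨e, he, hce, ?_⟩
  have hsum := bp_lp_br_eq_sum 𝔅 hpR R' hRp ι hιR
  have heF : e ∈ (𝔅.fin R').toFinset := (𝔅.fin R').mem_toFinset.2 he
  rw [Finset.sum_eq_single_of_mem e heF] at hsum
  · exact hsum.symm
  · intro e' he'F hne'
    by_contra hcon
    have he' : e' ∈ 𝔅.blk R' := (𝔅.fin R').mem_toFinset.1 he'F
    exact hne' (huniq e' he' e he (hchain R' hRQ e' he' hcon) hce)

end Cfsg.Agent.BP
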