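import Mathlib
import Cfsg.Agent.BP.LocalPair
import Cfsg.Agent.BP.Bridge
import Cfsg.Agent.Helper6.SubpairUnique

/-!
# BP / L7: the Brauer pairs of a local idempotent (Prelude form)

The abstract theory of `BP/LocalPair.lean` instantiated with the block idempotents
`bp_pairIdem hM T f` of the centralizers, and translated to `Cfsg.NormalSubpairRel`.

* `bp_blockData hM`      : the block data;
* `bp_local_block`       : (a) the block `g` of a local idempotent `ι` at `Q`;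
* `bp_local_subpair_of_ne` : (L7.4) `br_R ι * f̄' ≠ 0` ⇒ `(R, f') ≤ (Q, g)`;
* `bp_local_subpair`     : (b) `br_R ι = br_R ι * f̄_R` for THE pair `(R, f_R) ≤ (Q, g)`.
-/

set_option autoImplicit false

namespace Cfsg.Agent.BP

open Cfsg.Agent.Helper6 Cfsg.Agent.Helper6.Cov

universe u

variable {G : Type u} [Group G] [Finite G] {M : Ideal Cfsg.AlgInt} {p : ℕ}

/-- `f ↦ f̂` is injective on blocks -/
theorem bp_lp_pairIdem_inj (hM : M.IsMaximal) (T : Subgroup G)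
    (f f' : Set (Cfsg.IrrCharacter (Subgroup.centralizer (T : Set G)))) (hf : Cfsg.IsPBlock M f)
    (hf' : Cfsg.IsPBlock M f') (h : bp_pairIdem hM T f = bp_pairIdem hM T f') : f = f' := by
  by_contra hne
  have h1 := bp_pairIdem_mul_of_ne hM T f f' hf hf' hne
  rw [← h, (bp_pairIdem_idem hM T f hf).eq] at h1
  have h2 := bp_brFun_pairIdem hM T f
  rw [h1, bp_brFun_zero] at h2
  exact bp_blockBar_ne_zero hM f hf h2.symm

/-- the block data of the Prelude blocks -/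
noncomputable def bp_blockData (hM : Cfsg.IsPModular p M) : bp_BlockData (Rloc hM.2.1) G p where
  blk T := {e | ∃ f : Set (Cfsg.IrrCharacter (Subgroup.centralizer (T : Set G))),
    Cfsg.IsPBlock M f ∧ e = bp_pairIdem hM.2.1 T f}
  fin T := by
    haveI : Finite (Cfsg.IrrCharacter (Subgroup.centralizer (T : Set G))) := irr_finite
    have hfin : Set.Finite {f : Set (Cfsg.IrrCharacter (Subgroup.centralizer (T : Set G))) |
      Cfsg.IsPBlock M f} := Set.toFinite _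
    refine (hfin.image (bp_pairIdem hM.2.1 T)).subset ?_
    rintro e ⟨f, hf, rfl⟩
    exact ⟨f, hf, rfl⟩
  sum_one T _ := by
    classical
    haveI : Finite (Cfsg.IrrCharacter (Subgroup.centralizer (T : Set G))) := irr_finite
    have hfin : Set.Finite {f : Set (Cfsg.IrrCharacter (Subgroup.centralizer (T : Set G))) |
      Cfsg.IsPBlock M f} := Set.toFinite _
    have h1 := bp_sum_pairIdem hM.2.1 T
    rw [finsum_mem_eq_finite_toFinset_sum _ hfin] at h1
    rw [← h1]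
    have himg : ∀ (F : Set.Finite {e : MonoidAlgebra (Rloc hM.2.1) G |
        ∃ f : Set (Cfsg.IrrCharacter (Subgroup.centralizer (T : Set G))),
          Cfsg.IsPBlock M f ∧ e = bp_pairIdem hM.2.1 T f}),
        F.toFinset = hfin.toFinset.image (bp_pairIdem hM.2.1 T) := by
      intro F
      ext e
      rw [Set.Finite.mem_toFinset, Finset.mem_image]
      constructor
      · rintro ⟨f, hf, rfl⟩
        exact ⟨f, hfin.mem_toFinset.2 hf, rfl⟩
      · rintro ⟨f, hf, rfl⟩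
        exact ⟨f, hfin.mem_toFinset.1 hf, rfl⟩
    rw [himg, Finset.sum_image]
    intro f hf f' hf' h
    exact bp_lp_pairIdem_inj hM.2.1 T f f' (hfin.mem_toFinset.1 hf) (hfin.mem_toFinset.1 hf') h
  idem T e := by
    rintro ⟨f, hf, rfl⟩
    exact bp_pairIdem_idem hM.2.1 T f hf
  supp T e := by
    rintro ⟨f, hf, rfl⟩ g hg
    rw [bp_pairIdem_coeff]
    unfold Cfsg.subgroupBlockCoeff
    rw [dif_neg hg]
    exact bp_toRloc_zero hM.2.1
  cent T e := by
    rintro ⟨f, hf, rfl⟩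
    exact bp_subIdem_mem_fix_self hM.2.1 _ f
  orth T e e' := by
    rintro ⟨f, hf, rfl⟩ ⟨f', hf', rfl⟩ hne
    apply bp_pairIdem_mul_of_ne hM.2.1 T f f' hf hf'
    intro h
    exact hne (by rw [h])
  conj T e x := by
    rintro ⟨f, hf, rfl⟩
    exact ⟨Cfsg.conjBlock T x f, isPBlock_conjBlock T x f hf, bp_conj_pairIdem hM.2.1 T f x⟩
  prim T e _ := by
    rintro ⟨f, hf, rfl⟩ z hzz hzc hzf
    rw [bp_brFun_pairIdem] at hzf ⊢
    exact bp_blockBar_primitive hM.2.1 f hf z hzz hzc hzf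

theorem bp_lp_mem_blk_iff (hM : Cfsg.IsPModular p M) (T : Subgroup G)
    (e : MonoidAlgebra (Rloc hM.2.1) G) :
    e ∈ (bp_blockData hM).blk T ↔
      ∃ f : Set (Cfsg.IrrCharacter (Subgroup.centralizer (T : Set G))),
        Cfsg.IsPBlock M f ∧ e = bp_pairIdem hM.2.1 T f := Iff.rfl

theorem bp_lp_pairIdem_mem_blk (hM : Cfsg.IsPModular p M) (T : Subgroup G)
    (f : Set (Cfsg.IrrCharacter (Subgroup.centralizer (T : Set G)))) (hf : Cfsg.IsPBlock M f) :
    bp_pairIdem hM.2.1 T f ∈ (bp_blockData hM).blk T := ⟨f, hf, rfl⟩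

section steps

variable [Fact p.Prime]

/-- the abstract normal step is a normal inclusion of Brauer pairs -/
theorem bp_lp_nstep_isNormalSubpair (hM : Cfsg.IsPModular p M) (R' T : Subgroup G)
    (f : Set (Cfsg.IrrCharacter (Subgroup.centralizer (R' : Set G))))
    (g : Set (Cfsg.IrrCharacter (Subgroup.centralizer (T : Set G))))
    (hf : Cfsg.IsPBlock M f) (hg : Cfsg.IsPBlock M g)
    (h : bp_NStep (bp_blockData hM) (R', bp_pairIdem hM.2.1 R' f) (T, bp_pairIdem hM.2.1 T g)) :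
    Cfsg.IsNormalSubpair p M R' f T g := by
  obtain ⟨hRT, hTn, hTp, -, -, hfix, hbr⟩ := (bp_lp_nstep_iff _ R' T _ _).1 h
  rw [bp_brFun_pairIdem] at hbr
  refine bp_isNormalSubpair_of_br hM R' T f g (hTp.to_le hRT) hTp hf hg hRT hTn ?_ hbr
  intro x hx
  refine (bp_conj_pairIdem_eq_iff hM.2.1 R' f hf x (hTn hx)).1 ?_
  exact (bp_mem_fix_iff_le_stab T _).1 hfix hx

/-- a choice map from abstract pairs to the index type of Brauer pairs -/
noncomputable def bp_lp_toIdx (hM : Cfsg.IsPModular p M)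
    (a : Subgroup G × MonoidAlgebra (Rloc hM.2.1) G) : Cfsg.BrauerPairIdx G := by
  classical
  exact ⟨a.1, if h : ∃ f : Set (Cfsg.IrrCharacter (Subgroup.centralizer (a.1 : Set G))),
    Cfsg.IsPBlock M f ∧ a.2 = bp_pairIdem hM.2.1 a.1 f then h.choose else ∅⟩

theorem bp_lp_toIdx_pairIdem (hM : Cfsg.IsPModular p M) (T : Subgroup G)
    (f : Set (Cfsg.IrrCharacter (Subgroup.centralizer (T : Set G)))) (hf : Cfsg.IsPBlock M f) :
    bp_lp_toIdx hM (T, bp_pairIdem hM.2.1 T f) = ⟨T, f⟩ := by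
  classical
  have h : ∃ f' : Set (Cfsg.IrrCharacter (Subgroup.centralizer (T : Set G))),
      Cfsg.IsPBlock M f' ∧ bp_pairIdem hM.2.1 T f = bp_pairIdem hM.2.1 T f' := ⟨f, hf, rfl⟩
  have h2 : h.choose = f :=
    (bp_lp_pairIdem_inj hM.2.1 T f h.choose hf h.choose_spec.1 h.choose_spec.2).symm
  unfold bp_lp_toIdx
  simp only
  rw [dif_pos h, h2]

theorem bp_lp_nstep_rel (hM : Cfsg.IsPModular p M)
    (a b : Subgroup G × MonoidAlgebra (Rloc hM.2.1) G) (h : bp_NStep (bp_blockData hM) a b) :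
    Cfsg.NormalSubpairRel p M (bp_lp_toIdx hM a) (bp_lp_toIdx hM b) := by
  obtain ⟨R', e⟩ := a
  obtain ⟨T, e'⟩ := b
  obtain ⟨-, -, -, ⟨f, hf, rfl⟩, ⟨g, hg, rfl⟩, -, -⟩ := (bp_lp_nstep_iff _ R' T _ _).1 h
  rw [bp_lp_toIdx_pairIdem hM R' f hf, bp_lp_toIdx_pairIdem hM T g hg]
  exact bp_lp_nstep_isNormalSubpair hM R' T f g hf hg h

/-- chains of abstract normal steps are inclusions of Brauer pairs -/
theorem bp_lp_chain_subpairLE (hM : Cfsg.IsPModular p M) (R' Q : Subgroup G)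
    (f : Set (Cfsg.IrrCharacter (Subgroup.centralizer (R' : Set G))))
    (g : Set (Cfsg.IrrCharacter (Subgroup.centralizer (Q : Set G))))
    (hf : Cfsg.IsPBlock M f) (hg : Cfsg.IsPBlock M g)
    (h : Relation.ReflTransGen (bp_NStep (bp_blockData hM)) (R', bp_pairIdem hM.2.1 R' f)
      (Q, bp_pairIdem hM.2.1 Q g)) :
    Relation.ReflTransGen (Cfsg.NormalSubpairRel p M) ⟨R', f⟩ ⟨Q, g⟩ := by
  have h1 : Relation.ReflTransGen (Cfsg.NormalSubpairRel p M)
      (bp_lp_toIdx hM (R', bp_pairIdem hM.2.1 R' f)) (bp_lp_toIdx hM (Q, bp_pairIdem hM.2.1 Q g)) :=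
    Relation.ReflTransGen.lift (bp_lp_toIdx hM) (bp_lp_nstep_rel hM) _ _ h
  rw [bp_lp_toIdx_pairIdem hM R' f hf, bp_lp_toIdx_pairIdem hM Q g hg] at h1
  exact h1

end steps

section main

variable (hM : Cfsg.IsPModular p M) (C Q : Subgroup G) (hQ : IsPGroup p Q)
  (hCQ : C ≤ Subgroup.centralizer (Q : Set G)) (ι : MonoidAlgebra (Rloc hM.2.1) G)
  (hι : bp_IsPrimFix (R := Rloc hM.2.1) (Q ⊔ C) ι) (hloc : bp_brFun Q ι ≠ 0)

include hQ hCQ hι hloc

/-- **L7.0** (a): the block of a local idempotent. -/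
theorem bp_local_block :
    ∃! g : Set (Cfsg.IrrCharacter (Subgroup.centralizer (Q : Set G))),
      Cfsg.IsPBlock M g ∧ bp_brFun Q ι * bp_blockBar hM.2.1 g = bp_brFun Q ι := by
  have : Fact p.Prime := ⟨hM.1⟩
  obtain ⟨e, ⟨g, hg, rfl⟩, habs, huniq⟩ :=
    bp_lp_top (bp_blockData hM) (bp_Rloc_prime_mem hM) C Q hQ hCQ ι hι hloc
  rw [bp_brFun_pairIdem] at habs
  refine ⟨g, ⟨hg, habs⟩, ?_⟩
  rintro g' ⟨hg', habs'⟩
  have hne : bp_brFun Q ι * bp_brFun Q (bp_pairIdem hM.2.1 Q g') ≠ 0 := by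
    rw [bp_brFun_pairIdem, habs']; exact hloc
  have := huniq _ (bp_lp_pairIdem_mem_blk hM Q g' hg') hne
  exact bp_lp_pairIdem_inj hM.2.1 Q g' g hg' hg this

variable (hC : (Nat.card C).Coprime p)
  (g : Set (Cfsg.IrrCharacter (Subgroup.centralizer (Q : Set G)))) (hg : Cfsg.IsPBlock M g)
  (hgι : bp_brFun Q ι * bp_blockBar hM.2.1 g = bp_brFun Q ι) (R' : Subgroup G) (hRQ : R' ≤ Q)

include hC hg hgι hRQ

/-- **L7.4** (general form): a block `f'` at `R' ≤ Q` not killing `br_{R'} ι` lies below the pair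
`(Q, g)` of `ι`. -/
theorem bp_local_subpair_of_ne
    (f' : Set (Cfsg.IrrCharacter (Subgroup.centralizer (R' : Set G)))) (hf' : Cfsg.IsPBlock M f')
    (hne : bp_brFun R' ι * bp_blockBar hM.2.1 f' ≠ 0) :
    Relation.ReflTransGen (Cfsg.NormalSubpairRel p M) ⟨R', f'⟩ ⟨Q, g⟩ := by
  have : Fact p.Prime := ⟨hM.1⟩
  obtain ⟨e, ⟨g₀, hg₀, rfl⟩, -, huniq, hchain⟩ :=
    bp_lp_pair (bp_blockData hM) (bp_Rloc_prime_mem hM) C Q hQ hC hCQ ι hι hloc
  have hgne : bp_brFun Q ι * bp_brFun Q (bp_pairIdem hM.2.1 Q g) ≠ 0 := by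
    rw [bp_brFun_pairIdem, hgι]; exact hloc
  have hgg₀ : g = g₀ := bp_lp_pairIdem_inj hM.2.1 Q g g₀ hg hg₀
    (huniq _ (bp_lp_pairIdem_mem_blk hM Q g hg) hgne)
  subst hgg₀
  have hne' : bp_brFun R' ι * bp_brFun R' (bp_pairIdem hM.2.1 R' f') ≠ 0 := by
    rw [bp_brFun_pairIdem]; exact hne
  exact bp_lp_chain_subpairLE hM R' Q f' g hf' hg
    (hchain R' hRQ _ (bp_lp_pairIdem_mem_blk hM R' f' hf') hne')

/-- (b): `br_{R'} ι ≠ 0` lies in THE block `f` at `R'` with `(R', f) ≤ (Q, g)`. -/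
theorem bp_local_subpair :
    bp_brFun R' ι ≠ 0 ∧
      ∃ f : Set (Cfsg.IrrCharacter (Subgroup.centralizer (R' : Set G))), Cfsg.IsPBlock M f ∧
        Relation.ReflTransGen (Cfsg.NormalSubpairRel p M) ⟨R', f⟩ ⟨Q, g⟩ ∧
        bp_brFun R' ι * bp_blockBar hM.2.1 f = bp_brFun R' ι := by
  classical
  have : Fact p.Prime := ⟨hM.1⟩
  have : Fintype G := Fintype.ofFinite G
  have hgne : bp_brFun Q ι * bp_brFun Q (bp_pairIdem hM.2.1 Q g) ≠ 0 := by
    rw [bp_brFun_pairIdem, hgι]; exact hloc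
  have huniq : ∀ e ∈ (bp_blockData hM).blk R', ∀ e' ∈ (bp_blockData hM).blk R',
      Relation.ReflTransGen (bp_NStep (bp_blockData hM)) (R', e) (Q, bp_pairIdem hM.2.1 Q g) →
      Relation.ReflTransGen (bp_NStep (bp_blockData hM)) (R', e') (Q, bp_pairIdem hM.2.1 Q g) →
      e = e' := by
    rintro e ⟨f, hf, rfl⟩ e' ⟨f', hf', rfl⟩ h1 h2
    have h1' := bp_lp_chain_subpairLE hM R' Q f g hf hg h1
    have h2' := bp_lp_chain_subpairLE hM R' Q f' g hf' hg h2
    rw [subpairLE_unique hM _ Q R' g ⟨hQ, hg⟩ hRQ rfl f f' h1' h2']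
  obtain ⟨hne, e, ⟨f, hf, rfl⟩, hchain, habs⟩ :=
    bp_lp_local_block (bp_blockData hM) (bp_Rloc_prime_mem hM) C Q hQ hC hCQ ι hι hloc _
      (bp_lp_pairIdem_mem_blk hM Q g hg) hgne R' hRQ huniq
  rw [bp_brFun_pairIdem] at habs
  exact ⟨hne, f, hf, bp_lp_chain_subpairLE hM R' Q f g hf hg hchain, habs⟩

end main

end Cfsg.Agent.BP
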