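import Mathlib
import Cfsg.Agent.BP.LocalPairInst

/-!
# BP / L7: convenience forms

For a local idempotent `ι` at `Q` with block `g` and ANY pair `(R', f) ≤ (Q, g)`:
`br_{R'} ι * f̄ = br_{R'} ι` and `br_{R'} ι * f̄' = 0` for the other blocks `f' ≠ f` at `R'`.
-/

set_option autoImplicit false

namespace Cfsg.Agent.BP

open Cfsg.Agent.Helper6 Cfsg.Agent.Helper6.Cov

universe u

variable {G : Type u} [Group G] [Finite G] {M : Ideal Cfsg.AlgInt} {p : ℕ}

variable (hM : Cfsg.IsPModular p M) (C Q : Subgroup G) (hQ : IsPGroup p Q)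
  (hCQ : C ≤ Subgroup.centralizer (Q : Set G)) (ι : MonoidAlgebra (Rloc hM.2.1) G)
  (hι : bp_IsPrimFix (R := Rloc hM.2.1) (Q ⊔ C) ι) (hloc : bp_brFun Q ι ≠ 0)
  (hC : (Nat.card C).Coprime p)
  (g : Set (Cfsg.IrrCharacter (Subgroup.centralizer (Q : Set G)))) (hg : Cfsg.IsPBlock M g)
  (hgι : bp_brFun Q ι * bp_blockBar hM.2.1 g = bp_brFun Q ι) (R' : Subgroup G) (hRQ : R' ≤ Q)
  (f : Set (Cfsg.IrrCharacter (Subgroup.centralizer (R' : Set G))))
  (hchain : Relation.ReflTransGen (Cfsg.NormalSubpairRel p M) ⟨R', f⟩ ⟨Q, g⟩)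

include hQ hCQ hι hloc hC hg hgι hRQ hchain

/-- `br_{R'} ι` absorbs the block of THE subpair of `(Q, g)` at `R'` -/
theorem bp_local_subpair_absorb : bp_brFun R' ι * bp_blockBar hM.2.1 f = bp_brFun R' ι := by
  classical
  have : Fact p.Prime := ⟨hM.1⟩
  have : Fintype G := Fintype.ofFinite G
  obtain ⟨-, f₀, -, hchain₀, habs⟩ :=
    bp_local_subpair hM C Q hQ hCQ ι hι hloc hC g hg hgι R' hRQ
  have hff₀ : f = f₀ := subpairLE_unique hM _ Q R' g ⟨hQ, hg⟩ hRQ rfl f f₀ hchain hchain₀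
  rw [hff₀]
  exact habs

/-- `br_{R'} ι` is killed by the other blocks at `R'` -/
theorem bp_local_subpair_eq_zero
    (f' : Set (Cfsg.IrrCharacter (Subgroup.centralizer (R' : Set G)))) (hf' : Cfsg.IsPBlock M f')
    (hne : f' ≠ f) : bp_brFun R' ι * bp_blockBar hM.2.1 f' = 0 := by
  classical
  have : Fact p.Prime := ⟨hM.1⟩
  have : Fintype G := Fintype.ofFinite G
  by_contra h
  have hchain' := bp_local_subpair_of_ne hM C Q hQ hCQ ι hι hloc hC g hg hgι R' hRQ f' hf' h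
  exact hne (subpairLE_unique hM _ Q R' g ⟨hQ, hg⟩ hRQ rfl f' f hchain' hchain)

end Cfsg.Agent.BP
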