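import Cfsg.Agent.BP.Local
import Cfsg.Agent.BP.RelTraceB

/-!
# BP / Defect: defect groups of primitive idempotents of `(RG)^H`  (blueprint L4)

Everything is stated for elements of the ambient algebra `RG = MonoidAlgebra R G`.

* `bp_InTr K H x`      : `x ∈ Tr_K^H((RG)^K)`
* `bp_IsPrimFix H i`   : `i` is a primitive idempotent of `(RG)^H`
* `bp_IsDefect H P i`  : `P ≤ H` is minimal with `i ∈ Tr_P^H((RG)^P)`
* `bp_exists_defect`, `bp_defect_le_conj` (Mackey + Rosenberg), `bp_defect_conj_unique`,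
  `bp_defect_isPGroup`.
-/

namespace Cfsg.Agent.BP

variable {R : Type*} [CommRing R] {G : Type*} [Group G]

/-- `x` is a relative trace from `K` to `H` of a `K`-fixed element. -/
def bp_InTr (K H : Subgroup G) [Finite G] (x : MonoidAlgebra R G) : Prop :=
  ∃ a ∈ bp_fix (R := R) K, bp_tr K H a = x

/-- `i` is a primitive idempotent of `(RG)^H`, ambient formulation. -/
def bp_IsPrimFix (H : Subgroup G) (i : MonoidAlgebra R G) : Prop :=
  i ∈ bp_fix (R := R) H ∧ IsIdempotentElem i ∧ i ≠ 0 ∧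
    ∀ e' ∈ bp_fix (R := R) H, IsIdempotentElem e' → i * e' = e' → e' * i = e' → e' = 0 ∨ e' = i

/-- `P` is a defect group of `i ∈ (RG)^H`. -/
def bp_IsDefect (H P : Subgroup G) [Finite G] (i : MonoidAlgebra R G) : Prop :=
  P ≤ H ∧ bp_InTr P H i ∧ ∀ Q : Subgroup G, Q ≤ P → bp_InTr Q H i → Q = P

theorem bp_isPrimFix_iff (H : Subgroup G) (i : MonoidAlgebra R G) :
    bp_IsPrimFix H i ↔ ∃ h : i ∈ bp_fix (R := R) H, bp_IsPrim (⟨i, h⟩ : bp_fix (R := R) H) := by
  constructor
  · rintro ⟨h, hid, hne, hprim⟩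
    refine ⟨h, ?_, ?_, ?_⟩
    · exact Subtype.ext hid
    · intro h0
      exact hne (congrArg Subtype.val h0)
    · rintro ⟨e', he'⟩ hid' h1 h2
      have h1' : i * e' = e' := congrArg Subtype.val h1
      have h2' : e' * i = e' := congrArg Subtype.val h2
      have hid'' : IsIdempotentElem e' := congrArg Subtype.val hid'
      rcases hprim e' he' hid'' h1' h2' with h3 | h3
      · left; exact Subtype.ext h3
      · right; exact Subtype.ext h3
  · rintro ⟨h, hid, hne, hprim⟩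
    refine ⟨h, congrArg Subtype.val hid, ?_, ?_⟩
    · intro h0
      exact hne (Subtype.ext h0)
    · intro e' he' hid' h1 h2
      rcases hprim ⟨e', he'⟩ (Subtype.ext hid') (Subtype.ext h1) (Subtype.ext h2) with h3 | h3
      · left; exact congrArg Subtype.val h3
      · right; exact congrArg Subtype.val h3

variable [Finite G]

theorem bp_inTr_mem_fix {K H : Subgroup G} (hKH : K ≤ H) {x : MonoidAlgebra R G}
    (h : bp_InTr K H x) : x ∈ bp_fix (R := R) H := by
  obtain ⟨a, ha, rfl⟩ := h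
  exact bp_tr_mem hKH ha

theorem bp_inTr_self {H : Subgroup G} {x : MonoidAlgebra R G} (hx : x ∈ bp_fix (R := R) H) :
    bp_InTr H H x :=
  ⟨x, hx, bp_tr_self H hx⟩

theorem bp_inTr_mul_left {K H : Subgroup G} (hKH : K ≤ H) {x b : MonoidAlgebra R G}
    (hb : b ∈ bp_fix (R := R) H) (h : bp_InTr K H x) : bp_InTr K H (b * x) := by
  obtain ⟨a, ha, rfl⟩ := h
  exact ⟨b * a, (bp_fix K).mul_mem (bp_fix_mono hKH hb) ha, bp_tr_mul_left hKH hb⟩

theorem bp_inTr_mul_right {K H : Subgroup G} (hKH : K ≤ H) {x b : MonoidAlgebra R G}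
    (hb : b ∈ bp_fix (R := R) H) (h : bp_InTr K H x) : bp_InTr K H (x * b) := by
  obtain ⟨a, ha, rfl⟩ := h
  exact ⟨a * b, (bp_fix K).mul_mem ha (bp_fix_mono hKH hb), bp_tr_mul_right hKH hb⟩

theorem bp_inTr_add {K H : Subgroup G} {x y : MonoidAlgebra R G}
    (hx : bp_InTr K H x) (hy : bp_InTr K H y) : bp_InTr K H (x + y) := by
  obtain ⟨a, ha, rfl⟩ := hx
  obtain ⟨b, hb, rfl⟩ := hy
  exact ⟨a + b, (bp_fix K).add_mem ha hb, map_add _ _ _⟩

/-- transitivity: a trace from `L ≤ K` is a trace from `K`. -/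
theorem bp_inTr_mono {L K H : Subgroup G} (hLK : L ≤ K) (hKH : K ≤ H) {x : MonoidAlgebra R G}
    (h : bp_InTr L H x) : bp_InTr K H x := by
  obtain ⟨a, ha, rfl⟩ := h
  exact ⟨bp_tr L K a, bp_tr_mem hLK ha, bp_tr_trans hLK hKH ha⟩

/-- (D1) every element of `(RG)^H` has a defect group. -/
theorem bp_exists_defect (H : Subgroup G) (i : MonoidAlgebra R G) (hi : i ∈ bp_fix (R := R) H) :
    ∃ P : Subgroup G, bp_IsDefect H P i := by
  have hne : {Q : Subgroup G | Q ≤ H ∧ bp_InTr Q H i}.Nonempty := ⟨H, le_rfl, bp_inTr_self hi⟩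
  obtain ⟨P, ⟨hPH, hP⟩, hmin⟩ := wellFounded_lt.has_min _ hne
  refine ⟨P, hPH, hP, ?_⟩
  intro Q hQP hQ
  by_contra hne'
  exact hmin Q ⟨hQP.trans hPH, hQ⟩ (lt_of_le_of_ne hQP hne')

section prim

variable [IsLocalRing R] [SplitMonic R]

/-- (D2) a defect group of a primitive idempotent `i` of `(RG)^H` is contained, up to
`H`-conjugacy, in every `K ≤ H` with `i ∈ Tr_K^H((RG)^K)`  (Mackey + Rosenberg). -/
theorem bp_defect_le_conj (H P K : Subgroup G) (i : MonoidAlgebra R G) (hi : bp_IsPrimFix H i)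
    (hP : bp_IsDefect H P i) (hKH : K ≤ H) (hK : bp_InTr K H i) :
    ∃ h ∈ H, P ≤ K.map (MulAut.conj h).toMonoidHom := by
  classical
  obtain ⟨hPH, ⟨a, ha, hai⟩, hmin⟩ := hP
  obtain ⟨b, hb, hbi⟩ := hK
  have hX := bp_dcReps_isDC (L := P) (K := K) (H := H) hPH hKH
  have hiH : i ∈ bp_fix (R := R) H := hi.1
  have hmem : ∀ x : G, bp_conj x b * a ∈
      bp_fix (R := R) (P ⊓ K.map (MulAut.conj x).toMonoidHom) := fun x =>
    (bp_fix _).mul_mem (bp_fix_mono inf_le_right (bp_conj_mem_fix x hb))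
      (bp_fix_mono inf_le_left ha)
  have h1 : i = ∑ x ∈ bp_dcReps P K H,
      bp_tr (P ⊓ K.map (MulAut.conj x).toMonoidHom) H (bp_conj x b * a) := by
    calc i = i * i := hi.2.1.eq.symm
      _ = bp_tr K H b * bp_tr P H a := by rw [hbi, hai]
      _ = bp_tr P H (bp_tr K H b * a) :=
        (bp_tr_mul_left hPH (by rw [hbi]; exact hiH)).symm
      _ = bp_tr P H (∑ x ∈ bp_dcReps P K H,
            bp_tr (P ⊓ K.map (MulAut.conj x).toMonoidHom) P (bp_conj x b) * a) := by
        rw [bp_mackey hKH hPH hX hb, Finset.sum_mul]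
      _ = ∑ x ∈ bp_dcReps P K H, bp_tr P H
            (bp_tr (P ⊓ K.map (MulAut.conj x).toMonoidHom) P (bp_conj x b * a)) := by
        rw [map_sum]
        refine Finset.sum_congr rfl fun x _ => ?_
        rw [bp_tr_mul_right inf_le_left ha]
      _ = _ := Finset.sum_congr rfl fun x _ => bp_tr_trans inf_le_left hPH (hmem x)
  have := bp_fix_finite (R := R) H
  obtain ⟨hiH', hprim⟩ := (bp_isPrimFix_iff H i).1 hi
  have hmemH : ∀ x : G, bp_tr (P ⊓ K.map (MulAut.conj x).toMonoidHom) H (bp_conj x b * a) ∈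
      bp_fix (R := R) H := fun x => bp_tr_mem (inf_le_left.trans hPH) (hmem x)
  obtain ⟨x, hxX, hx⟩ := bp_rosenberg_sum R (bp_dcReps P K H) (⟨i, hiH'⟩ : bp_fix (R := R) H) hprim
    (fun x => {z : bp_fix (R := R) H |
      bp_InTr (P ⊓ K.map (MulAut.conj x).toMonoidHom) H (z : MonoidAlgebra R G)})
    (fun x _ u z v hz => by
      have h2 := bp_inTr_mul_right (inf_le_left.trans hPH) v.2
        (bp_inTr_mul_left (inf_le_left.trans hPH) u.2 hz)
      simpa using h2)
    (fun x => ⟨_, hmemH x⟩)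
    (fun x _ => ⟨_, hmem x, rfl⟩)
    (by
      apply Subtype.ext
      rw [AddSubmonoidClass.coe_finsetSum]
      exact h1)
  refine ⟨x, hX.mem x hxX, ?_⟩
  have h3 := hmin _ inf_le_left hx
  exact inf_eq_left.1 h3

/-- two defect groups of a primitive idempotent of `(RG)^H` are `H`-conjugate. -/
theorem bp_defect_conj_unique (H P P' : Subgroup G) (i : MonoidAlgebra R G)
    (hi : bp_IsPrimFix H i) (hP : bp_IsDefect H P i) (hP' : bp_IsDefect H P' i) :
    ∃ h ∈ H, P' = P.map (MulAut.conj h).toMonoidHom := by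
  obtain ⟨h, hh, h1⟩ := bp_defect_le_conj H P' P i hi hP' hP.1 hP.2.1
  obtain ⟨h', hh', h2⟩ := bp_defect_le_conj H P P' i hi hP hP'.1 hP'.2.1
  refine ⟨h, hh, Subgroup.eq_of_le_of_card_ge h1 ?_⟩
  rw [Subgroup.card_map_of_injective (MulAut.conj h).injective]
  calc Nat.card P ≤ Nat.card (P'.map (MulAut.conj h').toMonoidHom) :=
        Nat.card_le_card_of_injective _ (Subgroup.inclusion_injective h2)
    _ = Nat.card P' := Subgroup.card_map_of_injective (MulAut.conj h').injective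

end prim

section pgroup

variable [IsLocalRing R]

/-- a natural number prime to `p` is a unit of `R` when `p ∈ 𝔪`. -/
theorem bp_isUnit_natCast_of_coprime (p : ℕ) (hp : (p : R) ∈ IsLocalRing.maximalIdeal R)
    (n : ℕ) (hn : Nat.Coprime n p) : IsUnit (n : R) := by
  by_contra hnu
  have hnm : (n : R) ∈ IsLocalRing.maximalIdeal R := (IsLocalRing.mem_maximalIdeal _).2 hnu
  have hcop : IsCoprime ((n : ℤ) : R) ((p : ℤ) : R) := (Nat.isCoprime_iff_coprime.2 hn).intCast
  obtain ⟨u, v, huv⟩ := hcop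
  have h1 : (1 : R) ∈ IsLocalRing.maximalIdeal R := by
    rw [← huv]
    refine Ideal.add_mem _ (Ideal.mul_mem_left _ _ ?_) (Ideal.mul_mem_left _ _ ?_)
    · simpa using hnm
    · simpa using hp
  exact (Ideal.ne_top_iff_one _).1 (IsLocalRing.maximalIdeal.isMaximal R).ne_top h1

/-- (D3) defect groups are `p`-groups (`p ∈ 𝔪`). -/
theorem bp_defect_isPGroup (p : ℕ) [Fact p.Prime] (hp : (p : R) ∈ IsLocalRing.maximalIdeal R)
    (H P : Subgroup G) (i : MonoidAlgebra R G) (hP : bp_IsDefect H P i) : IsPGroup p P := by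
  obtain ⟨hPH, ⟨a, ha, hai⟩, hmin⟩ := hP
  obtain ⟨S⟩ : Nonempty (Sylow p P) := inferInstance
  set S' : Subgroup G := (S : Subgroup P).map P.subtype with hS'
  have hS'P : S' ≤ P := Subgroup.map_subtype_le _
  have hidx : S'.relIndex P = (S : Subgroup P).index := by
    rw [Subgroup.relIndex, hS', Subgroup.subgroupOf,
      Subgroup.comap_map_eq_self_of_injective P.subtype_injective]
  have hcop : Nat.Coprime (S'.relIndex P) p := by
    rw [hidx, Nat.coprime_comm, (Fact.out : p.Prime).coprime_iff_not_dvd]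
    exact S.not_dvd_index
  obtain ⟨u, hu⟩ := bp_isUnit_natCast_of_coprime p hp _ hcop
  have hua : ((↑u⁻¹ : R) • a) ∈ bp_fix (R := R) S' :=
    (bp_fix S').smul_mem (bp_fix_mono hS'P ha) _
  have h1 : bp_tr S' P ((↑u⁻¹ : R) • a) = a := by
    rw [map_smul, bp_tr_of_mem_fix_relIndex hS'P ha, ← Nat.cast_smul_eq_nsmul R, smul_smul, ← hu,
      Units.inv_mul, one_smul]
  have h2 : bp_InTr S' H i := ⟨(↑u⁻¹ : R) • a, hua, by
    rw [← bp_tr_trans hS'P hPH hua, h1, hai]⟩
  have h3 : S' = P := hmin S' hS'P h2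
  have h4 : IsPGroup p S' := S.isPGroup'.map P.subtype
  rw [h3] at h4
  exact h4

end pgroup

section conj

omit [Finite G] in
/-- conjugation transports primitive idempotents of `(RG)^H` to those of `(RG)^{gHg⁻¹}`. -/
theorem bp_isPrimFix_conj (g : G) (H : Subgroup G) (i : MonoidAlgebra R G)
    (hi : bp_IsPrimFix H i) :
    bp_IsPrimFix (H.map (MulAut.conj g).toMonoidHom) (bp_conj g i) := by
  obtain ⟨hiH, hid, hne, hprim⟩ := hi
  refine ⟨bp_conj_mem_fix g hiH, ?_, ?_, ?_⟩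
  · unfold IsIdempotentElem
    rw [← map_mul, hid.eq]
  · intro h0
    apply hne
    have := congrArg (bp_conj g⁻¹) h0
    rwa [bp_conj_inv_conj, map_zero] at this
  · intro e' he' hid' h1 h2
    have hback : bp_conj g⁻¹ e' ∈ bp_fix (R := R) H := by
      have h3 := bp_conj_mem_fix g⁻¹ he'
      refine bp_fix_mono ?_ h3
      intro x hx
      refine ⟨g * x * g⁻¹, ⟨x, hx, by simp [MulAut.conj_apply]⟩, ?_⟩
      simp [mul_assoc]
    have hid'' : IsIdempotentElem (bp_conj g⁻¹ e') := by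
      unfold IsIdempotentElem
      rw [← map_mul, hid'.eq]
    have h1' : i * bp_conj g⁻¹ e' = bp_conj g⁻¹ e' := by
      have := congrArg (bp_conj g⁻¹) h1
      rwa [map_mul, bp_conj_inv_conj] at this
    have h2' : bp_conj g⁻¹ e' * i = bp_conj g⁻¹ e' := by
      have := congrArg (bp_conj g⁻¹) h2
      rwa [map_mul, bp_conj_inv_conj] at this
    rcases hprim _ hback hid'' h1' h2' with h3 | h3
    · left
      have := congrArg (bp_conj g) h3
      rwa [bp_conj_conj_inv, map_zero] at this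
    · right
      have := congrArg (bp_conj g) h3
      rwa [bp_conj_conj_inv] at this

/-- conjugation transports relative traces. -/
theorem bp_inTr_conj (g : G) {K H : Subgroup G} (hKH : K ≤ H) {x : MonoidAlgebra R G}
    (h : bp_InTr K H x) :
    bp_InTr (K.map (MulAut.conj g).toMonoidHom) (H.map (MulAut.conj g).toMonoidHom)
      (bp_conj g x) := by
  obtain ⟨a, ha, rfl⟩ := h
  exact ⟨bp_conj g a, bp_conj_mem_fix g ha, (bp_tr_conj g hKH ha).symm⟩

omit [Finite G] [CommRing R] in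
theorem bp_map_conj_inv_conj (g : G) (K : Subgroup G) :
    (K.map (MulAut.conj g).toMonoidHom).map (MulAut.conj g⁻¹).toMonoidHom = K := by
  ext x
  rw [bp_mem_map_conj, bp_mem_map_conj]
  have : g⁻¹ * ((g⁻¹)⁻¹ * x * g⁻¹) * g = x := by group
  rw [this]

omit [Finite G] [CommRing R] in
theorem bp_map_conj_conj_inv (g : G) (K : Subgroup G) :
    (K.map (MulAut.conj g⁻¹).toMonoidHom).map (MulAut.conj g).toMonoidHom = K := by
  have := bp_map_conj_inv_conj g⁻¹ K
  rwa [inv_inv] at this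

/-- conjugation transports defect groups. -/
theorem bp_isDefect_conj (g : G) (H P : Subgroup G) (i : MonoidAlgebra R G)
    (hP : bp_IsDefect H P i) :
    bp_IsDefect (H.map (MulAut.conj g).toMonoidHom) (P.map (MulAut.conj g).toMonoidHom)
      (bp_conj g i) := by
  obtain ⟨hPH, hPi, hmin⟩ := hP
  refine ⟨Subgroup.map_mono hPH, bp_inTr_conj g hPH hPi, ?_⟩
  intro Q hQP hQ
  have hQH : Q ≤ H.map (MulAut.conj g).toMonoidHom := hQP.trans (Subgroup.map_mono hPH)
  have h1 := bp_inTr_conj g⁻¹ hQH hQ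
  rw [bp_map_conj_inv_conj, bp_conj_inv_conj] at h1
  have h2 : Q.map (MulAut.conj g⁻¹).toMonoidHom ≤ P := by
    have := Subgroup.map_mono (f := (MulAut.conj g⁻¹).toMonoidHom) hQP
    rwa [bp_map_conj_inv_conj] at this
  have h3 := hmin _ h2 h1
  rw [← h3, bp_map_conj_conj_inv]

end conj

end Cfsg.Agent.BP
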