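import Cfsg.Agent.BP.Bridge
import Cfsg.Agent.BP.Defect

/-!
# BP / RestrictConj: transport of the local data `(Q, ι, g)` under conjugation by `x ∈ C_G(C)`
-/

set_option autoImplicit false

namespace Cfsg.Agent.BP

open Cfsg.Agent.Helper6 Cfsg.Agent.Helper6.Cov

universe u

variable {G : Type u} [Group G] [Fintype G] {p : ℕ} [Fact p.Prime] {M : Ideal Cfsg.AlgInt}

/-- a subgroup centralised by `x` is its own image under conjugation by `x` -/
theorem bp_rc_map_conj_eq (C : Subgroup G) (x : G) (hx : ∀ c ∈ C, x * c = c * x) :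
    C.map (MulAut.conj x).toMonoidHom = C := by
  ext y
  constructor
  · rintro ⟨c, hc, rfl⟩
    have : (MulAut.conj x).toMonoidHom c = c := by
      simp only [MulEquiv.toMonoidHom_eq_coe, MonoidHom.coe_coe, MulAut.conj_apply]
      rw [hx c hc, mul_assoc, mul_inv_cancel, mul_one]
    rw [this]
    exact hc
  · intro hy
    refine ⟨y, hy, ?_⟩
    simp only [MulEquiv.toMonoidHom_eq_coe, MonoidHom.coe_coe, MulAut.conj_apply]
    rw [hx y hy, mul_assoc, mul_inv_cancel, mul_one]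

theorem bp_rc_isPrimFix {R : Type*} [CommRing R] (C Q : Subgroup G) (x : G)
    (hx : ∀ c ∈ C, x * c = c * x) (ι : MonoidAlgebra R G)
    (hι : bp_IsPrimFix (Q ⊔ C) ι) :
    bp_IsPrimFix (Q.map (MulAut.conj x).toMonoidHom ⊔ C) (bp_conj x ι) := by
  have h := bp_isPrimFix_conj x (Q ⊔ C) ι hι
  rwa [Subgroup.map_sup, bp_rc_map_conj_eq C x hx] at h

/-- `Br_{xQx⁻¹}(x a x⁻¹)` is the transport of `Br_Q(a)` (for all `a`, at the level of `bp_brFun`) -/
theorem bp_rc_brFun_conj {R : Type*} [CommRing R] [IsLocalRing R] (Q : Subgroup G) (x : G)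
    (a : MonoidAlgebra R G) :
    bp_brFun (Q.map (MulAut.conj x).toMonoidHom) (bp_conj x a) =
      MonoidAlgebra.domCongr (IsLocalRing.ResidueField R) (IsLocalRing.ResidueField R)
        (bp_centConj x Q) (bp_brFun Q a) := by
  apply cov_ext
  intro c
  rw [bp_brFun_coeff, MonoidAlgebra.coeff_domCongr, bp_brFun_coeff, bp_conj_coeff]
  rfl

theorem bp_rc_brFun_ne_zero {R : Type*} [CommRing R] [IsLocalRing R] (Q : Subgroup G) (x : G)
    (ι : MonoidAlgebra R G) (hloc : bp_brFun Q ι ≠ 0) :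
    bp_brFun (Q.map (MulAut.conj x).toMonoidHom) (bp_conj x ι) ≠ 0 := by
  intro h0
  apply hloc
  rw [bp_rc_brFun_conj] at h0
  have := congrArg (MonoidAlgebra.domCongr (IsLocalRing.ResidueField R)
    (IsLocalRing.ResidueField R) (bp_centConj x Q)).symm h0
  rwa [AlgEquiv.symm_apply_apply, map_zero] at this

theorem bp_rc_block (hM : Cfsg.IsPModular p M) (Q : Subgroup G) (x : G)
    (ι : MonoidAlgebra (Rloc hM.2.1) G)
    (g : Set (Cfsg.IrrCharacter (Subgroup.centralizer (Q : Set G))))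
    (hgι : bp_brFun Q ι * bp_blockBar hM.2.1 g = bp_brFun Q ι) :
    bp_brFun (Q.map (MulAut.conj x).toMonoidHom) (bp_conj x ι) *
        bp_blockBar hM.2.1 (Cfsg.conjBlock Q x g) =
      bp_brFun (Q.map (MulAut.conj x).toMonoidHom) (bp_conj x ι) := by
  have h1 : bp_blockBar hM.2.1 (Cfsg.conjBlock Q x g) =
      MonoidAlgebra.domCongr (IsLocalRing.ResidueField (Rloc hM.2.1))
        (IsLocalRing.ResidueField (Rloc hM.2.1)) (bp_centConj x Q) (bp_blockBar hM.2.1 g) := by
    rw [← bp_brFun_pairIdem hM.2.1 (Q.map (MulAut.conj x).toMonoidHom) (Cfsg.conjBlock Q x g),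
      ← bp_conj_pairIdem, bp_rc_brFun_conj, bp_brFun_pairIdem]
  rw [h1, bp_rc_brFun_conj, ← map_mul, hgι]

end Cfsg.Agent.BP
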