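import Mathlib
import Cfsg.Agent.BP.StarDef
import Cfsg.Agent.BP.Bridge
import Cfsg.Agent.Helper6.HtCenD
import Cfsg.Agent.Helper6.SecondMainC
import Cfsg.Agent.Helper6.FusionCentric
import Cfsg.Agent.Helper6.BrCorrD

/-!
# BP : the `*`-construction — class function property and group algebra form

* `bp_starAt_eq_gaPair`: for a class function `χ` and `s ∈ C_G(u)`,
  `bp_starAt η χ u s = ∑_f η[u,f] · χ(u s f̂)`, the entry point of the restriction formula (L9);
* `bp_star_isClassFunction`: `η * χ` is a class function for stable `η` and a class function `χ`.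
-/

set_option autoImplicit false
set_option linter.style.haveILetI false
set_option linter.unusedSectionVars false

namespace Cfsg.Agent.BP

open Cfsg.Agent.Helper6 Cfsg.Agent.Helper6.Cov Cfsg.Agent.Helper6.Maj Cfsg.Agent.Helper6.HtCen

universe u

variable {G : Type u} [Group G] {M : Ideal Cfsg.AlgInt}

/-! ### group algebra form -/

theorem bp_subgroupBlockCoeff_eq_extendByZero (H : Subgroup G) (f : Set (Cfsg.IrrCharacter H))
    (g : G) : Cfsg.subgroupBlockCoeff H f g = Cfsg.extendByZero H (Cfsg.blockCoeff f) g := by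
  by_cases hg : g ∈ H
  · rw [subgroupBlockCoeff_of_mem H f g hg, extendByZero_mem H _ hg]
  · rw [subgroupBlockCoeff_of_not_mem H f g hg, extendByZero_not_mem H _ hg]

/-- the pairing of a function with a translate of `b̂`, `b` a block of the subgroup `H` -/
theorem bp_gaPair_single_mul_subIdem [Fintype G] (hM : M.IsMaximal) (H : Subgroup G) [Fintype H]
    (b : Set (Cfsg.IrrCharacter H)) (hb : Cfsg.IsPBlock M b) (χ : G → ℂ) (x : G) :
    gaPair χ (MonoidAlgebra.single x 1 * gaEmb hM G (bp_subIdem hM H b)) =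
      ∑ k : H, Cfsg.blockCoeff b k * χ (x * (k : G)) := by
  classical
  rw [gaPair_mul']
  rw [Finset.sum_eq_single x]
  · rw [MonoidAlgebra.coeff_single, Finsupp.single_eq_same, one_mul]
    have h1 : ∀ s : G, (gaEmb hM G (bp_subIdem hM H b)).coeff s * χ (x * s) =
        Cfsg.extendByZero H (Cfsg.blockCoeff b) s * χ (x * s) := by
      intro s
      rw [gaEmb_coeff, bp_subIdem_coeff,
        bp_toRloc_coe hM (memLocalRing_subgroupBlockCoeff hM H b hb s),
        bp_subgroupBlockCoeff_eq_extendByZero]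
    rw [Finset.sum_congr rfl (fun s _ => h1 s)]
    exact sum_extendByZero_mul H (Cfsg.blockCoeff b) (fun s => χ (x * s))
  · intro t _ ht
    rw [MonoidAlgebra.coeff_single, Finsupp.single_eq_of_ne ht, zero_mul]
  · intro h
    exact absurd (Finset.mem_univ x) h

/-- the block part of `c ↦ χ(u c)` on `C_G(u)` as a pairing with `u s f̂` -/
theorem bp_blockPart_eq_gaPair [Fintype G] (hM : M.IsMaximal) (χ : G → ℂ)
    (hχ : Cfsg.IsClassFunction G χ) (u s : G)
    (hs : s ∈ Subgroup.centralizer ((Subgroup.zpowers u : Subgroup G) : Set G))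
    (f : Set (Cfsg.IrrCharacter
      (Subgroup.centralizer ((Subgroup.zpowers u : Subgroup G) : Set G))))
    (hf : Cfsg.IsPBlock M f) :
    Cfsg.extendByZero (Subgroup.centralizer ((Subgroup.zpowers u : Subgroup G) : Set G))
      (Cfsg.blockPart f (fun c => χ (u * (c : G)))) s =
      gaPair χ (MonoidAlgebra.single (u * s) 1 *
        gaEmb hM G (bp_pairIdem hM (Subgroup.zpowers u) f)) := by
  classical
  haveI : Fintype (Subgroup.centralizer ((Subgroup.zpowers u : Subgroup G) : Set G)) :=
    Fintype.ofFinite _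
  have hcomm : ∀ c : G, c ∈ Subgroup.centralizer ((Subgroup.zpowers u : Subgroup G) : Set G) →
      u * c = c * u := fun c hc =>
    Subgroup.mem_centralizer_iff.mp hc u (Subgroup.mem_zpowers u)
  have hθ : Cfsg.IsClassFunction
      (Subgroup.centralizer ((Subgroup.zpowers u : Subgroup G) : Set G))
      (fun c => χ (u * (c : G))) := by
    intro c c'
    show χ (u * ((c' * c * c'⁻¹ :
      Subgroup.centralizer ((Subgroup.zpowers u : Subgroup G) : Set G)) : G)) = χ (u * (c : G))
    have e : u * ((c' * c * c'⁻¹ :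
        Subgroup.centralizer ((Subgroup.zpowers u : Subgroup G) : Set G)) : G) =
        (c' : G) * (u * (c : G)) * (c' : G)⁻¹ := by
      show u * ((c' : G) * (c : G) * (c' : G)⁻¹) = (c' : G) * (u * (c : G)) * (c' : G)⁻¹
      rw [← mul_assoc, ← mul_assoc, hcomm _ c'.2, ← mul_assoc]
    rw [e, hχ]
  rw [extendByZero_mem _ _ hs, blockPart_eq_sum_translate f _ hθ ⟨s, hs⟩]
  unfold bp_pairIdem
  rw [bp_gaPair_single_mul_subIdem hM _ f hf χ (u * s)]
  apply Finset.sum_congr rfl
  intro k _
  congr 1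
  show χ (u * ((k : G) * s)) = χ (u * s * (k : G))
  have e : u * s * (k : G) = s * (u * ((k : G) * s)) * s⁻¹ := by
    rw [hcomm s hs]
    group
  rw [e, hχ]

/-- **group algebra form of the `*`-construction** -/
theorem bp_starAt_eq_gaPair [Fintype G] {p : ℕ} (hM : M.IsMaximal) (D : Subgroup G)
    (e : Set (Cfsg.IrrCharacter (Subgroup.centralizer (D : Set G)))) (η : D → ℂ) (χ : G → ℂ)
    (hχ : Cfsg.IsClassFunction G χ) (u s : G)
    (hs : s ∈ Subgroup.centralizer ((Subgroup.zpowers u : Subgroup G) : Set G)) :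
    bp_starAt p M D e η χ u s =
      ∑ᶠ f ∈ {f : Set (Cfsg.IrrCharacter
          (Subgroup.centralizer ((Subgroup.zpowers u : Subgroup G) : Set G))) | Cfsg.IsPBlock M f},
        bp_etaAt p M D e η ⟨Subgroup.zpowers u, f⟩ u *
          gaPair χ (MonoidAlgebra.single (u * s) 1 *
            gaEmb hM G (bp_pairIdem hM (Subgroup.zpowers u) f)) := by
  unfold bp_starAt
  apply finsum_mem_congr rfl
  intro f hf
  rw [bp_blockPart_eq_gaPair hM χ hχ u s hs f hf]

/-- the pairing with a class function is a central form on the local group algebra -/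
theorem bp_gaPair_gaEmb_mul_comm [Fintype G] (hM : M.IsMaximal) (χ : G → ℂ)
    (hχ : Cfsg.IsClassFunction G χ) (a b : MonoidAlgebra (Rloc hM) G) :
    gaPair χ (gaEmb hM G (a * b)) = gaPair χ (gaEmb hM G (b * a)) := by
  rw [map_mul, map_mul, gaPair_mul, gaPair_mul']
  apply Finset.sum_congr rfl
  intro s _
  congr 1
  apply Finset.sum_congr rfl
  intro t _
  congr 1
  have e : s * t = t⁻¹ * (t * s) * t⁻¹⁻¹ := by group
  rw [e, hχ]

/-! ### the class function property -/

/-- the `*`-construction at a general subgroup `Q` in place of `⟨u⟩` -/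
noncomputable def bp_starAtQ [Finite G] (p : ℕ) (M : Ideal Cfsg.AlgInt) (D : Subgroup G)
    (e : Set (Cfsg.IrrCharacter (Subgroup.centralizer (D : Set G)))) (η : D → ℂ) (χ : G → ℂ)
    (Q : Subgroup G) (u y : G) : ℂ :=
  ∑ᶠ f ∈ {f : Set (Cfsg.IrrCharacter (Subgroup.centralizer (Q : Set G))) | Cfsg.IsPBlock M f},
    bp_etaAt p M D e η ⟨Q, f⟩ u *
      Cfsg.extendByZero (Subgroup.centralizer (Q : Set G))
        (Cfsg.blockPart f (fun c => χ (u * (c : G)))) y

theorem bp_starAt_eq_starAtQ [Finite G] {p : ℕ} (D : Subgroup G)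
    (e : Set (Cfsg.IrrCharacter (Subgroup.centralizer (D : Set G)))) (η : D → ℂ) (χ : G → ℂ)
    (u y : G) :
    bp_starAt p M D e η χ u y = bp_starAtQ p M D e η χ (Subgroup.zpowers u) u y := rfl

/-- conjugation of blocks is a bijection between the blocks of `C_G(Q)` and of `C_G(gQg⁻¹)` -/
theorem bp_conjBlock_bijOn (Q : Subgroup G) (g : G) :
    Set.BijOn (fun f => Cfsg.conjBlock Q g f)
      {f : Set (Cfsg.IrrCharacter (Subgroup.centralizer (Q : Set G))) | Cfsg.IsPBlock M f}
      {f' : Set (Cfsg.IrrCharacter (Subgroup.centralizer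
        ((Q.map (MulAut.conj g).toMonoidHom : Subgroup G) : Set G))) | Cfsg.IsPBlock M f'} := by
  refine ⟨?_, ?_, ?_⟩
  · intro f hf
    exact isPBlock_conjBlock Q g f hf
  · intro f _ f' _ h
    have h1 := congrArg (fun A => irrComp (centConjEquiv Q g) '' A) h
    simp only [image_irrComp_conjBlock] at h1
    exact h1
  · intro f' hf'
    refine ⟨irrComp (centConjEquiv Q g) '' f', isPBlock_image_irrComp _ f' hf', ?_⟩
    show Cfsg.conjBlock Q g (irrComp (centConjEquiv Q g) '' f') = f'
    rw [conjBlock_eq_image]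
    exact image_irrComp_symm_cancel (centConjEquiv Q g).symm f'

theorem bp_starAtQ_conj [Finite G] {p : ℕ} (D : Subgroup G)
    (e : Set (Cfsg.IrrCharacter (Subgroup.centralizer (D : Set G)))) (η : D → ℂ)
    (hst : bp_stable p M D e η) (χ : G → ℂ) (hχ : Cfsg.IsClassFunction G χ)
    (Q : Subgroup G) (u y g : G) (hu : u ∈ Q) :
    bp_starAtQ p M D e η χ (Q.map (MulAut.conj g).toMonoidHom) (g * u * g⁻¹) (g * y * g⁻¹) =
      bp_starAtQ p M D e η χ Q u y := by
  classical
  haveI : Fintype (Subgroup.centralizer (Q : Set G)) := Fintype.ofFinite _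
  haveI : Fintype (Subgroup.centralizer
    ((Q.map (MulAut.conj g).toMonoidHom : Subgroup G) : Set G)) := Fintype.ofFinite _
  unfold bp_starAtQ
  symm
  apply finsum_mem_eq_of_bijOn (fun f => Cfsg.conjBlock Q g f) (bp_conjBlock_bijOn Q g)
  intro f hf
  have h1 : bp_etaAt p M D e η ⟨Q.map (MulAut.conj g).toMonoidHom, Cfsg.conjBlock Q g f⟩
      (g * u * g⁻¹) = bp_etaAt p M D e η ⟨Q, f⟩ u :=
    bp_etaAt_conj D e η hst ⟨Q, f⟩ u hu g
  rw [h1]
  congr 1
  by_cases hy : y ∈ Subgroup.centralizer (Q : Set G)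
  · have hy' : g * y * g⁻¹ ∈ Subgroup.centralizer
        ((Q.map (MulAut.conj g).toMonoidHom : Subgroup G) : Set G) := by
      rw [mem_centralizer_map_conj_iff]
      have e1 : g⁻¹ * (g * y * g⁻¹) * g = y := by group
      rw [e1]
      exact hy
    rw [extendByZero_mem _ _ hy, extendByZero_mem _ _ hy', conjBlock_eq_image]
    set κ := (centConjEquiv Q g).symm with hκ
    have h2 : (fun c : Subgroup.centralizer
        ((Q.map (MulAut.conj g).toMonoidHom : Subgroup G) : Set G) =>
          χ (g * u * g⁻¹ * (c : G))) =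
        fun k => (fun c : Subgroup.centralizer (Q : Set G) => χ (u * (c : G))) (κ k) := by
      funext c
      have e1 : ((κ c : Subgroup.centralizer (Q : Set G)) : G) = g⁻¹ * (c : G) * g := rfl
      simp only
      rw [e1]
      have e2 : g * u * g⁻¹ * (c : G) = g * (u * (g⁻¹ * (c : G) * g)) * g⁻¹ := by group
      rw [e2, hχ]
    rw [h2, blockPart_image_irrComp κ f (fun c : Subgroup.centralizer (Q : Set G) => χ (u * (c : G)))]
    congr 1
    apply Subtype.ext
    show y = g⁻¹ * (g * y * g⁻¹) * g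
    group
  · have hy' : g * y * g⁻¹ ∉ Subgroup.centralizer
        ((Q.map (MulAut.conj g).toMonoidHom : Subgroup G) : Set G) := by
      rw [mem_centralizer_map_conj_iff]
      have e1 : g⁻¹ * (g * y * g⁻¹) * g = y := by group
      rw [e1]
      exact hy
    rw [extendByZero_not_mem _ _ hy, extendByZero_not_mem _ _ hy']

/-- **`η * χ` is a class function** (`η` stable, `χ` a class function) -/
theorem bp_star_isClassFunction [Finite G] {p : ℕ} [Fact p.Prime] (D : Subgroup G)
    (e : Set (Cfsg.IrrCharacter (Subgroup.centralizer (D : Set G)))) (η : D → ℂ)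
    (hst : bp_stable p M D e η) (χ : G → ℂ) (hχ : Cfsg.IsClassFunction G χ) :
    Cfsg.IsClassFunction G (bp_star p M D e η χ) := by
  intro x g
  unfold bp_star
  rw [bp_pPart_conj, bp_starAt_eq_starAtQ, bp_starAt_eq_starAtQ]
  have e1 : (g * bp_pPart p x * g⁻¹)⁻¹ * (g * x * g⁻¹) = g * ((bp_pPart p x)⁻¹ * x) * g⁻¹ := by
    group
  have e2 : Subgroup.zpowers (g * bp_pPart p x * g⁻¹) =
      (Subgroup.zpowers (bp_pPart p x)).map (MulAut.conj g).toMonoidHom := by
    rw [MonoidHom.map_zpowers]
    rfl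
  rw [e1, e2]
  exact bp_starAtQ_conj D e η hst χ hχ _ _ _ g (Subgroup.mem_zpowers _)

end Cfsg.Agent.BP
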