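import Cfsg.Agent.BP.RestrictCore
import Cfsg.Agent.BP.IdemCharC
import Cfsg.Agent.BP.RestrictConj
import Cfsg.Agent.BP.LocalPairInstB
import Cfsg.Agent.BP.StarDefB
import Cfsg.Agent.BP.EtaMono

/-!
# BP / Restrict: L9, the restriction of `η * χ` to `S ⊔ C` is a generalized character
-/

set_option autoImplicit false

namespace Cfsg.Agent.BP

open Cfsg.Agent.Helper6 Cfsg.Agent.Helper6.Cov Cfsg.Agent.Helper6.Maj

universe u

variable {G : Type u} [Group G] [Fintype G] {p : ℕ} [Fact p.Prime] {M : Ideal Cfsg.AlgInt}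

/-- a `p'`-group in the elementwise sense has order prime to `p` -/
theorem bp_coprime_card_of_regular (C : Subgroup G) (hC : ∀ c ∈ C, ¬ p ∣ orderOf c) :
    (Nat.card C).Coprime p := by
  rw [Nat.coprime_comm, Nat.Prime.coprime_iff_not_dvd (Fact.out : p.Prime)]
  intro hdvd
  obtain ⟨c, hc⟩ := exists_prime_orderOf_dvd_card' p hdvd
  apply hC (c : G) c.2
  rw [Subgroup.orderOf_coe, hc]

/-- the formula of L9 at `v * s` -/
theorem bp_star_restrict_formula (hM : Cfsg.IsPModular p M) (B : Set (Cfsg.IrrCharacter G))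
    (D : Subgroup G) (e : Set (Cfsg.IrrCharacter (Subgroup.centralizer (D : Set G))))
    (hmax : Cfsg.IsMaximalBrauerPair p M B D e) (η : D → ℂ) (hst : bp_stable p M D e η)
    (χ : G → ℂ) (hχ : Cfsg.IsClassFunction G χ)
    (S C : Subgroup G) (hS : IsPGroup p S) (hC : (Nat.card C).Coprime p)
    (hCS : C ≤ Subgroup.centralizer (S : Set G)) {n : ℕ} (Q : Fin n → Subgroup G)
    [∀ m, DecidablePred (· ∈ Q m)]
    (i : Fin n → MonoidAlgebra (Rloc hM.2.1) G) (hQS : ∀ m, Q m ≤ S)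
    (hi : ∀ m, bp_IsPrimFix (Q m ⊔ C) (i m)) (hloc : ∀ m, bp_brFun (Q m) (i m) ≠ 0)
    (horth : ∀ m m', ∀ x ∈ S, ∀ x' ∈ S, (m ≠ m' ∨ x⁻¹ * x' ∉ Q m) →
      bp_conj x (i m) * bp_conj x' (i m') = 0)
    (hsum : ∑ m, bp_tr (Q m) S (i m) = 1)
    (g : ∀ m, Set (Cfsg.IrrCharacter (Subgroup.centralizer (Q m : Set G))))
    (hg : ∀ m, Cfsg.IsPBlock M (g m))
    (hgι : ∀ m, bp_brFun (Q m) (i m) * bp_blockBar hM.2.1 (g m) = bp_brFun (Q m) (i m))
    (v s : G) (hv : v ∈ S) (hs : s ∈ C) :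
    bp_star p M D e η χ (v * s) = ∑ m, ∑ t ∈ bp_transv (Q m) S,
      if hq : t⁻¹ * v * t ∈ Q m then
        bp_etaAt p M D e η ⟨Q m, g m⟩ (t⁻¹ * v * t) *
          gaPair χ (MonoidAlgebra.single (v * s) 1 * gaEmb hM.2.1 G (bp_conj t (i m)))
      else 0 := by
  classical
  -- `v` is a `p`-element, `s` is `p`-regular, they commute
  have hvpow : ∃ k : ℕ, orderOf v = p ^ k := by
    obtain ⟨k, hk⟩ := hS ⟨v, hv⟩
    have h1 : v ^ p ^ k = 1 := by
      have := congrArg Subtype.val hk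
      simpa using this
    obtain ⟨j, -, hj⟩ := (Nat.dvd_prime_pow (Fact.out : p.Prime)).1 (orderOf_dvd_of_pow_eq_one h1)
    exact ⟨j, hj⟩
  have hsreg : ¬ p ∣ orderOf s := by
    intro hdvd
    have h1 : orderOf s ∣ Nat.card C := by
      have := orderOf_dvd_natCard (⟨s, hs⟩ : C)
      rwa [Subgroup.orderOf_mk] at this
    have h3 := Nat.Coprime.eq_one_of_dvd hC.symm (hdvd.trans h1)
    exact (Fact.out : p.Prime).one_lt.ne' h3
  have hvs : Commute v s := (Subgroup.mem_centralizer_iff.1 (hCS hs)) v hv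
  have hsC : s ∈ Subgroup.centralizer ((Subgroup.zpowers v : Subgroup G) : Set G) := by
    rw [Subgroup.mem_centralizer_iff]
    intro h hh
    obtain ⟨k, rfl⟩ := Subgroup.mem_zpowers_iff.1 hh
    exact (hvs.zpow_left k).eq
  rw [bp_star_mul D e η χ hvpow hsreg hvs, bp_starAt_eq_gaPair hM.2.1 D e η χ hχ v s hsC]
  -- the finite set of blocks of `C_G(v)`
  haveI : Finite (Cfsg.IrrCharacter
      (Subgroup.centralizer ((Subgroup.zpowers v : Subgroup G) : Set G))) := irr_finite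
  have hfin : Set.Finite {f : Set (Cfsg.IrrCharacter
      (Subgroup.centralizer ((Subgroup.zpowers v : Subgroup G) : Set G))) | Cfsg.IsPBlock M f} :=
    Set.toFinite _
  rw [finsum_mem_eq_finite_toFinset_sum _ hfin]
  have hmem𝔅 : ∀ f, f ∈ hfin.toFinset ↔ Cfsg.IsPBlock M f := fun f => by
    rw [Set.Finite.mem_toFinset]; rfl
  -- rewrite `gaPair` as `bp_tau`
  have hτ : ∀ a : MonoidAlgebra (Rloc hM.2.1) G,
      gaPair χ (MonoidAlgebra.single (v * s) 1 * gaEmb hM.2.1 G a) =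
        bp_tau hM.2.1 χ (MonoidAlgebra.single (v * s) 1 * a) := by
    intro a
    rw [bp_tau_apply, map_mul]
    congr 2
    unfold gaEmb
    rw [MonoidAlgebra.mapRingHom_single, map_one]
  simp_rw [hτ]
  -- labels
  have hsC' : Subgroup.zpowers s ≤ Subgroup.centralizer ((Subgroup.zpowers v : Subgroup G) : Set G) :=
    Subgroup.zpowers_le.2 hsC
  have hxC : ∀ x ∈ S, ∀ c ∈ C, x * c = c * x := fun x hx c hc =>
    (Subgroup.mem_centralizer_iff.1 (hCS hc)) x hx
  have hlabex : ∀ r ∈ bp_fixIdx S Q v, ∃ f, Cfsg.IsPBlock M f ∧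
      Relation.ReflTransGen (Cfsg.NormalSubpairRel p M) ⟨Subgroup.zpowers v, f⟩
        (conjPair r.2 ⟨Q r.1, g r.1⟩) ∧
      bp_brFun (Subgroup.zpowers v) (bp_srcIdem i r) * bp_blockBar hM.2.1 f =
        bp_brFun (Subgroup.zpowers v) (bp_srcIdem i r) := by
    rintro ⟨m, t⟩ hr
    rw [bp_mem_fixIdx] at hr
    obtain ⟨htT, htv⟩ := hr
    simp only at htT htv
    have htS : t ∈ S := (bp_transv_isLT (hQS m)).mem t htT
    have hQ'p : IsPGroup p ((Q m).map (MulAut.conj t).toMonoidHom) :=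
      (hS.to_le (hQS m)).map _
    have hCQ' : C ≤ Subgroup.centralizer (((Q m).map (MulAut.conj t).toMonoidHom : Subgroup G) : Set G) := by
      intro c hc
      rw [Subgroup.mem_centralizer_iff]
      rintro _ ⟨q, hq, rfl⟩
      have hq' : (MulAut.conj t).toMonoidHom q ∈ S := by
        simp only [MulEquiv.coe_toMonoidHom, MulAut.conj_apply]
        exact S.mul_mem (S.mul_mem htS (hQS m hq)) (S.inv_mem htS)
      exact hxC _ hq' c hc
    have hCQ : C ≤ Subgroup.centralizer ((Q m : Subgroup G) : Set G) :=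
      hCS.trans (Subgroup.centralizer_le (hQS m))
    have hvQ' : Subgroup.zpowers v ≤ (Q m).map (MulAut.conj t).toMonoidHom := by
      rw [Subgroup.zpowers_le]
      refine ⟨t⁻¹ * v * t, htv, ?_⟩
      simp only [MulEquiv.coe_toMonoidHom, MulAut.conj_apply]
      group
    exact (bp_local_subpair hM C _ hQ'p hCQ' (bp_conj t (i m))
      (bp_rc_isPrimFix C (Q m) t (hxC t htS) (i m) (hi m))
      (bp_rc_brFun_ne_zero (Q m) t (i m) (hloc m)) hC
      (Cfsg.conjBlock (Q m) t (g m)) (isPBlock_conjBlock (Q m) t (g m) (hg m))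
      (bp_rc_block hM (Q m) t (i m) (g m) (hgι m))
      (Subgroup.zpowers v) hvQ').2
  let lab : (Σ _ : Fin n, G) → Set (Cfsg.IrrCharacter
      (Subgroup.centralizer ((Subgroup.zpowers v : Subgroup G) : Set G))) :=
    fun r => if h : r ∈ bp_fixIdx S Q v then (hlabex r h).choose else ∅
  have hlab : ∀ r (h : r ∈ bp_fixIdx S Q v), Cfsg.IsPBlock M (lab r) ∧
      Relation.ReflTransGen (Cfsg.NormalSubpairRel p M) ⟨Subgroup.zpowers v, lab r⟩
        (conjPair r.2 ⟨Q r.1, g r.1⟩) ∧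
      bp_brFun (Subgroup.zpowers v) (bp_srcIdem i r) * bp_blockBar hM.2.1 (lab r) =
        bp_brFun (Subgroup.zpowers v) (bp_srcIdem i r) := by
    intro r h
    have := (hlabex r h).choose_spec
    simp only [lab, dif_pos h]
    exact this
  rw [bp_restrict_core hM χ hχ S C hS hC hCS Q i hQS hi horth hsum v s hv hs hfin.toFinset
    (fun f => bp_pairIdem hM.2.1 (Subgroup.zpowers v) f)
    (fun f _ => bp_pairIdem_mem_fix hM.2.1 (Subgroup.zpowers v) f (Subgroup.zpowers s) hsC')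
    (fun f hf => bp_pairIdem_idem hM.2.1 (Subgroup.zpowers v) f ((hmem𝔅 f).1 hf))
    (fun f => bp_blockBar hM.2.1 f)
    (fun f _ => bp_brFun_pairIdem hM.2.1 (Subgroup.zpowers v) f)
    (fun f hf f' hf' hne => bp_blockBar_mul_of_ne hM.2.1 f f' ((hmem𝔅 f).1 hf) ((hmem𝔅 f').1 hf') hne)
    lab (fun r hr => (hmem𝔅 _).2 (hlab r hr).1) (fun r hr => (hlab r hr).2.2)
    (fun f => bp_etaAt p M D e η ⟨Subgroup.zpowers v, f⟩ v)]
  -- reorganise the sum over the fixed members
  have hfixIdx : bp_fixIdx S Q v = (Finset.univ : Finset (Fin n)).sigma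
      (fun m => (bp_transv (Q m) S).filter (fun t => t⁻¹ * v * t ∈ Q m)) := by
    ext r
    rw [bp_mem_fixIdx]
    simp
  have hweight : ∀ r (h : r ∈ bp_fixIdx S Q v),
      bp_etaAt p M D e η ⟨Subgroup.zpowers v, lab r⟩ v =
        bp_etaAt p M D e η ⟨Q r.1, g r.1⟩ (r.2⁻¹ * v * r.2) := by
    intro r h
    have h1 := bp_etaAt_mono hM B D e hmax η hst _ _ (hlab r h).2.1 v (Subgroup.mem_zpowers v)
    have h2 := bp_etaAt_conj D e η hst ⟨Q r.1, g r.1⟩ (r.2⁻¹ * v * r.2)
      ((bp_mem_fixIdx S Q v r).1 h).2 r.2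
    have h3 : r.2 * (r.2⁻¹ * v * r.2) * r.2⁻¹ = v := by group
    rw [h3] at h2
    rw [h1, h2]
  rw [Finset.sum_congr rfl (fun r hr => by rw [hweight r hr])]
  rw [hfixIdx, Finset.sum_sigma]
  refine Finset.sum_congr rfl (fun m _ => ?_)
  rw [Finset.sum_filter]
  refine Finset.sum_congr rfl (fun t _ => ?_)
  by_cases hq : t⁻¹ * v * t ∈ Q m
  · rw [if_pos hq, dif_pos hq]
    rfl
  · rw [if_neg hq, dif_neg hq]

/-- **L9**: for a stable generalized character `η` of `D` and a character `χ` of `G`, the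
restriction of `η * χ` to `S ⊔ C` (`S` a `p`-subgroup, `C` a `p'`-subgroup centralising `S`) is a
generalized character. -/
theorem bp_star_restrict (hM : Cfsg.IsPModular p M) (B : Set (Cfsg.IrrCharacter G))
    (D : Subgroup G) (e : Set (Cfsg.IrrCharacter (Subgroup.centralizer (D : Set G))))
    (hmax : Cfsg.IsMaximalBrauerPair p M B D e) (η : D → ℂ)
    (hη : Cfsg.IsGeneralizedCharacter ↥D η) (hst : bp_stable p M D e η)
    (χ : G → ℂ) (hχ : Cfsg.IsCharacter G χ)
    (S C : Subgroup G) (hS : IsPGroup p S) (hC : ∀ c ∈ C, ¬ p ∣ orderOf c)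
    (hCS : C ≤ Subgroup.centralizer (S : Set G)) :
    Cfsg.IsGeneralizedCharacter ↥(S ⊔ C) (fun h : ↥(S ⊔ C) => bp_star p M D e η χ (h : G)) := by
  classical
  have hCcop : (Nat.card C).Coprime p := bp_coprime_card_of_regular C hC
  have hd : S ⊓ C = ⊥ := bp_disjoint_of_pgroup hS hC
  have hχcf : Cfsg.IsClassFunction G χ := Helper6.IsCharacter.isClassFunction hχ
  have hpR := bp_Rloc_prime_mem hM
  obtain ⟨n, Q, i, hQS, hi, hloc, horth, hsum⟩ :=
    bp_local_decomp (R := Rloc hM.2.1) hpR C hCcop S hS hCS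
  have hCQ : ∀ m, C ≤ Subgroup.centralizer ((Q m : Subgroup G) : Set G) := fun m =>
    hCS.trans (Subgroup.centralizer_le (hQS m))
  have hblock := fun m => (bp_local_block hM C (Q m) (hS.to_le (hQS m)) (hCQ m) (i m)
    (hi m) (hloc m)).exists
  choose g hg hgι using hblock
  refine bp_restrict_of_formula_loc hM.2.1 S C hCS hd Q (fun m => bp_transv (Q m) S)
    (fun m => bp_transv_isLT (hQS m))
    (fun m w => bp_etaAt p M D e η ⟨Q m, g m⟩ (w : G))
    (fun m => bp_etaAt_isGeneralizedCharacter D e η hη hst (Q m) (g m))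
    i (fun m => (hi m).2.1) (fun m => (hi m).1) χ hχ (bp_star p M D e η χ) ?_
  intro v hv s hs
  exact bp_star_restrict_formula hM B D e hmax η hst χ hχcf S C hS hCcop hCS Q i hQS hi hloc
    horth hsum g hg hgι v s hv hs

end Cfsg.Agent.BP
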