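import Mathlib
import Cfsg.Agent.BP.Restrict
import Cfsg.Agent.BP.StarDefB
import Cfsg.Agent.BP.BPGlue

/-!
# BP : the theorem of Broué and Puig

`bp_main`: for a maximal Brauer pair `(D, e)` of a block, a stable generalized character `η` of `D`
and a character `χ` of `G`, the class function `η * χ` is a generalized character of `G`.

Proof: `η * χ` is a class function (`bp_star_isClassFunction`), its restriction to every subgroup
`S ⊔ C` (`S` a `p`-group, `C` a `p'`-group centralizing `S`) is a generalized character
(`bp_star_restrict`, L9), so Brauer's characterization of characters applies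
(`bp_star_isGeneralizedCharacter`).
-/

set_option autoImplicit false

namespace Cfsg.Agent.BP

open Cfsg.Agent.Helper6

universe u

variable {G : Type u} [Group G] [Fintype G] {p : ℕ} [Fact p.Prime] {M : Ideal Cfsg.AlgInt}

/-- **(BP)**, the theorem of Broué and Puig: `η * χ` is a generalized character -/
theorem bp_main (hM : Cfsg.IsPModular p M) (B : Set (Cfsg.IrrCharacter G))
    (D : Subgroup G) (e : Set (Cfsg.IrrCharacter (Subgroup.centralizer (D : Set G))))
    (hmax : Cfsg.IsMaximalBrauerPair p M B D e) (η : D → ℂ)
    (hη : Cfsg.IsGeneralizedCharacter ↥D η) (hst : bp_stable p M D e η)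
    (χ : G → ℂ) (hχ : Cfsg.IsCharacter G χ) :
    Cfsg.IsGeneralizedCharacter G (bp_star p M D e η χ) :=
  bp_star_isGeneralizedCharacter p M D e η χ
    (bp_star_isClassFunction D e η hst χ (IsCharacter.isClassFunction hχ))
    (fun S C hS hC hCS => bp_star_restrict hM B D e hmax η hη hst χ hχ S C hS hC hCS)

/-- (BP) for linear characters of `D` trivial on the focal subgroup of a fusion system of the
block -/
theorem bp_main_linear (hM : Cfsg.IsPModular p M) (B : Set (Cfsg.IrrCharacter G))
    (D : Subgroup G) (e : Set (Cfsg.IrrCharacter (Subgroup.centralizer (D : Set G))))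
    (hmax : Cfsg.IsMaximalBrauerPair p M B D e)
    (F : Cfsg.FusionSystem D) (hF : Cfsg.IsBlockFusionSystemOn p M B D e F)
    (lam : D →* ℂˣ) (hlam : ∀ w : D, (w : G) ∈ F.focalSubgroup → lam w = 1)
    (chi : Cfsg.IrrCharacter G) (hchi : chi ∈ B) :
    Cfsg.IsGeneralizedCharacter G
      (bp_star p M D e (fun w => ((lam w : ℂˣ) : ℂ)) (chi : G → ℂ)) :=
  bp_hBP_linear p M B D e F hF
    (fun η hη hst χ hχ => bp_main hM B D e hmax η hη hst χ hχ) lam hlam chi hchi

end Cfsg.Agent.BP
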