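import Cfsg.Agent.BP.BrauerMap
import Cfsg.Agent.BP.Defect

/-!
# BP / BrKerC: the kernel of the Brauer map inside `(RG)^{Q ⊔ C}`

`C` a `p'`-subgroup centralizing the `p`-subgroup `Q`; `Γ_Q := bp_fix (Q ⊔ C)`.

* `bp_mem_smul_top_fix` : `I·RG ∩ (RG)^H = I·(RG)^H`
* `bp_tr_mem_fix_sup`   : `Tr_Q^P` maps `Γ_Q` into `Γ_P`
* `bp_trLtC C Q`        : `Σ_{Q'<Q} Tr_{Q'}^Q(Γ_{Q'})`
* `bp_br_ker_C`         : `a ∈ Γ_Q`, `br_Q a = 0` ⇒ `a ∈ bp_trLtC C Q + (𝔪RG ∩ Γ_Q)`
-/

namespace Cfsg.Agent.BP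

variable {R : Type*} [CommRing R] {G : Type*} [Group G] [Finite G]

/-- `I·RG ∩ (RG)^H = I·(RG)^H`: a fixed element all of whose coefficients lie in the ideal `I`
is an `I`-combination of orbit sums. -/
theorem bp_mem_smul_top_fix (H : Subgroup G) (I : Ideal R) (m : MonoidAlgebra R G)
    (hm : m ∈ bp_fix (R := R) H) (hc : ∀ g, m.coeff g ∈ I) :
    (⟨m, hm⟩ : bp_fix (R := R) H) ∈ I • (⊤ : Submodule R (bp_fix (R := R) H)) := by
  classical
  suffices h : ∀ n : ℕ, ∀ (a : MonoidAlgebra R G) (ha : a ∈ bp_fix (R := R) H),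
      (∀ g, a.coeff g ∈ I) → a.coeff.support.card ≤ n →
      (⟨a, ha⟩ : bp_fix (R := R) H) ∈ I • (⊤ : Submodule R (bp_fix (R := R) H)) from
    h _ m hm hc le_rfl
  intro n
  induction n with
  | zero =>
    intro a ha _ hcard
    have : a.coeff.support = ∅ := Finset.card_eq_zero.1 (Nat.le_zero.1 hcard)
    have h0 : a = 0 := by
      rw [← MonoidAlgebra.coeff_eq_zero]; exact Finsupp.support_eq_empty.1 this
    have : (⟨a, ha⟩ : bp_fix (R := R) H) = 0 := Subtype.ext h0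
    rw [this]; exact Submodule.zero_mem _
  | succ n ih =>
    intro a ha hca hcard
    by_cases h0 : a = 0
    · have : (⟨a, ha⟩ : bp_fix (R := R) H) = 0 := Subtype.ext h0
      rw [this]; exact Submodule.zero_mem _
    have hne : a.coeff.support.Nonempty := by
      rw [Finset.nonempty_iff_ne_empty, Ne, Finsupp.support_eq_empty, MonoidAlgebra.coeff_eq_zero]
      exact h0
    obtain ⟨g, hg⟩ := hne
    set a' := a - a.coeff g • bp_orbSum (R := R) H g with ha'
    have hfix' : a' ∈ bp_fix H :=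
      (bp_fix H).sub_mem ha ((bp_fix H).smul_mem (bp_orbSum_mem_fix H g) _)
    have hcoeff : ∀ y, a'.coeff y = if y ∈ bp_orb H g then 0 else a.coeff y := by
      intro y
      rw [ha', MonoidAlgebra.coeff_sub, Finsupp.sub_apply, MonoidAlgebra.coeff_smul,
        Finsupp.smul_apply, bp_orbSum_coeff]
      by_cases hy : y ∈ bp_orb H g
      · simp [hy, bp_fix_coeff_orb ha hy]
      · simp [hy]
    have hsub : a'.coeff.support ⊆ a.coeff.support.erase g := by
      intro y hy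
      rw [Finsupp.mem_support_iff, hcoeff] at hy
      by_cases hyo : y ∈ bp_orb H g
      · simp [hyo] at hy
      · simp only [hyo, if_false] at hy
        refine Finset.mem_erase.2 ⟨?_, Finsupp.mem_support_iff.2 hy⟩
        rintro rfl
        exact hyo (bp_self_mem_orb H y)
    have hcard' : a'.coeff.support.card ≤ n := by
      have := Finset.card_le_card hsub
      rw [Finset.card_erase_of_mem hg] at this
      omega
    have hca' : ∀ y, a'.coeff y ∈ I := by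
      intro y
      rw [hcoeff]
      split_ifs
      · exact I.zero_mem
      · exact hca y
    have h1 := ih a' hfix' hca' hcard'
    have h2 : (⟨a, ha⟩ : bp_fix (R := R) H) =
        ⟨a', hfix'⟩ + a.coeff g • (⟨bp_orbSum (R := R) H g, bp_orbSum_mem_fix H g⟩ :
          bp_fix (R := R) H) := by
      apply Subtype.ext
      show a = a' + a.coeff g • bp_orbSum (R := R) H g
      rw [ha']; abel
    rw [h2]
    exact Submodule.add_mem _ h1 (Submodule.smul_mem_smul (hca g) Submodule.mem_top)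

/-- `Tr_Q^P` maps `Γ_Q = (RG)^{Q ⊔ C}` into `Γ_P` when `C` centralizes `P`. -/
theorem bp_tr_mem_fix_sup {C Q P : Subgroup G} (hQP : Q ≤ P)
    (hCP : C ≤ Subgroup.centralizer (P : Set G)) {a : MonoidAlgebra R G}
    (ha : a ∈ bp_fix (R := R) (Q ⊔ C)) : bp_tr Q P a ∈ bp_fix (R := R) (P ⊔ C) := by
  rw [bp_fix_sup, Algebra.mem_inf] at ha ⊢
  refine ⟨bp_tr_mem hQP ha.1, ?_⟩
  intro c hc
  rw [bp_tr_apply, map_sum]
  refine Finset.sum_congr rfl fun t ht => ?_
  have htP : t ∈ P := (bp_transv_isLT hQP).mem t ht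
  have hcomm : c * t = t * c := ((Subgroup.mem_centralizer_iff.1 (hCP hc)) t htP).symm
  rw [← bp_conj_mul, hcomm, bp_conj_mul, ha.2 c hc]

/-- `Σ_{Q'<Q} Tr_{Q'}^Q((RG)^{Q' ⊔ C})`. -/
noncomputable def bp_trLtC (C Q : Subgroup G) : Submodule R (MonoidAlgebra R G) :=
  Submodule.span R
    {x | ∃ Q' : Subgroup G, Q' < Q ∧ ∃ b ∈ bp_fix (R := R) (Q' ⊔ C), bp_tr Q' Q b = x}

theorem bp_tr_mem_trLtC {C Q' Q : Subgroup G} (hQ'Q : Q' < Q) {b : MonoidAlgebra R G}
    (hb : b ∈ bp_fix (R := R) (Q' ⊔ C)) : bp_tr Q' Q b ∈ bp_trLtC (R := R) C Q :=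
  Submodule.subset_span ⟨Q', hQ'Q, b, hb, rfl⟩

/-- the relative trace `Tr_{Q'}^Q` commutes with the sum of the `C`-conjugates when `C`
centralizes `Q`. -/
theorem bp_trC_comm {C Q' Q : Subgroup G} (hQ'Q : Q' ≤ Q)
    (hCQ : C ≤ Subgroup.centralizer (Q : Set G)) (b : MonoidAlgebra R G) :
    bp_tr ⊥ C (bp_tr Q' Q b) = bp_tr Q' Q (bp_tr (R := R) ⊥ C b) := by
  simp only [bp_tr_apply, map_sum]
  rw [Finset.sum_comm]
  refine Finset.sum_congr rfl fun c hc => Finset.sum_congr rfl fun t ht => ?_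
  have htQ : t ∈ Q := (bp_transv_isLT hQ'Q).mem t ht
  have hcC : c ∈ C := (bp_transv_isLT (bot_le : (⊥ : Subgroup G) ≤ C)).mem c hc
  have hcomm : c * t = t * c := ((Subgroup.mem_centralizer_iff.1 (hCQ hcC)) t htQ).symm
  rw [← bp_conj_mul, ← bp_conj_mul, hcomm]

omit [Finite G] in
theorem bp_mem_fix_bot (b : MonoidAlgebra R G) : b ∈ bp_fix (R := R) (⊥ : Subgroup G) := by
  rw [bp_fix_bot]; exact Algebra.mem_top

/-- the sum of the `C`-conjugates of a `Q'`-fixed element is `Q' ⊔ C`-fixed when `C` centralizes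
`Q'`. -/
theorem bp_trC_mem_fix_sup {C Q' : Subgroup G} (hCQ : C ≤ Subgroup.centralizer (Q' : Set G))
    {b : MonoidAlgebra R G} (hb : b ∈ bp_fix (R := R) Q') :
    bp_tr ⊥ C b ∈ bp_fix (R := R) (Q' ⊔ C) := by
  rw [bp_fix_sup, Algebra.mem_inf]
  refine ⟨?_, bp_tr_mem bot_le (bp_mem_fix_bot b)⟩
  intro q hq
  rw [bp_tr_apply, map_sum]
  refine Finset.sum_congr rfl fun c hc => ?_
  have hcC : c ∈ C := (bp_transv_isLT (bot_le : (⊥ : Subgroup G) ≤ C)).mem c hc
  have hcomm : q * c = c * q := (Subgroup.mem_centralizer_iff.1 (hCQ hcC)) q hq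
  rw [← bp_conj_mul, hcomm, bp_conj_mul, hb q hq]

theorem bp_trLtC_le_fix {C Q : Subgroup G} (hCQ : C ≤ Subgroup.centralizer (Q : Set G)) :
    bp_trLtC (R := R) C Q ≤ Subalgebra.toSubmodule (bp_fix (Q ⊔ C)) := by
  unfold bp_trLtC
  rw [Submodule.span_le]
  rintro x ⟨Q', hQ'Q, b, hb, rfl⟩
  exact bp_tr_mem_fix_sup hQ'Q.le hCQ hb

variable [IsLocalRing R] {p : ℕ} [Fact p.Prime]

/-- KERNEL OF THE BRAUER MAP INSIDE `(RG)^{Q ⊔ C}`, `C` a `p'`-group centralizing `Q`. -/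
theorem bp_br_ker_C (hpR : (p : R) ∈ IsLocalRing.maximalIdeal R) (Q C : Subgroup G)
    (hQ : IsPGroup p Q) (hC : (Nat.card C).Coprime p)
    (hCQ : C ≤ Subgroup.centralizer (Q : Set G)) (a : MonoidAlgebra R G)
    (ha : a ∈ bp_fix (R := R) (Q ⊔ C)) (h : bp_brFun Q a = 0) :
    ∃ t ∈ bp_trLtC (R := R) C Q, ∃ m ∈ bp_fix (R := R) (Q ⊔ C),
      (∀ g, m.coeff g ∈ IsLocalRing.maximalIdeal R) ∧ a = t + m := by
  have ha' := ha
  rw [bp_fix_sup, Algebra.mem_inf] at ha'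
  obtain ⟨haQ, haC⟩ := ha'
  have hker := (bp_br_ker hpR Q hQ ⟨a, haQ⟩).1 (by rw [bp_br_apply]; exact h)
  obtain ⟨t₀, ht₀, y, hy, hsum⟩ := Submodule.mem_sup.1 hker
  obtain ⟨u, hu⟩ := bp_isUnit_natCast_of_coprime p hpR _ hC
  -- the averaging operator
  set avg : MonoidAlgebra R G →ₗ[R] MonoidAlgebra R G := (↑u⁻¹ : R) • bp_tr (R := R) ⊥ C with havg
  have havg_apply : ∀ x, avg x = (↑u⁻¹ : R) • bp_tr (R := R) ⊥ C x := fun x => rfl
  have hrel : (⊥ : Subgroup G).relIndex C = Nat.card C := Subgroup.relIndex_bot_left C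
  have havg_fix : ∀ x ∈ bp_fix (R := R) C, avg x = x := by
    intro x hx
    rw [havg_apply, bp_tr_of_mem_fix_relIndex bot_le hx, hrel, ← Nat.cast_smul_eq_nsmul R,
      smul_smul, ← hu, Units.inv_mul, one_smul]
  have havg_t : ∀ t ∈ bp_trLt (R := R) Q, avg t ∈ bp_trLtC (R := R) C Q := by
    intro t ht
    unfold bp_trLt at ht
    induction ht using Submodule.span_induction with
    | mem x hx =>
      obtain ⟨Q', hQ'Q, b, hb, rfl⟩ := hx
      rw [havg_apply, bp_trC_comm hQ'Q.le hCQ, ← map_smul]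
      refine bp_tr_mem_trLtC hQ'Q ?_
      exact (bp_fix _).smul_mem (bp_trC_mem_fix_sup
        (hCQ.trans (Subgroup.centralizer_le hQ'Q.le)) hb) _
    | zero => rw [map_zero]; exact Submodule.zero_mem _
    | add x y _ _ hx hy => rw [map_add]; exact Submodule.add_mem _ hx hy
    | smul r x _ hx => rw [map_smul]; exact Submodule.smul_mem _ r hx
  have havg_m : ∀ y ∈ IsLocalRing.maximalIdeal R • (⊤ : Submodule R (MonoidAlgebra R G)),
      avg y ∈ IsLocalRing.maximalIdeal R • (⊤ : Submodule R (MonoidAlgebra R G)) := by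
    intro y hy
    refine Submodule.smul_induction_on hy ?_ ?_
    · intro r hr x _
      rw [map_smul]
      exact Submodule.smul_mem_smul hr Submodule.mem_top
    · intro x y hx hy
      rw [map_add]; exact Submodule.add_mem _ hx hy
  have hsum' : a = avg t₀ + avg y := by
    rw [← map_add, hsum]
    exact (havg_fix a haC).symm
  refine ⟨avg t₀, havg_t t₀ ht₀, avg y, ?_, ?_, hsum'⟩
  · have h1 : avg y = a - avg t₀ := by rw [hsum']; abel
    rw [h1]
    have h2 : avg t₀ ∈ bp_fix (R := R) (Q ⊔ C) := bp_trLtC_le_fix hCQ (havg_t t₀ ht₀)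
    exact (bp_fix (R := R) (Q ⊔ C)).sub_mem ha h2
  · exact (bp_mem_ideal_smul_top_iff _ _).1 (havg_m y hy)

end Cfsg.Agent.BP
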