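import Mathlib
import Cfsg.Agent.BP.BrauerMap

/-!
# BP / L3 part C, complements: the Brauer map inside `kG` ("downstairs" toolkit)

* `bp_truncG H : SG →ₗ[S] SG`, the projection onto the span of a subgroup `H`, over any commutative ring `S`;
  on the `P`-fixed points (`P` a `p`-group) the truncation to `C_G(P)` is multiplicative modulo `p`
  (`bp_truncG_mul_sub_mem`), exactly multiplicative when `p = 0` in `S` (`bp_truncG_mul_of_eq_zero`, `bp_truncG_mul`):
  for a field `k` of characteristic `p` this is the Brauer map of `kG`.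
* `bp_bc φ : RG →+* SG`, base change; it commutes with conjugation, relative traces and truncations.
* `bp_brG P a := bp_truncG C_G(P) (bp_red a) ∈ kG`, the Brauer map with values inside `kG`, so that Brauer
  images at different subgroups can be compared without any transport between the types `k C_G(P)`.
* `bp_sub_truncG_mem`, a support-refined form of the kernel decomposition.
-/

set_option autoImplicit false

namespace Cfsg.Agent.BP

open MonoidAlgebra

section trunc

variable {S : Type*} [CommRing S] {G : Type*} [Group G]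

open Classical in
/-- Projection of `SG` onto the span of the subgroup `H`: restrict the support to `H`. -/
noncomputable def bp_truncG (H : Subgroup G) : MonoidAlgebra S G →ₗ[S] MonoidAlgebra S G where
  toFun a := MonoidAlgebra.ofCoeff (a.coeff.filter (fun g => g ∈ H))
  map_add' a b := by
    ext g
    simp only [coeff_add, Finsupp.filter_apply, Finsupp.add_apply]
    split_ifs <;> simp
  map_smul' r a := by
    ext g
    simp only [coeff_smul, Finsupp.filter_apply, Finsupp.smul_apply, RingHom.id_apply]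
    split_ifs <;> simp

open Classical in
theorem bp_truncG_coeff (H : Subgroup G) (a : MonoidAlgebra S G) (g : G) :
    (bp_truncG H a).coeff g = if g ∈ H then a.coeff g else 0 := by
  simp [bp_truncG, Finsupp.filter_apply]

theorem bp_truncG_coeff_mem (H : Subgroup G) (a : MonoidAlgebra S G) {g : G} (hg : g ∈ H) :
    (bp_truncG H a).coeff g = a.coeff g := by
  classical
  rw [bp_truncG_coeff, if_pos hg]

theorem bp_truncG_coeff_not_mem (H : Subgroup G) (a : MonoidAlgebra S G) {g : G} (hg : g ∉ H) :
    (bp_truncG H a).coeff g = 0 := by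
  classical
  rw [bp_truncG_coeff, if_neg hg]

/-- `a` is supported on the subgroup `H`. -/
def bp_SuppIn (H : Subgroup G) (a : MonoidAlgebra S G) : Prop := ∀ g, g ∉ H → a.coeff g = 0

theorem bp_truncG_suppIn (H : Subgroup G) (a : MonoidAlgebra S G) : bp_SuppIn H (bp_truncG H a) :=
  fun _ hg => bp_truncG_coeff_not_mem H a hg

theorem bp_truncG_of_suppIn {H : Subgroup G} {a : MonoidAlgebra S G} (ha : bp_SuppIn H a) :
    bp_truncG H a = a := by
  classical
  ext g
  rw [bp_truncG_coeff]
  split_ifs with h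
  · rfl
  · exact (ha g h).symm

theorem bp_truncG_truncG_of_le {H K : Subgroup G} (hHK : H ≤ K) (a : MonoidAlgebra S G) :
    bp_truncG H (bp_truncG K a) = bp_truncG H a := by
  classical
  ext g
  rw [bp_truncG_coeff, bp_truncG_coeff, bp_truncG_coeff]
  split_ifs with h1 h2
  · rfl
  · exact absurd (hHK h1) h2
  · rfl

theorem bp_suppIn_zero (H : Subgroup G) : bp_SuppIn H (0 : MonoidAlgebra S G) := fun _ _ => rfl

theorem bp_suppIn_add {H : Subgroup G} {a b : MonoidAlgebra S G} (ha : bp_SuppIn H a)
    (hb : bp_SuppIn H b) : bp_SuppIn H (a + b) := by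
  intro g hg
  rw [coeff_add, Finsupp.add_apply, ha g hg, hb g hg, add_zero]

theorem bp_suppIn_smul {H : Subgroup G} (r : S) {a : MonoidAlgebra S G} (ha : bp_SuppIn H a) :
    bp_SuppIn H (r • a) := by
  intro g hg
  rw [coeff_smul, Finsupp.smul_apply, ha g hg, smul_zero]

theorem bp_suppIn_single {H : Subgroup G} {g : G} (hg : g ∈ H) (r : S) :
    bp_SuppIn H (single g r : MonoidAlgebra S G) := by
  classical
  intro x hx
  rw [coeff_single, Finsupp.single_apply, if_neg]
  rintro rfl
  exact hx hg

theorem bp_suppIn_one (H : Subgroup G) : bp_SuppIn H (1 : MonoidAlgebra S G) := by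
  rw [MonoidAlgebra.one_def]
  exact bp_suppIn_single H.one_mem 1

theorem bp_suppIn_mul {H : Subgroup G} {a b : MonoidAlgebra S G} (ha : bp_SuppIn H a)
    (hb : bp_SuppIn H b) : bp_SuppIn H (a * b) := by
  classical
  intro g hg
  rw [coeff_mul_apply_left]
  apply Finset.sum_eq_zero
  intro x _
  beta_reduce
  by_cases hx : x ∈ H
  · have : x⁻¹ * g ∉ H := fun h => hg (by simpa using H.mul_mem hx h)
    rw [hb _ this, mul_zero]
  · rw [ha x hx, zero_mul]

theorem bp_suppIn_mono {H K : Subgroup G} (hHK : H ≤ K) {a : MonoidAlgebra S G}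
    (ha : bp_SuppIn H a) : bp_SuppIn K a := fun g hg => ha g (fun h => hg (hHK h))

/-- Conjugation transports truncations. -/
theorem bp_conj_truncG (x : G) (H : Subgroup G) (a : MonoidAlgebra S G) :
    bp_conj x (bp_truncG H a) = bp_truncG (H.map (MulAut.conj x).toMonoidHom) (bp_conj x a) := by
  classical
  ext g
  rw [bp_conj_coeff, bp_truncG_coeff, bp_truncG_coeff, bp_conj_coeff]
  have : x⁻¹ * g * x ∈ H ↔ g ∈ H.map (MulAut.conj x).toMonoidHom := (bp_mem_map_conj x H g).symm
  simp only [this]

/-- Truncation to a subgroup normalized by `K` preserves the `K`-fixed points. -/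
theorem bp_truncG_mem_fix {K H : Subgroup G} (hKH : K ≤ Subgroup.normalizer (H : Set G))
    {a : MonoidAlgebra S G} (ha : a ∈ bp_fix K) : bp_truncG H a ∈ bp_fix K := by
  intro x hx
  have hmap : H.map (MulAut.conj x).toMonoidHom = H := by
    ext g
    rw [bp_mem_map_conj x H g]
    have h1 := (Subgroup.mem_normalizer_iff.mp (hKH hx)) (x⁻¹ * g * x)
    rw [h1]
    have : x * (x⁻¹ * g * x) * x⁻¹ = g := by group
    rw [this]
  rw [bp_conj_truncG, hmap, ha x hx]

/-- CORE of the multiplicativity of the Brauer map, over an arbitrary commutative ring: for `P`-fixed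
`a`, `b` (`P` a `p`-group) the truncation to `C_G(P)` is multiplicative up to coefficients in `(p)`. -/
theorem bp_truncG_mul_coeff_sub_mem [Finite G] (p : ℕ) [Fact p.Prime] (P : Subgroup G)
    (hP : IsPGroup p P) {a b : MonoidAlgebra S G} (ha : a ∈ bp_fix P) (hb : b ∈ bp_fix P) (c : G) :
    (bp_truncG (Subgroup.centralizer (P : Set G)) (a * b)).coeff c -
      (bp_truncG (Subgroup.centralizer (P : Set G)) a *
        bp_truncG (Subgroup.centralizer (P : Set G)) b).coeff c ∈
      Ideal.span ({(p : S)} : Set S) := by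
  classical
  have : Fintype G := Fintype.ofFinite G
  have ha' := (bp_mem_fix_iff P a).1 ha
  have hb' := (bp_mem_fix_iff P b).1 hb
  by_cases hc : c ∈ Subgroup.centralizer (P : Set G)
  · rw [bp_truncG_coeff_mem _ _ hc, bp_coeff_mul_fintype, bp_coeff_mul_fintype]
    set φ : G → S := fun g => a.coeff g * b.coeff (g⁻¹ * c) with hφdef
    have hφ : ∀ (x : P) (g : G), φ ((bp_conjAct P).smul x g) = φ g := by
      intro x g
      rw [bp_conjAct_smul]
      simp only [hφdef]
      rw [ha' x x.2 g]
      have hcx : (x : G)⁻¹ * c = c * (x : G)⁻¹ := by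
        have := (Subgroup.mem_centralizer_iff.mp hc) (x : G) x.2
        rw [inv_mul_eq_iff_eq_mul, ← mul_assoc, this, mul_assoc, mul_inv_cancel, mul_one]
      have : ((x : G) * g * (x : G)⁻¹)⁻¹ * c = (x : G) * (g⁻¹ * c) * (x : G)⁻¹ := by
        rw [mul_inv_rev, mul_inv_rev, inv_inv, mul_assoc, mul_assoc, hcx]
        group
      rw [this, hb' x x.2]
    have hsplit := Finset.sum_filter_add_sum_filter_not (Finset.univ : Finset G)
      (fun g => g ∈ @MulAction.fixedPoints P G _ (bp_conjAct P)) φ
    have hmem := @bp_sum_nonfixed_mem_span P _ G (bp_conjAct P) S _ _ p _ hP φ hφ _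
    have h1 : (Finset.univ.filter (fun g => g ∈ @MulAction.fixedPoints P G _ (bp_conjAct P))) =
        Finset.univ.filter (fun g => g ∈ Subgroup.centralizer (P : Set G)) := by
      ext g
      simp only [Finset.mem_filter, Finset.mem_univ, true_and]
      exact bp_conjAct_fixed P g
    have h2 : (∑ g : G, (bp_truncG (Subgroup.centralizer (P : Set G)) a).coeff g *
        (bp_truncG (Subgroup.centralizer (P : Set G)) b).coeff (g⁻¹ * c)) =
        ∑ g ∈ Finset.univ.filter (fun g => g ∈ Subgroup.centralizer (P : Set G)), φ g := by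
      rw [Finset.sum_filter]
      refine Finset.sum_congr rfl (fun g _ => ?_)
      split_ifs with hg
      · have : g⁻¹ * c ∈ Subgroup.centralizer (P : Set G) :=
          Subgroup.mul_mem _ (Subgroup.inv_mem _ hg) hc
        rw [bp_truncG_coeff_mem _ _ hg, bp_truncG_coeff_mem _ _ this]
      · rw [bp_truncG_coeff_not_mem _ _ hg, zero_mul]
    rw [h2, ← h1, ← hsplit, add_sub_cancel_left]
    exact hmem
  · rw [bp_truncG_coeff_not_mem _ _ hc,
      bp_suppIn_mul (bp_truncG_suppIn _ a) (bp_truncG_suppIn _ b) c hc, sub_zero]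
    exact Ideal.zero_mem _

/-- Multiplicativity of the truncation to `C_G(P)` on the `P`-fixed points modulo an ideal containing `p`. -/
theorem bp_truncG_mul_sub_mem [Finite G] (p : ℕ) [Fact p.Prime] (I : Ideal S) (hpI : (p : S) ∈ I)
    (P : Subgroup G) (hP : IsPGroup p P) {a b : MonoidAlgebra S G} (ha : a ∈ bp_fix P)
    (hb : b ∈ bp_fix P) :
    bp_truncG (Subgroup.centralizer (P : Set G)) (a * b) -
      bp_truncG (Subgroup.centralizer (P : Set G)) a *
        bp_truncG (Subgroup.centralizer (P : Set G)) b ∈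
      I • (⊤ : Submodule S (MonoidAlgebra S G)) := by
  rw [bp_mem_ideal_smul_top_iff]
  intro g
  rw [coeff_sub, Finsupp.sub_apply]
  have hle : Ideal.span ({(p : S)} : Set S) ≤ I := by
    rw [Ideal.span_le]
    intro y hy
    rw [Set.mem_singleton_iff] at hy
    rw [hy]; exact hpI
  exact hle (bp_truncG_mul_coeff_sub_mem p P hP ha hb g)

/-- When `p = 0` in `S` the truncation to `C_G(P)` is multiplicative on the `P`-fixed points: this is the
Brauer map of `SG` itself (for a field `S = k` of characteristic `p`). -/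
theorem bp_truncG_mul_of_eq_zero [Finite G] (p : ℕ) [Fact p.Prime] (hp0 : (p : S) = 0)
    (P : Subgroup G) (hP : IsPGroup p P) {a b : MonoidAlgebra S G} (ha : a ∈ bp_fix P)
    (hb : b ∈ bp_fix P) :
    bp_truncG (Subgroup.centralizer (P : Set G)) (a * b) =
      bp_truncG (Subgroup.centralizer (P : Set G)) a *
        bp_truncG (Subgroup.centralizer (P : Set G)) b := by
  have h := bp_truncG_mul_sub_mem p (⊥ : Ideal S) (by rw [hp0]; exact Ideal.zero_mem _) P hP ha hb
  rw [Submodule.bot_smul, Submodule.mem_bot, sub_eq_zero] at h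
  exact h

theorem bp_truncG_mul [Finite G] (p : ℕ) [Fact p.Prime] [CharP S p]
    (P : Subgroup G) (hP : IsPGroup p P) {a b : MonoidAlgebra S G} (ha : a ∈ bp_fix P)
    (hb : b ∈ bp_fix P) :
    bp_truncG (Subgroup.centralizer (P : Set G)) (a * b) =
      bp_truncG (Subgroup.centralizer (P : Set G)) a *
        bp_truncG (Subgroup.centralizer (P : Set G)) b :=
  bp_truncG_mul_of_eq_zero p (CharP.cast_eq_zero S p) P hP ha hb

theorem bp_truncG_one (H : Subgroup G) : bp_truncG H (1 : MonoidAlgebra S G) = 1 :=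
  bp_truncG_of_suppIn (bp_suppIn_one H)

end trunc

section basechange

variable {R S : Type*} [CommRing R] [CommRing S] (φ : R →+* S) {G : Type*} [Group G]

/-- Base change of group algebras along a homomorphism of the coefficient rings. -/
noncomputable def bp_bc : MonoidAlgebra R G →+* MonoidAlgebra S G := MonoidAlgebra.mapRingHom G φ

@[simp] theorem bp_bc_coeff (a : MonoidAlgebra R G) (g : G) :
    (bp_bc φ a).coeff g = φ (a.coeff g) := by
  simp [bp_bc]

theorem bp_bc_single (g : G) (r : R) :
    bp_bc φ (single g r : MonoidAlgebra R G) = single g (φ r) := by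
  classical
  ext x
  rw [bp_bc_coeff, coeff_single, coeff_single, Finsupp.single_apply, Finsupp.single_apply]
  split_ifs <;> simp

theorem bp_bc_smul (r : R) (a : MonoidAlgebra R G) : bp_bc φ (r • a) = φ r • bp_bc φ a := by
  ext g
  simp

theorem bp_bc_conj (x : G) (a : MonoidAlgebra R G) :
    bp_bc φ (bp_conj x a) = bp_conj x (bp_bc φ a) := by
  ext g
  rw [bp_bc_coeff, bp_conj_coeff, bp_conj_coeff, bp_bc_coeff]

theorem bp_bc_mem_fix {H : Subgroup G} {a : MonoidAlgebra R G} (ha : a ∈ bp_fix H) :
    bp_bc φ a ∈ bp_fix H := by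
  intro x hx
  rw [← bp_bc_conj, ha x hx]

theorem bp_bc_tr [Finite G] (K H : Subgroup G) (a : MonoidAlgebra R G) :
    bp_bc φ (bp_tr K H a) = bp_tr K H (bp_bc φ a) := by
  rw [bp_tr_apply, bp_tr_apply, map_sum]
  exact Finset.sum_congr rfl (fun t _ => bp_bc_conj φ t a)

theorem bp_bc_eq_zero_iff (a : MonoidAlgebra R G) :
    bp_bc φ a = 0 ↔ ∀ g, a.coeff g ∈ RingHom.ker φ := by
  constructor
  · intro h g
    rw [RingHom.mem_ker, ← bp_bc_coeff, h]
    rfl
  · intro h
    ext g
    rw [bp_bc_coeff, (RingHom.mem_ker).mp (h g)]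
    rfl

theorem bp_bc_surjective (hφ : Function.Surjective φ) :
    Function.Surjective (bp_bc (G := G) φ) := by
  intro z
  obtain ⟨y, hy⟩ := MonoidAlgebra.map_surjective (M := G) (φ : R →+ S) hφ z
  exact ⟨y, hy⟩

theorem bp_bc_truncG (H : Subgroup G) (a : MonoidAlgebra R G) :
    bp_bc φ (bp_truncG H a) = bp_truncG H (bp_bc φ a) := by
  classical
  ext g
  rw [bp_bc_coeff, bp_truncG_coeff, bp_truncG_coeff, bp_bc_coeff]
  split_ifs
  · rfl
  · exact map_zero φ

theorem bp_bc_suppIn {H : Subgroup G} {a : MonoidAlgebra R G} (ha : bp_SuppIn H a) :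
    bp_SuppIn H (bp_bc φ a) := by
  intro g hg
  rw [bp_bc_coeff, ha g hg, map_zero]

end basechange

section brG

variable {R : Type*} [CommRing R] [IsLocalRing R] {G : Type*} [Group G]

/-- Reduction `RG → kG` modulo the maximal ideal. -/
noncomputable def bp_red : MonoidAlgebra R G →+* MonoidAlgebra (IsLocalRing.ResidueField R) G :=
  bp_bc (IsLocalRing.residue R)

theorem bp_red_coeff (a : MonoidAlgebra R G) (g : G) :
    (bp_red a).coeff g = IsLocalRing.residue R (a.coeff g) := bp_bc_coeff _ a g

theorem bp_red_eq_zero_iff [Finite G] (a : MonoidAlgebra R G) :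
    bp_red a = 0 ↔ a ∈ IsLocalRing.maximalIdeal R • (⊤ : Submodule R (MonoidAlgebra R G)) := by
  rw [bp_mem_ideal_smul_top_iff]
  unfold bp_red
  rw [bp_bc_eq_zero_iff]
  constructor
  · intro h g
    have := h g
    rwa [IsLocalRing.ker_residue] at this
  · intro h g
    rw [IsLocalRing.ker_residue]
    exact h g

/-- The Brauer map at `P` with values inside `kG`. -/
noncomputable def bp_brG (P : Subgroup G) (a : MonoidAlgebra R G) :
    MonoidAlgebra (IsLocalRing.ResidueField R) G :=
  bp_truncG (Subgroup.centralizer (P : Set G)) (bp_red a)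

theorem bp_brG_coeff_mem (P : Subgroup G) (a : MonoidAlgebra R G) {c : G}
    (hc : c ∈ Subgroup.centralizer (P : Set G)) :
    (bp_brG P a).coeff c = IsLocalRing.residue R (a.coeff c) := by
  rw [bp_brG, bp_truncG_coeff_mem _ _ hc, bp_red_coeff]

theorem bp_brG_coeff_not_mem (P : Subgroup G) (a : MonoidAlgebra R G) {c : G}
    (hc : c ∉ Subgroup.centralizer (P : Set G)) : (bp_brG P a).coeff c = 0 := by
  rw [bp_brG, bp_truncG_coeff_not_mem _ _ hc]

theorem bp_brG_suppIn (P : Subgroup G) (a : MonoidAlgebra R G) :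
    bp_SuppIn (Subgroup.centralizer (P : Set G)) (bp_brG P a) :=
  bp_truncG_suppIn _ _

theorem bp_brG_eq_mapDomain (P : Subgroup G) (a : MonoidAlgebra R G) :
    bp_brG P a =
      MonoidAlgebra.mapDomain (Subtype.val : Subgroup.centralizer (P : Set G) → G) (bp_brFun P a) := by
  ext g
  by_cases hg : g ∈ Subgroup.centralizer (P : Set G)
  · rw [bp_brG_coeff_mem P a hg]
    have := bp_coeff_mapDomain_val (R := IsLocalRing.ResidueField R) P (bp_brFun P a) ⟨g, hg⟩
    rw [bp_brFun_coeff] at this
    exact this.symm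
  · rw [bp_brG_coeff_not_mem P a hg, bp_coeff_mapDomain_val_not_mem P _ g hg]

theorem bp_brG_eq_zero_iff (P : Subgroup G) (a : MonoidAlgebra R G) :
    bp_brG P a = 0 ↔ bp_brFun P a = 0 := by
  constructor
  · intro h
    ext c
    rw [bp_brFun_coeff, ← bp_brG_coeff_mem P a c.2, h]
    rfl
  · intro h
    rw [bp_brG_eq_mapDomain, h]
    ext g
    simp

theorem bp_brG_zero (P : Subgroup G) : bp_brG P (0 : MonoidAlgebra R G) = 0 := by
  rw [bp_brG, map_zero, map_zero]

theorem bp_brG_add (P : Subgroup G) (a b : MonoidAlgebra R G) :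
    bp_brG P (a + b) = bp_brG P a + bp_brG P b := by
  rw [bp_brG, map_add, map_add]; rfl

theorem bp_brG_sub (P : Subgroup G) (a b : MonoidAlgebra R G) :
    bp_brG P (a - b) = bp_brG P a - bp_brG P b := by
  rw [bp_brG, map_sub, map_sub]; rfl

theorem bp_brG_sum {ι : Type*} (s : Finset ι) (P : Subgroup G) (a : ι → MonoidAlgebra R G) :
    bp_brG P (∑ i ∈ s, a i) = ∑ i ∈ s, bp_brG P (a i) := by
  rw [bp_brG, map_sum, map_sum]; rfl

theorem bp_brG_smul (P : Subgroup G) (r : R) (a : MonoidAlgebra R G) :
    bp_brG P (r • a) = IsLocalRing.residue R r • bp_brG P a := by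
  rw [bp_brG, bp_red, bp_bc_smul, map_smul]; rfl

theorem bp_brG_one (P : Subgroup G) : bp_brG P (1 : MonoidAlgebra R G) = 1 := by
  rw [bp_brG, map_one]
  exact bp_truncG_of_suppIn (bp_suppIn_one _)

/-- On elements supported on `C_G(P)` the Brauer map is the reduction. -/
theorem bp_brG_of_suppIn (P : Subgroup G) {a : MonoidAlgebra R G}
    (ha : bp_SuppIn (Subgroup.centralizer (P : Set G)) a) : bp_brG P a = bp_red a :=
  bp_truncG_of_suppIn (bp_bc_suppIn _ ha)

theorem bp_brG_of_mem_smul_top [Finite G] (P : Subgroup G) {a : MonoidAlgebra R G}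
    (ha : a ∈ IsLocalRing.maximalIdeal R • (⊤ : Submodule R (MonoidAlgebra R G))) :
    bp_brG P a = 0 := by
  rw [bp_brG, (bp_red_eq_zero_iff a).2 ha, map_zero]

/-- MULTIPLICATIVITY on the `P`-fixed points. -/
theorem bp_brG_mul [Finite G] {p : ℕ} [Fact p.Prime] (hpR : (p : R) ∈ IsLocalRing.maximalIdeal R)
    (P : Subgroup G) (hP : IsPGroup p P) {a b : MonoidAlgebra R G} (ha : a ∈ bp_fix P)
    (hb : b ∈ bp_fix P) : bp_brG P (a * b) = bp_brG P a * bp_brG P b := by
  have hp0 : ((p : ℕ) : IsLocalRing.ResidueField R) = 0 := by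
    have : IsLocalRing.residue R (p : R) = 0 := by
      rw [IsLocalRing.residue_eq_zero_iff]; exact hpR
    rw [← this, map_natCast]
  rw [bp_brG, map_mul]
  exact bp_truncG_mul_of_eq_zero p hp0 P hP (bp_bc_mem_fix _ ha) (bp_bc_mem_fix _ hb)

/-- CONJUGATION, as an equality inside `kG`. -/
theorem bp_brG_conj (P : Subgroup G) (x : G) (a : MonoidAlgebra R G) :
    bp_brG (P.map (MulAut.conj x).toMonoidHom) (bp_conj x a) = bp_conj x (bp_brG P a) := by
  ext g
  rw [bp_conj_coeff]
  have hiff : g ∈ Subgroup.centralizer ((P.map (MulAut.conj x).toMonoidHom : Subgroup G) : Set G) ↔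
      x⁻¹ * g * x ∈ Subgroup.centralizer (P : Set G) := by
    constructor
    · intro h
      exact bp_conj_inv_mem_centralizer x P h
    · intro h
      have := bp_conj_mem_centralizer_map x P h
      have e : x * (x⁻¹ * g * x) * x⁻¹ = g := by group
      rwa [e] at this
  by_cases hg : g ∈ Subgroup.centralizer ((P.map (MulAut.conj x).toMonoidHom : Subgroup G) : Set G)
  · rw [bp_brG_coeff_mem _ _ hg, bp_brG_coeff_mem _ _ (hiff.1 hg), bp_conj_coeff]
  · rw [bp_brG_coeff_not_mem _ _ hg, bp_brG_coeff_not_mem _ _ (fun h => hg (hiff.2 h))]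

/-- Conjugation by an element normalizing `P`. -/
theorem bp_brG_conj_of_mem_normalizer (P : Subgroup G) {x : G}
    (hx : x ∈ Subgroup.normalizer (P : Set G)) (a : MonoidAlgebra R G) :
    bp_brG P (bp_conj x a) = bp_conj x (bp_brG P a) := by
  have hmap : P.map (MulAut.conj x).toMonoidHom = P := by
    ext g
    rw [bp_mem_map_conj x P g]
    have h1 := (Subgroup.mem_normalizer_iff.mp hx) (x⁻¹ * g * x)
    rw [h1]
    have : x * (x⁻¹ * g * x) * x⁻¹ = g := by group
    rw [this]
  have := bp_brG_conj P x a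
  rwa [hmap] at this

/-- The Brauer image of a `K`-fixed element is `K`-fixed when `K` normalizes `P`. -/
theorem bp_brG_mem_fix {K P : Subgroup G} (hKP : K ≤ Subgroup.normalizer (P : Set G))
    {a : MonoidAlgebra R G} (ha : a ∈ bp_fix K) : bp_brG P a ∈ bp_fix K := by
  intro x hx
  rw [← bp_brG_conj_of_mem_normalizer P (hKP hx), ha x hx]

/-- TRANSITIVITY: for `Q ≤ P`, `br_P` is the truncation to `C_G(P)` of `br_Q`. -/
theorem bp_brG_trans {Q P : Subgroup G} (hQP : Q ≤ P) (a : MonoidAlgebra R G) :
    bp_brG P a = bp_truncG (Subgroup.centralizer (P : Set G)) (bp_brG Q a) := by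
  rw [bp_brG, bp_brG, bp_truncG_truncG_of_le (Subgroup.centralizer_le hQP)]

theorem bp_brG_tr_eq_zero [Finite G] {p : ℕ} [Fact p.Prime]
    (hpR : (p : R) ∈ IsLocalRing.maximalIdeal R) {Q P : Subgroup G} (hP : IsPGroup p P)
    (hQP : Q < P) (a : MonoidAlgebra R G) : bp_brG P (bp_tr Q P a) = 0 := by
  rw [bp_brG_eq_zero_iff]
  exact bp_brFun_tr_eq_zero hpR hP hQP a

end brG

section kernel

variable {S : Type*} [CommRing S] {G : Type*} [Group G]

/-- Removing the part supported on `C_G(P)` leaves the sum over the elements outside `C_G(P)`. -/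
theorem bp_sub_truncG_eq [Fintype G] (P : Subgroup G) (a : MonoidAlgebra S G)
    [DecidablePred fun g : G => g ∈ Subgroup.centralizer (P : Set G)] :
    a - bp_truncG (Subgroup.centralizer (P : Set G)) a =
      ∑ g ∈ Finset.univ.filter (fun g : G => g ∉ Subgroup.centralizer (P : Set G)),
        single g (a.coeff g) := by
  classical
  ext b
  rw [coeff_sub, Finsupp.sub_apply, coeff_sum, Finsupp.finsetSum_apply]
  simp only [coeff_single, Finsupp.single_apply]
  rw [Finset.sum_ite_eq']
  by_cases hb : b ∈ Subgroup.centralizer (P : Set G)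
  · rw [bp_truncG_coeff_mem _ _ hb, sub_self, if_neg]
    simp [hb]
  · rw [bp_truncG_coeff_not_mem _ _ hb, sub_zero, if_pos]
    simp [hb]

/-- KERNEL DECOMPOSITION, support-refined: only the orbit sums of the elements in the support of `a`
(outside `C_G(P)`) are needed. -/
theorem bp_sub_truncG_mem [Finite G] (P : Subgroup G) (T : Submodule S (MonoidAlgebra S G))
    (a : MonoidAlgebra S G) (ha : a ∈ bp_fix P)
    (hT : ∀ g : G, g ∉ Subgroup.centralizer (P : Set G) → a.coeff g ≠ 0 → bp_orbSum P g ∈ T) :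
    a - bp_truncG (Subgroup.centralizer (P : Set G)) a ∈ T := by
  classical
  have : Fintype G := Fintype.ofFinite G
  rw [bp_sub_truncG_eq]
  have hfilt : (Finset.univ.filter (fun g : G => g ∉ Subgroup.centralizer (P : Set G))) =
      Finset.univ.filter (fun g : G => g ∉ @MulAction.fixedPoints P G _ (bp_conjAct P)) := by
    ext g
    simp only [Finset.mem_filter, Finset.mem_univ, true_and]
    rw [bp_conjAct_fixed]
  rw [hfilt]
  refine @bp_sum_nonfixed_mem_submodule P _ G (bp_conjAct P) S _ _ _ _ _ T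
    (fun g => single g (a.coeff g)) _ ?_
  intro g hg inst
  rw [bp_conjAct_fixed] at hg
  have hsum : (∑ b ∈ Finset.univ.filter
      (fun b => b ∈ @MulAction.orbit P G (bp_conjAct P).toSMul g), single b (a.coeff b)) =
      (a.coeff g) • bp_orbSum (R := S) P g := by
    unfold bp_orbSum
    rw [Finset.smul_sum]
    have hf : (Finset.univ.filter (fun b => b ∈ @MulAction.orbit P G (bp_conjAct P).toSMul g)) =
        bp_orb P g := by
      ext b
      simp only [Finset.mem_filter, Finset.mem_univ, true_and]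
      rw [bp_orb_eq_orbit]
    rw [hf]
    refine Finset.sum_congr rfl (fun b hb => ?_)
    rw [bp_fix_coeff_orb ha hb, smul_single, smul_eq_mul, mul_one]
  by_cases h0 : a.coeff g = 0
  · have : (∑ b ∈ Finset.univ.filter
        (fun b => b ∈ @MulAction.orbit P G (bp_conjAct P).toSMul g), single b (a.coeff b)) = 0 := by
      rw [hsum, h0, zero_smul]
    convert T.zero_mem using 1
  · convert T.smul_mem (a.coeff g) (hT g hg h0) using 1

/-- Relative traces to `N` from the proper subgroups `K` of `N` containing `R`, of `K`-fixed elements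
supported on `H`. -/
noncomputable def bp_trLtIn [Finite G] (R H N : Subgroup G) : Submodule S (MonoidAlgebra S G) :=
  Submodule.span S {x | ∃ K : Subgroup G, R ≤ K ∧ K < N ∧
    ∃ b ∈ bp_fix (R := S) K, bp_SuppIn H b ∧ bp_tr K N b = x}

theorem bp_tr_mem_trLtIn [Finite G] {R H N K : Subgroup G} (hRK : R ≤ K) (hKN : K < N)
    {b : MonoidAlgebra S G} (hb : b ∈ bp_fix K) (hbH : bp_SuppIn H b) :
    bp_tr K N b ∈ bp_trLtIn (S := S) R H N :=
  Submodule.subset_span ⟨K, hRK, hKN, b, hb, hbH, rfl⟩

/-- KERNEL of the truncation to `C_G(N)` on the `N`-fixed elements supported on a subgroup `H` centralized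
by `R ≤ N`: sums of relative traces from proper subgroups containing `R` (of elements supported on `H`). -/
theorem bp_truncG_ker_suppIn [Finite G] {R H N : Subgroup G} (hRN : R ≤ N)
    (hHR : H ≤ Subgroup.centralizer (R : Set G)) {a : MonoidAlgebra S G} (ha : a ∈ bp_fix N)
    (haH : bp_SuppIn H a) (h0 : bp_truncG (Subgroup.centralizer (N : Set G)) a = 0) :
    a ∈ bp_trLtIn (S := S) R H N := by
  have h := bp_sub_truncG_mem N (bp_trLtIn (S := S) R H N) a ha ?_
  · rwa [h0, sub_zero] at h
  · intro g hg hcoeff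
    have hgH : g ∈ H := by
      by_contra hgH
      exact hcoeff (haH g hgH)
    rw [bp_orbSum_eq_tr]
    refine bp_tr_mem_trLtIn ?_ (bp_cent_lt_of_not_mem_centralizer N hg)
      (bp_single_mem_fix_cent N g 1) (bp_suppIn_single hgH 1)
    intro x hx
    rw [bp_mem_cent]
    refine ⟨hRN hx, ?_⟩
    have := (Subgroup.mem_centralizer_iff.mp (hHR hgH)) x hx
    exact this

end kernel

end Cfsg.Agent.BP
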