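import Mathlib

/-!
# BP / CycNorm: a non-zero element of `ℤ[ζ_m]` has conjugates of mean square norm at least 1

`bp_cyc_sum_norm_sq_ge`: for a primitive `m`-th root of unity `ζ : ℂ` and `α = ∑ aᵢ ζ^{eᵢ} ≠ 0` with
integer `aᵢ`, `φ(m) ≤ ∑_{k < m, (k,m)=1} ‖∑ aᵢ ζ^{eᵢ k}‖²` (the norm of `α` is a non-zero integer, then AM–GM).
-/

namespace Cfsg.Agent.BP

open Finset Polynomial

/-- AM–GM in the form needed: positive reals with product at least `1` have sum at least their number. -/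
theorem bp_card_le_sum_of_one_le_prod {κ : Type*} (s : Finset κ) (x : κ → ℝ)
    (hpos : ∀ k ∈ s, 0 < x k) (hprod : 1 ≤ ∏ k ∈ s, x k) : (s.card : ℝ) ≤ ∑ k ∈ s, x k := by
  have h1 : ∀ k ∈ s, 1 + Real.log (x k) ≤ x k := fun k hk => by
    have := Real.log_le_sub_one_of_pos (hpos k hk); linarith
  have h2 : 0 ≤ ∑ k ∈ s, Real.log (x k) := by
    rw [← Real.log_prod (fun k hk => (hpos k hk).ne')]
    exact Real.log_nonneg hprod
  calc (s.card : ℝ) = ∑ _k ∈ s, (1 : ℝ) := by simp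
    _ ≤ ∑ k ∈ s, (1 + Real.log (x k)) := by rw [Finset.sum_add_distrib]; linarith
    _ ≤ ∑ k ∈ s, x k := Finset.sum_le_sum h1

/-- The product of the conjugates `∑ aᵢ (ζ^k)^{eᵢ}`, `k` prime to `m`, of `∑ aᵢ ζ^{eᵢ} ≠ 0` is a non-zero
integer. -/
theorem bp_cyc_prod_conj_eq_int (m : ℕ) [NeZero m] (ζ : ℂ) (hζ : IsPrimitiveRoot ζ m) {ι : Type*}
    (s : Finset ι) (a : ι → ℤ) (e : ι → ℕ) (h1 : ∑ i ∈ s, (a i : ℂ) * ζ ^ e i ≠ 0) :
    ∃ N : ℤ, N ≠ 0 ∧
      ∏ k ∈ (Finset.range m).filter (Nat.Coprime · m), (∑ i ∈ s, (a i : ℂ) * ζ ^ (e i * k)) = (N : ℂ) := by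
  classical
  have hm : 0 < m := NeZero.pos m
  have hcyc : IsCyclotomicExtension {m} ℚ (CyclotomicField m ℚ) :=
    CyclotomicField.isCyclotomicExtension m ℚ
  have hζK : IsPrimitiveRoot (IsCyclotomicExtension.zeta m ℚ (CyclotomicField m ℚ)) m :=
    IsCyclotomicExtension.zeta_spec m ℚ (CyclotomicField m ℚ)
  set ζK : CyclotomicField m ℚ := IsCyclotomicExtension.zeta m ℚ (CyclotomicField m ℚ) with hζKdef
  have hirr : Irreducible (cyclotomic m ℚ) := cyclotomic.irreducible_rat hm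
  have : FiniteDimensional ℚ (CyclotomicField m ℚ) :=
    IsCyclotomicExtension.finiteDimensional {m} ℚ (CyclotomicField m ℚ)
  let x : CyclotomicField m ℚ := ∑ i ∈ s, (a i : CyclotomicField m ℚ) * ζK ^ e i
  let F : ℂ → ℂ := fun μ => ∑ i ∈ s, (a i : ℂ) * μ ^ e i
  -- every embedding maps `x` to `F (σ ζK)`
  have hσ : ∀ σ : CyclotomicField m ℚ →ₐ[ℚ] ℂ, σ x = F (σ ζK) := by
    intro σ
    simp only [x, F, map_sum, map_mul, map_pow, map_intCast]
  -- `x` is integral over `ℤ`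
  have hxint : IsIntegral ℤ x := by
    refine IsIntegral.sum _ (fun i _ => ?_)
    refine IsIntegral.mul ?_ ((hζK.isIntegral hm).pow _)
    have : (a i : CyclotomicField m ℚ) = algebraMap ℤ (CyclotomicField m ℚ) (a i) := by simp
    rw [this]; exact isIntegral_algebraMap
  -- `x ≠ 0`
  have hx0 : x ≠ 0 := by
    intro hx
    let φ0 : CyclotomicField m ℚ →ₐ[ℚ] ℂ := (hζK.embeddingsEquivPrimitiveRoots ℂ hirr).symm ⟨ζ, (mem_primitiveRoots hm).2 hζ⟩
    have hφ0 : φ0 ζK = ζ := by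
      have := hζK.embeddingsEquivPrimitiveRoots_apply_coe ℂ hirr φ0
      rw [← this]; simp [φ0]
    have := hσ φ0
    rw [hx, map_zero, hφ0] at this
    exact h1 this.symm
  -- the norm is a non-zero integer
  have hnint : IsIntegral ℤ (Algebra.norm ℚ x) := Algebra.isIntegral_norm ℚ hxint
  obtain ⟨N, hN⟩ := IsIntegrallyClosed.isIntegral_iff.mp hnint
  have hN0 : N ≠ 0 := by
    rintro rfl
    rw [map_zero] at hN
    exact hx0 ((Algebra.norm_eq_zero_iff).mp hN.symm)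
  refine ⟨N, hN0, ?_⟩
  -- the product over embeddings
  have hprod : (algebraMap ℚ ℂ) (Algebra.norm ℚ x) = ∏ σ : CyclotomicField m ℚ →ₐ[ℚ] ℂ, σ x :=
    Algebra.norm_eq_prod_embeddings ℚ ℂ x
  have hprod2 : ∏ σ : CyclotomicField m ℚ →ₐ[ℚ] ℂ, σ x = ∏ μ ∈ primitiveRoots m ℂ, F μ := by
    rw [← Finset.prod_coe_sort (primitiveRoots m ℂ) F]
    refine Fintype.prod_equiv (hζK.embeddingsEquivPrimitiveRoots ℂ hirr) _ _ (fun σ => ?_)
    rw [hσ σ, hζK.embeddingsEquivPrimitiveRoots_apply_coe ℂ hirr σ]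
  have hprod3 : ∏ k ∈ (Finset.range m).filter (Nat.Coprime · m), F (ζ ^ k) = ∏ μ ∈ primitiveRoots m ℂ, F μ := by
    refine Finset.prod_bij (fun i _ => ζ ^ i) ?_ ?_ ?_ (fun _ _ => rfl)
    · simp only [and_imp, mem_filter, mem_range]
      rintro i - hi
      rw [mem_primitiveRoots hm]
      exact hζ.pow_of_coprime i hi
    · simp only [and_imp, mem_filter, mem_range]
      rintro i hi - j hj - H
      exact hζ.pow_inj hi hj H
    · simp only [exists_prop, mem_filter, mem_range]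
      intro ξ hξ
      rw [mem_primitiveRoots hm, hζ.isPrimitiveRoot_iff] at hξ
      rcases hξ with ⟨i, hin, hi, H⟩
      exact ⟨i, ⟨hin, hi⟩, H⟩
  have hF : ∀ k : ℕ, F (ζ ^ k) = ∑ i ∈ s, (a i : ℂ) * ζ ^ (e i * k) := by
    intro k
    simp only [F]
    refine Finset.sum_congr rfl (fun i _ => ?_)
    rw [← pow_mul, mul_comm k]
  calc ∏ k ∈ (Finset.range m).filter (Nat.Coprime · m), (∑ i ∈ s, (a i : ℂ) * ζ ^ (e i * k))
      = ∏ k ∈ (Finset.range m).filter (Nat.Coprime · m), F (ζ ^ k) :=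
        Finset.prod_congr rfl (fun k _ => (hF k).symm)
    _ = ∏ μ ∈ primitiveRoots m ℂ, F μ := hprod3
    _ = (algebraMap ℚ ℂ) (Algebra.norm ℚ x) := by rw [hprod, hprod2]
    _ = (N : ℂ) := by rw [← hN]; simp

/-- A non-zero integral combination of powers of a primitive `m`-th root of unity has `φ(m)` conjugates whose
squared absolute values sum to at least `φ(m)`. -/
theorem bp_cyc_sum_norm_sq_ge (m : ℕ) [NeZero m] (ζ : ℂ) (hζ : IsPrimitiveRoot ζ m) {ι : Type*}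
    (s : Finset ι) (a : ι → ℤ) (e : ι → ℕ) (h1 : ∑ i ∈ s, (a i : ℂ) * ζ ^ e i ≠ 0) :
    (Nat.totient m : ℝ) ≤
      ∑ k ∈ (Finset.range m).filter (Nat.Coprime · m), ‖∑ i ∈ s, (a i : ℂ) * ζ ^ (e i * k)‖ ^ 2 := by
  classical
  obtain ⟨N, hN0, hN⟩ := bp_cyc_prod_conj_eq_int m ζ hζ s a e h1
  set T := (Finset.range m).filter (Nat.Coprime · m) with hT
  have hcard : (T.card : ℝ) = (Nat.totient m : ℝ) := by
    rw [Nat.totient_eq_card_coprime]
    congr 2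
    rw [hT]
    exact Finset.filter_congr (fun k _ => Nat.coprime_comm)
  have hne : ∀ k ∈ T, (∑ i ∈ s, (a i : ℂ) * ζ ^ (e i * k)) ≠ 0 := by
    have : ∏ k ∈ T, (∑ i ∈ s, (a i : ℂ) * ζ ^ (e i * k)) ≠ 0 := by
      rw [hN]; exact_mod_cast hN0
    exact Finset.prod_ne_zero_iff.mp this
  have hpos : ∀ k ∈ T, 0 < ‖∑ i ∈ s, (a i : ℂ) * ζ ^ (e i * k)‖ ^ 2 := fun k hk =>
    pow_pos (norm_pos_iff.mpr (hne k hk)) 2
  have hprod : 1 ≤ ∏ k ∈ T, ‖∑ i ∈ s, (a i : ℂ) * ζ ^ (e i * k)‖ ^ 2 := by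
    rw [Finset.prod_pow, ← norm_prod, hN]
    have h1' : (1 : ℝ) ≤ ‖(N : ℂ)‖ := by
      rw [Complex.norm_intCast]
      exact_mod_cast Int.one_le_abs hN0
    nlinarith [h1']
  rw [← hcard]
  exact bp_card_le_sum_of_one_le_prod T _ hpos hprod

end Cfsg.Agent.BP
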