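import Mathlib
import Cfsg.Agent.BP.CycNorm

/-!
# BP / CycNormB: the equality case of AM–GM for cyclotomic conjugates, and the numerical squeeze of §10

* `bp_eq_one_of_sum_le_card`: positive reals with product `≥ 1` and sum `≤` their number are all `1`.
* `bp_cyc_norm_eq_one_of_sum_le`: if the conjugates `α_k = ∑ aᵢ ζ^{eᵢ k}` of `α ≠ 0` satisfy
  `∑_k ‖α_k‖² ≤ φ(m)` then every `‖α_k‖ = 1`.
* `bp_nil_squeeze`: the counting argument of §10 (nilpotent blocks): from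
  `|Z|·(|D| m₁) + ∑_{u ∉ Z} ‖d u‖² = |D|`, `1 ≤ |D| m₁`, `d u ≠ 0` and Galois compatibility of `d`,
  conclude `|D| m₁ = 1` and `‖d u‖ = 1` for all `u ∉ Z`.
-/

namespace Cfsg.Agent.BP

open Finset

universe v

/-- Equality case of AM–GM in the form needed. -/
theorem bp_eq_one_of_sum_le_card {κ : Type*} (s : Finset κ) (x : κ → ℝ)
    (hpos : ∀ k ∈ s, 0 < x k) (hprod : 1 ≤ ∏ k ∈ s, x k) (hsum : ∑ k ∈ s, x k ≤ (s.card : ℝ)) :
    ∀ k ∈ s, x k = 1 := by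
  have hg : ∀ k ∈ s, 0 ≤ x k - 1 - Real.log (x k) := fun k hk => by
    have := Real.log_le_sub_one_of_pos (hpos k hk); linarith
  have hlog : 0 ≤ ∑ k ∈ s, Real.log (x k) := by
    rw [← Real.log_prod (fun k hk => (hpos k hk).ne')]
    exact Real.log_nonneg hprod
  have hsum0 : ∑ k ∈ s, (x k - 1 - Real.log (x k)) ≤ 0 := by
    rw [Finset.sum_sub_distrib, Finset.sum_sub_distrib]
    simp only [Finset.sum_const, nsmul_eq_mul, mul_one]
    linarith
  have hzero : ∑ k ∈ s, (x k - 1 - Real.log (x k)) = 0 :=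
    le_antisymm hsum0 (Finset.sum_nonneg hg)
  have hall := (Finset.sum_eq_zero_iff_of_nonneg hg).mp hzero
  intro k hk
  by_contra hne
  have hlt := Real.log_lt_sub_one_of_pos (hpos k hk) hne
  have := hall k hk
  linarith

/-- If the squared norms of the conjugates of `α = ∑ aᵢ ζ^{eᵢ} ≠ 0` sum to at most `φ(m)`, each conjugate has
norm `1`. -/
theorem bp_cyc_norm_eq_one_of_sum_le (m : ℕ) [NeZero m] (ζ : ℂ) (hζ : IsPrimitiveRoot ζ m) {ι : Type*}
    (s : Finset ι) (a : ι → ℤ) (e : ι → ℕ) (h1 : ∑ i ∈ s, (a i : ℂ) * ζ ^ e i ≠ 0)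
    (hle : ∑ k ∈ (Finset.range m).filter (Nat.Coprime · m), ‖∑ i ∈ s, (a i : ℂ) * ζ ^ (e i * k)‖ ^ 2 ≤
      (Nat.totient m : ℝ)) :
    ∀ k ∈ (Finset.range m).filter (Nat.Coprime · m), ‖∑ i ∈ s, (a i : ℂ) * ζ ^ (e i * k)‖ = 1 := by
  classical
  obtain ⟨N, hN0, hN⟩ := bp_cyc_prod_conj_eq_int m ζ hζ s a e h1
  set T := (Finset.range m).filter (Nat.Coprime · m) with hT
  have hcard : (T.card : ℝ) = (Nat.totient m : ℝ) := by
    rw [Nat.totient_eq_card_coprime]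
    congr 2
    rw [hT]
    exact Finset.filter_congr (fun k _ => Nat.coprime_comm)
  have hne : ∀ k ∈ T, (∑ i ∈ s, (a i : ℂ) * ζ ^ (e i * k)) ≠ 0 := by
    have : ∏ k ∈ T, (∑ i ∈ s, (a i : ℂ) * ζ ^ (e i * k)) ≠ 0 := by
      rw [hN]; exact_mod_cast hN0
    exact Finset.prod_ne_zero_iff.mp this
  have hpos : ∀ k ∈ T, 0 < ‖∑ i ∈ s, (a i : ℂ) * ζ ^ (e i * k)‖ ^ 2 := fun k hk =>
    pow_pos (norm_pos_iff.mpr (hne k hk)) 2
  have hprod : 1 ≤ ∏ k ∈ T, ‖∑ i ∈ s, (a i : ℂ) * ζ ^ (e i * k)‖ ^ 2 := by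
    rw [Finset.prod_pow, ← norm_prod, hN]
    have h1' : (1 : ℝ) ≤ ‖(N : ℂ)‖ := by
      rw [Complex.norm_intCast]
      exact_mod_cast Int.one_le_abs hN0
    nlinarith [h1']
  have hall := bp_eq_one_of_sum_le_card T _ hpos hprod (by rw [hcard]; exact hle)
  intro k hk
  have hsq := hall k hk
  have hnn : 0 ≤ ‖∑ i ∈ s, (a i : ℂ) * ζ ^ (e i * k)‖ := norm_nonneg _
  nlinarith [hsq, hnn]

/-- Membership in a subgroup is insensitive to a power prime to the group order. -/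
theorem bp_pow_mem_iff_of_coprime {D : Type*} [Group D] (Z : Subgroup D) {k : ℕ}
    (hk : (Nat.card D).Coprime k) (u : D) : u ^ k ∈ Z ↔ u ∈ Z := by
  refine ⟨fun h => ?_, fun h => Z.pow_mem h k⟩
  have h1 : (powCoprime hk).symm (u ^ k) = u := (powCoprime hk).symm_apply_apply u
  rw [powCoprime_symm_apply] at h1
  rw [← h1]
  exact Z.zpow_mem h _

/-- **The numerical squeeze of §10.**  `D` a finite group (the defect group), `Z ≤ D`, `d : D → ℂ` with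
Galois-compatible cyclotomic expansions off `Z`, non-vanishing off `Z`; if
`|Z|·(|D| m₁) + ∑_{u ∉ Z} ‖d u‖² = |D|` and `1 ≤ |D| m₁` then `|D| m₁ = 1` and `‖d u‖ = 1` off `Z`. -/
theorem bp_nil_squeeze {D : Type*} [Group D] [Fintype D] (Z : Subgroup D) [DecidablePred (· ∈ Z)]
    (ζ : ℂ) (hζ : IsPrimitiveRoot ζ (Fintype.card D)) (d : D → ℂ) (m₁ : ℝ)
    (hgal : ∀ u : D, u ∉ Z → ∃ (ι : Type v) (s : Finset ι) (a : ι → ℤ) (e : ι → ℕ),
        ∀ k : ℕ, k.Coprime (Fintype.card D) → d (u ^ k) = ∑ i ∈ s, (a i : ℂ) * ζ ^ (e i * k))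
    (hne : ∀ u : D, u ∉ Z → d u ≠ 0)
    (hm : 1 ≤ (Fintype.card D : ℝ) * m₁)
    (hsum : (Nat.card Z : ℝ) * ((Fintype.card D : ℝ) * m₁) +
        ∑ u : D, (if u ∈ Z then (0 : ℝ) else ‖d u‖ ^ 2) = (Fintype.card D : ℝ)) :
    (Fintype.card D : ℝ) * m₁ = 1 ∧ ∀ u : D, u ∉ Z → ‖d u‖ = 1 := by
  classical
  set N := Fintype.card D with hNdef
  have : NeZero N := ⟨Fintype.card_ne_zero⟩
  set T := (Finset.range N).filter (Nat.Coprime · N) with hT
  set W : Finset D := Finset.univ.filter (fun u => u ∉ Z) with hW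
  have hTcard : (T.card : ℝ) = (Nat.totient N : ℝ) := by
    rw [Nat.totient_eq_card_coprime]
    congr 2
    rw [hT]
    exact Finset.filter_congr (fun k _ => Nat.coprime_comm)
  have hcop : ∀ k ∈ T, (Nat.card D).Coprime k := by
    intro k hk
    rw [Nat.card_eq_fintype_card]
    exact ((Finset.mem_filter.mp hk).2).symm
  -- rewrite the sum over `D` as a sum over `W`
  have hsumW : ∑ u : D, (if u ∈ Z then (0 : ℝ) else ‖d u‖ ^ 2) = ∑ u ∈ W, ‖d u‖ ^ 2 := by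
    rw [hW, Finset.sum_filter]
    refine Finset.sum_congr rfl (fun u _ => ?_)
    by_cases h : u ∈ Z <;> simp [h]
  -- Step A: each Galois orbit sum is at least `φ(N)`
  have hA : ∀ u ∈ W, (Nat.totient N : ℝ) ≤ ∑ k ∈ T, ‖d (u ^ k)‖ ^ 2 := by
    intro u hu
    have huZ : u ∉ Z := (Finset.mem_filter.mp hu).2
    obtain ⟨ι, s, a, e, hexp⟩ := hgal u huZ
    have h1 : ∑ i ∈ s, (a i : ℂ) * ζ ^ e i ≠ 0 := by
      have := hexp 1 (Nat.coprime_one_left _)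
      rw [pow_one] at this
      simp only [mul_one] at this
      rw [← this]
      exact hne u huZ
    have := bp_cyc_sum_norm_sq_ge N ζ hζ s a e h1
    refine this.trans (le_of_eq ?_)
    refine Finset.sum_congr rfl (fun k hk => ?_)
    rw [hexp k (Finset.mem_filter.mp hk).2]
  -- Step B: `u ↦ u ^ k` permutes `W`
  have hB : ∀ k ∈ T, ∑ u ∈ W, ‖d (u ^ k)‖ ^ 2 = ∑ u ∈ W, ‖d u‖ ^ 2 := by
    intro k hk
    have hk' := hcop k hk
    refine Finset.sum_equiv (powCoprime hk') ?_ (fun u _ => by rw [powCoprime_apply])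
    intro u
    simp [hW, bp_pow_mem_iff_of_coprime Z hk' u]
  -- double count
  have hdouble : ∑ u ∈ W, ∑ k ∈ T, ‖d (u ^ k)‖ ^ 2 = (T.card : ℝ) * ∑ u ∈ W, ‖d u‖ ^ 2 := by
    rw [Finset.sum_comm, Finset.sum_congr rfl hB, Finset.sum_const, nsmul_eq_mul]
  have hlow : (W.card : ℝ) * (Nat.totient N : ℝ) ≤ ∑ u ∈ W, ∑ k ∈ T, ‖d (u ^ k)‖ ^ 2 := by
    have := Finset.sum_le_sum hA
    rw [Finset.sum_const, nsmul_eq_mul] at this
    exact this
  have hφpos : (0 : ℝ) < (Nat.totient N : ℝ) := by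
    exact_mod_cast Nat.totient_pos.mpr (NeZero.pos N)
  have hWle : (W.card : ℝ) ≤ ∑ u ∈ W, ‖d u‖ ^ 2 := by
    rw [hdouble, hTcard] at hlow
    have : (W.card : ℝ) * (Nat.totient N : ℝ) ≤ (∑ u ∈ W, ‖d u‖ ^ 2) * (Nat.totient N : ℝ) := by
      rw [mul_comm (∑ u ∈ W, ‖d u‖ ^ 2)]; exact hlow
    exact le_of_mul_le_mul_right this hφpos
  -- `|D| = |Z| + |W|`
  have hcardDZ : (N : ℝ) = (Nat.card Z : ℝ) + (W.card : ℝ) := by
    have h1 : (Finset.univ.filter (fun u : D => u ∈ Z)).card + W.card = N := by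
      rw [hW, Finset.card_filter_add_card_filter_not, Finset.card_univ]
    have h2 : Nat.card Z = (Finset.univ.filter (fun u : D => u ∈ Z)).card := by
      rw [Nat.card_eq_fintype_card, Fintype.card_subtype]
    rw [h2]
    exact_mod_cast h1.symm
  have hZpos : (0 : ℝ) < (Nat.card Z : ℝ) := by
    exact_mod_cast Nat.card_pos
  rw [hsumW] at hsum
  -- squeeze
  have hX : (N : ℝ) * m₁ = 1 := by
    by_contra hX
    have hlt : 1 < (N : ℝ) * m₁ := lt_of_le_of_ne hm (Ne.symm hX)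
    nlinarith [hZpos, hlt, hWle, hsum, hcardDZ]
  have hS : ∑ u ∈ W, ‖d u‖ ^ 2 = (W.card : ℝ) := by
    rw [hX, mul_one] at hsum
    linarith
  refine ⟨hX, ?_⟩
  -- each orbit sum equals `φ(N)`
  have horb : ∀ u ∈ W, ∑ k ∈ T, ‖d (u ^ k)‖ ^ 2 = (Nat.totient N : ℝ) := by
    have hnonneg : ∀ u ∈ W, 0 ≤ ∑ k ∈ T, ‖d (u ^ k)‖ ^ 2 - (Nat.totient N : ℝ) := fun u hu => by
      linarith [hA u hu]
    have htot : ∑ u ∈ W, (∑ k ∈ T, ‖d (u ^ k)‖ ^ 2 - (Nat.totient N : ℝ)) = 0 := by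
      rw [Finset.sum_sub_distrib, hdouble, hS, Finset.sum_const, nsmul_eq_mul, hTcard]
      ring
    intro u hu
    have := (Finset.sum_eq_zero_iff_of_nonneg hnonneg).mp htot u hu
    linarith
  intro u huZ
  have hu : u ∈ W := by simp [hW, huZ]
  have hu1 : u ≠ 1 := fun h => huZ (h ▸ Z.one_mem)
  have hN2 : 1 < N := by
    rw [hNdef]
    exact Fintype.one_lt_card_iff.mpr ⟨u, 1, hu1⟩
  have h1T : 1 ∈ T := by
    rw [hT, Finset.mem_filter, Finset.mem_range]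
    exact ⟨hN2, Nat.coprime_one_left _⟩
  obtain ⟨ι, s, a, e, hexp⟩ := hgal u huZ
  have h1 : ∑ i ∈ s, (a i : ℂ) * ζ ^ e i ≠ 0 := by
    have := hexp 1 (Nat.coprime_one_left _)
    rw [pow_one] at this
    simp only [mul_one] at this
    rw [← this]
    exact hne u huZ
  have hle : ∑ k ∈ (Finset.range N).filter (Nat.Coprime · N),
      ‖∑ i ∈ s, (a i : ℂ) * ζ ^ (e i * k)‖ ^ 2 ≤ (Nat.totient N : ℝ) := by
    rw [← horb u hu]
    refine le_of_eq (Finset.sum_congr rfl (fun k hk => ?_))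
    rw [hexp k (Finset.mem_filter.mp hk).2]
  have := bp_cyc_norm_eq_one_of_sum_le N ζ hζ s a e h1 hle 1 h1T
  have h2 := hexp 1 (Nat.coprime_one_left _)
  rw [pow_one] at h2
  rw [h2]
  exact this

end Cfsg.Agent.BP
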