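import Mathlib
import Cfsg.Agent.BP.CycNormB

/-!
# BP / CycNormC: the numerical squeeze of §10 in terms of the squared norms

`bp_nil_squeeze_sq` is `bp_nil_squeeze` with the real function `n u = ‖d u‖²` in place of `d`
(this avoids any compatibility between the choices made at `u` and at `u ^ k`).
-/

namespace Cfsg.Agent.BP

open Finset

universe v

/-- **The numerical squeeze of §10, squared-norm form.** -/
theorem bp_nil_squeeze_sq {D : Type*} [Group D] [Fintype D] (Z : Subgroup D)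
    [DecidablePred (· ∈ Z)]
    (ζ : ℂ) (hζ : IsPrimitiveRoot ζ (Fintype.card D)) (n : D → ℝ) (m₁ : ℝ)
    (hgal : ∀ u : D, u ∉ Z → ∃ (ι : Type v) (s : Finset ι) (a : ι → ℤ) (e : ι → ℕ),
        (∑ i ∈ s, (a i : ℂ) * ζ ^ e i ≠ 0) ∧
        ∀ k : ℕ, k.Coprime (Fintype.card D) →
          n (u ^ k) = ‖∑ i ∈ s, (a i : ℂ) * ζ ^ (e i * k)‖ ^ 2)
    (hm : 1 ≤ (Fintype.card D : ℝ) * m₁)
    (hsum : (Nat.card Z : ℝ) * ((Fintype.card D : ℝ) * m₁) +
        ∑ u : D, (if u ∈ Z then (0 : ℝ) else n u) = (Fintype.card D : ℝ)) :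
    (Fintype.card D : ℝ) * m₁ = 1 ∧ ∀ u : D, u ∉ Z → n u = 1 := by
  classical
  set N := Fintype.card D with hNdef
  have : NeZero N := ⟨Fintype.card_ne_zero⟩
  set T := (Finset.range N).filter (Nat.Coprime · N) with hT
  set W : Finset D := Finset.univ.filter (fun u => u ∉ Z) with hW
  have hTcard : (T.card : ℝ) = (Nat.totient N : ℝ) := by
    rw [Nat.totient_eq_card_coprime]
    congr 2
    rw [hT]
    exact Finset.filter_congr (fun k _ => Nat.coprime_comm)
  have hcop : ∀ k ∈ T, (Nat.card D).Coprime k := by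
    intro k hk
    rw [Nat.card_eq_fintype_card]
    exact ((Finset.mem_filter.mp hk).2).symm
  have hsumW : ∑ u : D, (if u ∈ Z then (0 : ℝ) else n u) = ∑ u ∈ W, n u := by
    rw [hW, Finset.sum_filter]
    refine Finset.sum_congr rfl (fun u _ => ?_)
    by_cases h : u ∈ Z <;> simp [h]
  -- Step A: each Galois orbit sum is at least `φ(N)`
  have hA : ∀ u ∈ W, (Nat.totient N : ℝ) ≤ ∑ k ∈ T, n (u ^ k) := by
    intro u hu
    have huZ : u ∉ Z := (Finset.mem_filter.mp hu).2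
    obtain ⟨ι, s, a, e, h1, hexp⟩ := hgal u huZ
    have := bp_cyc_sum_norm_sq_ge N ζ hζ s a e h1
    refine this.trans (le_of_eq ?_)
    refine Finset.sum_congr rfl (fun k hk => ?_)
    rw [hexp k (Finset.mem_filter.mp hk).2]
  -- Step B: `u ↦ u ^ k` permutes `W`
  have hB : ∀ k ∈ T, ∑ u ∈ W, n (u ^ k) = ∑ u ∈ W, n u := by
    intro k hk
    have hk' := hcop k hk
    refine Finset.sum_equiv (powCoprime hk') ?_ (fun u _ => by rw [powCoprime_apply])
    intro u
    simp [hW, bp_pow_mem_iff_of_coprime Z hk' u]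
  have hdouble : ∑ u ∈ W, ∑ k ∈ T, n (u ^ k) = (T.card : ℝ) * ∑ u ∈ W, n u := by
    rw [Finset.sum_comm, Finset.sum_congr rfl hB, Finset.sum_const, nsmul_eq_mul]
  have hlow : (W.card : ℝ) * (Nat.totient N : ℝ) ≤ ∑ u ∈ W, ∑ k ∈ T, n (u ^ k) := by
    have := Finset.sum_le_sum hA
    rw [Finset.sum_const, nsmul_eq_mul] at this
    exact this
  have hφpos : (0 : ℝ) < (Nat.totient N : ℝ) := by
    exact_mod_cast Nat.totient_pos.mpr (NeZero.pos N)
  have hWle : (W.card : ℝ) ≤ ∑ u ∈ W, n u := by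
    rw [hdouble, hTcard] at hlow
    have : (W.card : ℝ) * (Nat.totient N : ℝ) ≤ (∑ u ∈ W, n u) * (Nat.totient N : ℝ) := by
      rw [mul_comm (∑ u ∈ W, n u)]; exact hlow
    exact le_of_mul_le_mul_right this hφpos
  have hcardDZ : (N : ℝ) = (Nat.card Z : ℝ) + (W.card : ℝ) := by
    have h1 : (Finset.univ.filter (fun u : D => u ∈ Z)).card + W.card = N := by
      rw [hW, Finset.card_filter_add_card_filter_not, Finset.card_univ]
    have h2 : Nat.card Z = (Finset.univ.filter (fun u : D => u ∈ Z)).card := by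
      rw [Nat.card_eq_fintype_card, Fintype.card_subtype]
    rw [h2]
    exact_mod_cast h1.symm
  have hZpos : (0 : ℝ) < (Nat.card Z : ℝ) := by
    exact_mod_cast Nat.card_pos
  rw [hsumW] at hsum
  have hX : (N : ℝ) * m₁ = 1 := by
    by_contra hX
    have hlt : 1 < (N : ℝ) * m₁ := lt_of_le_of_ne hm (Ne.symm hX)
    nlinarith [hZpos, hlt, hWle, hsum, hcardDZ]
  have hS : ∑ u ∈ W, n u = (W.card : ℝ) := by
    rw [hX, mul_one] at hsum
    linarith
  refine ⟨hX, ?_⟩
  have horb : ∀ u ∈ W, ∑ k ∈ T, n (u ^ k) = (Nat.totient N : ℝ) := by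
    have hnonneg : ∀ u ∈ W, 0 ≤ ∑ k ∈ T, n (u ^ k) - (Nat.totient N : ℝ) := fun u hu => by
      linarith [hA u hu]
    have htot : ∑ u ∈ W, (∑ k ∈ T, n (u ^ k) - (Nat.totient N : ℝ)) = 0 := by
      rw [Finset.sum_sub_distrib, hdouble, hS, Finset.sum_const, nsmul_eq_mul, hTcard]
      ring
    intro u hu
    have := (Finset.sum_eq_zero_iff_of_nonneg hnonneg).mp htot u hu
    linarith
  intro u huZ
  have hu : u ∈ W := by simp [hW, huZ]
  have hu1 : u ≠ 1 := fun h => huZ (h ▸ Z.one_mem)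
  have hN2 : 1 < N := by
    rw [hNdef]
    exact Fintype.one_lt_card_iff.mpr ⟨u, 1, hu1⟩
  have h1T : 1 ∈ T := by
    rw [hT, Finset.mem_filter, Finset.mem_range]
    exact ⟨hN2, Nat.coprime_one_left _⟩
  obtain ⟨ι, s, a, e, h1, hexp⟩ := hgal u huZ
  have hle : ∑ k ∈ (Finset.range N).filter (Nat.Coprime · N),
      ‖∑ i ∈ s, (a i : ℂ) * ζ ^ (e i * k)‖ ^ 2 ≤ (Nat.totient N : ℝ) := by
    rw [← horb u hu]
    refine le_of_eq (Finset.sum_congr rfl (fun k hk => ?_))
    rw [hexp k (Finset.mem_filter.mp hk).2]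
  have := bp_cyc_norm_eq_one_of_sum_le N ζ hζ s a e h1 hle 1 h1T
  have h2 := hexp 1 (Nat.coprime_one_left _)
  rw [pow_one] at h2
  rw [h2, this, one_pow]

end Cfsg.Agent.BP
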