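import Mathlib

/-!
# BP / L3 part A : the `G`-algebra `RG` — conjugation and fixed points

Blueprint `notes/BP_blueprint_helper6.md`, section 3.  Mathlib only.
-/

set_option autoImplicit false

namespace Cfsg.Agent.BP

open MonoidAlgebra

variable {R : Type*} [CommRing R] {G : Type*} [Group G]

/-- conjugation by `g` on `RG`: `a ↦ g a g⁻¹`. -/
noncomputable def bp_conj (g : G) : MonoidAlgebra R G ≃ₐ[R] MonoidAlgebra R G :=
  MonoidAlgebra.domCongr R R (MulAut.conj g)

theorem bp_conj_coeff (g x : G) (a : MonoidAlgebra R G) :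
    (bp_conj g a).coeff x = a.coeff (g⁻¹ * x * g) := by
  simp [bp_conj, MulAut.conj_symm_apply]

theorem bp_conj_single (g x : G) (r : R) :
    bp_conj g (MonoidAlgebra.single x r) = MonoidAlgebra.single (g * x * g⁻¹) r := by
  simp [bp_conj, MulAut.conj_apply]

theorem bp_conj_one (a : MonoidAlgebra R G) : bp_conj (1 : G) a = a := by
  ext x
  simp [bp_conj_coeff]

theorem bp_conj_mul (g h : G) (a : MonoidAlgebra R G) :
    bp_conj (g * h) a = bp_conj g (bp_conj h a) := by
  ext x
  simp only [bp_conj_coeff]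
  congr 1
  group

theorem bp_conj_inv_conj (g : G) (a : MonoidAlgebra R G) : bp_conj g⁻¹ (bp_conj g a) = a := by
  rw [← bp_conj_mul, inv_mul_cancel, bp_conj_one]

theorem bp_conj_conj_inv (g : G) (a : MonoidAlgebra R G) : bp_conj g (bp_conj g⁻¹ a) = a := by
  rw [← bp_conj_mul, mul_inv_cancel, bp_conj_one]

/-- conjugation is the inner automorphism of the unit `g`. -/
theorem bp_conj_eq_mul (g : G) (a : MonoidAlgebra R G) :
    bp_conj g a = MonoidAlgebra.single g (1 : R) * a * MonoidAlgebra.single g⁻¹ (1 : R) := by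
  induction a using MonoidAlgebra.induction_linear with
  | zero => simp
  | add x y hx hy => rw [map_add, hx, hy, mul_add, add_mul]
  | single x r =>
    rw [bp_conj_single, MonoidAlgebra.single_mul_single, MonoidAlgebra.single_mul_single]
    simp


/-- fixed points of a subgroup `H` acting on `RG` by conjugation, as a subalgebra. -/
noncomputable def bp_fix (H : Subgroup G) : Subalgebra R (MonoidAlgebra R G) where
  carrier := {a | ∀ h ∈ H, bp_conj h a = a}
  mul_mem' := by
    intro a b ha hb h hh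
    rw [map_mul, ha h hh, hb h hh]
  add_mem' := by
    intro a b ha hb h hh
    rw [map_add, ha h hh, hb h hh]
  algebraMap_mem' := by
    intro r h _
    exact (bp_conj h).commutes r

theorem bp_mem_fix (H : Subgroup G) (a : MonoidAlgebra R G) :
    a ∈ bp_fix H ↔ ∀ h ∈ H, bp_conj h a = a := Iff.rfl

theorem bp_mem_fix_iff (H : Subgroup G) (a : MonoidAlgebra R G) :
    a ∈ bp_fix H ↔ ∀ h ∈ H, ∀ g : G, a.coeff (h * g * h⁻¹) = a.coeff g := by
  constructor
  · intro ha h hh g
    have h1 := ha h⁻¹ (H.inv_mem hh)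
    have h2 := congrArg (fun z => z.coeff g) h1
    simp only [bp_conj_coeff, inv_inv] at h2
    exact h2
  · intro ha h hh
    ext g
    rw [bp_conj_coeff]
    have := ha h⁻¹ (H.inv_mem hh) g
    simpa using this

theorem bp_fix_mono {K H : Subgroup G} (hKH : K ≤ H) :
    bp_fix (R := R) H ≤ bp_fix K := fun _ ha h hh => ha h (hKH hh)

theorem bp_fix_bot : bp_fix (R := R) (⊥ : Subgroup G) = ⊤ := by
  ext a
  simp only [Algebra.mem_top, iff_true]
  intro h hh
  rw [Subgroup.mem_bot] at hh
  rw [hh, bp_conj_one]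

/-- conjugation transports fixed points. -/
theorem bp_conj_mem_fix (g : G) {H : Subgroup G} {a : MonoidAlgebra R G} (ha : a ∈ bp_fix H) :
    bp_conj g a ∈ bp_fix (H.map (MulAut.conj g).toMonoidHom) := by
  intro x hx
  obtain ⟨h, hh, rfl⟩ := hx
  have : (MulAut.conj g).toMonoidHom h = g * h * g⁻¹ := by simp [MulAut.conj_apply]
  rw [this, ← bp_conj_mul, show g * h * g⁻¹ * g = g * h by group, bp_conj_mul, ha h hh]

theorem bp_conj_mem_fix_self {H : Subgroup G} {g : G} (hg : g ∈ H) {a : MonoidAlgebra R G}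
    (ha : a ∈ bp_fix H) : bp_conj g a = a := ha g hg

/-- an element fixed by `K` is moved by `x` and `x * k` (`k ∈ K`) in the same way. -/
theorem bp_conj_mul_of_mem {K : Subgroup G} {a : MonoidAlgebra R G} (ha : a ∈ bp_fix K)
    (x : G) {k : G} (hk : k ∈ K) : bp_conj (x * k) a = bp_conj x a := by
  rw [bp_conj_mul, ha k hk]

theorem bp_conj_eq_of_inv_mul_mem {K : Subgroup G} {a : MonoidAlgebra R G} (ha : a ∈ bp_fix K)
    {x y : G} (h : x⁻¹ * y ∈ K) : bp_conj y a = bp_conj x a := by
  have : y = x * (x⁻¹ * y) := by group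
  rw [this, bp_conj_mul_of_mem ha x h]

/-- purity: if `π • z` is fixed and `π` is a non-zero-divisor then `z` is fixed. -/
theorem bp_fix_pure [IsDomain R] (H : Subgroup G) (π : R) (z : MonoidAlgebra R G) (hπ : π ≠ 0)
    (h : π • z ∈ bp_fix H) : z ∈ bp_fix H := by
  rw [bp_mem_fix_iff] at h ⊢
  intro x hx g
  have := h x hx g
  simp only [MonoidAlgebra.coeff_smul, Finsupp.smul_apply, smul_eq_mul] at this
  exact mul_left_cancel₀ hπ this


/-- the stabiliser of `a` under conjugation. -/
noncomputable def bp_stab (a : MonoidAlgebra R G) : Subgroup G where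
  carrier := {g | bp_conj g a = a}
  mul_mem' := by
    intro g h hg hh
    show bp_conj (g * h) a = a
    rw [bp_conj_mul, (hh : bp_conj h a = a), (hg : bp_conj g a = a)]
  one_mem' := bp_conj_one a
  inv_mem' := by
    intro g hg
    show bp_conj g⁻¹ a = a
    have := bp_conj_inv_conj g a
    rwa [(hg : bp_conj g a = a)] at this

theorem bp_mem_stab (a : MonoidAlgebra R G) (g : G) : g ∈ bp_stab a ↔ bp_conj g a = a := Iff.rfl

theorem bp_mem_fix_iff_le_stab (H : Subgroup G) (a : MonoidAlgebra R G) :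
    a ∈ bp_fix H ↔ H ≤ bp_stab a := Iff.rfl

theorem bp_fix_sup (K L : Subgroup G) : bp_fix (R := R) (K ⊔ L) = bp_fix K ⊓ bp_fix L := by
  ext a
  rw [Algebra.mem_inf, bp_mem_fix_iff_le_stab, bp_mem_fix_iff_le_stab, bp_mem_fix_iff_le_stab,
    sup_le_iff]

section OrbitSums

variable [Finite G]

open Classical in
/-- the `H`-conjugation orbit of `x`, as a finset. -/
noncomputable def bp_orb (H : Subgroup G) (x : G) : Finset G :=
  haveI := Fintype.ofFinite G
  Finset.univ.filter (fun y => ∃ h ∈ H, h * x * h⁻¹ = y)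

theorem bp_mem_orb (H : Subgroup G) (x y : G) : y ∈ bp_orb H x ↔ ∃ h ∈ H, h * x * h⁻¹ = y := by
  classical
  simp [bp_orb]

theorem bp_self_mem_orb (H : Subgroup G) (x : G) : x ∈ bp_orb H x :=
  (bp_mem_orb H x x).2 ⟨1, H.one_mem, by simp⟩

theorem bp_conj_mem_orb_iff (H : Subgroup G) (x y : G) {h : G} (hh : h ∈ H) :
    h * y * h⁻¹ ∈ bp_orb H x ↔ y ∈ bp_orb H x := by
  rw [bp_mem_orb, bp_mem_orb]
  constructor
  · rintro ⟨k, hk, e⟩
    refine ⟨h⁻¹ * k, H.mul_mem (H.inv_mem hh) hk, ?_⟩
    have : y = h⁻¹ * (h * y * h⁻¹) * h := by group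
    rw [this, ← e]; group
  · rintro ⟨k, hk, e⟩
    exact ⟨h * k, H.mul_mem hh hk, by rw [← e]; group⟩

/-- the orbit sum of `x`. -/
noncomputable def bp_orbSum (H : Subgroup G) (x : G) : MonoidAlgebra R G :=
  ∑ y ∈ bp_orb H x, MonoidAlgebra.single y (1 : R)

open Classical in
theorem bp_orbSum_coeff (H : Subgroup G) (x y : G) :
    (bp_orbSum (R := R) H x).coeff y = if y ∈ bp_orb H x then 1 else 0 := by
  rw [bp_orbSum, MonoidAlgebra.coeff_sum, Finsupp.finsetSum_apply]
  simp only [MonoidAlgebra.coeff_single, Finsupp.single_apply]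
  rw [Finset.sum_ite_eq' (bp_orb H x) y (fun _ => (1 : R))]

theorem bp_orbSum_mem_fix (H : Subgroup G) (x : G) : bp_orbSum (R := R) H x ∈ bp_fix H := by
  rw [bp_mem_fix_iff]
  intro h hh g
  rw [bp_orbSum_coeff, bp_orbSum_coeff]
  by_cases h1 : h * g * h⁻¹ ∈ bp_orb H x
  · rw [if_pos h1, if_pos ((bp_conj_mem_orb_iff H x g hh).1 h1)]
  · rw [if_neg h1, if_neg (fun h2 => h1 ((bp_conj_mem_orb_iff H x g hh).2 h2))]

theorem bp_fix_coeff_orb {H : Subgroup G} {a : MonoidAlgebra R G} (ha : a ∈ bp_fix H) {x y : G}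
    (hy : y ∈ bp_orb H x) : a.coeff y = a.coeff x := by
  obtain ⟨h, hh, rfl⟩ := (bp_mem_orb H x y).1 hy
  exact (bp_mem_fix_iff H a).1 ha h hh x

/-- every fixed element is an `R`-combination of orbit sums. -/
theorem bp_fix_le_span (H : Subgroup G) :
    Subalgebra.toSubmodule (bp_fix (R := R) H) ≤
      Submodule.span R (Set.range (bp_orbSum (R := R) H)) := by
  classical
  intro a ha
  -- induction on the size of the support
  suffices h : ∀ n : ℕ, ∀ a : MonoidAlgebra R G, a ∈ bp_fix H → a.coeff.support.card ≤ n →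
      a ∈ Submodule.span R (Set.range (bp_orbSum (R := R) H)) from
    h _ a ha le_rfl
  intro n
  induction n with
  | zero =>
    intro a _ hc
    have : a.coeff.support = ∅ := Finset.card_eq_zero.1 (Nat.le_zero.1 hc)
    have : a = 0 := by
      rw [← MonoidAlgebra.coeff_eq_zero]; exact Finsupp.support_eq_empty.1 this
    rw [this]; exact Submodule.zero_mem _
  | succ n ih =>
    intro a ha hc
    by_cases h0 : a = 0
    · rw [h0]; exact Submodule.zero_mem _
    have hne : a.coeff.support.Nonempty := by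
      rw [Finset.nonempty_iff_ne_empty, Ne, Finsupp.support_eq_empty, MonoidAlgebra.coeff_eq_zero]
      exact h0
    obtain ⟨g, hg⟩ := hne
    set a' := a - a.coeff g • bp_orbSum (R := R) H g with ha'
    have hfix' : a' ∈ bp_fix H :=
      (bp_fix H).sub_mem ha ((bp_fix H).smul_mem (bp_orbSum_mem_fix H g) _)
    have hcoeff : ∀ y, a'.coeff y = if y ∈ bp_orb H g then 0 else a.coeff y := by
      intro y
      rw [ha', MonoidAlgebra.coeff_sub, Finsupp.sub_apply, MonoidAlgebra.coeff_smul,
        Finsupp.smul_apply, bp_orbSum_coeff]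
      by_cases hy : y ∈ bp_orb H g
      · simp [hy, bp_fix_coeff_orb ha hy]
      · simp [hy]
    have hsub : a'.coeff.support ⊆ a.coeff.support.erase g := by
      intro y hy
      rw [Finsupp.mem_support_iff, hcoeff] at hy
      by_cases hyo : y ∈ bp_orb H g
      · simp [hyo] at hy
      · simp only [hyo, if_false] at hy
        refine Finset.mem_erase.2 ⟨?_, Finsupp.mem_support_iff.2 hy⟩
        rintro rfl
        exact hyo (bp_self_mem_orb H y)
    have hcard : a'.coeff.support.card ≤ n := by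
      have := Finset.card_le_card hsub
      rw [Finset.card_erase_of_mem hg] at this
      omega
    have h1 := ih a' hfix' hcard
    have h2 : a = a' + a.coeff g • bp_orbSum (R := R) H g := by rw [ha']; abel
    rw [h2]
    exact Submodule.add_mem _ h1
      (Submodule.smul_mem _ _ (Submodule.subset_span ⟨g, rfl⟩))

theorem bp_fix_eq_span (H : Subgroup G) :
    Subalgebra.toSubmodule (bp_fix (R := R) H) =
      Submodule.span R (Set.range (bp_orbSum (R := R) H)) := by
  refine le_antisymm (bp_fix_le_span H) ?_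
  rw [Submodule.span_le]
  rintro _ ⟨x, rfl⟩
  exact bp_orbSum_mem_fix H x

theorem bp_fix_fg (H : Subgroup G) : (Subalgebra.toSubmodule (bp_fix (R := R) H)).FG := by
  rw [bp_fix_eq_span]
  exact Submodule.fg_span (Set.finite_range _)

/-- `(RG)^H` is a finite `R`-module (spanned by the `H`-orbit sums). -/
theorem bp_fix_finite (H : Subgroup G) : Module.Finite R (bp_fix (R := R) H) :=
  Module.Finite.iff_fg.2 (bp_fix_fg H)

end OrbitSums

end Cfsg.Agent.BP
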