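import Cfsg.Agent.BP.GreenStepA

/-!
# BP / GreenStepB: Step 5, CASE 2 of L5.0 (`i ≅ σ(i)`)

The single exported lemma is `bp_gs_case2`: every circulant `Z` of `ℳ` satisfies
`(Z - c • E)^p ∈ 𝒥` for a suitable scalar `c`.
-/

set_option linter.unusedSectionVars false

namespace Cfsg.Agent.BP

open Matrix Polynomial

section caseTwo

variable {R Λ : Type*} [CommRing R] [IsLocalRing R] [SplitMonic R] [Ring Λ] [Algebra R Λ]
  [Module.Finite R Λ]
variable {p : ℕ} [Fact p.Prime]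
variable {σ : Λ ≃ₐ[R] Λ} {i : Λ}

/-- congruence of powers modulo `𝒥` inside `ℳ`. -/
theorem bp_gsb_pow_congr (hi : bp_IsPrim i) {A B : Matrix (ZMod p) (ZMod p) Λ}
    (hA : bp_gs_InM σ i A) (hB : bp_gs_InM σ i B) (h : bp_gs_InJ σ i (A - B)) (n : ℕ) :
    bp_gs_InJ σ i (A ^ (n + 1) - B ^ (n + 1)) := by
  induction n with
  | zero => simpa using h
  | succ n ih =>
    have hAn : bp_gs_InM σ i (A ^ (n + 1)) := bp_gs_InM_pow hi.1 hA n
    have hBn : bp_gs_InM σ i (B ^ (n + 1)) := bp_gs_InM_pow hi.1 hB n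
    have hAB : bp_gs_InM σ i (A - B) := bp_gs_InM_sub hA hB
    have hABn : bp_gs_InM σ i (A ^ (n + 1) - B ^ (n + 1)) := bp_gs_InM_sub hAn hBn
    have : A ^ (n + 1 + 1) - B ^ (n + 1 + 1) =
        A ^ (n + 1) * (A - B) + (A ^ (n + 1) - B ^ (n + 1)) * B := by
      rw [pow_succ A (n + 1), pow_succ B (n + 1), mul_sub, sub_mul]; abel
    rw [this]
    exact bp_gs_InJ_add hi (bp_gs_InM_mul hi.1 hAn hAB) (bp_gs_InM_mul hi.1 hABn hB)
      (bp_gs_InJ_mul_left hi hAB hAn h) (bp_gs_InJ_mul_right hi hABn hB ih)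

/-- LEMMA D0: a circulant of degree `0` in `ℳ` is a scalar multiple of `E` modulo `𝒥`. -/
theorem bp_gsb_deg_zero (hσ : σ ^ p = 1) (hi : bp_IsPrim i) {D : Matrix (ZMod p) (ZMod p) Λ}
    (hDM : bp_gs_InM σ i D) (hDC : bp_gs_IsCirc σ D) (hD0 : bp_gs_Deg (0 : ZMod p) D) :
    ∃ c : R, bp_gs_InJ σ i (D - c • bp_gs_E σ i) := by
  have h00 : i * D 0 0 * i = D 0 0 := by
    have := hDM 0 0
    rwa [bp_gs_e_zero] at this
  obtain ⟨c, hc⟩ := bp_prim_scalar_nonunit R i (D 0 0) hi h00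
  refine ⟨c, ?_⟩
  intro r s w hw hunit
  by_cases hs : s = r
  · subst hs
    have hentry : (D - c • bp_gs_E σ i : Matrix (ZMod p) (ZMod p) Λ) s s = bp_gs_sg p σ s (D 0 0 - c • i) := by
      rw [Matrix.sub_apply, Matrix.smul_apply, bp_gs_E_apply, if_pos rfl, hDC.apply' s s, sub_self,
        map_sub, map_smul]
      rfl
    rw [hentry] at hunit
    have hx0 : i * (D 0 0 - c • i) * i = D 0 0 - c • i := by
      rw [mul_sub, sub_mul, h00, bp_smul_corner R i hi.1 c]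
    have hx : bp_gs_e σ i s * bp_gs_sg p σ s (D 0 0 - c • i) * bp_gs_e σ i s =
        bp_gs_sg p σ s (D 0 0 - c • i) := by
      unfold bp_gs_e
      rw [← map_mul, ← map_mul, hx0]
    obtain ⟨h1, -⟩ := bp_prim_mul R (bp_gs_e σ i s) _ w (bp_gs_e_prim hi s) hx hw hunit
    have h2 := bp_gs_cornerUnit_algEquiv (bp_gs_sg p σ (-s)) h1
    unfold bp_gs_e at h2
    rw [bp_gs_sg_neg_apply hσ, bp_gs_sg_neg_apply hσ] at h2
    exact hc h2
  · have h0 : (D - c • bp_gs_E σ i : Matrix (ZMod p) (ZMod p) Λ) r s = 0 := by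
      have hne : s ≠ r + 0 := by rw [add_zero]; exact hs
      rw [Matrix.sub_apply, Matrix.smul_apply, hD0 r s hne, bp_gs_Deg_E r s hne, smul_zero,
        sub_zero]
    rw [h0, zero_mul] at hunit
    obtain ⟨-, y, -, hy, -⟩ := hunit
    rw [zero_mul] at hy
    exact (bp_gs_e_prim (σ := σ) hi r).2.1 hy.symm

end caseTwo

section UV

variable {R Λ : Type*} [CommRing R] [Ring Λ] [Algebra R Λ]
variable {p : ℕ} [Fact p.Prime]

/-- `U = circ(u₀ in degree 1)`. -/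
noncomputable def bp_gsb_U (σ : Λ ≃ₐ[R] Λ) (u₀ : Λ) : Matrix (ZMod p) (ZMod p) Λ :=
  Matrix.of fun r s => if s = r + 1 then bp_gs_sg p σ r u₀ else 0

/-- `V = circ(σ⁻¹ w₀ in degree -1)`. -/
noncomputable def bp_gsb_V (σ : Λ ≃ₐ[R] Λ) (w₀ : Λ) : Matrix (ZMod p) (ZMod p) Λ :=
  Matrix.of fun r s => if r = s + 1 then bp_gs_sg p σ s w₀ else 0

variable {σ : Λ ≃ₐ[R] Λ} {i u₀ w₀ : Λ}

theorem bp_gsb_U_apply (r s : ZMod p) :
    bp_gsb_U σ u₀ r s = if s = r + 1 then bp_gs_sg p σ r u₀ else 0 := rfl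

theorem bp_gsb_V_apply (r s : ZMod p) :
    bp_gsb_V σ w₀ r s = if r = s + 1 then bp_gs_sg p σ s w₀ else 0 := rfl

theorem bp_gsb_U_deg : bp_gs_Deg (1 : ZMod p) (bp_gsb_U σ u₀) := by
  intro r s hs
  rw [bp_gsb_U_apply, if_neg hs]

theorem bp_gsb_V_deg : bp_gs_Deg (-1 : ZMod p) (bp_gsb_V σ w₀) := by
  intro r s hs
  rw [bp_gsb_V_apply, if_neg]
  intro h
  apply hs
  rw [h]; ring

theorem bp_gsb_U_circ (hσ : σ ^ p = 1) : bp_gs_IsCirc σ (bp_gsb_U (p := p) σ u₀) := by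
  intro r s
  rw [bp_gsb_U_apply, bp_gsb_U_apply]
  by_cases h : s = r + 1
  · rw [if_pos h, if_pos (by rw [h]), bp_gs_sg_succ_apply hσ]
  · rw [if_neg h, if_neg (fun h' => h (add_right_cancel h')), map_zero]

theorem bp_gsb_V_circ (hσ : σ ^ p = 1) : bp_gs_IsCirc σ (bp_gsb_V (p := p) σ w₀) := by
  intro r s
  rw [bp_gsb_V_apply, bp_gsb_V_apply]
  by_cases h : r = s + 1
  · rw [if_pos h, if_pos (by rw [h]), bp_gs_sg_succ_apply hσ]
  · rw [if_neg h, if_neg (fun h' => h (add_right_cancel h')), map_zero]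

theorem bp_gsb_U_InM (hσ : σ ^ p = 1) (hu : i * u₀ * bp_gs_e (p := p) σ i 1 = u₀) :
    bp_gs_InM σ i (bp_gsb_U (p := p) σ u₀) := by
  intro r s
  rw [bp_gsb_U_apply]
  split_ifs with h
  · subst h
    rw [← bp_gs_sg_e hσ r 1]
    unfold bp_gs_e
    rw [← map_mul, ← map_mul]
    congr 1
  · simp

theorem bp_gsb_V_InM (hσ : σ ^ p = 1) (hw : bp_gs_e (p := p) σ i 1 * w₀ * i = w₀) :
    bp_gs_InM σ i (bp_gsb_V (p := p) σ w₀) := by
  intro r s
  rw [bp_gsb_V_apply]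
  split_ifs with h
  · subst h
    rw [← bp_gs_sg_e hσ s 1]
    unfold bp_gs_e
    rw [← map_mul, ← map_mul]
    congr 1
  · simp

theorem bp_gsb_U_mul_V (huw : u₀ * w₀ = i) :
    bp_gsb_U (p := p) σ u₀ * bp_gsb_V σ w₀ = bp_gs_E σ i := by
  ext r t
  rw [Matrix.mul_apply, Finset.sum_eq_single (r + 1)]
  · rw [bp_gsb_U_apply, if_pos rfl, bp_gsb_V_apply, bp_gs_E_apply]
    by_cases h : r = t
    · subst h
      rw [if_pos rfl, if_pos rfl, ← map_mul, huw]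
      rfl
    · rw [if_neg (fun h' => h (add_right_cancel h')), if_neg h, mul_zero]
  · intro s _ hs
    rw [bp_gsb_U_apply, if_neg hs, zero_mul]
  · intro h; exact absurd (Finset.mem_univ _) h

theorem bp_gsb_V_mul_U (hσ : σ ^ p = 1) (hwu : w₀ * u₀ = bp_gs_e (p := p) σ i 1) :
    bp_gsb_V (p := p) σ w₀ * bp_gsb_U σ u₀ = bp_gs_E σ i := by
  ext r t
  rw [Matrix.mul_apply, Finset.sum_eq_single (r - 1)]
  · rw [bp_gsb_V_apply, if_pos (by ring), bp_gsb_U_apply, bp_gs_E_apply]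
    by_cases h : r = t
    · subst h
      rw [if_pos (by ring), if_pos rfl, ← map_mul, hwu, bp_gs_sg_e hσ]
      congr 1
      ring
    · rw [if_neg, if_neg h, mul_zero]
      intro h'
      apply h
      rw [h']; ring
  · intro s _ hs
    rw [bp_gsb_V_apply, if_neg, zero_mul]
    intro h
    apply hs
    rw [h]; ring
  · intro h; exact absurd (Finset.mem_univ _) h

end UV

section cpow

variable {R Λ : Type*} [CommRing R] [Ring Λ] [Algebra R Λ]
variable {p : ℕ} [Fact p.Prime]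
variable {σ : Λ ≃ₐ[R] Λ} {i : Λ}

/-- the corner powers `E * W^n` (`= E` for `n = 0`, `= W^n` for `n ≥ 1`, `W ∈ ℳ`). -/
theorem bp_gsb_cp_succ (W : Matrix (ZMod p) (ZMod p) Λ) (n : ℕ) :
    bp_gs_E σ i * W ^ (n + 1) = (bp_gs_E σ i * W ^ n) * W := by
  rw [pow_succ, mul_assoc]

theorem bp_gsb_cp_InM (hi : IsIdempotentElem i) {W : Matrix (ZMod p) (ZMod p) Λ}
    (hW : bp_gs_InM σ i W) (n : ℕ) : bp_gs_InM σ i (bp_gs_E σ i * W ^ n) := by
  induction n with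
  | zero => rw [pow_zero, mul_one]; exact bp_gs_InM_E hi
  | succ n ih => rw [bp_gsb_cp_succ]; exact bp_gs_InM_mul hi ih hW

theorem bp_gsb_cp_circ (hσ : σ ^ p = 1) {W : Matrix (ZMod p) (ZMod p) Λ}
    (hW : bp_gs_IsCirc σ W) (n : ℕ) : bp_gs_IsCirc σ (bp_gs_E (p := p) σ i * W ^ n) := by
  induction n with
  | zero => rw [pow_zero, mul_one]; exact bp_gs_IsCirc_E hσ
  | succ n ih => rw [pow_succ, ← mul_assoc]; exact bp_gs_IsCirc_mul ih hW

theorem bp_gsb_cp_deg {d : ZMod p} {W : Matrix (ZMod p) (ZMod p) Λ}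
    (hW : bp_gs_Deg d W) (n : ℕ) :
    bp_gs_Deg ((n : ZMod p) * d) (bp_gs_E (p := p) σ i * W ^ n) := by
  induction n with
  | zero => rw [pow_zero, mul_one, Nat.cast_zero, zero_mul]; exact bp_gs_Deg_E
  | succ n ih =>
    rw [pow_succ, ← mul_assoc]
    have := bp_gs_Deg_mul ih hW
    have h2 : ((n : ZMod p) * d + d) = ((n + 1 : ℕ) : ZMod p) * d := by push_cast; ring
    rwa [h2] at this

theorem bp_gsb_cp_eq_pow (hi : IsIdempotentElem i) {W : Matrix (ZMod p) (ZMod p) Λ}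
    (hW : bp_gs_InM σ i W) (n : ℕ) : bp_gs_E σ i * W ^ (n + 1) = W ^ (n + 1) :=
  bp_gs_InM_E_mul hi (bp_gs_InM_pow hi hW n)

/-- `E V^n * E U^n = E` when `V U = E` (inside `ℳ`). -/
theorem bp_gsb_cp_mul (hi : IsIdempotentElem i) {U V : Matrix (ZMod p) (ZMod p) Λ}
    (hU : bp_gs_InM σ i U) (hV : bp_gs_InM σ i V) (hVU : V * U = bp_gs_E σ i) (n : ℕ) :
    (bp_gs_E σ i * V ^ n) * (bp_gs_E σ i * U ^ n) = bp_gs_E σ i := by
  induction n with
  | zero => rw [pow_zero, pow_zero, mul_one, (bp_gs_E_idem hi).eq]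
  | succ n ih =>
    have h1 : bp_gs_E σ i * U ^ (n + 1) = U * (bp_gs_E σ i * U ^ n) := by
      rw [pow_succ', ← mul_assoc, ← mul_assoc, bp_gs_InM_E_mul hi hU, bp_gs_InM_mul_E hi hU]
    rw [bp_gsb_cp_succ, h1]
    calc bp_gs_E σ i * V ^ n * V * (U * (bp_gs_E σ i * U ^ n))
        = bp_gs_E σ i * V ^ n * (V * U) * (bp_gs_E σ i * U ^ n) := by simp only [mul_assoc]
      _ = bp_gs_E σ i * V ^ n * (bp_gs_E σ i * U ^ n) := by
        rw [hVU, bp_gs_InM_mul_E hi (bp_gsb_cp_InM hi hV n)]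
      _ = bp_gs_E σ i := ih

end cpow

section normalize

variable {R Λ : Type*} [CommRing R] [IsLocalRing R] [SplitMonic R] [Ring Λ] [Algebra R Λ]
  [Module.Finite R Λ]
variable {p : ℕ} [Fact p.Prime]
variable {σ : Λ ≃ₐ[R] Λ} {i : Λ}

/-- `(H)` gives `p`-th roots. -/
theorem bp_gsb_exists_root (μ : R) : ∃ b : R, b ^ p = μ := by
  have hp0 : p ≠ 0 := (Fact.out : p.Prime).ne_zero
  obtain ⟨s, hs⟩ := SplitMonic.splits (X ^ p - C μ) (monic_X_pow_sub_C μ hp0)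
  have hne : s ≠ 0 := by
    rintro rfl
    rw [Multiset.map_zero, Multiset.prod_zero] at hs
    have h1 := congrArg natDegree hs
    rw [natDegree_X_pow_sub_C, natDegree_one] at h1
    exact hp0 h1
  obtain ⟨b, hb⟩ := Multiset.exists_mem_of_ne_zero hne
  refine ⟨b, ?_⟩
  have hroot : (X ^ p - C μ).eval b = 0 := by
    rw [hs, eval_multiset_prod]
    refine Multiset.prod_eq_zero ?_
    rw [Multiset.mem_map]
    exact ⟨X - C b, Multiset.mem_map.2 ⟨b, hb, rfl⟩, by simp⟩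
  simpa [sub_eq_zero] using hroot

theorem bp_gsb_not_InJ_E (hi : bp_IsPrim i) : ¬ bp_gs_InJ σ i (bp_gs_E (p := p) σ i) := by
  intro h
  have he := bp_gs_e_idem (p := p) (σ := σ) hi.1
  apply h 0 0 (bp_gs_e σ i 0) (bp_corner_self (he 0))
  rw [bp_gs_E_apply, if_pos rfl, (he 0).eq]
  exact bp_cornerUnit_self (he 0)

/-- Step 5, Case 2, normalization: invertible circulants `U`, `V` of degrees `1`, `-1` with
`U^p ≡ E` modulo `𝒥`. -/
theorem bp_gsb_exists_UV (hσ : σ ^ p = 1)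
    (hi : bp_IsPrim i) (h1 : bp_Iso i (bp_gs_e (p := p) σ i 1)) :
    ∃ U V : Matrix (ZMod p) (ZMod p) Λ, bp_gs_InM σ i U ∧ bp_gs_IsCirc σ U ∧
      bp_gs_Deg (1 : ZMod p) U ∧ bp_gs_InM σ i V ∧ bp_gs_IsCirc σ V ∧ bp_gs_Deg (-1 : ZMod p) V ∧
      U * V = bp_gs_E σ i ∧ V * U = bp_gs_E σ i ∧ bp_gs_InJ σ i (U ^ p - bp_gs_E σ i) := by
  obtain ⟨-, -, u₀, w₀, hu, hw, huw, hwu⟩ := h1
  have hp1 : p - 1 + 1 = p := Nat.sub_add_cancel (Fact.out : p.Prime).one_le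
  set E := bp_gs_E (p := p) σ i with hE
  set U₁ := bp_gsb_U (p := p) σ u₀ with hU₁
  set V₁ := bp_gsb_V (p := p) σ w₀ with hV₁
  have hUM : bp_gs_InM σ i U₁ := bp_gsb_U_InM hσ hu
  have hUC : bp_gs_IsCirc σ U₁ := bp_gsb_U_circ hσ
  have hUD : bp_gs_Deg (1 : ZMod p) U₁ := bp_gsb_U_deg
  have hVM : bp_gs_InM σ i V₁ := bp_gsb_V_InM hσ hw
  have hVC : bp_gs_IsCirc σ V₁ := bp_gsb_V_circ hσ
  have hVD : bp_gs_Deg (-1 : ZMod p) V₁ := bp_gsb_V_deg
  have hUV : U₁ * V₁ = E := bp_gsb_U_mul_V huw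
  have hVU : V₁ * U₁ = E := bp_gsb_V_mul_U hσ hwu
  -- `U₁^p` is a circulant of degree `0`
  have hpow : E * U₁ ^ p = U₁ ^ p := by
    have := bp_gsb_cp_eq_pow hi.1 hUM (p - 1)
    rwa [hp1] at this
  have hDM : bp_gs_InM σ i (U₁ ^ p) := by rw [← hpow]; exact bp_gsb_cp_InM hi.1 hUM p
  have hDC : bp_gs_IsCirc σ (U₁ ^ p) := by rw [← hpow]; exact bp_gsb_cp_circ hσ hUC p
  have hDD : bp_gs_Deg (0 : ZMod p) (U₁ ^ p) := by
    rw [← hpow]
    have := bp_gsb_cp_deg (σ := σ) (i := i) hUD p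
    rwa [ZMod.natCast_self, zero_mul] at this
  obtain ⟨μ, hμ⟩ := bp_gsb_deg_zero hσ hi hDM hDC hDD
  have hEM : bp_gs_InM σ i E := bp_gs_InM_E hi.1
  -- `μ` is a unit
  have hμu : IsUnit μ := by
    by_contra hnu
    have hμm : μ ∈ IsLocalRing.maximalIdeal R := (IsLocalRing.mem_maximalIdeal _).2 hnu
    have h2 : bp_gs_InJ σ i (U₁ ^ p) := by
      have := bp_gs_InJ_add hi (bp_gs_InM_sub hDM (bp_gs_InM_smul μ hEM)) (bp_gs_InM_smul μ hEM)
        hμ (bp_gs_InJ_smul_of_mem hi hμm E)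
      rwa [sub_add_cancel] at this
    have h3 : bp_gs_InJ σ i ((E * V₁ ^ p) * (E * U₁ ^ p)) := by
      rw [hpow]
      exact bp_gs_InJ_mul_left hi hDM (bp_gsb_cp_InM hi.1 hVM p) h2
    rw [bp_gsb_cp_mul hi.1 hUM hVM hVU] at h3
    exact bp_gsb_not_InJ_E hi h3
  obtain ⟨b, hb⟩ := bp_gsb_exists_root (p := p) μ
  have hbu : IsUnit b := by
    rw [← hb] at hμu
    exact (isUnit_pow_iff (Fact.out : p.Prime).ne_zero).1 hμu
  obtain ⟨β, hβ⟩ := hbu
  refine ⟨(↑β⁻¹ : R) • U₁, b • V₁, bp_gs_InM_smul _ hUM, bp_gs_IsCirc_smul _ hUC,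
    bp_gs_Deg_smul _ hUD, bp_gs_InM_smul _ hVM, bp_gs_IsCirc_smul _ hVC, bp_gs_Deg_smul _ hVD,
    ?_, ?_, ?_⟩
  · rw [smul_mul_assoc, mul_smul_comm, smul_smul, ← hβ, Units.inv_mul, one_smul, hUV]
  · rw [smul_mul_assoc, mul_smul_comm, smul_smul, ← hβ, Units.mul_inv, one_smul, hVU]
  · have h4 : ((↑β⁻¹ : R) • U₁) ^ p - E = (↑β⁻¹ : R) ^ p • (U₁ ^ p - μ • E) := by
      rw [_root_.smul_pow, smul_sub, smul_smul]
      have : (↑β⁻¹ : R) ^ p * μ = 1 := by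
        rw [← hb, ← hβ, ← mul_pow, Units.inv_mul, one_pow]
      rw [this, one_smul]
    rw [h4]
    exact bp_gs_InJ_smul _ hμ

/-- finite sums stay in `𝒥`. -/
theorem bp_gsb_K_sum (hi : bp_IsPrim i) {ι : Type*} (t : Finset ι)
    (W : ι → Matrix (ZMod p) (ZMod p) Λ)
    (h : ∀ k ∈ t, bp_gs_InM σ i (W k) ∧ bp_gs_InJ σ i (W k)) :
    bp_gs_InM σ i (∑ k ∈ t, W k) ∧ bp_gs_InJ σ i (∑ k ∈ t, W k) :=
  (bp_gs_mem_K hi _).1 ((bp_gs_K σ i hi).sum_mem fun k hk => (bp_gs_mem_K hi _).2 (h k hk))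

/-- **Step 5, CASE 2** of L5.0. -/
theorem bp_gs_case2 (hp : (p : R) ∈ IsLocalRing.maximalIdeal R) (hσ : σ ^ p = 1)
    (hi : bp_IsPrim i) (h1 : bp_Iso i (bp_gs_e (p := p) σ i 1))
    {Z : Matrix (ZMod p) (ZMod p) Λ} (hZM : bp_gs_InM σ i Z) (hZC : bp_gs_IsCirc σ Z) :
    ∃ c : R, bp_gs_InJ σ i ((Z - c • bp_gs_E σ i) ^ p) := by
  classical
  have hpr : p.Prime := Fact.out
  have hp1 : p - 1 + 1 = p := Nat.sub_add_cancel hpr.one_le
  obtain ⟨U, V, hUM, hUC, hUD, hVM, hVC, hVD, hUV, hVU, hUp⟩ := bp_gsb_exists_UV hσ hi h1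
  set E := bp_gs_E (p := p) σ i with hE
  have hEM : bp_gs_InM σ i E := bp_gs_InM_E hi.1
  have hEid : IsIdempotentElem E := bp_gs_E_idem hi.1
  have hEU : E * U = U := bp_gs_InM_E_mul hi.1 hUM
  have hUE : U * E = U := bp_gs_InM_mul_E hi.1 hUM
  -- the degree parts of `Z`
  have hPM : ∀ d : ZMod p, bp_gs_InM σ i (bp_gs_part d Z) := fun d => bp_gs_InM_part hZM
  have hPC : ∀ d : ZMod p, bp_gs_IsCirc σ (bp_gs_part d Z) := fun d => bp_gs_IsCirc_part hZC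
  have hBM : ∀ n : ℕ, bp_gs_InM σ i (E * U ^ n) := fun n => bp_gsb_cp_InM hi.1 hUM n
  have hAM : ∀ n : ℕ, bp_gs_InM σ i (E * V ^ n) := fun n => bp_gsb_cp_InM hi.1 hVM n
  -- `D d := part d Z * (E V^{d.val})` is a circulant of degree `0`
  have hDM : ∀ d : ZMod p, bp_gs_InM σ i (bp_gs_part d Z * (E * V ^ d.val)) :=
    fun d => bp_gs_InM_mul hi.1 (hPM d) (hAM _)
  have hDC : ∀ d : ZMod p, bp_gs_IsCirc σ (bp_gs_part d Z * (E * V ^ d.val)) :=
    fun d => bp_gs_IsCirc_mul (hPC d) (bp_gsb_cp_circ hσ hVC _)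
  have hDD : ∀ d : ZMod p, bp_gs_Deg (0 : ZMod p) (bp_gs_part d Z * (E * V ^ d.val)) := by
    intro d
    have := bp_gs_Deg_mul (bp_gs_Deg_part d Z) (bp_gsb_cp_deg (σ := σ) (i := i) hVD d.val)
    have h0 : d + ((d.val : ℕ) : ZMod p) * (-1) = 0 := by
      have : NeZero p := ⟨hpr.ne_zero⟩
      rw [ZMod.natCast_zmod_val]; ring
    rwa [h0] at this
  choose lam hlam using fun d : ZMod p => bp_gsb_deg_zero hσ hi (hDM d) (hDC d) (hDD d)
  -- `part d Z = D d * (E U^{d.val})`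
  have hPD : ∀ d : ZMod p,
      bp_gs_part d Z * (E * V ^ d.val) * (E * U ^ d.val) = bp_gs_part d Z := by
    intro d
    rw [mul_assoc, bp_gsb_cp_mul hi.1 hUM hVM hVU, bp_gs_InM_mul_E hi.1 (hPM d)]
  -- the scalar and the "polynomial part"
  refine ⟨∑ d, lam d, ?_⟩
  set S : Matrix (ZMod p) (ZMod p) Λ := ∑ d : ZMod p, lam d • (E * U ^ d.val - E) with hS
  have hSM : bp_gs_InM σ i S := by
    rw [hS, bp_gs_InM_iff, Finset.mul_sum, Finset.sum_mul]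
    refine Finset.sum_congr rfl fun d _ => ?_
    exact (bp_gs_InM_iff _).1 (bp_gs_InM_smul (lam d) (bp_gs_InM_sub (hBM d.val) hEM))
  -- `Z - (Σ lam) E - S ∈ 𝒥`
  have hY : bp_gs_InJ σ i (Z - (∑ d, lam d) • E - S) := by
    have h2 : Z - (∑ d, lam d) • E - S =
        ∑ d : ZMod p, (bp_gs_part d Z * (E * V ^ d.val) - lam d • E) * (E * U ^ d.val) := by
      have h3 : ∀ d : ZMod p,
          (bp_gs_part d Z * (E * V ^ d.val) - lam d • E) * (E * U ^ d.val) =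
            bp_gs_part d Z - lam d • E - lam d • (E * U ^ d.val - E) := by
        intro d
        rw [sub_mul, hPD d, smul_mul_assoc, ← mul_assoc, hEid.eq, smul_sub]
        abel
      simp_rw [h3]
      rw [Finset.sum_sub_distrib, Finset.sum_sub_distrib, bp_gs_sum_part, ← Finset.sum_smul]
    rw [h2]
    refine (bp_gsb_K_sum hi Finset.univ _ fun d _ => ?_).2
    have hXM : bp_gs_InM σ i (bp_gs_part d Z * (E * V ^ d.val) - lam d • E) :=
      bp_gs_InM_sub (hDM d) (bp_gs_InM_smul _ hEM)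
    exact ⟨bp_gs_InM_mul hi.1 hXM (hBM _), bp_gs_InJ_mul_right hi hXM (hBM _) (hlam d)⟩
  -- `S = (U - E) * T`
  set T : Matrix (ZMod p) (ZMod p) Λ :=
    ∑ d : ZMod p, lam d • ∑ k ∈ Finset.range d.val, U ^ k with hT
  have hcUE : Commute U E := by rw [Commute, SemiconjBy, hUE, hEU]
  have hcUT : Commute U T := by
    rw [hT]
    refine Commute.sum_right _ _ _ fun d _ => Commute.smul_right ?_ _
    exact Commute.sum_right _ _ _ fun k _ => (Commute.refl U).pow_right k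
  have hcET : Commute E T := by
    rw [hT]
    refine Commute.sum_right _ _ _ fun d _ => Commute.smul_right ?_ _
    exact Commute.sum_right _ _ _ fun k _ => hcUE.symm.pow_right k
  have hST : S = (U - E) * T := by
    rw [hS, hT, Finset.mul_sum]
    refine Finset.sum_congr rfl fun d _ => ?_
    rw [mul_smul_comm]
    congr 1
    have h4 : (U - E) = E * (U - 1) := by rw [mul_sub, mul_one, hEU]
    rw [h4, mul_assoc, mul_geom_sum, mul_sub, mul_one]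
  have hcT : Commute (U - E) T := hcUT.sub_left hcET
  -- `(U - E)^p = (U^p - E) + p • r`
  obtain ⟨r, hr⟩ := (hcUE.neg_right).exists_add_pow_prime_eq hpr
  have hnegE : ∃ q : Matrix (ZMod p) (ZMod p) Λ, (-E) ^ p + E = (p : R) • q := by
    rcases hpr.eq_two_or_odd' with h2 | hodd
    · refine ⟨E, ?_⟩
      have h7 : (-E) ^ p = (-E) ^ 2 := congrArg (fun n => (-E) ^ n) h2
      have h8 : (-E) ^ 2 = E := by rw [neg_sq, sq, hEid.eq]
      have h9 : ((p : ℕ) : R) = 2 := by rw [h2]; norm_num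
      rw [h7, h8, h9, two_smul]
    · refine ⟨0, ?_⟩
      have hEp : E ^ p = E := by
        have := hEid.pow_succ_eq (p - 1)
        rwa [hp1] at this
      rw [hodd.neg_pow, hEp, smul_zero, neg_add_cancel]
  obtain ⟨q, hq⟩ := hnegE
  have hUEp : (U - E) ^ p = (U ^ p - E) + (p : R) • (q + U * (-E) * r) := by
    rw [sub_eq_add_neg U E, hr, smul_add, ← hq]
    have : (p : Matrix (ZMod p) (ZMod p) Λ) * U * -E * r = (p : R) • (U * (-E) * r) := by
      rw [Nat.cast_smul_eq_nsmul, nsmul_eq_mul]; simp only [mul_assoc]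
    rw [this]; abel
  -- `S^p ∈ 𝒥`
  have hSp : bp_gs_InJ σ i (S ^ p) := by
    have hSpM : bp_gs_InM σ i (S ^ p) := by
      have := bp_gs_InM_pow hi.1 hSM (p - 1)
      rwa [hp1] at this
    have hETp : bp_gs_InM σ i (E * T ^ p) := by
      rw [bp_gs_InM_iff]
      have hc : Commute E (T ^ p) := hcET.pow_right p
      rw [← mul_assoc, hEid.eq, mul_assoc, ← hc.eq, ← mul_assoc, hEid.eq]
    have hXM : bp_gs_InM σ i (U ^ p - E) := by
      refine bp_gs_InM_sub ?_ hEM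
      have := bp_gs_InM_pow hi.1 hUM (p - 1)
      rwa [hp1] at this
    have h5 : S ^ p = (U ^ p - E) * (E * T ^ p) +
        (p : R) • (E * ((q + U * (-E) * r) * T ^ p) * E) := by
      have h6 : S ^ p = E * S ^ p * E := ((bp_gs_InM_iff _).1 hSpM).symm
      rw [h6, hST, hcT.mul_pow, hUEp, add_mul, mul_add, add_mul, smul_mul_assoc, mul_smul_comm,
        smul_mul_assoc]
      congr 1
      have hc : Commute E (T ^ p) := hcET.pow_right p
      calc E * ((U ^ p - E) * T ^ p) * E = (E * (U ^ p - E)) * (T ^ p * E) := by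
            simp only [mul_assoc]
        _ = (U ^ p - E) * (E * T ^ p) := by
            rw [bp_gs_InM_E_mul hi.1 hXM, hc.eq]
    rw [h5]
    refine bp_gs_InJ_add hi (bp_gs_InM_mul hi.1 hXM hETp)
      (bp_gs_InM_smul _ (bp_gs_InM_EaE hi.1 _)) ?_ (bp_gs_InJ_smul_of_mem hi hp _)
    exact bp_gs_InJ_mul_right hi hXM hETp hUp
  -- conclusion
  have hAM' : bp_gs_InM σ i (Z - (∑ d, lam d) • E) := bp_gs_InM_sub hZM (bp_gs_InM_smul _ hEM)
  have hcong := bp_gsb_pow_congr hi hAM' hSM hY (p - 1)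
  rw [hp1] at hcong
  have hApM : bp_gs_InM σ i ((Z - (∑ d, lam d) • E) ^ p) := by
    have := bp_gs_InM_pow hi.1 hAM' (p - 1)
    rwa [hp1] at this
  have hSpM : bp_gs_InM σ i (S ^ p) := by
    have := bp_gs_InM_pow hi.1 hSM (p - 1)
    rwa [hp1] at this
  have := bp_gs_InJ_add hi (bp_gs_InM_sub hApM hSpM) hSpM hcong hSp
  rwa [sub_add_cancel] at this

end normalize

end Cfsg.Agent.BP
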