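import Cfsg.Agent.BP.GreenStepC
import Cfsg.Agent.BP.GreenStepB

/-!
# BP / L5.0: Green's indecomposability theorem, the index-`p` step (blueprint §5)

`Λ₁` a finite algebra over the local ring `R` (with `SplitMonic R`, `p ∈ 𝔪`), `σ` an automorphism
with `σ^p = 1`, `Φ` its fixed subalgebra, `j` a primitive idempotent of `Φ` which is a trace
`j = ∑_{d<p} σ^d a`.  Then `j = ∑_{d<p} σ^d κ` for a primitive idempotent `κ ≤ j` of `Λ₁` with
`κ σ^d(κ) = 0` for `0 < d < p`.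
-/

set_option autoImplicit false

namespace Cfsg.Agent.BP

/-- L5.0, exactly the blueprint signature. -/
theorem bp_green_step {R Λ₁ : Type*} [CommRing R] [IsLocalRing R] [SplitMonic R] [Ring Λ₁]
    [Algebra R Λ₁] [Module.Finite R Λ₁]
    (p : ℕ) [Fact p.Prime] (hp : (p : R) ∈ IsLocalRing.maximalIdeal R)
    (σ : Λ₁ ≃ₐ[R] Λ₁) (hσ : ∀ a, (σ^[p]) a = a)
    (Φ : Subalgebra R Λ₁) (hΦ : ∀ a, a ∈ Φ ↔ σ a = a) [Module.Finite R Φ]
    (j : Φ) (hj : bp_IsPrim j) (a : Λ₁) (ha : ∑ d ∈ Finset.range p, (σ^[d]) a = (j : Λ₁)) :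
    ∃ κ : Λ₁, bp_IsPrim κ ∧ κ * j = κ ∧ j * κ = κ ∧
      ∑ d ∈ Finset.range p, (σ^[d]) κ = j ∧ ∀ d, 0 < d → d < p → κ * (σ^[d]) κ = 0 := by
  have hσp : σ ^ p = 1 := bp_gs_pow_eq_one hσ
  have hc2 : bp_gs_Case2Stmt R p σ := by
    intro i hi h1 Z hZM hZC
    exact bp_gs_case2 hp hσp hi h1 hZM hZC
  have ha' : bp_gs_Tr (p := p) σ a = (j : Λ₁) := by
    rw [bp_gs_Tr_eq_range]; exact ha
  obtain ⟨κ, h1, h2, h3, h4, h5⟩ := bp_gs_main hσp hc2 Φ hΦ j hj a ha'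
  refine ⟨κ, h1, h2, h3, ?_, ?_⟩
  · rw [← bp_gs_Tr_eq_range]; exact h4
  · intro d hd hdp
    have h6 := h5 (d : ZMod p) (by
      intro h0
      rw [ZMod.natCast_eq_zero_iff] at h0
      exact absurd (Nat.le_of_dvd hd h0) (not_le.2 hdp))
    rw [bp_gs_sg_natCast hσp, AlgEquiv.coe_pow] at h6
    exact h6

end Cfsg.Agent.BP
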