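import Cfsg.Agent.BP.LocalB

/-!
# BP / L5.0 (Green's indecomposability, index-`p` step), part A

The `σ`-circulant realisation of the corner `i (Λ ⋊ ⟨σ⟩) i` of the crossed product inside
`Matrix (ZMod p) (ZMod p) Λ`: powers `σ^d` for `d : ZMod p`, the idempotents `e_d = σ^d i`,
the corner `ℳ = E M E`, the "radical" `𝒥` of `ℳ` (a two-sided ideal of `ℳ` containing `𝔪ℳ`, which
contains none of the `E_r`), and the circulant condition.
-/

set_option autoImplicit false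
set_option linter.unusedSectionVars false

namespace Cfsg.Agent.BP

section sg

variable {R Λ : Type*} [CommSemiring R] [Semiring Λ] [Algebra R Λ]
variable (p : ℕ) [Fact p.Prime]

/-- `σ^d` for `d : ZMod p`. -/
noncomputable def bp_gs_sg (σ : Λ ≃ₐ[R] Λ) (d : ZMod p) : Λ ≃ₐ[R] Λ := σ ^ d.val

variable {p}

theorem bp_gs_pow_eq_one {σ : Λ ≃ₐ[R] Λ} (hσ : ∀ a, (σ^[p]) a = a) : σ ^ p = 1 := by
  ext a
  rw [AlgEquiv.coe_pow, AlgEquiv.one_apply]
  exact hσ a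

theorem bp_gs_sg_zero (σ : Λ ≃ₐ[R] Λ) : bp_gs_sg p σ 0 = 1 := by
  rw [bp_gs_sg, ZMod.val_zero, pow_zero]

theorem bp_gs_sg_natCast {σ : Λ ≃ₐ[R] Λ} (hσ : σ ^ p = 1) (n : ℕ) :
    bp_gs_sg p σ (n : ZMod p) = σ ^ n := by
  rw [bp_gs_sg, ZMod.val_natCast, ← pow_eq_pow_mod n hσ]

theorem bp_gs_sg_add {σ : Λ ≃ₐ[R] Λ} (hσ : σ ^ p = 1) (a b : ZMod p) :
    bp_gs_sg p σ (a + b) = bp_gs_sg p σ a * bp_gs_sg p σ b := by
  have hp : NeZero p := ⟨(Fact.out : p.Prime).ne_zero⟩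
  rw [bp_gs_sg, bp_gs_sg, bp_gs_sg, ZMod.val_add, ← pow_eq_pow_mod _ hσ, pow_add]

theorem bp_gs_sg_one (σ : Λ ≃ₐ[R] Λ) : bp_gs_sg p σ 1 = σ := by
  rw [bp_gs_sg, ZMod.val_one, pow_one]

theorem bp_gs_sg_add_apply {σ : Λ ≃ₐ[R] Λ} (hσ : σ ^ p = 1) (a b : ZMod p) (x : Λ) :
    bp_gs_sg p σ (a + b) x = bp_gs_sg p σ a (bp_gs_sg p σ b x) := by
  rw [bp_gs_sg_add hσ, AlgEquiv.mul_apply]

theorem bp_gs_sg_zero_apply (σ : Λ ≃ₐ[R] Λ) (x : Λ) : bp_gs_sg p σ 0 x = x := by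
  rw [bp_gs_sg_zero, AlgEquiv.one_apply]

theorem bp_gs_sg_one_apply (σ : Λ ≃ₐ[R] Λ) (x : Λ) : bp_gs_sg p σ 1 x = σ x := by
  rw [bp_gs_sg_one]

theorem bp_gs_sg_neg_apply {σ : Λ ≃ₐ[R] Λ} (hσ : σ ^ p = 1) (a : ZMod p) (x : Λ) :
    bp_gs_sg p σ (-a) (bp_gs_sg p σ a x) = x := by
  rw [← bp_gs_sg_add_apply hσ, neg_add_cancel, bp_gs_sg_zero_apply]

theorem bp_gs_sg_apply_neg {σ : Λ ≃ₐ[R] Λ} (hσ : σ ^ p = 1) (a : ZMod p) (x : Λ) :
    bp_gs_sg p σ a (bp_gs_sg p σ (-a) x) = x := by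
  rw [← bp_gs_sg_add_apply hσ, add_neg_cancel, bp_gs_sg_zero_apply]

theorem bp_gs_sg_succ_apply {σ : Λ ≃ₐ[R] Λ} (hσ : σ ^ p = 1) (a : ZMod p) (x : Λ) :
    bp_gs_sg p σ (a + 1) x = σ (bp_gs_sg p σ a x) := by
  rw [add_comm, bp_gs_sg_add_apply hσ, bp_gs_sg_one_apply]

theorem bp_gs_sg_succ_apply' {σ : Λ ≃ₐ[R] Λ} (hσ : σ ^ p = 1) (a : ZMod p) (x : Λ) :
    bp_gs_sg p σ (a + 1) x = bp_gs_sg p σ a (σ x) := by
  rw [bp_gs_sg_add_apply hσ, bp_gs_sg_one_apply]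

end sg

section twosided

variable {Γ : Type*} [Ring Γ]

theorem bp_gs_two_left {e f x : Γ} (he : IsIdempotentElem e) (h : e * x * f = x) : e * x = x := by
  rw [← h, ← mul_assoc, ← mul_assoc, he.eq]

theorem bp_gs_two_right {e f x : Γ} (hf : IsIdempotentElem f) (h : e * x * f = x) : x * f = x := by
  rw [← h, mul_assoc, hf.eq]

theorem bp_gs_two_mk {e f x : Γ} (h1 : e * x = x) (h2 : x * f = x) : e * x * f = x := by
  rw [h1, h2]

theorem bp_gs_two_mul {e f g x y : Γ} (he : IsIdempotentElem e) (hg : IsIdempotentElem g)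
    (hx : e * x * f = x) (hy : f * y * g = y) : e * (x * y) * g = x * y := by
  have h1 := bp_gs_two_left he hx
  have h2 := bp_gs_two_right hg hy
  rw [← mul_assoc, h1, mul_assoc, h2]

theorem bp_gs_cornerUnit_neg {e x : Γ} (h : bp_CornerUnit e x) : bp_CornerUnit e (-x) := by
  obtain ⟨hx, y, hy, h1, h2⟩ := h
  refine ⟨by rw [mul_neg, neg_mul, hx], -y, by rw [mul_neg, neg_mul, hy], ?_, ?_⟩
  · rw [neg_mul_neg, h1]
  · rw [neg_mul_neg, h2]

theorem bp_gs_cornerUnit_neg_iff {e x : Γ} : bp_CornerUnit e (-x) ↔ bp_CornerUnit e x :=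
  ⟨fun h => by simpa using bp_gs_cornerUnit_neg h, bp_gs_cornerUnit_neg⟩

end twosided

section prim

variable {R Γ : Type*} [CommRing R] [Ring Γ] [Algebra R Γ]

theorem bp_gs_prim_algEquiv (τ : Γ ≃ₐ[R] Γ) {e : Γ} (he : bp_IsPrim e) : bp_IsPrim (τ e) := by
  obtain ⟨h1, h2, h3⟩ := he
  refine ⟨?_, ?_, ?_⟩
  · unfold IsIdempotentElem
    rw [← map_mul, h1.eq]
  · intro h
    apply h2
    have := congrArg τ.symm h
    simpa using this
  · intro e' he' h4 h5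
    have h6 := h3 (τ.symm e') (by unfold IsIdempotentElem; rw [← map_mul, he'.eq])
      (by
        have := congrArg τ.symm h4
        rw [map_mul, τ.symm_apply_apply] at this
        exact this)
      (by
        have := congrArg τ.symm h5
        rw [map_mul, τ.symm_apply_apply] at this
        exact this)
    rcases h6 with h6 | h6
    · left
      have := congrArg τ h6
      simpa using this
    · right
      have := congrArg τ h6
      simpa using this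

theorem bp_gs_cornerUnit_algEquiv (τ : Γ ≃ₐ[R] Γ) {e x : Γ} (h : bp_CornerUnit e x) :
    bp_CornerUnit (τ e) (τ x) := by
  obtain ⟨hx, y, hy, h1, h2⟩ := h
  refine ⟨by rw [← map_mul, ← map_mul, hx], τ y, by rw [← map_mul, ← map_mul, hy], ?_, ?_⟩
  · rw [← map_mul, h1]
  · rw [← map_mul, h2]

/-- (S3)-type: `a ∈ eΓf`, `b ∈ fΓe`, `a b y = e` with `y` in the corner of `e`, and `f` primitive:
then `b y a = f`. -/
theorem bp_gs_swap {e f a b y : Γ} (he : IsIdempotentElem e) (he0 : e ≠ 0) (hf : bp_IsPrim f)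
    (ha : e * a * f = a) (hb : f * b * e = b) (hy : e * y * e = y) (h : a * b * y = e) :
    b * y * a = f := by
  have ha1 := bp_gs_two_left he ha
  have ha2 := bp_gs_two_right hf.1 ha
  have hb1 := bp_gs_two_left hf.1 hb
  have hb2 := bp_gs_two_right he hb
  have hy1 := bp_corner_left he hy
  have hy2 := bp_corner_right he hy
  have hidem : IsIdempotentElem (b * y * a) := by
    unfold IsIdempotentElem
    calc b * y * a * (b * y * a) = b * y * (a * b * y) * a := by simp only [mul_assoc]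
      _ = b * y * a := by rw [h, mul_assoc b y e, hy2]
  have h1 : f * (b * y * a) = b * y * a := by rw [← mul_assoc, ← mul_assoc, hb1]
  have h2 : b * y * a * f = b * y * a := by rw [mul_assoc, ha2]
  rcases hf.2.2 (b * y * a) hidem h1 h2 with h0 | h0
  · exfalso
    apply he0
    calc e = e * e := he.eq.symm
      _ = (a * b * y) * (a * b * y) := by rw [h]
      _ = a * (b * y * a) * (b * y) := by simp only [mul_assoc]
      _ = 0 := by rw [h0, mul_zero, zero_mul]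
  · exact h0

end prim

section mat

variable {R Λ : Type*} [CommRing R] [Ring Λ] [Algebra R Λ]
variable {p : ℕ} [Fact p.Prime]

theorem bp_gs_mat_finite (R Λ : Type*) [CommRing R] [Ring Λ] [Algebra R Λ] [Module.Finite R Λ]
    (p : ℕ) [Fact p.Prime] : Module.Finite R (Matrix (ZMod p) (ZMod p) Λ) :=
  inferInstanceAs (Module.Finite R (ZMod p → ZMod p → Λ))

/-- `e_d = σ^d i`. -/
noncomputable def bp_gs_e (σ : Λ ≃ₐ[R] Λ) (i : Λ) (d : ZMod p) : Λ := bp_gs_sg p σ d i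

/-- `E = diag(e_r)`. -/
noncomputable def bp_gs_E (σ : Λ ≃ₐ[R] Λ) (i : Λ) : Matrix (ZMod p) (ZMod p) Λ :=
  Matrix.diagonal (bp_gs_e σ i)

/-- `E_r`, the matrix with the single non-zero entry `e_r` at `(r,r)`. -/
noncomputable def bp_gs_Er (σ : Λ ≃ₐ[R] Λ) (i : Λ) (r : ZMod p) : Matrix (ZMod p) (ZMod p) Λ :=
  Matrix.single r r (bp_gs_e σ i r)

/-- membership in the corner `ℳ = E M E`, entrywise. -/
def bp_gs_InM (σ : Λ ≃ₐ[R] Λ) (i : Λ) (Z : Matrix (ZMod p) (ZMod p) Λ) : Prop :=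
  ∀ r s, bp_gs_e σ i r * Z r s * bp_gs_e σ i s = Z r s

/-- the "radical" `𝒥` of `ℳ`. -/
def bp_gs_InJ (σ : Λ ≃ₐ[R] Λ) (i : Λ) (Z : Matrix (ZMod p) (ZMod p) Λ) : Prop :=
  ∀ r s w, bp_gs_e σ i s * w * bp_gs_e σ i r = w → ¬ bp_CornerUnit (bp_gs_e σ i r) (Z r s * w)

/-- the circulant condition (fixed points of the shift). -/
def bp_gs_IsCirc (σ : Λ ≃ₐ[R] Λ) (Z : Matrix (ZMod p) (ZMod p) Λ) : Prop :=
  ∀ r s, Z (r + 1) (s + 1) = σ (Z r s)

variable {σ : Λ ≃ₐ[R] Λ} {i : Λ}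

theorem bp_gs_e_zero : bp_gs_e (p := p) σ i 0 = i := bp_gs_sg_zero_apply σ i

theorem bp_gs_e_succ (hσ : σ ^ p = 1) (d : ZMod p) :
    bp_gs_e σ i (d + 1) = σ (bp_gs_e σ i d) := bp_gs_sg_succ_apply hσ d i

theorem bp_gs_sg_e (hσ : σ ^ p = 1) (a d : ZMod p) :
    bp_gs_sg p σ a (bp_gs_e σ i d) = bp_gs_e σ i (a + d) := by
  rw [bp_gs_e, bp_gs_e, bp_gs_sg_add_apply hσ]

theorem bp_gs_e_idem (hi : IsIdempotentElem i) (d : ZMod p) :
    IsIdempotentElem (bp_gs_e σ i d) := by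
  unfold IsIdempotentElem bp_gs_e
  rw [← map_mul, hi.eq]

theorem bp_gs_E_apply (r s : ZMod p) :
    bp_gs_E σ i r s = if r = s then bp_gs_e σ i r else 0 := by
  rw [bp_gs_E, Matrix.diagonal_apply]

theorem bp_gs_E_mul (Z : Matrix (ZMod p) (ZMod p) Λ) (r s : ZMod p) :
    (bp_gs_E σ i * Z : Matrix (ZMod p) (ZMod p) Λ) r s = bp_gs_e σ i r * Z r s := by
  rw [bp_gs_E, Matrix.diagonal_mul]

theorem bp_gs_mul_E (Z : Matrix (ZMod p) (ZMod p) Λ) (r s : ZMod p) :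
    (Z * bp_gs_E σ i : Matrix (ZMod p) (ZMod p) Λ) r s = Z r s * bp_gs_e σ i s := by
  rw [bp_gs_E, Matrix.mul_diagonal]

theorem bp_gs_InM_iff (Z : Matrix (ZMod p) (ZMod p) Λ) :
    bp_gs_InM σ i Z ↔ bp_gs_E σ i * Z * bp_gs_E σ i = Z := by
  constructor
  · intro h
    ext r s
    rw [bp_gs_mul_E, bp_gs_E_mul, h r s]
  · intro h r s
    have := congrFun (congrFun h r) s
    rw [bp_gs_mul_E, bp_gs_E_mul] at this
    exact this

theorem bp_gs_InM.left (hi : IsIdempotentElem i) {Z : Matrix (ZMod p) (ZMod p) Λ}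
    (h : bp_gs_InM σ i Z) (r s : ZMod p) : bp_gs_e σ i r * Z r s = Z r s :=
  bp_gs_two_left (bp_gs_e_idem hi r) (h r s)

theorem bp_gs_InM.right (hi : IsIdempotentElem i) {Z : Matrix (ZMod p) (ZMod p) Λ}
    (h : bp_gs_InM σ i Z) (r s : ZMod p) : Z r s * bp_gs_e σ i s = Z r s :=
  bp_gs_two_right (bp_gs_e_idem hi s) (h r s)

/-! ### the corner `ℳ` -/

theorem bp_gs_E_idem (hi : IsIdempotentElem i) :
    IsIdempotentElem (bp_gs_E (p := p) σ i) := by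
  unfold IsIdempotentElem
  ext r s
  rw [bp_gs_E_mul, bp_gs_E_apply]
  split_ifs with h
  · exact (bp_gs_e_idem hi r).eq
  · rw [mul_zero]

theorem bp_gs_InM_E (hi : IsIdempotentElem i) : bp_gs_InM (p := p) σ i (bp_gs_E σ i) := by
  rw [bp_gs_InM_iff, (bp_gs_E_idem hi).eq, (bp_gs_E_idem hi).eq]

theorem bp_gs_InM_zero : bp_gs_InM (p := p) σ i 0 := by
  intro r s
  simp

theorem bp_gs_InM_add {Z W : Matrix (ZMod p) (ZMod p) Λ} (hZ : bp_gs_InM σ i Z)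
    (hW : bp_gs_InM σ i W) : bp_gs_InM σ i (Z + W) := by
  intro r s
  rw [Matrix.add_apply, mul_add, add_mul, hZ r s, hW r s]

theorem bp_gs_InM_neg {Z : Matrix (ZMod p) (ZMod p) Λ} (hZ : bp_gs_InM σ i Z) :
    bp_gs_InM σ i (-Z) := by
  intro r s
  rw [Matrix.neg_apply, mul_neg, neg_mul, hZ r s]

theorem bp_gs_InM_sub {Z W : Matrix (ZMod p) (ZMod p) Λ} (hZ : bp_gs_InM σ i Z)
    (hW : bp_gs_InM σ i W) : bp_gs_InM σ i (Z - W) := by
  rw [sub_eq_add_neg]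
  exact bp_gs_InM_add hZ (bp_gs_InM_neg hW)

theorem bp_gs_InM_smul (c : R) {Z : Matrix (ZMod p) (ZMod p) Λ} (hZ : bp_gs_InM σ i Z) :
    bp_gs_InM σ i (c • Z) := by
  intro r s
  rw [Matrix.smul_apply, mul_smul_comm, smul_mul_assoc, hZ r s]

theorem bp_gs_InM_mul (hi : IsIdempotentElem i) {Z W : Matrix (ZMod p) (ZMod p) Λ}
    (hZ : bp_gs_InM σ i Z) (hW : bp_gs_InM σ i W) : bp_gs_InM σ i (Z * W) := by
  rw [bp_gs_InM_iff] at hZ hW ⊢
  have hE := (bp_gs_E_idem (p := p) (σ := σ) hi).eq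
  calc bp_gs_E σ i * (Z * W) * bp_gs_E σ i
      = bp_gs_E σ i * ((bp_gs_E σ i * Z * bp_gs_E σ i) * (bp_gs_E σ i * W * bp_gs_E σ i))
          * bp_gs_E σ i := by rw [hZ, hW]
    _ = (bp_gs_E σ i * bp_gs_E σ i) * Z * bp_gs_E σ i * (bp_gs_E σ i * W *
          (bp_gs_E σ i * bp_gs_E σ i)) := by simp only [mul_assoc]
    _ = Z * W := by rw [hE, hZ, hW]

theorem bp_gs_InM_EaE (hi : IsIdempotentElem i) (a : Matrix (ZMod p) (ZMod p) Λ) :
    bp_gs_InM σ i (bp_gs_E σ i * a * bp_gs_E σ i) := by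
  rw [bp_gs_InM_iff]
  have hE := (bp_gs_E_idem (p := p) (σ := σ) hi).eq
  calc bp_gs_E σ i * (bp_gs_E σ i * a * bp_gs_E σ i) * bp_gs_E σ i
      = (bp_gs_E σ i * bp_gs_E σ i) * a * (bp_gs_E σ i * bp_gs_E σ i) := by
        simp only [mul_assoc]
    _ = _ := by rw [hE]

theorem bp_gs_InM_pow (hi : IsIdempotentElem i) {Z : Matrix (ZMod p) (ZMod p) Λ}
    (hZ : bp_gs_InM σ i Z) (n : ℕ) : bp_gs_InM σ i (Z ^ (n + 1)) := by
  induction n with
  | zero => simpa using hZ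
  | succ n ih =>
    rw [pow_succ]
    exact bp_gs_InM_mul hi ih hZ

theorem bp_gs_InM_E_mul (hi : IsIdempotentElem i) {Z : Matrix (ZMod p) (ZMod p) Λ}
    (hZ : bp_gs_InM σ i Z) : bp_gs_E σ i * Z = Z := by
  rw [bp_gs_InM_iff] at hZ
  exact bp_gs_two_left (bp_gs_E_idem hi) hZ

theorem bp_gs_InM_mul_E (hi : IsIdempotentElem i) {Z : Matrix (ZMod p) (ZMod p) Λ}
    (hZ : bp_gs_InM σ i Z) : Z * bp_gs_E σ i = Z := by
  rw [bp_gs_InM_iff] at hZ
  exact bp_gs_two_right (bp_gs_E_idem hi) hZ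

/-! ### the idempotents `E_r` -/

theorem bp_gs_Er_idem (hi : IsIdempotentElem i) (r : ZMod p) :
    IsIdempotentElem (bp_gs_Er σ i r) := by
  unfold IsIdempotentElem bp_gs_Er
  rw [Matrix.single_mul_single_same, (bp_gs_e_idem hi r).eq]

theorem bp_gs_sum_Er : ∑ r : ZMod p, bp_gs_Er σ i r = bp_gs_E σ i := by
  unfold bp_gs_Er bp_gs_E
  exact Matrix.sum_single_eq_diagonal _

theorem bp_gs_E_mul_Er (hi : IsIdempotentElem i) (r : ZMod p) :
    bp_gs_E σ i * bp_gs_Er σ i r = bp_gs_Er σ i r := by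
  ext a b
  rw [bp_gs_E_mul, bp_gs_Er, Matrix.single_apply]
  split_ifs with h
  · rw [← h.1, (bp_gs_e_idem hi r).eq]
  · rw [mul_zero]

theorem bp_gs_Er_mul_E (hi : IsIdempotentElem i) (r : ZMod p) :
    bp_gs_Er σ i r * bp_gs_E σ i = bp_gs_Er σ i r := by
  ext a b
  rw [bp_gs_mul_E, bp_gs_Er, Matrix.single_apply]
  split_ifs with h
  · rw [← h.2, (bp_gs_e_idem hi r).eq]
  · rw [zero_mul]

theorem bp_gs_InM_Er (hi : IsIdempotentElem i) (r : ZMod p) :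
    bp_gs_InM σ i (bp_gs_Er σ i r) := by
  rw [bp_gs_InM_iff, bp_gs_E_mul_Er hi, bp_gs_Er_mul_E hi]

theorem bp_gs_Er_prim {i : Λ} (hi : bp_IsPrim i) (r : ZMod p) :
    bp_IsPrim (bp_gs_Er σ i r) := by
  have hep : bp_IsPrim (bp_gs_e σ i r) := bp_gs_prim_algEquiv _ hi
  refine ⟨bp_gs_Er_idem hi.1 r, ?_, ?_⟩
  · intro h
    have := congrFun (congrFun h r) r
    rw [bp_gs_Er, Matrix.single_apply_same, Matrix.zero_apply] at this
    exact hep.2.1 this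
  · intro δ hδ h1 h2
    have h3 : δ = Matrix.single r r (bp_gs_e σ i r * δ r r * bp_gs_e σ i r) := by
      rw [← Matrix.single_mul_mul_single]
      change δ = bp_gs_Er σ i r * δ * bp_gs_Er σ i r
      rw [h1, h2]
    set x := bp_gs_e σ i r * δ r r * bp_gs_e σ i r with hx
    have hxi : IsIdempotentElem x := by
      have h4 : δ * δ = δ := hδ.eq
      rw [h3, Matrix.single_mul_single_same] at h4
      have := congrFun (congrFun h4 r) r
      rw [Matrix.single_apply_same, Matrix.single_apply_same] at this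
      exact this
    have hx1 : bp_gs_e σ i r * x = x := by
      rw [hx, ← mul_assoc, ← mul_assoc, hep.1.eq]
    have hx2 : x * bp_gs_e σ i r = x := by
      rw [hx, mul_assoc, hep.1.eq]
    rcases hep.2.2 x hxi hx1 hx2 with h0 | h0
    · left
      rw [h3, h0, Matrix.single_zero]
    · right
      rw [h3, h0, bp_gs_Er]

theorem bp_gs_not_InJ_Er {i : Λ} (hi : IsIdempotentElem i) (r : ZMod p) :
    ¬ bp_gs_InJ σ i (bp_gs_Er σ i r) := by
  intro h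
  have he := bp_gs_e_idem (σ := σ) hi r
  apply h r r (bp_gs_e σ i r) (bp_corner_self he)
  rw [bp_gs_Er, Matrix.single_apply_same, he.eq]
  exact bp_cornerUnit_self he

end mat

section radical

variable {R Λ : Type*} [CommRing R] [IsLocalRing R] [SplitMonic R] [Ring Λ] [Algebra R Λ]
  [Module.Finite R Λ]
variable {p : ℕ} [Fact p.Prime]
variable {σ : Λ ≃ₐ[R] Λ} {i : Λ}

theorem bp_gs_e_prim (hi : bp_IsPrim i) (d : ZMod p) : bp_IsPrim (bp_gs_e σ i d) :=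
  bp_gs_prim_algEquiv _ hi

theorem bp_gs_InJ_zero (hi : bp_IsPrim i) : bp_gs_InJ (p := p) σ i 0 := by
  intro r s w _ h
  rw [Matrix.zero_apply, zero_mul] at h
  obtain ⟨-, y, -, h1, -⟩ := h
  rw [zero_mul] at h1
  exact (bp_gs_e_prim (σ := σ) hi r).2.1 h1.symm

theorem bp_gs_InJ_add (hi : bp_IsPrim i) {Z W : Matrix (ZMod p) (ZMod p) Λ}
    (hZM : bp_gs_InM σ i Z) (hWM : bp_gs_InM σ i W) (hZ : bp_gs_InJ σ i Z)
    (hW : bp_gs_InJ σ i W) : bp_gs_InJ σ i (Z + W) := by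
  intro r s w hw h
  rw [Matrix.add_apply, add_mul] at h
  have he := bp_gs_e_idem (p := p) (σ := σ) hi.1
  have h1 : bp_gs_e σ i r * (Z r s * w) * bp_gs_e σ i r = Z r s * w :=
    bp_gs_two_mul (he r) (he r) (hZM r s) hw
  have h2 : bp_gs_e σ i r * (W r s * w) * bp_gs_e σ i r = W r s * w :=
    bp_gs_two_mul (he r) (he r) (hWM r s) hw
  rcases bp_prim_add R _ _ _ (bp_gs_e_prim hi r) h1 h2 h with h3 | h3
  · exact hZ r s w hw h3
  · exact hW r s w hw h3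

theorem bp_gs_InJ_neg {Z : Matrix (ZMod p) (ZMod p) Λ} (hZ : bp_gs_InJ σ i Z) :
    bp_gs_InJ σ i (-Z) := by
  intro r s w hw h
  rw [Matrix.neg_apply, neg_mul, bp_gs_cornerUnit_neg_iff] at h
  exact hZ r s w hw h

theorem bp_gs_InJ_sub (hi : bp_IsPrim i) {Z W : Matrix (ZMod p) (ZMod p) Λ}
    (hZM : bp_gs_InM σ i Z) (hWM : bp_gs_InM σ i W) (hZ : bp_gs_InJ σ i Z)
    (hW : bp_gs_InJ σ i W) : bp_gs_InJ σ i (Z - W) := by
  rw [sub_eq_add_neg]
  exact bp_gs_InJ_add hi hZM (bp_gs_InM_neg hWM) hZ (bp_gs_InJ_neg hW)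

theorem bp_gs_InJ_smul (c : R) {Z : Matrix (ZMod p) (ZMod p) Λ} (hZ : bp_gs_InJ σ i Z) :
    bp_gs_InJ σ i (c • Z) := by
  intro r s w hw h
  rw [Matrix.smul_apply, smul_mul_assoc, ← mul_smul_comm] at h
  refine hZ r s (c • w) ?_ h
  rw [mul_smul_comm, smul_mul_assoc, hw]

/-- `𝔪ℳ ⊆ 𝒥`. -/
theorem bp_gs_InJ_smul_of_mem (hi : bp_IsPrim i) {c : R} (hc : c ∈ IsLocalRing.maximalIdeal R)
    (Z : Matrix (ZMod p) (ZMod p) Λ) : bp_gs_InJ σ i (c • Z) := by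
  intro r s w _ h
  rw [Matrix.smul_apply, smul_mul_assoc] at h
  refine bp_prim_not_both (R := R) _ _ (bp_gs_e_prim hi r) h 1 ?_
  rw [pow_one]
  exact bp_smul_mem_mG hc _

theorem bp_gs_InJ_mul_right (hi : bp_IsPrim i) {Z W : Matrix (ZMod p) (ZMod p) Λ}
    (hZM : bp_gs_InM σ i Z) (hWM : bp_gs_InM σ i W) (hZ : bp_gs_InJ σ i Z) :
    bp_gs_InJ σ i (Z * W) := by
  intro r t w hw h
  have he := bp_gs_e_idem (p := p) (σ := σ) hi.1
  rw [Matrix.mul_apply, Finset.sum_mul] at h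
  obtain ⟨s, -, hs⟩ := bp_prim_sum (R := R) Finset.univ (bp_gs_e σ i r)
    (fun s => Z r s * W s t * w) (bp_gs_e_prim hi r)
    (fun s _ => by
      rw [mul_assoc (Z r s)]
      exact bp_gs_two_mul (he r) (he r) (hZM r s) (bp_gs_two_mul (he s) (he r) (hWM s t) hw)) h
  rw [mul_assoc] at hs
  exact hZ r s (W s t * w) (bp_gs_two_mul (he s) (he r) (hWM s t) hw) hs

theorem bp_gs_InJ_mul_left (hi : bp_IsPrim i) {Z W : Matrix (ZMod p) (ZMod p) Λ}
    (hZM : bp_gs_InM σ i Z) (hWM : bp_gs_InM σ i W) (hZ : bp_gs_InJ σ i Z) :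
    bp_gs_InJ σ i (W * Z) := by
  intro r t w hw h
  have he := bp_gs_e_idem (p := p) (σ := σ) hi.1
  rw [Matrix.mul_apply, Finset.sum_mul] at h
  obtain ⟨s, -, hs⟩ := bp_prim_sum (R := R) Finset.univ (bp_gs_e σ i r)
    (fun s => W r s * Z s t * w) (bp_gs_e_prim hi r)
    (fun s _ => by
      rw [mul_assoc (W r s)]
      exact bp_gs_two_mul (he r) (he r) (hWM r s) (bp_gs_two_mul (he s) (he r) (hZM s t) hw)) h
  obtain ⟨-, y, hy, hy1, -⟩ := hs
  -- `W r s * (Z s t * w) * y = e r`, so `(Z s t * w) * y * W r s = e s`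
  have hb : bp_gs_e σ i s * (Z s t * w) * bp_gs_e σ i r = Z s t * w :=
    bp_gs_two_mul (he s) (he r) (hZM s t) hw
  have hsw := bp_gs_swap (he r) (bp_gs_e_prim (σ := σ) hi r).2.1 (bp_gs_e_prim (σ := σ) hi s)
    (hWM r s) hb hy (by rw [← hy1]; simp only [mul_assoc])
  -- so `Z s t * (w * y * W r s)` is a unit of the corner of `e s`
  apply hZ s t (w * y * W r s)
  · rw [mul_assoc w]
    exact bp_gs_two_mul (he t) (he s) hw
      (bp_gs_two_mul (he r) (he s) hy (hWM r s))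
  · have : Z s t * (w * y * W r s) = bp_gs_e σ i s := by
      rw [← hsw]; simp only [mul_assoc]
    rw [this]
    exact bp_cornerUnit_self (he s)

end radical

section GP

variable {R Λ : Type*} [CommRing R] [IsLocalRing R] [SplitMonic R] [Ring Λ] [Algebra R Λ]
  [Module.Finite R Λ]
variable {p : ℕ} [Fact p.Prime]
variable {σ : Λ ≃ₐ[R] Λ} {i : Λ}

/-- `𝒥` as an additive subgroup of the matrix ring. -/
def bp_gs_K (σ : Λ ≃ₐ[R] Λ) (i : Λ) (hi : bp_IsPrim i) :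
    AddSubgroup (Matrix (ZMod p) (ZMod p) Λ) where
  carrier := {Z | bp_gs_InM σ i Z ∧ bp_gs_InJ σ i Z}
  zero_mem' := ⟨bp_gs_InM_zero, bp_gs_InJ_zero hi⟩
  add_mem' := fun hZ hW => ⟨bp_gs_InM_add hZ.1 hW.1, bp_gs_InJ_add hi hZ.1 hW.1 hZ.2 hW.2⟩
  neg_mem' := fun hZ => ⟨bp_gs_InM_neg hZ.1, bp_gs_InJ_neg hZ.2⟩

theorem bp_gs_mem_K (hi : bp_IsPrim i) (Z : Matrix (ZMod p) (ZMod p) Λ) :
    Z ∈ bp_gs_K σ i hi ↔ bp_gs_InM σ i Z ∧ bp_gs_InJ σ i Z := Iff.rfl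

/-- idempotents of `ℳ` lying in `𝒥` vanish (Step 3). -/
theorem bp_gs_idem_InJ (hi : bp_IsPrim i) {Z : Matrix (ZMod p) (ZMod p) Λ}
    (hZ : IsIdempotentElem Z) (hZM : bp_gs_InM σ i Z) (hZJ : bp_gs_InJ σ i Z) : Z = 0 := by
  have : Module.Finite R (Matrix (ZMod p) (ZMod p) Λ) := bp_gs_mat_finite R Λ p
  refine bp_idem_radical R (Finset.univ : Finset (ZMod p)) (bp_gs_Er σ i)
    (fun r _ => bp_gs_Er_prim hi r) ?_ (bp_gs_E σ i) bp_gs_sum_Er.symm (bp_gs_K σ i hi) ?_ ?_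
    Z hZ ((bp_gs_InM_iff Z).1 hZM) ⟨hZM, hZJ⟩
  · intro r _ t _ hrt
    unfold bp_gs_Er
    exact Matrix.single_mul_single_of_ne (bp_gs_e σ i r) r r t hrt (bp_gs_e σ i t)
  · intro a z b hz
    have ha := bp_gs_InM_EaE (σ := σ) hi.1 a
    have hb := bp_gs_InM_EaE (σ := σ) hi.1 b
    refine ⟨bp_gs_InM_mul hi.1 (bp_gs_InM_mul hi.1 ha hz.1) hb, ?_⟩
    exact bp_gs_InJ_mul_right hi (bp_gs_InM_mul hi.1 ha hz.1) hb
      (bp_gs_InJ_mul_left hi hz.1 ha hz.2)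
  · intro r _ h
    exact bp_gs_not_InJ_Er hi.1 r h.2

/-- Step 4 (GP): an idempotent `Z` of `ℳ` with `(Z - λE)^N ∈ 𝒥` for some `λ ∈ R`, `N ≥ 1`, is `0`
or `E`. -/
theorem bp_gs_GP (hi : bp_IsPrim i) {Z : Matrix (ZMod p) (ZMod p) Λ}
    (hZ : IsIdempotentElem Z) (hZM : bp_gs_InM σ i Z) (c : R) (N : ℕ)
    (h : bp_gs_InJ σ i ((Z - c • bp_gs_E σ i) ^ (N + 1))) : Z = 0 ∨ Z = bp_gs_E σ i := by
  set E := bp_gs_E (p := p) σ i with hE
  have hEM : bp_gs_InM σ i E := bp_gs_InM_E hi.1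
  have hEi : IsIdempotentElem E := bp_gs_E_idem hi.1
  have hEZ : E * Z = Z := bp_gs_InM_E_mul hi.1 hZM
  have hZE : Z * E = Z := bp_gs_InM_mul_E hi.1 hZM
  set X := Z - c • E with hX
  have hXM : bp_gs_InM σ i X := bp_gs_InM_sub hZM (bp_gs_InM_smul c hEM)
  have hXN : bp_gs_InM σ i (X ^ (N + 1)) := bp_gs_InM_pow hi.1 hXM N
  -- `Z * X^n = (1-c)^n • Z`
  have h1 : ∀ n : ℕ, Z * X ^ (n + 1) = (1 - c) ^ (n + 1) • Z := by
    have h0 : Z * X = (1 - c) • Z := by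
      rw [hX, mul_sub, mul_smul_comm, hZE, hZ.eq, sub_smul, one_smul]
    intro n
    induction n with
    | zero => simpa using h0
    | succ n ih =>
      rw [pow_succ, ← mul_assoc, ih, smul_mul_assoc, h0, smul_smul, ← pow_succ]
  -- `(E - Z) * X^n = (-c)^n • (E - Z)`
  have h2 : ∀ n : ℕ, (E - Z) * X ^ (n + 1) = (-c) ^ (n + 1) • (E - Z) := by
    have h0 : (E - Z) * X = (-c) • (E - Z) := by
      rw [hX, mul_sub, sub_mul, sub_mul, mul_smul_comm, mul_smul_comm, hEZ, hZ.eq, hEi.eq, hZE,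
        neg_smul, smul_sub]
      abel
    intro n
    induction n with
    | zero => simpa using h0
    | succ n ih =>
      rw [pow_succ, ← mul_assoc, ih, smul_mul_assoc, h0, smul_smul, ← pow_succ]
  have hEZM : bp_gs_InM σ i (E - Z) := bp_gs_InM_sub hEM hZM
  rcases IsLocalRing.isUnit_or_isUnit_one_sub_self c with hc | hc
  · -- `c` is a unit: `E - Z ∈ 𝒥`
    right
    have h3 : bp_gs_InJ σ i ((-c) ^ (N + 1) • (E - Z)) := by
      rw [← h2 N]
      exact bp_gs_InJ_mul_left hi hXN hEZM h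
    obtain ⟨u, hu⟩ := (hc.neg.pow (N + 1))
    have h4 : bp_gs_InJ σ i (E - Z) := by
      have := bp_gs_InJ_smul (↑u⁻¹ : R) h3
      rwa [smul_smul, ← hu, Units.inv_mul, one_smul] at this
    have hid : IsIdempotentElem (E - Z) := by
      unfold IsIdempotentElem
      rw [mul_sub, sub_mul, sub_mul, hEi.eq, hZE, hEZ, hZ.eq]
      abel
    have := bp_gs_idem_InJ hi hid hEZM h4
    exact (sub_eq_zero.1 this).symm
  · left
    have h3 : bp_gs_InJ σ i ((1 - c) ^ (N + 1) • Z) := by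
      rw [← h1 N]
      exact bp_gs_InJ_mul_left hi hXN hZM h
    obtain ⟨u, hu⟩ := (hc.pow (N + 1))
    have h4 : bp_gs_InJ σ i Z := by
      have := bp_gs_InJ_smul (↑u⁻¹ : R) h3
      rwa [smul_smul, ← hu, Units.inv_mul, one_smul] at this
    exact bp_gs_idem_InJ hi hZ hZM h4

end GP

section circ

variable {R Λ : Type*} [CommRing R] [Ring Λ] [Algebra R Λ]
variable {p : ℕ} [Fact p.Prime]
variable {σ : Λ ≃ₐ[R] Λ} {i : Λ}

theorem bp_gs_IsCirc_zero : bp_gs_IsCirc (p := p) σ (0 : Matrix (ZMod p) (ZMod p) Λ) := by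
  intro r s
  simp

theorem bp_gs_IsCirc_add {Z W : Matrix (ZMod p) (ZMod p) Λ} (hZ : bp_gs_IsCirc σ Z)
    (hW : bp_gs_IsCirc σ W) : bp_gs_IsCirc σ (Z + W) := by
  intro r s
  rw [Matrix.add_apply, Matrix.add_apply, hZ, hW, map_add]

theorem bp_gs_IsCirc_neg {Z : Matrix (ZMod p) (ZMod p) Λ} (hZ : bp_gs_IsCirc σ Z) :
    bp_gs_IsCirc σ (-Z) := by
  intro r s
  rw [Matrix.neg_apply, Matrix.neg_apply, hZ, map_neg]

theorem bp_gs_IsCirc_sub {Z W : Matrix (ZMod p) (ZMod p) Λ} (hZ : bp_gs_IsCirc σ Z)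
    (hW : bp_gs_IsCirc σ W) : bp_gs_IsCirc σ (Z - W) := by
  rw [sub_eq_add_neg]
  exact bp_gs_IsCirc_add hZ (bp_gs_IsCirc_neg hW)

theorem bp_gs_IsCirc_smul (c : R) {Z : Matrix (ZMod p) (ZMod p) Λ} (hZ : bp_gs_IsCirc σ Z) :
    bp_gs_IsCirc σ (c • Z) := by
  intro r s
  rw [Matrix.smul_apply, Matrix.smul_apply, hZ, map_smul]

theorem bp_gs_IsCirc_sum {ι : Type*} (t : Finset ι) (Z : ι → Matrix (ZMod p) (ZMod p) Λ)
    (hZ : ∀ k ∈ t, bp_gs_IsCirc σ (Z k)) : bp_gs_IsCirc σ (∑ k ∈ t, Z k) := by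
  classical
  induction t using Finset.induction_on with
  | empty => simpa using bp_gs_IsCirc_zero
  | insert a t ha ih =>
    rw [Finset.sum_insert ha]
    exact bp_gs_IsCirc_add (hZ a (Finset.mem_insert_self a t))
      (ih fun k hk => hZ k (Finset.mem_insert_of_mem hk))

theorem bp_gs_IsCirc_mul {Z W : Matrix (ZMod p) (ZMod p) Λ} (hZ : bp_gs_IsCirc σ Z)
    (hW : bp_gs_IsCirc σ W) : bp_gs_IsCirc σ (Z * W) := by
  intro r s
  rw [Matrix.mul_apply, Matrix.mul_apply, map_sum]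
  refine (Fintype.sum_equiv (Equiv.addRight (1 : ZMod p)) (fun t => σ (Z r t * W t s))
    (fun t => Z (r + 1) t * W t (s + 1)) fun t => ?_).symm
  rw [Equiv.coe_addRight, hZ, hW, map_mul]

theorem bp_gs_IsCirc_E (hσ : σ ^ p = 1) : bp_gs_IsCirc σ (bp_gs_E (p := p) σ i) := by
  intro r s
  rw [bp_gs_E_apply, bp_gs_E_apply]
  by_cases h : r = s
  · rw [if_pos h, if_pos (by rw [h]), bp_gs_e_succ hσ]
  · rw [if_neg h, if_neg (fun h' => h (add_right_cancel h')), map_zero]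

theorem bp_gs_IsCirc_pow {Z : Matrix (ZMod p) (ZMod p) Λ}
    (hZ : bp_gs_IsCirc σ Z) (n : ℕ) : bp_gs_IsCirc σ (Z ^ (n + 1)) := by
  induction n with
  | zero => simpa using hZ
  | succ n ih =>
    rw [pow_succ]
    exact bp_gs_IsCirc_mul ih hZ

/-- a circulant is determined by its row `0`. -/
theorem bp_gs_IsCirc.apply {Z : Matrix (ZMod p) (ZMod p) Λ}
    (hZ : bp_gs_IsCirc σ Z) (t r s : ZMod p) :
    Z (r + t) (s + t) = bp_gs_sg p σ t (Z r s) := by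
  have hp : NeZero p := ⟨(Fact.out : p.Prime).ne_zero⟩
  have key : ∀ n : ℕ, Z (r + (n : ZMod p)) (s + (n : ZMod p)) = (σ ^ n) (Z r s) := by
    intro n
    induction n with
    | zero => simp
    | succ n ih =>
      rw [Nat.cast_succ, ← add_assoc, ← add_assoc, hZ, ih, pow_succ', AlgEquiv.mul_apply]
  have := key t.val
  rwa [ZMod.natCast_zmod_val] at this

theorem bp_gs_IsCirc.apply' {Z : Matrix (ZMod p) (ZMod p) Λ}
    (hZ : bp_gs_IsCirc σ Z) (r s : ZMod p) :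
    Z r s = bp_gs_sg p σ r (Z 0 (s - r)) := by
  have := hZ.apply r 0 (s - r)
  rwa [zero_add, sub_add_cancel] at this

/-- `Z` is concentrated in degree `d`: `Z r s = 0` unless `s = r + d`. -/
def bp_gs_Deg (d : ZMod p) (Z : Matrix (ZMod p) (ZMod p) Λ) : Prop :=
  ∀ r s, s ≠ r + d → Z r s = 0

theorem bp_gs_Deg_mul {d d' : ZMod p} {Z W : Matrix (ZMod p) (ZMod p) Λ}
    (hZ : bp_gs_Deg d Z) (hW : bp_gs_Deg d' W) : bp_gs_Deg (d + d') (Z * W) := by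
  intro r s hs
  rw [Matrix.mul_apply]
  refine Finset.sum_eq_zero fun t _ => ?_
  by_cases ht : t = r + d
  · have : s ≠ t + d' := by
      rw [ht, add_assoc]
      exact hs
    rw [hW t s this, mul_zero]
  · rw [hZ r t ht, zero_mul]

theorem bp_gs_Deg_E : bp_gs_Deg (0 : ZMod p) (bp_gs_E (p := p) σ i) := by
  intro r s hs
  rw [bp_gs_E_apply, if_neg]
  intro h
  apply hs
  rw [add_zero, h]

theorem bp_gs_Deg_smul (c : R) {d : ZMod p} {Z : Matrix (ZMod p) (ZMod p) Λ}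
    (hZ : bp_gs_Deg d Z) : bp_gs_Deg d (c • Z) := by
  intro r s hs
  rw [Matrix.smul_apply, hZ r s hs, smul_zero]

theorem bp_gs_Deg_sub {d : ZMod p} {Z W : Matrix (ZMod p) (ZMod p) Λ}
    (hZ : bp_gs_Deg d Z) (hW : bp_gs_Deg d W) : bp_gs_Deg d (Z - W) := by
  intro r s hs
  rw [Matrix.sub_apply, hZ r s hs, hW r s hs, sub_zero]

/-- the degree-`d` part of a matrix. -/
def bp_gs_part (d : ZMod p) (Z : Matrix (ZMod p) (ZMod p) Λ) : Matrix (ZMod p) (ZMod p) Λ :=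
  Matrix.of fun r s => if s = r + d then Z r s else 0

theorem bp_gs_part_apply (d : ZMod p) (Z : Matrix (ZMod p) (ZMod p) Λ) (r s : ZMod p) :
    bp_gs_part d Z r s = if s = r + d then Z r s else 0 := rfl

theorem bp_gs_Deg_part (d : ZMod p) (Z : Matrix (ZMod p) (ZMod p) Λ) :
    bp_gs_Deg d (bp_gs_part d Z) := by
  intro r s hs
  rw [bp_gs_part_apply, if_neg hs]

theorem bp_gs_sum_part (Z : Matrix (ZMod p) (ZMod p) Λ) :
    ∑ d : ZMod p, bp_gs_part d Z = Z := by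
  ext r s
  rw [Matrix.sum_apply]
  simp only [bp_gs_part_apply]
  rw [Finset.sum_eq_single (s - r)]
  · rw [if_pos (by ring)]
  · intro d _ hd
    rw [if_neg]
    intro h
    apply hd
    rw [h]; ring
  · intro h
    exact absurd (Finset.mem_univ _) h

theorem bp_gs_IsCirc_part {d : ZMod p} {Z : Matrix (ZMod p) (ZMod p) Λ}
    (hZ : bp_gs_IsCirc σ Z) : bp_gs_IsCirc σ (bp_gs_part d Z) := by
  intro r s
  rw [bp_gs_part_apply, bp_gs_part_apply]
  by_cases h : s = r + d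
  · rw [if_pos h, if_pos (by rw [h]; ring), hZ]
  · rw [if_neg h, if_neg, map_zero]
    intro h'
    apply h
    have : s + 1 = (r + d) + 1 := by rw [h']; ring
    exact add_right_cancel this

theorem bp_gs_InM_part {d : ZMod p} {Z : Matrix (ZMod p) (ZMod p) Λ}
    (hZ : bp_gs_InM σ i Z) : bp_gs_InM σ i (bp_gs_part d Z) := by
  intro r s
  rw [bp_gs_part_apply]
  split_ifs
  · exact hZ r s
  · simp

end circ

end Cfsg.Agent.BP
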