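import Cfsg.Agent.BP.GreenStepA

/-!
# BP / L5.0, Step 5, Case 2, second half

Given invertible circulants `U` (degree `1`) and `V` (degree `-1`) of `ℳ` with `U V = V U = E` and
`U^p - E ∈ 𝒥`, every circulant `Z` of `ℳ` satisfies `(Z - c • E)^p ∈ 𝒥` for some `c : R`.
-/

set_option autoImplicit false
set_option linter.unusedSectionVars false

namespace Cfsg.Agent.BP

section cpow

variable {R Λ : Type*} [CommRing R] [Ring Λ] [Algebra R Λ]
variable {p : ℕ} [Fact p.Prime]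
variable {σ : Λ ≃ₐ[R] Λ} {i : Λ}

theorem bp_gs_InM_Epow (hi : IsIdempotentElem i) {X : Matrix (ZMod p) (ZMod p) Λ}
    (hX : bp_gs_InM σ i X) (n : ℕ) : bp_gs_InM σ i (bp_gs_E σ i * X ^ n) := by
  induction n with
  | zero => rw [pow_zero, mul_one]; exact bp_gs_InM_E hi
  | succ n ih => rw [pow_succ, ← mul_assoc]; exact bp_gs_InM_mul hi ih hX

theorem bp_gs_IsCirc_Epow (hσ : σ ^ p = 1) {X : Matrix (ZMod p) (ZMod p) Λ}
    (hX : bp_gs_IsCirc σ X) (n : ℕ) : bp_gs_IsCirc σ (bp_gs_E σ i * X ^ n) := by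
  induction n with
  | zero => rw [pow_zero, mul_one]; exact bp_gs_IsCirc_E hσ
  | succ n ih => rw [pow_succ, ← mul_assoc]; exact bp_gs_IsCirc_mul ih hX

theorem bp_gs_Deg_Epow {d : ZMod p} {X : Matrix (ZMod p) (ZMod p) Λ}
    (hX : bp_gs_Deg d X) (n : ℕ) :
    bp_gs_Deg ((n : ZMod p) * d) (bp_gs_E σ i * X ^ n) := by
  induction n with
  | zero => rw [pow_zero, mul_one, Nat.cast_zero, zero_mul]; exact bp_gs_Deg_E
  | succ n ih =>
    rw [pow_succ, ← mul_assoc]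
    have : ((n + 1 : ℕ) : ZMod p) * d = (n : ZMod p) * d + d := by push_cast; ring
    rw [this]
    exact bp_gs_Deg_mul ih hX

theorem bp_gs_Epow_mul_Epow (hi : IsIdempotentElem i) {U V : Matrix (ZMod p) (ZMod p) Λ}
    (hVM : bp_gs_InM σ i V) (hVU : V * U = bp_gs_E σ i) (n : ℕ) :
    (bp_gs_E σ i * V ^ n) * (bp_gs_E σ i * U ^ n) = bp_gs_E σ i := by
  induction n with
  | zero => simp only [pow_zero, mul_one]; exact (bp_gs_E_idem (p := p) (σ := σ) hi).eq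
  | succ n ih =>
    have hVE : V * bp_gs_E σ i = V := bp_gs_InM_mul_E hi hVM
    calc (bp_gs_E σ i * V ^ (n + 1)) * (bp_gs_E σ i * U ^ (n + 1))
        = (bp_gs_E σ i * (V ^ n * V)) * (bp_gs_E σ i * (U * U ^ n)) := by
          rw [pow_succ, pow_succ']
      _ = bp_gs_E σ i * V ^ n * ((V * bp_gs_E σ i) * U) * U ^ n := by simp only [mul_assoc]
      _ = bp_gs_E σ i * V ^ n * bp_gs_E σ i * U ^ n := by rw [hVE, hVU]
      _ = (bp_gs_E σ i * V ^ n) * (bp_gs_E σ i * U ^ n) := by simp only [mul_assoc]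
      _ = bp_gs_E σ i := ih

theorem bp_gs_InM_pow_pos (hi : IsIdempotentElem i) {X : Matrix (ZMod p) (ZMod p) Λ}
    (hX : bp_gs_InM σ i X) {n : ℕ} (hn : 0 < n) : bp_gs_InM σ i (X ^ n) := by
  obtain ⟨m, rfl⟩ : ∃ m, n = m + 1 := ⟨n - 1, by omega⟩
  exact bp_gs_InM_pow hi hX m

theorem bp_gs_E_pow_pos (hi : IsIdempotentElem i) {n : ℕ} (hn : 0 < n) :
    (bp_gs_E (p := p) σ i) ^ n = bp_gs_E σ i := by
  obtain ⟨m, rfl⟩ : ∃ m, n = m + 1 := ⟨n - 1, by omega⟩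
  induction m with
  | zero => simp
  | succ m ih => rw [pow_succ, ih (by omega), (bp_gs_E_idem hi).eq]

/-- `Û = U + (1 - E)`: `Û^n = E U^n + (1 - E)`. -/
theorem bp_gs_hat_pow (hi : IsIdempotentElem i) {U : Matrix (ZMod p) (ZMod p) Λ}
    (hUM : bp_gs_InM σ i U) (n : ℕ) :
    (U + (1 - bp_gs_E σ i)) ^ n = bp_gs_E σ i * U ^ n + (1 - bp_gs_E σ i) := by
  have hE := (bp_gs_E_idem (p := p) (σ := σ) hi).eq
  have hEU : bp_gs_E σ i * U = U := bp_gs_InM_E_mul hi hUM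
  have hUE : U * bp_gs_E σ i = U := bp_gs_InM_mul_E hi hUM
  induction n with
  | zero => rw [pow_zero, pow_zero, mul_one]; abel
  | succ n ih =>
    have h1 := bp_gs_InM_mul_E hi (bp_gs_InM_Epow (σ := σ) hi hUM n)
    rw [pow_succ, ih, pow_succ]
    have e1 : (bp_gs_E σ i * U ^ n + (1 - bp_gs_E σ i)) * (U + (1 - bp_gs_E σ i))
        = bp_gs_E σ i * U ^ n * U + (bp_gs_E σ i * U ^ n - bp_gs_E σ i * U ^ n * bp_gs_E σ i)
          + (U - bp_gs_E σ i * U) + (1 - bp_gs_E σ i - (bp_gs_E σ i - bp_gs_E σ i * bp_gs_E σ i)) := by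
      noncomm_ring
    rw [e1, h1, hEU, hE, sub_self, sub_self, sub_self, add_zero, add_zero, sub_zero, mul_assoc]

end cpow

section B2

variable {R Λ : Type*} [CommRing R] [IsLocalRing R] [SplitMonic R] [Ring Λ] [Algebra R Λ]
  [Module.Finite R Λ]
variable {p : ℕ} [Fact p.Prime]
variable {σ : Λ ≃ₐ[R] Λ} {i : Λ}

/-- a circulant of `ℳ` of degree `0` is a scalar multiple of `E` modulo `𝒥`. -/
theorem bp_gs_deg0 (hσ : σ ^ p = 1) (hi : bp_IsPrim i)
    {Z : Matrix (ZMod p) (ZMod p) Λ} (hZM : bp_gs_InM σ i Z) (hZC : bp_gs_IsCirc σ Z)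
    (hZD : bp_gs_Deg 0 Z) : ∃ c : R, bp_gs_InJ σ i (Z - c • bp_gs_E σ i) := by
  have hx0 : i * Z 0 0 * i = Z 0 0 := by
    have := hZM 0 0
    rwa [bp_gs_e_zero] at this
  obtain ⟨c, hc⟩ := bp_prim_scalar_nonunit R i (Z 0 0) hi hx0
  refine ⟨c, ?_⟩
  intro r s w hw h
  rw [Matrix.sub_apply, Matrix.smul_apply, bp_gs_E_apply] at h
  by_cases hrs : r = s
  · subst hrs
    rw [if_pos rfl] at h
    -- same computation as in Case 1
    have hep := bp_gs_e_prim (p := p) (σ := σ) hi r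
    have hx : bp_gs_e σ i r * (Z r r - c • bp_gs_e σ i r) * bp_gs_e σ i r
        = Z r r - c • bp_gs_e σ i r := by
      rw [mul_sub, sub_mul, hZM r r, bp_smul_corner R _ hep.1]
    have h1 := (bp_prim_mul R _ _ _ hep hx hw h).1
    have h2 := bp_gs_cornerUnit_algEquiv (bp_gs_sg p σ (-r)) h1
    apply hc
    have e1 : bp_gs_sg p σ (-r) (bp_gs_e σ i r) = i := by
      rw [bp_gs_sg_e hσ, neg_add_cancel, bp_gs_e_zero]
    have e2 : bp_gs_sg p σ (-r) (Z r r) = Z 0 0 := by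
      rw [hZC.apply' r r, sub_self, bp_gs_sg_neg_apply hσ]
    rwa [map_sub, map_smul, e1, e2] at h2
  · rw [if_neg hrs, smul_zero, sub_zero, hZD r s (by rw [add_zero]; exact Ne.symm hrs),
      zero_mul] at h
    obtain ⟨-, y, -, h1, -⟩ := h
    rw [zero_mul] at h1
    exact (bp_gs_e_prim (p := p) (σ := σ) hi r).2.1 h1.symm

/-- congruence of powers modulo `𝒥`, inside `ℳ`. -/
theorem bp_gs_pow_congr (hi : bp_IsPrim i) {A B : Matrix (ZMod p) (ZMod p) Λ}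
    (hA : bp_gs_InM σ i A) (hB : bp_gs_InM σ i B) (h : bp_gs_InJ σ i (A - B)) (n : ℕ) :
    bp_gs_InJ σ i (A ^ (n + 1) - B ^ (n + 1)) := by
  induction n with
  | zero => simpa using h
  | succ n ih =>
    have e : A ^ (n + 1 + 1) - B ^ (n + 1 + 1)
        = A ^ (n + 1) * (A - B) + (A ^ (n + 1) - B ^ (n + 1)) * B := by
      rw [pow_succ A (n + 1), pow_succ B (n + 1), mul_sub, sub_mul]; abel
    rw [e]
    have hAn := bp_gs_InM_pow hi.1 hA n
    have hBn := bp_gs_InM_pow hi.1 hB n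
    have hAB := bp_gs_InM_sub hA hB
    exact bp_gs_InJ_add hi (bp_gs_InM_mul hi.1 hAn hAB)
      (bp_gs_InM_mul hi.1 (bp_gs_InM_sub hAn hBn) hB)
      (bp_gs_InJ_mul_left hi hAB hAn h)
      (bp_gs_InJ_mul_right hi (bp_gs_InM_sub hAn hBn) hB ih)

/-- `(U - E)^p ∈ 𝒥` as soon as `U^p - E ∈ 𝒥`. -/
theorem bp_gs_sub_pow_prime (hp : (p : R) ∈ IsLocalRing.maximalIdeal R) (hi : bp_IsPrim i)
    {U : Matrix (ZMod p) (ZMod p) Λ} (hUM : bp_gs_InM σ i U)
    (hUp : bp_gs_InJ σ i (U ^ p - bp_gs_E σ i)) :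
    bp_gs_InJ σ i ((U - bp_gs_E σ i) ^ p) := by
  have hpp : p.Prime := Fact.out
  set E := bp_gs_E (p := p) σ i with hEdef
  have hEi : IsIdempotentElem E := bp_gs_E_idem hi.1
  have hEM : bp_gs_InM σ i E := bp_gs_InM_E hi.1
  have hEU : E * U = U := bp_gs_InM_E_mul hi.1 hUM
  have hUE : U * E = U := bp_gs_InM_mul_E hi.1 hUM
  have hcomm : Commute U (-E) := by
    rw [Commute, SemiconjBy, mul_neg, neg_mul, hEU, hUE]
  obtain ⟨r, hr⟩ := hcomm.exists_add_pow_prime_eq hpp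
  -- all three pieces lie in ℳ
  have hUpM : bp_gs_InM σ i (U ^ p) := bp_gs_InM_pow_pos hi.1 hUM hpp.pos
  have hnegEpM : bp_gs_InM σ i ((-E) ^ p) := bp_gs_InM_pow_pos hi.1 (bp_gs_InM_neg hEM) hpp.pos
  have hUEpM : bp_gs_InM σ i ((U - E) ^ p) :=
    bp_gs_InM_pow_pos hi.1 (bp_gs_InM_sub hUM hEM) hpp.pos
  set Q := (p : Matrix (ZMod p) (ZMod p) Λ) * U * (-E) * r with hQ
  have hQeq : Q = (U - E) ^ p - U ^ p - (-E) ^ p := by
    rw [sub_eq_add_neg U E, hr]; abel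
  have hQM : bp_gs_InM σ i Q := by
    rw [hQeq]; exact bp_gs_InM_sub (bp_gs_InM_sub hUEpM hUpM) hnegEpM
  have hQJ : bp_gs_InJ σ i Q := by
    have e1 : Q = (p : R) • (E * (U * (-E) * r) * E) := by
      have h1 : Q = E * Q * E := ((bp_gs_InM_iff Q).1 hQM).symm
      rw [h1, hQ]
      have h2 : (p : Matrix (ZMod p) (ZMod p) Λ) * U * (-E) * r
          = (p : R) • (U * (-E) * r) := by
        rw [mul_assoc, mul_assoc, ← mul_assoc U, Nat.cast_smul_eq_nsmul, nsmul_eq_mul]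
      rw [h2, mul_smul_comm, smul_mul_assoc]
    rw [e1]
    exact bp_gs_InJ_smul_of_mem hi hp _
  -- `(-E)^p + E ∈ 𝒥`
  have hEpp : E ^ p = E := bp_gs_E_pow_pos hi.1 hpp.pos
  have hnegE : bp_gs_InJ σ i ((-E) ^ p + E) := by
    rcases hpp.eq_two_or_odd' with h2 | hodd
    · have hev : Even p := by rw [h2]; exact even_two
      have hpR : (p : R) = 2 := by rw [h2]; norm_num
      have e2 : (-E) ^ p + E = (p : R) • E := by
        rw [neg_pow, hEpp, hev.neg_one_pow, one_mul, hpR, two_smul]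
      rw [e2]
      exact bp_gs_InJ_smul_of_mem hi hp _
    · rw [neg_pow, hEpp, hodd.neg_one_pow, neg_one_mul, neg_add_cancel]
      exact bp_gs_InJ_zero hi
  have hfinal : (U - E) ^ p = (U ^ p - E) + ((-E) ^ p + E) + Q := by
    rw [hQeq]; abel
  rw [hfinal]
  have hM1 : bp_gs_InM σ i (U ^ p - E) := bp_gs_InM_sub hUpM hEM
  have hM2 : bp_gs_InM σ i ((-E) ^ p + E) := bp_gs_InM_add hnegEpM hEM
  exact bp_gs_InJ_add hi (bp_gs_InM_add hM1 hM2) hQM (bp_gs_InJ_add hi hM1 hM2 hUp hnegE) hQJ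

end B2

section B2main

variable {R Λ : Type*} [CommRing R] [IsLocalRing R] [SplitMonic R] [Ring Λ] [Algebra R Λ]
  [Module.Finite R Λ]
variable {p : ℕ} [Fact p.Prime]
variable {σ : Λ ≃ₐ[R] Λ} {i : Λ}

omit [IsLocalRing R] [SplitMonic R] [Module.Finite R Λ] in
theorem bp_gs_InM_sum {ι : Type*} (t : Finset ι) (Z : ι → Matrix (ZMod p) (ZMod p) Λ)
    (hZ : ∀ k ∈ t, bp_gs_InM σ i (Z k)) : bp_gs_InM σ i (∑ k ∈ t, Z k) := by
  classical
  induction t using Finset.induction_on with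
  | empty => simpa using bp_gs_InM_zero
  | insert a t ha ih =>
    rw [Finset.sum_insert ha]
    exact bp_gs_InM_add (hZ a (Finset.mem_insert_self a t))
      (ih fun k hk => hZ k (Finset.mem_insert_of_mem hk))

/-- Step 5, Case 2, second half. -/
theorem bp_gs_case2_of_UV (hp : (p : R) ∈ IsLocalRing.maximalIdeal R) (hσ : σ ^ p = 1)
    (hi : bp_IsPrim i) {U V : Matrix (ZMod p) (ZMod p) Λ}
    (hUM : bp_gs_InM σ i U) (hVM : bp_gs_InM σ i V) (hVC : bp_gs_IsCirc σ V)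
    (hVD : bp_gs_Deg (-1) V) (hVU : V * U = bp_gs_E σ i)
    (hUp : bp_gs_InJ σ i (U ^ p - bp_gs_E σ i))
    {Z : Matrix (ZMod p) (ZMod p) Λ} (hZM : bp_gs_InM σ i Z) (hZC : bp_gs_IsCirc σ Z) :
    ∃ c : R, bp_gs_InJ σ i ((Z - c • bp_gs_E σ i) ^ p) := by
  classical
  have hpp : p.Prime := Fact.out
  have hNZ : NeZero p := ⟨hpp.ne_zero⟩
  set E := bp_gs_E (p := p) σ i with hEdef
  have hEi : IsIdempotentElem E := bp_gs_E_idem hi.1
  have hEM : bp_gs_InM σ i E := bp_gs_InM_E hi.1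
  have hEU : E * U = U := bp_gs_InM_E_mul hi.1 hUM
  have hUE : U * E = U := bp_gs_InM_mul_E hi.1 hUM
  -- the degree-0 circulants `D d`
  let D : ZMod p → Matrix (ZMod p) (ZMod p) Λ := fun d => bp_gs_part d Z * (E * V ^ d.val)
  have hDM : ∀ d, bp_gs_InM σ i (D d) := fun d =>
    bp_gs_InM_mul hi.1 (bp_gs_InM_part hZM) (bp_gs_InM_Epow hi.1 hVM _)
  have hDC : ∀ d, bp_gs_IsCirc σ (D d) := fun d =>
    bp_gs_IsCirc_mul (bp_gs_IsCirc_part hZC) (bp_gs_IsCirc_Epow hσ hVC _)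
  have hDD : ∀ d, bp_gs_Deg 0 (D d) := by
    intro d
    have h1 := bp_gs_Deg_mul (bp_gs_Deg_part d Z) (bp_gs_Deg_Epow (σ := σ) (i := i) hVD d.val)
    have : d + ((d.val : ℕ) : ZMod p) * (-1) = 0 := by
      rw [ZMod.natCast_zmod_val]; ring
    rwa [this] at h1
  choose c hc using fun d => bp_gs_deg0 hσ hi (hDM d) (hDC d) (hDD d)
  have hpart : ∀ d, bp_gs_part d Z = D d * (E * U ^ d.val) := by
    intro d
    change _ = bp_gs_part d Z * (E * V ^ d.val) * (E * U ^ d.val)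
    rw [mul_assoc, bp_gs_Epow_mul_Epow hi.1 hVM hVU, bp_gs_InM_mul_E hi.1 (bp_gs_InM_part hZM)]
  refine ⟨∑ d, c d, ?_⟩
  set S := ∑ d : ZMod p, c d • (E * U ^ d.val - E) with hS
  set Y := ∑ d : ZMod p, (D d - c d • E) * (E * U ^ d.val) with hY
  have hdecomp : Z - (∑ d, c d) • E = S + Y := by
    rw [hS, hY, ← Finset.sum_add_distrib, Finset.sum_smul, ← bp_gs_sum_part Z,
      ← Finset.sum_sub_distrib]
    refine Finset.sum_congr rfl fun d _ => ?_
    rw [hpart d, sub_mul, smul_mul_assoc, ← mul_assoc E E, hEi.eq, smul_sub]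
    abel
  -- `Y ∈ 𝒥 ∩ ℳ`
  have hYK : Y ∈ bp_gs_K σ i hi := by
    rw [hY]
    refine (bp_gs_K σ i hi).sum_mem fun d _ => ?_
    have h1 : bp_gs_InM σ i (D d - c d • E) := bp_gs_InM_sub (hDM d) (bp_gs_InM_smul _ hEM)
    have h2 : bp_gs_InM σ i (E * U ^ d.val) := bp_gs_InM_Epow hi.1 hUM _
    exact ⟨bp_gs_InM_mul hi.1 h1 h2, bp_gs_InJ_mul_right hi h1 h2 (hc d)⟩
  have hZcM : bp_gs_InM σ i (Z - (∑ d, c d) • E) := bp_gs_InM_sub hZM (bp_gs_InM_smul _ hEM)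
  have hSM : bp_gs_InM σ i S := by
    have : S = (Z - (∑ d, c d) • E) - Y := by rw [hdecomp]; abel
    rw [this]
    exact bp_gs_InM_sub hZcM hYK.1
  -- `S = (Û - 1) * T`
  set Uh := U + (1 - E) with hUh
  have hUhpow : ∀ n : ℕ, Uh ^ n - 1 = E * U ^ n - E := by
    intro n
    rw [hUh, bp_gs_hat_pow hi.1 hUM n]; abel
  set T := ∑ d : ZMod p, c d • ∑ k ∈ Finset.range d.val, Uh ^ k with hT
  have hST : S = (Uh - 1) * T := by
    rw [hS, hT, Finset.mul_sum]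
    refine Finset.sum_congr rfl fun d _ => ?_
    rw [mul_smul_comm, mul_geom_sum, hUhpow]
  have hcomm : Commute (Uh - 1) T := by
    have h1 : Commute Uh T := by
      rw [hT]
      refine Commute.sum_right _ _ _ fun d _ => ?_
      refine Commute.smul_right ?_ _
      refine Commute.sum_right _ _ _ fun k _ => ?_
      exact (Commute.refl Uh).pow_right k
    exact h1.sub_left (Commute.one_left T)
  have hcommE : Commute E T := by
    have h0 : Commute E Uh := by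
      rw [hUh, Commute, SemiconjBy, mul_add, add_mul, mul_sub, sub_mul, mul_one, one_mul, hEi.eq,
        hEU, hUE]
    rw [hT]
    refine Commute.sum_right _ _ _ fun d _ => ?_
    refine Commute.smul_right ?_ _
    refine Commute.sum_right _ _ _ fun k _ => ?_
    exact h0.pow_right k
  have hUh1 : Uh - 1 = U - E := by rw [hUh]; abel
  have hPJ : bp_gs_InJ σ i ((U - E) ^ p) := bp_gs_sub_pow_prime hp hi hUM hUp
  have hPM : bp_gs_InM σ i ((U - E) ^ p) :=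
    bp_gs_InM_pow_pos hi.1 (bp_gs_InM_sub hUM hEM) hpp.pos
  have hSp : bp_gs_InJ σ i (S ^ p) := by
    have e1 : S ^ p = (U - E) ^ p * (E * T ^ p * E) := by
      rw [hST, hcomm.mul_pow, hUh1]
      have h1 : E * T ^ p * E = E * T ^ p := by
        rw [mul_assoc, ← (hcommE.pow_right p).eq, ← mul_assoc, hEi.eq]
      rw [h1, ← mul_assoc, bp_gs_InM_mul_E hi.1 hPM]
    rw [e1]
    exact bp_gs_InJ_mul_right hi hPM (bp_gs_InM_EaE hi.1 _) hPJ
  -- conclusion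
  have hSpM : bp_gs_InM σ i (S ^ p) := bp_gs_InM_pow_pos hi.1 hSM hpp.pos
  have hcongr : bp_gs_InJ σ i ((S + Y) ^ p - S ^ p) := by
    have h1 : bp_gs_InJ σ i ((S + Y) - S) := by
      rw [add_sub_cancel_left]; exact hYK.2
    have := bp_gs_pow_congr hi (bp_gs_InM_add hSM hYK.1) hSM h1 (p - 1)
    have hp1 : p - 1 + 1 = p := by have := hpp.pos; omega
    rw [Nat.sub_add_cancel hpp.pos] at this
    exact this
  rw [hdecomp]
  have e2 : (S + Y) ^ p = ((S + Y) ^ p - S ^ p) + S ^ p := by abel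
  rw [e2]
  exact bp_gs_InJ_add hi
    (bp_gs_InM_sub (bp_gs_InM_pow_pos hi.1 (bp_gs_InM_add hSM hYK.1) hpp.pos) hSpM) hSpM hcongr hSp

end B2main

end Cfsg.Agent.BP
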