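import Cfsg.Agent.BP.GreenStepA

/-!
# BP / L5.0 (Green's indecomposability, index-`p` step), part C

Steps 1, 2, 5 (Case 1) and 6 of the blueprint: the trace `Tr = ∑_{t : ZMod p} σ^t`, the circulant
idempotent `ε_{r,s} = σ^r(a') e_s`, and the conclusion from `ε = E`.
-/

set_option autoImplicit false
set_option linter.unusedSectionVars false

namespace Cfsg.Agent.BP

section trace

variable {R Λ : Type*} [CommRing R] [Ring Λ] [Algebra R Λ]
variable {p : ℕ} [Fact p.Prime]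

/-- the trace `∑_{t : ZMod p} σ^t`. -/
noncomputable def bp_gs_Tr (σ : Λ ≃ₐ[R] Λ) (x : Λ) : Λ := ∑ t : ZMod p, bp_gs_sg p σ t x

variable {σ : Λ ≃ₐ[R] Λ}

theorem bp_gs_Tr_eq_range (x : Λ) :
    bp_gs_Tr (p := p) σ x = ∑ d ∈ Finset.range p, (σ^[d]) x := by
  have hp : NeZero p := ⟨(Fact.out : p.Prime).ne_zero⟩
  unfold bp_gs_Tr
  refine Finset.sum_bij (fun t _ => t.val) ?_ ?_ ?_ ?_
  · intro t _
    exact Finset.mem_range.2 (ZMod.val_lt t)
  · intro t _ t' _ h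
    exact ZMod.val_injective p h
  · intro d hd
    refine ⟨(d : ZMod p), Finset.mem_univ _, ?_⟩
    exact ZMod.val_cast_of_lt (Finset.mem_range.1 hd)
  · intro t _
    rw [bp_gs_sg, AlgEquiv.coe_pow]

theorem bp_gs_sg_fixed {b : Λ} (hb : σ b = b) (t : ZMod p) : bp_gs_sg p σ t b = b := by
  rw [bp_gs_sg, AlgEquiv.coe_pow]
  exact Function.iterate_fixed hb _

theorem bp_gs_Tr_mul_left {b : Λ} (hb : σ b = b) (x : Λ) :
    bp_gs_Tr (p := p) σ (b * x) = b * bp_gs_Tr (p := p) σ x := by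
  unfold bp_gs_Tr
  rw [Finset.mul_sum]
  refine Finset.sum_congr rfl fun t _ => ?_
  rw [map_mul, bp_gs_sg_fixed hb]

theorem bp_gs_Tr_mul_right {b : Λ} (hb : σ b = b) (x : Λ) :
    bp_gs_Tr (p := p) σ (x * b) = bp_gs_Tr (p := p) σ x * b := by
  unfold bp_gs_Tr
  rw [Finset.sum_mul]
  refine Finset.sum_congr rfl fun t _ => ?_
  rw [map_mul, bp_gs_sg_fixed hb]

theorem bp_gs_Tr_fixed (hσ : σ ^ p = 1) (x : Λ) :
    σ (bp_gs_Tr (p := p) σ x) = bp_gs_Tr (p := p) σ x := by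
  unfold bp_gs_Tr
  rw [map_sum]
  refine Fintype.sum_equiv (Equiv.addRight (1 : ZMod p)) _ _ fun t => ?_
  rw [Equiv.coe_addRight, bp_gs_sg_succ_apply hσ]

theorem bp_gs_Tr_sum {ι : Type*} (s : Finset ι) (x : ι → Λ) :
    bp_gs_Tr (p := p) σ (∑ m ∈ s, x m) = ∑ m ∈ s, bp_gs_Tr (p := p) σ (x m) := by
  unfold bp_gs_Tr
  simp only [map_sum]
  exact Finset.sum_comm

end trace

section eps

variable {R Λ : Type*} [CommRing R] [Ring Λ] [Algebra R Λ]
variable {p : ℕ} [Fact p.Prime]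
variable {σ : Λ ≃ₐ[R] Λ} {i j a' : Λ}

/-- the circulant `ε_{r,s} = σ^r(a') e_s`. -/
noncomputable def bp_gs_eps (σ : Λ ≃ₐ[R] Λ) (i a' : Λ) : Matrix (ZMod p) (ZMod p) Λ :=
  Matrix.of fun r s => bp_gs_sg p σ r a' * bp_gs_e σ i s

theorem bp_gs_eps_apply (r s : ZMod p) :
    bp_gs_eps σ i a' r s = bp_gs_sg p σ r a' * bp_gs_e σ i s := rfl

theorem bp_gs_e_mul_sg (hia : i * a' = a') (r : ZMod p) :
    bp_gs_e σ i r * bp_gs_sg p σ r a' = bp_gs_sg p σ r a' := by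
  rw [bp_gs_e, ← map_mul, hia]

theorem bp_gs_InM_eps (hi : IsIdempotentElem i) (hia : i * a' = a') :
    bp_gs_InM σ i (bp_gs_eps (p := p) σ i a') := by
  intro r s
  rw [bp_gs_eps_apply, ← mul_assoc, bp_gs_e_mul_sg hia, mul_assoc, (bp_gs_e_idem hi s).eq]

theorem bp_gs_IsCirc_eps (hσ : σ ^ p = 1) : bp_gs_IsCirc σ (bp_gs_eps (p := p) σ i a') := by
  intro r s
  rw [bp_gs_eps_apply, bp_gs_eps_apply, map_mul, bp_gs_sg_succ_apply hσ, bp_gs_e_succ hσ]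

theorem bp_gs_eps_idem (hia : i * a' = a') (haj : a' * j = a') (hj : σ j = j)
    (hTr : bp_gs_Tr (p := p) σ a' = j) :
    IsIdempotentElem (bp_gs_eps (p := p) σ i a') := by
  unfold IsIdempotentElem
  ext r s
  rw [Matrix.mul_apply]
  simp only [bp_gs_eps_apply]
  have h1 : ∀ t : ZMod p, bp_gs_sg p σ r a' * bp_gs_e σ i t * (bp_gs_sg p σ t a' * bp_gs_e σ i s)
      = bp_gs_sg p σ r a' * bp_gs_sg p σ t a' * bp_gs_e σ i s := by
    intro t
    rw [mul_assoc (bp_gs_sg p σ r a'), ← mul_assoc (bp_gs_e σ i t), bp_gs_e_mul_sg hia,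
      ← mul_assoc]
  rw [Finset.sum_congr rfl fun t _ => h1 t, ← Finset.sum_mul, ← Finset.mul_sum]
  change bp_gs_sg p σ r a' * bp_gs_Tr (p := p) σ a' * bp_gs_e σ i s = _
  rw [hTr]
  have : bp_gs_sg p σ r a' * j = bp_gs_sg p σ r a' := by
    conv_lhs => rw [← bp_gs_sg_fixed hj r, ← map_mul, haj]
  rw [this]

theorem bp_gs_eps_ne_zero (hi0 : i ≠ 0) (hji : j * i = i) (hTr : bp_gs_Tr (p := p) σ a' = j) :
    bp_gs_eps (p := p) σ i a' ≠ 0 := by
  intro h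
  apply hi0
  have h1 : ∀ r : ZMod p, bp_gs_sg p σ r a' * i = 0 := by
    intro r
    have := congrFun (congrFun h r) 0
    rwa [bp_gs_eps_apply, bp_gs_e_zero, Matrix.zero_apply] at this
  rw [← hji, ← hTr, bp_gs_Tr, Finset.sum_mul]
  exact Finset.sum_eq_zero fun r _ => h1 r

theorem bp_gs_eps_eq_E (h : bp_gs_eps (p := p) σ i a' = bp_gs_E σ i) :
    a' * i = i ∧ ∀ d : ZMod p, d ≠ 0 → a' * bp_gs_e σ i d = 0 := by
  constructor
  · have := congrFun (congrFun h 0) 0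
    rwa [bp_gs_eps_apply, bp_gs_E_apply, if_pos rfl, bp_gs_e_zero, bp_gs_sg_zero_apply] at this
  · intro d hd
    have := congrFun (congrFun h 0) d
    rwa [bp_gs_eps_apply, bp_gs_E_apply, if_neg (Ne.symm hd), bp_gs_sg_zero_apply] at this

end eps

section case1

variable {R Λ : Type*} [CommRing R] [IsLocalRing R] [SplitMonic R] [Ring Λ] [Algebra R Λ]
  [Module.Finite R Λ]
variable {p : ℕ} [Fact p.Prime]
variable {σ : Λ ≃ₐ[R] Λ} {i : Λ}

omit [IsLocalRing R] [SplitMonic R] [Module.Finite R Λ] in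
theorem bp_gs_iso_algEquiv (τ : Λ ≃ₐ[R] Λ) {e e' : Λ} (h : bp_Iso e e') :
    bp_Iso (τ e) (τ e') := by
  obtain ⟨he, he', a, b, ha, hb, hab, hba⟩ := h
  refine ⟨?_, ?_, τ a, τ b, ?_, ?_, ?_, ?_⟩
  · unfold IsIdempotentElem; rw [← map_mul, he.eq]
  · unfold IsIdempotentElem; rw [← map_mul, he'.eq]
  · rw [← map_mul, ← map_mul, ha]
  · rw [← map_mul, ← map_mul, hb]
  · rw [← map_mul, hab]
  · rw [← map_mul, hba]

/-- the diagonal entries of `Z - c • E` for a circulant `Z` of `ℳ` are non-units as soon as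
`Z 0 0 - c • i` is one. -/
theorem bp_gs_diag_nonunit (hσ : σ ^ p = 1) (hi : bp_IsPrim i)
    {Z : Matrix (ZMod p) (ZMod p) Λ} (hZM : bp_gs_InM σ i Z) (hZC : bp_gs_IsCirc σ Z) (c : R)
    (hc : ¬ bp_CornerUnit i (Z 0 0 - c • i)) (r : ZMod p) (w : Λ)
    (hw : bp_gs_e σ i r * w * bp_gs_e σ i r = w) :
    ¬ bp_CornerUnit (bp_gs_e σ i r) ((Z r r - c • bp_gs_e σ i r) * w) := by
  intro h
  have hep := bp_gs_e_prim (σ := σ) hi r
  have hx : bp_gs_e σ i r * (Z r r - c • bp_gs_e σ i r) * bp_gs_e σ i r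
      = Z r r - c • bp_gs_e σ i r := by
    rw [mul_sub, sub_mul, hZM r r, bp_smul_corner R _ hep.1]
  have h1 := (bp_prim_mul R _ _ _ hep hx hw h).1
  have h2 := bp_gs_cornerUnit_algEquiv (bp_gs_sg p σ (-r)) h1
  apply hc
  have e1 : bp_gs_sg p σ (-r) (bp_gs_e σ i r) = i := by
    rw [bp_gs_sg_e hσ, neg_add_cancel, bp_gs_e_zero]
  have e2 : bp_gs_sg p σ (-r) (Z r r) = Z 0 0 := by
    rw [hZC.apply' r r, sub_self, bp_gs_sg_neg_apply hσ]
  rwa [map_sub, map_smul, e1, e2] at h2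

/-- Step 5, Case 1. -/
theorem bp_gs_case1 (hσ : σ ^ p = 1) (hi : bp_IsPrim i)
    (hni : ∀ d : ZMod p, d ≠ 0 → ¬ bp_Iso i (bp_gs_e σ i d))
    {Z : Matrix (ZMod p) (ZMod p) Λ} (hZM : bp_gs_InM σ i Z) (hZC : bp_gs_IsCirc σ Z) :
    ∃ c : R, bp_gs_InJ σ i (Z - c • bp_gs_E σ i) := by
  have hx0 : i * Z 0 0 * i = Z 0 0 := by
    have := hZM 0 0
    rwa [bp_gs_e_zero] at this
  obtain ⟨c, hc⟩ := bp_prim_scalar_nonunit R i (Z 0 0) hi hx0
  refine ⟨c, ?_⟩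
  intro r s w hw h
  rw [Matrix.sub_apply, Matrix.smul_apply, bp_gs_E_apply] at h
  by_cases hrs : r = s
  · subst hrs
    rw [if_pos rfl] at h
    exact bp_gs_diag_nonunit hσ hi hZM hZC c hc r w hw h
  · rw [if_neg hrs, smul_zero, sub_zero] at h
    have hep := bp_gs_e_prim (p := p) (σ := σ) hi
    have hiso : bp_Iso (bp_gs_e σ i r) (bp_gs_e σ i s) :=
      bp_iso_of_cornerUnit (hep r).1 (hep r).2.1 (hep s) (hZM r s) hw h
    have h2 := bp_gs_iso_algEquiv (bp_gs_sg p σ (-r)) hiso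
    rw [bp_gs_sg_e hσ, bp_gs_sg_e hσ, neg_add_cancel, bp_gs_e_zero] at h2
    refine hni (-r + s) ?_ h2
    intro h0
    apply hrs
    have : s = r := by
      have := congrArg (fun x => r + x) h0
      simpa using this
    exact this.symm

end case1

section step6

variable {R Λ : Type*} [CommRing R] [IsLocalRing R] [SplitMonic R] [Ring Λ] [Algebra R Λ]
  [Module.Finite R Λ]
variable {p : ℕ} [Fact p.Prime]
variable {σ : Λ ≃ₐ[R] Λ} {i j a' : Λ}

/-- Step 6. -/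
theorem bp_gs_step6 (hi : bp_IsPrim i) (hji : j * i = i) (hia : i * a' = a')
    (haj : a' * j = a') (hTr : bp_gs_Tr (p := p) σ a' = j)
    (h : bp_gs_eps (p := p) σ i a' = bp_gs_E σ i) :
    bp_IsPrim a' ∧ a' * j = a' ∧ j * a' = a' ∧ bp_gs_Tr (p := p) σ a' = j ∧
      ∀ d : ZMod p, d ≠ 0 → a' * bp_gs_sg p σ d a' = 0 := by
  obtain ⟨h1, h2⟩ := bp_gs_eps_eq_E h
  have hid : IsIdempotentElem a' := by
    unfold IsIdempotentElem
    calc a' * a' = a' * (i * a') := by rw [hia]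
      _ = (a' * i) * a' := by rw [mul_assoc]
      _ = a' := by rw [h1, hia]
  have hiso : bp_Iso i a' :=
    ⟨hi.1, hid, a', i, by rw [hia, hid.eq], by rw [h1, hi.1.eq], h1, hia⟩
  refine ⟨bp_iso_prim hiso hi, haj, ?_, hTr, ?_⟩
  · rw [← hia, ← mul_assoc, hji]
  · intro d hd
    calc a' * bp_gs_sg p σ d a' = a' * bp_gs_sg p σ d (i * a') := by rw [hia]
      _ = (a' * bp_gs_e σ i d) * bp_gs_sg p σ d a' := by rw [map_mul, ← mul_assoc]; rfl
      _ = 0 := by rw [h2 d hd, zero_mul]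

end step6

section step1

variable {R Λ : Type*} [CommRing R] [IsLocalRing R] [SplitMonic R] [Ring Λ] [Algebra R Λ]
  [Module.Finite R Λ]
variable {p : ℕ} [Fact p.Prime]
variable {σ : Λ ≃ₐ[R] Λ}

/-- Step 1: choice of the primitive idempotent `i ≤ j` of `Λ` and of `a'`. -/
theorem bp_gs_step1 (hσ : σ ^ p = 1) (Φ : Subalgebra R Λ) (hΦ : ∀ a, a ∈ Φ ↔ σ a = a)
    [Module.Finite R Φ] (j : Φ) (hj : bp_IsPrim j) (a : Λ)
    (ha : bp_gs_Tr (p := p) σ a = (j : Λ)) :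
    ∃ i a' : Λ, bp_IsPrim i ∧ (j : Λ) * i = i ∧ i * (j : Λ) = i ∧ i * a' = a' ∧
      a' * (j : Λ) = a' ∧ bp_gs_Tr (p := p) σ a' = (j : Λ) := by
  classical
  have hjf : σ (j : Λ) = j := (hΦ _).1 j.2
  have hjid : IsIdempotentElem (j : Λ) := by
    have := congrArg (Subtype.val) hj.1.eq
    exact this
  set a₁ := (j : Λ) * a * j with ha₁
  have hTr1 : bp_gs_Tr (p := p) σ a₁ = j := by
    rw [ha₁, bp_gs_Tr_mul_right hjf, bp_gs_Tr_mul_left hjf, ha, hjid.eq, hjid.eq]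
  have hja₁ : (j : Λ) * a₁ = a₁ := by
    rw [ha₁, ← mul_assoc, ← mul_assoc, hjid.eq]
  have ha₁j : a₁ * (j : Λ) = a₁ := by
    rw [ha₁, mul_assoc, hjid.eq]
  obtain ⟨n, κ, hκp, hκo, hκs⟩ := bp_exists_prim_decomp R (j : Λ) hjid
  have hjκ : ∀ m, (j : Λ) * κ m = κ m := by
    intro m
    rw [← hκs, Finset.sum_mul, Finset.sum_eq_single m]
    · exact (hκp m).1.eq
    · intro l _ hl
      exact hκo l m hl
    · intro h; exact absurd (Finset.mem_univ m) h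
  have hκj : ∀ m, κ m * (j : Λ) = κ m := by
    intro m
    rw [← hκs, Finset.mul_sum, Finset.sum_eq_single m]
    · exact (hκp m).1.eq
    · intro l _ hl
      exact hκo m l (Ne.symm hl)
    · intro h; exact absurd (Finset.mem_univ m) h
  -- the elements `y m = Tr (κ m * a₁)` of `Φ`
  let y : Fin n → Φ := fun m =>
    ⟨bp_gs_Tr (p := p) σ (κ m * a₁), (hΦ _).2 (bp_gs_Tr_fixed hσ _)⟩
  have hysum : ∑ m, y m = j := by
    apply Subtype.ext
    rw [AddSubmonoidClass.coe_finsetSum]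
    change ∑ m, bp_gs_Tr (p := p) σ (κ m * a₁) = (j : Λ)
    rw [← bp_gs_Tr_sum, ← Finset.sum_mul, hκs, hja₁, hTr1]
  have hycorner : ∀ m ∈ (Finset.univ : Finset (Fin n)), j * y m * j = y m := by
    intro m _
    apply Subtype.ext
    change (j : Λ) * bp_gs_Tr (p := p) σ (κ m * a₁) * (j : Λ) = bp_gs_Tr (p := p) σ (κ m * a₁)
    rw [← bp_gs_Tr_mul_left hjf, ← bp_gs_Tr_mul_right hjf, ← mul_assoc, hjκ, mul_assoc, ha₁j]
  have hunit : bp_CornerUnit j (∑ m, y m) := by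
    rw [hysum]
    exact bp_cornerUnit_self hj.1
  obtain ⟨m, -, -, y', hy', hyy', -⟩ := bp_prim_sum R Finset.univ j y hj hycorner hunit
  have hy'f : σ (y' : Λ) = y' := (hΦ _).1 y'.2
  have hy'j : (y' : Λ) * (j : Λ) = y' := by
    have := congrArg Subtype.val (bp_corner_right hj.1 hy')
    exact this
  have hyy'Λ : bp_gs_Tr (p := p) σ (κ m * a₁) * (y' : Λ) = j := by
    have := congrArg Subtype.val hyy'
    exact this
  refine ⟨κ m, κ m * a₁ * y', hκp m, hjκ m, hκj m, ?_, ?_, ?_⟩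
  · rw [← mul_assoc, ← mul_assoc, (hκp m).1.eq]
  · rw [mul_assoc, hy'j]
  · rw [bp_gs_Tr_mul_right hy'f, hyy'Λ]

end step1

section main

variable {R Λ : Type*} [CommRing R] [IsLocalRing R] [SplitMonic R] [Ring Λ] [Algebra R Λ]
  [Module.Finite R Λ]
variable {p : ℕ} [Fact p.Prime]
variable {σ : Λ ≃ₐ[R] Λ}

/-- the statement of Step 5, Case 2 (proved in `GreenStepB`). -/
def bp_gs_Case2Stmt (R : Type*) {Λ : Type*} [CommRing R] [IsLocalRing R] [Ring Λ] [Algebra R Λ]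
    (p : ℕ) [Fact p.Prime] (σ : Λ ≃ₐ[R] Λ) : Prop :=
  ∀ i : Λ, bp_IsPrim i → bp_Iso i (bp_gs_e (p := p) σ i 1) →
    ∀ Z : Matrix (ZMod p) (ZMod p) Λ, bp_gs_InM σ i Z → bp_gs_IsCirc σ Z →
      ∃ c : R, bp_gs_InJ σ i ((Z - c • bp_gs_E σ i) ^ p)

omit [IsLocalRing R] [SplitMonic R] [Module.Finite R Λ] in
/-- `i ≅ e_d` for some `d ≠ 0` implies `i ≅ e_1`. -/
theorem bp_gs_iso_one (hσ : σ ^ p = 1) {i : Λ} {d : ZMod p} (hd : d ≠ 0)
    (h : bp_Iso i (bp_gs_e σ i d)) : bp_Iso i (bp_gs_e (p := p) σ i 1) := by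
  have hp : NeZero p := ⟨(Fact.out : p.Prime).ne_zero⟩
  have key : ∀ n : ℕ, bp_Iso i (bp_gs_e σ i ((n : ZMod p) * d)) := by
    intro n
    induction n with
    | zero =>
      rw [Nat.cast_zero, zero_mul, bp_gs_e_zero]
      exact bp_iso_refl h.1
    | succ n ih =>
      have h2 := bp_gs_iso_algEquiv (bp_gs_sg p σ d) ih
      rw [bp_gs_sg_e hσ] at h2
      have h3 : bp_gs_sg p σ d i = bp_gs_e σ i d := rfl
      rw [h3] at h2
      have h4 := bp_iso_trans h h2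
      have : d + (n : ZMod p) * d = ((n + 1 : ℕ) : ZMod p) * d := by
        push_cast; ring
      rwa [this] at h4
  have := key (d⁻¹).val
  rwa [ZMod.natCast_zmod_val, inv_mul_cancel₀ hd] at this

/-- the index-`p` step, modulo Case 2 of Step 5, in `ZMod p`-indexed form. -/
theorem bp_gs_main (hσ : σ ^ p = 1) (hc2 : bp_gs_Case2Stmt R p σ)
    (Φ : Subalgebra R Λ) (hΦ : ∀ a, a ∈ Φ ↔ σ a = a) [Module.Finite R Φ]
    (j : Φ) (hj : bp_IsPrim j) (a : Λ) (ha : bp_gs_Tr (p := p) σ a = (j : Λ)) :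
    ∃ κ : Λ, bp_IsPrim κ ∧ κ * (j : Λ) = κ ∧ (j : Λ) * κ = κ ∧
      bp_gs_Tr (p := p) σ κ = (j : Λ) ∧ ∀ d : ZMod p, d ≠ 0 → κ * bp_gs_sg p σ d κ = 0 := by
  obtain ⟨i, a', hi, hji, hij, hia, haj, hTr⟩ := bp_gs_step1 hσ Φ hΦ j hj a ha
  have hjf : σ (j : Λ) = j := (hΦ _).1 j.2
  have hεM := bp_gs_InM_eps (p := p) (σ := σ) hi.1 hia
  have hεC := bp_gs_IsCirc_eps (p := p) (i := i) (a' := a') hσ
  have hεid := bp_gs_eps_idem (p := p) (σ := σ) hia haj hjf hTr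
  have hε0 := bp_gs_eps_ne_zero (p := p) (σ := σ) hi.2.1 hji hTr
  have hεE : bp_gs_eps (p := p) σ i a' = bp_gs_E σ i := by
    by_cases hcase : ∃ d : ZMod p, d ≠ 0 ∧ bp_Iso i (bp_gs_e σ i d)
    · obtain ⟨d, hd, hiso⟩ := hcase
      obtain ⟨c, hc⟩ := hc2 i hi (bp_gs_iso_one hσ hd hiso) _ hεM hεC
      have hp1 : (p - 1) + 1 = p := by
        have := (Fact.out : p.Prime).pos
        omega
      have hc' : bp_gs_InJ σ i
          ((bp_gs_eps (p := p) σ i a' - c • bp_gs_E σ i) ^ ((p - 1) + 1)) := by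
        rw [hp1]; exact hc
      rcases bp_gs_GP hi hεid hεM c (p - 1) hc' with h0 | h0
      · exact absurd h0 hε0
      · exact h0
    · have hni : ∀ d : ZMod p, d ≠ 0 → ¬ bp_Iso i (bp_gs_e σ i d) := by
        intro d hd h
        exact hcase ⟨d, hd, h⟩
      obtain ⟨c, hc⟩ := bp_gs_case1 hσ hi hni hεM hεC
      have hc' : bp_gs_InJ σ i ((bp_gs_eps (p := p) σ i a' - c • bp_gs_E σ i) ^ (0 + 1)) := by
        simpa using hc
      rcases bp_gs_GP hi hεid hεM c 0 hc' with h0 | h0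
      · exact absurd h0 hε0
      · exact h0
  exact ⟨a', bp_gs_step6 hi hji hia haj hTr hεE⟩

end main

end Cfsg.Agent.BP
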