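import Cfsg.Agent.BP.GreenZerosC
import Cfsg.Agent.BP.GreenStep

/-!
# BP / L6: Green's theorem on zeros

`u` a `p`-element, `s` a `p'`-element commuting with `u`, `n` an idempotent of `(RG)^{⟨u⟩ ⊔ ⟨s⟩}`
with `br_{⟨u⟩}(n) = 0`, `τ` a symmetric additive map on `RG`: then `τ(us · n) = 0`.
-/

set_option autoImplicit false

namespace Cfsg.Agent.BP

universe uR uG

variable {R : Type uR} [CommRing R] [IsLocalRing R] [SplitMonic R] {G : Type uG} [Group G]
  [Finite G]

/-- `bp_green_step` gives the hypothesis `bp_GreenStepStmt` -/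
theorem bp_greenStepStmt {p : ℕ} [hpp : Fact p.Prime]
    (hpR : (p : R) ∈ IsLocalRing.maximalIdeal R) : bp_GreenStepStmt.{uR, max uR uG} R p := by
  intro Λ₁ _ _ _ σ hσ Φ hΦ _ j hj a ha
  exact bp_green_step p hpR σ hσ Φ hΦ j hj a ha

/-- **L6, Green's theorem on zeros.** -/
theorem bp_green_zeros {p : ℕ} [hpp : Fact p.Prime] (hpR : (p : R) ∈ IsLocalRing.maximalIdeal R)
    (u s : G) (hu : IsPGroup p (Subgroup.zpowers u)) (hs : ¬ p ∣ orderOf s) (hus : Commute u s)
    (n : MonoidAlgebra R G) (hn : n ∈ bp_fix (Subgroup.zpowers u ⊔ Subgroup.zpowers s))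
    (hidem : IsIdempotentElem n) (hbr : bp_brFun (Subgroup.zpowers u) n = 0)
    {T : Type*} [AddCommGroup T] (τ : MonoidAlgebra R G →+ T)
    (hτ : ∀ a b, τ (a * b) = τ (b * a)) :
    τ (MonoidAlgebra.single (u * s) (1 : R) * n) = 0 :=
  bp_green_zeros_of_step (bp_greenStepStmt.{uR, uG} hpR) hpR u s hu hs hus n hn hidem hbr τ hτ

end Cfsg.Agent.BP
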