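import Cfsg.Agent.BP.RelTraceB

/-!
# BP / L6 (Green's theorem on zeros), part A: the trace computation and the cyclic transversal

* `bp_green_zeros_core`: if `n = Σ_{d<m} u^d κ u^{-d}` with `κ` an idempotent fixed by `s` such that
  `κ · uκu⁻¹ = 0`, then `τ(us · n) = 0` for every additive map `τ` with `τ(ab) = τ(ba)`.
* `bp_isLT_zpowers`: for commuting `u` (a non-trivial `p`-element) and `s` (a `p'`-element) the powers
  `u^d`, `d < p`, form a left transversal of `⟨u^p⟩ ⊔ ⟨s⟩` in `⟨u⟩ ⊔ ⟨s⟩`.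
-/

set_option autoImplicit false
set_option linter.unusedSectionVars false
set_option linter.style.haveILetI false

namespace Cfsg.Agent.BP

open MonoidAlgebra

variable {R : Type*} [CommRing R] {G : Type*} [Group G]

/-- a symmetric additive map is invariant under conjugation -/
theorem bp_tau_conj {T : Type*} [AddCommGroup T] (τ : MonoidAlgebra R G →+ T)
    (hτ : ∀ a b, τ (a * b) = τ (b * a)) (g : G) (z : MonoidAlgebra R G) :
    τ (bp_conj g z) = τ z := by
  rw [bp_conj_eq_mul, hτ, ← mul_assoc, MonoidAlgebra.single_mul_single, inv_mul_cancel, one_mul]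
  have : (MonoidAlgebra.single (1 : G) (1 : R)) = 1 := rfl
  rw [this, one_mul]

/-- `a * g = g * (g⁻¹ a g)` in the group algebra -/
theorem bp_mul_single_eq (g : G) (a : MonoidAlgebra R G) :
    a * MonoidAlgebra.single g (1 : R) = MonoidAlgebra.single g (1 : R) * bp_conj g⁻¹ a := by
  rw [bp_conj_eq_mul, inv_inv, ← mul_assoc, ← mul_assoc, MonoidAlgebra.single_mul_single,
    mul_inv_cancel, one_mul]
  have : (MonoidAlgebra.single (1 : G) (1 : R)) = 1 := rfl
  rw [this, one_mul]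

/-- the trace computation at the end of Green's theorem on zeros -/
theorem bp_green_zeros_core {T : Type*} [AddCommGroup T] (τ : MonoidAlgebra R G →+ T)
    (hτ : ∀ a b, τ (a * b) = τ (b * a)) (u s : G) (hus : Commute u s)
    (κ : MonoidAlgebra R G) (hκ : κ * κ = κ) (hκs : bp_conj s κ = κ)
    (hκu : κ * bp_conj u κ = 0) (m : ℕ) (n : MonoidAlgebra R G)
    (hn : n = ∑ d ∈ Finset.range m, bp_conj (u ^ d) κ) :
    τ (MonoidAlgebra.single (u * s) (1 : R) * n) = 0 := by
  set x : MonoidAlgebra R G := MonoidAlgebra.single (u * s) (1 : R) with hx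
  -- `τ (x κ) = 0`
  have h1 : bp_conj (u * s)⁻¹ κ = bp_conj u⁻¹ κ := by
    have hs' : bp_conj s⁻¹ κ = κ := by
      conv_lhs => rw [← hκs]
      exact bp_conj_inv_conj s κ
    have : (u * s)⁻¹ = u⁻¹ * s⁻¹ := by
      rw [mul_inv_rev]
      exact (hus.inv_inv).eq.symm
    rw [this, bp_conj_mul, hs']
  have h2 : bp_conj u⁻¹ κ * κ = 0 := by
    have : bp_conj u⁻¹ (κ * bp_conj u κ) = bp_conj u⁻¹ κ * κ := by
      rw [map_mul, bp_conj_inv_conj]
    rw [← this, hκu, map_zero]
  have h3 : τ (x * κ) = 0 := by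
    calc τ (x * κ) = τ (x * κ * κ) := by rw [mul_assoc, hκ]
      _ = τ (κ * (x * κ)) := hτ _ _
      _ = τ (κ * x * κ) := by rw [mul_assoc]
      _ = τ (x * bp_conj (u * s)⁻¹ κ * κ) := by rw [hx, bp_mul_single_eq]
      _ = τ (x * (bp_conj u⁻¹ κ * κ)) := by rw [h1, mul_assoc]
      _ = 0 := by rw [h2, mul_zero, map_zero]
  -- `x` is fixed by conjugation with powers of `u`
  have h4 : ∀ d : ℕ, bp_conj (u ^ d) x = x := by
    intro d
    rw [hx, bp_conj_single]
    congr 1
    have hc : Commute (u ^ d) (u * s) := ((Commute.refl u).mul_right hus).pow_left d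
    rw [hc.eq, mul_inv_cancel_right]
  rw [hn, Finset.mul_sum, map_sum]
  apply Finset.sum_eq_zero
  intro d _
  have : x * bp_conj (u ^ d) κ = bp_conj (u ^ d) (x * κ) := by
    rw [map_mul, h4]
  rw [this, bp_tau_conj τ hτ, h3]

/-- elements of `⟨u⟩ ⊔ ⟨s⟩` for commuting `u`, `s` -/
theorem bp_mem_sup_zpowers {u s : G} (hus : Commute u s) (h : G) :
    h ∈ Subgroup.zpowers u ⊔ Subgroup.zpowers s ↔ ∃ i j : ℤ, h = u ^ i * s ^ j := by
  constructor
  · intro hh
    let S : Subgroup G :=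
      { carrier := {h | ∃ i j : ℤ, h = u ^ i * s ^ j}
        mul_mem' := by
          rintro a b ⟨i, j, rfl⟩ ⟨i', j', rfl⟩
          refine ⟨i + i', j + j', ?_⟩
          have hc : Commute (s ^ j) (u ^ i') := (hus.symm.zpow_zpow j i')
          calc u ^ i * s ^ j * (u ^ i' * s ^ j') = u ^ i * (s ^ j * u ^ i') * s ^ j' := by group
            _ = u ^ i * (u ^ i' * s ^ j) * s ^ j' := by rw [hc.eq]
            _ = u ^ (i + i') * s ^ (j + j') := by rw [zpow_add, zpow_add]; group
        one_mem' := ⟨0, 0, by simp⟩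
        inv_mem' := by
          rintro a ⟨i, j, rfl⟩
          refine ⟨-i, -j, ?_⟩
          have hc : Commute (u ^ i) (s ^ j) := hus.zpow_zpow i j
          rw [mul_inv_rev, zpow_neg, zpow_neg]
          exact (hc.inv_inv).eq.symm }
    have h1 : Subgroup.zpowers u ≤ S := by
      rw [Subgroup.zpowers_le]
      exact ⟨1, 0, by simp⟩
    have h2 : Subgroup.zpowers s ≤ S := by
      rw [Subgroup.zpowers_le]
      exact ⟨0, 1, by simp⟩
    exact (sup_le h1 h2) hh
  · rintro ⟨i, j, rfl⟩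
    exact Subgroup.mul_mem _ (Subgroup.mem_sup_left (Subgroup.zpow_mem_zpowers u i))
      (Subgroup.mem_sup_right (Subgroup.zpow_mem_zpowers s j))

/-- a common power of a `p`-element and a `p'`-element is trivial -/
theorem bp_zpow_eq_one_of_coprime (p : ℕ) {u s : G} {k : ℕ} (hu : orderOf u = p ^ k)
    (hs : Nat.Coprime (orderOf s) p) (e b : ℤ) (h : u ^ e = s ^ b) : u ^ e = 1 := by
  have h1 : (u ^ e) ^ (p ^ k) = 1 := by
    rw [← zpow_natCast, ← zpow_mul, mul_comm, zpow_mul, zpow_natCast, ← hu, pow_orderOf_eq_one,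
      one_zpow]
  have h2 : (u ^ e) ^ (orderOf s) = 1 := by
    rw [h, ← zpow_natCast, ← zpow_mul, mul_comm, zpow_mul, zpow_natCast, pow_orderOf_eq_one,
      one_zpow]
  have h3 : orderOf (u ^ e) ∣ p ^ k := orderOf_dvd_of_pow_eq_one h1
  have h4 : orderOf (u ^ e) ∣ orderOf s := orderOf_dvd_of_pow_eq_one h2
  have h5 : Nat.Coprime (p ^ k) (orderOf s) := (Nat.Coprime.pow_right k hs).symm
  exact orderOf_eq_one_iff.mp (Nat.eq_one_of_dvd_coprimes h5 h3 h4)

/-- the powers `u^d`, `d < p`, form a left transversal of `⟨u^p⟩ ⊔ ⟨s⟩` in `⟨u⟩ ⊔ ⟨s⟩` -/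
theorem bp_isLT_zpowers [DecidableEq G] (p : ℕ) [hp : Fact p.Prime] {u s : G} (hus : Commute u s)
    {k : ℕ} (hu : orderOf u = p ^ (k + 1)) (hs : Nat.Coprime (orderOf s) p) :
    bp_IsLT ((Finset.range p).image (fun d => u ^ d))
      (Subgroup.zpowers (u ^ p) ⊔ Subgroup.zpowers s)
      (Subgroup.zpowers u ⊔ Subgroup.zpowers s) := by
  have hple : Subgroup.zpowers (u ^ p) ≤ Subgroup.zpowers u := by
    rw [Subgroup.zpowers_le]
    exact Subgroup.pow_mem _ (Subgroup.mem_zpowers u) p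
  have hus' : Commute (u ^ p) s := hus.pow_left p
  have hppos : (0 : ℤ) < p := by exact_mod_cast hp.out.pos
  refine ⟨sup_le_sup_right hple _, ?_, ?_⟩
  · intro t ht
    rw [Finset.mem_image] at ht
    obtain ⟨d, -, rfl⟩ := ht
    exact Subgroup.mem_sup_left (Subgroup.pow_mem _ (Subgroup.mem_zpowers u) d)
  · intro h hh
    obtain ⟨i, j, rfl⟩ := (bp_mem_sup_zpowers hus h).mp hh
    have hmod0 : 0 ≤ i % (p : ℤ) := Int.emod_nonneg i hppos.ne'
    have hmodlt : i % (p : ℤ) < p := Int.emod_lt_of_pos i hppos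
    refine ⟨u ^ (i % (p : ℤ)).toNat, ⟨?_, ?_⟩, ?_⟩
    · rw [Finset.mem_image]
      refine ⟨(i % (p : ℤ)).toNat, ?_, rfl⟩
      rw [Finset.mem_range]
      have : ((i % (p : ℤ)).toNat : ℤ) < p := by rw [Int.toNat_of_nonneg hmod0]; exact hmodlt
      exact_mod_cast this
    · rw [(bp_mem_sup_zpowers hus' _)]
      refine ⟨i / (p : ℤ), j, ?_⟩
      have e1 : (u ^ (i % (p : ℤ)).toNat)⁻¹ = u ^ (-(i % (p : ℤ))) := by
        rw [zpow_neg, ← zpow_natCast, Int.toNat_of_nonneg hmod0]
      have e2 : (u ^ p) ^ (i / (p : ℤ)) = u ^ ((p : ℤ) * (i / (p : ℤ))) := by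
        rw [zpow_mul, zpow_natCast]
      rw [e1, e2, ← mul_assoc, ← zpow_add]
      congr 2
      have := Int.emod_add_mul_ediv i (p : ℤ)
      omega
    · rintro t' ⟨ht', ht'K⟩
      rw [Finset.mem_image] at ht'
      obtain ⟨d', hd', rfl⟩ := ht'
      rw [Finset.mem_range] at hd'
      rw [(bp_mem_sup_zpowers hus' _)] at ht'K
      obtain ⟨a, b, hab⟩ := ht'K
      -- `u ^ (i - d' - p a) = s ^ (b - j)`
      have e2 : (u ^ p) ^ a = u ^ ((p : ℤ) * a) := by rw [zpow_mul, zpow_natCast]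
      have h1 : u ^ (i - (d' : ℤ) - (p : ℤ) * a) = s ^ (b - j) := by
        have hc : Commute (u ^ (-((p : ℤ) * a))) (s ^ j) := hus.zpow_zpow _ _
        have h0 : (u ^ d')⁻¹ * (u ^ i * s ^ j) = u ^ (i - (d' : ℤ)) * s ^ j := by
          rw [← mul_assoc, ← zpow_natCast, ← zpow_neg, ← zpow_add]
          congr 2
          ring
        rw [h0, e2] at hab
        calc u ^ (i - (d' : ℤ) - (p : ℤ) * a)
            = u ^ (-((p : ℤ) * a)) * (u ^ (i - (d' : ℤ)) * s ^ j) * s ^ (-j) := by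
              rw [← mul_assoc, ← zpow_add, mul_assoc, ← zpow_add]
              simp only [add_neg_cancel, zpow_zero, mul_one]
              congr 1
              ring
          _ = u ^ (-((p : ℤ) * a)) * (u ^ ((p : ℤ) * a) * s ^ b) * s ^ (-j) := by rw [hab]
          _ = s ^ (b - j) := by
              rw [← mul_assoc, ← zpow_add, neg_add_cancel, zpow_zero, one_mul, ← zpow_add]
              congr 1
      have h2 := bp_zpow_eq_one_of_coprime p hu hs _ _ h1
      have h3 : ((orderOf u : ℕ) : ℤ) ∣ i - (d' : ℤ) - (p : ℤ) * a :=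
        orderOf_dvd_iff_zpow_eq_one.mpr h2
      have h4 : (p : ℤ) ∣ i - (d' : ℤ) := by
        have h5 : (p : ℤ) ∣ ((orderOf u : ℕ) : ℤ) := by
          rw [hu, pow_succ]
          push_cast
          exact Dvd.intro_left _ rfl
        have h6 := dvd_trans h5 h3
        have h7 : (p : ℤ) ∣ (p : ℤ) * a := Dvd.intro _ rfl
        have := dvd_add h6 h7
        simpa using this
      -- hence `d' = i % p`
      have h8 : i % (p : ℤ) = (d' : ℤ) := by
        have h9 : (i - (d' : ℤ)) % (p : ℤ) = 0 := Int.emod_eq_zero_of_dvd h4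
        have h10 : i % (p : ℤ) = (d' : ℤ) % (p : ℤ) := by
          have := Int.emod_emod_of_dvd i (dvd_refl (p : ℤ))
          exact Int.emod_eq_emod_iff_emod_sub_eq_zero.mpr h9
        rw [h10]
        exact Int.emod_eq_of_lt (by positivity) (by exact_mod_cast hd')
      rw [h8, Int.toNat_natCast]

end Cfsg.Agent.BP
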