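import Cfsg.Agent.BP.GreenZerosA
import Cfsg.Agent.BP.Local

/-!
# BP / L6 (Green's theorem on zeros), part B: from the trace ideal to the zero

A primitive idempotent `n` of `(RG)^{⟨u⟩ ⊔ ⟨s⟩}` which is a relative trace from `⟨u^p⟩ ⊔ ⟨s⟩` satisfies
`τ(us · n) = 0` (via the index-`p` Green step `bp_green_step`, which enters here as the explicit
hypothesis `bp_GreenStepStmt R p`; `BP/GreenZeros.lean` discharges it).
-/

set_option autoImplicit false
set_option linter.unusedSectionVars false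
set_option linter.style.haveILetI false

namespace Cfsg.Agent.BP

open MonoidAlgebra

/-- primitivity pulls back along injective ring homomorphisms -/
theorem bp_isPrim_of_injective {Γ Γ' : Type*} [Ring Γ] [Ring Γ'] (f : Γ' →+* Γ)
    (hf : Function.Injective f) (e : Γ') (he : bp_IsPrim (f e)) : bp_IsPrim e := by
  obtain ⟨h1, h2, h3⟩ := he
  refine ⟨?_, ?_, ?_⟩
  · apply hf
    rw [map_mul]
    exact h1
  · intro h0
    apply h2
    rw [h0, map_zero]
  · intro e' he' h4 h5
    have h6 : IsIdempotentElem (f e') := by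
      unfold IsIdempotentElem
      rw [← map_mul, he'.eq]
    rcases h3 (f e') h6 (by rw [← map_mul, h4]) (by rw [← map_mul, h5]) with h | h
    · left
      apply hf
      rw [h, map_zero]
    · right
      exact hf h

section fixIn

variable {R : Type*} [CommRing R] {G : Type*} [Group G]

theorem bp_conj_mem_fix_of_commute (K : Subgroup G) (g : G) (hg : ∀ x ∈ K, Commute g x)
    (b : MonoidAlgebra R G) (hb : b ∈ bp_fix (R := R) K) : bp_conj g b ∈ bp_fix (R := R) K := by
  intro x hx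
  rw [← bp_conj_mul, ← (hg x hx).eq, bp_conj_mul, hb x hx]

/-- conjugation by an element `g` centralising `K`, as an algebra automorphism of `(RG)^K` -/
noncomputable def bp_conjFix (K : Subgroup G) (g : G) (hg : ∀ x ∈ K, Commute g x) :
    ↥(bp_fix (R := R) K) ≃ₐ[R] ↥(bp_fix (R := R) K) where
  toFun b := ⟨bp_conj g (b : MonoidAlgebra R G), bp_conj_mem_fix_of_commute K g hg _ b.2⟩
  invFun b := ⟨bp_conj g⁻¹ (b : MonoidAlgebra R G),
    bp_conj_mem_fix_of_commute K g⁻¹ (fun x hx => (hg x hx).inv_left) _ b.2⟩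
  left_inv b := Subtype.ext (bp_conj_inv_conj g b.1)
  right_inv b := Subtype.ext (bp_conj_conj_inv g b.1)
  map_mul' b c := Subtype.ext (map_mul (bp_conj g) b.1 c.1)
  map_add' b c := Subtype.ext (map_add (bp_conj g) b.1 c.1)
  commutes' r := Subtype.ext ((bp_conj g).commutes r)

theorem bp_conjFix_coe (K : Subgroup G) (g : G) (hg : ∀ x ∈ K, Commute g x)
    (b : ↥(bp_fix (R := R) K)) :
    ((bp_conjFix K g hg b : ↥(bp_fix (R := R) K)) : MonoidAlgebra R G)
      = bp_conj g (b : MonoidAlgebra R G) := rfl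

theorem bp_conjFix_iterate_coe (K : Subgroup G) (g : G) (hg : ∀ x ∈ K, Commute g x) (d : ℕ)
    (b : ↥(bp_fix (R := R) K)) :
    ((((bp_conjFix K g hg)^[d]) b : ↥(bp_fix (R := R) K)) : MonoidAlgebra R G)
      = bp_conj (g ^ d) (b : MonoidAlgebra R G) := by
  induction d with
  | zero => rw [Function.iterate_zero, id, pow_zero, bp_conj_one]
  | succ d ih => rw [Function.iterate_succ_apply', bp_conjFix_coe, ih, ← bp_conj_mul, ← pow_succ']

/-- the subalgebra `(RG)^H` of `(RG)^K` -/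
noncomputable def bp_fixIn (K H : Subgroup G) : Subalgebra R ↥(bp_fix (R := R) K) :=
  Subalgebra.comap (bp_fix (R := R) K).val (bp_fix H)

theorem bp_mem_fixIn (K H : Subgroup G) (b : ↥(bp_fix (R := R) K)) :
    b ∈ bp_fixIn K H ↔ (b : MonoidAlgebra R G) ∈ bp_fix (R := R) H := Iff.rfl

theorem bp_fixIn_finite [Finite G] {K H : Subgroup G} (hKH : K ≤ H) :
    Module.Finite R ↥(bp_fixIn (R := R) K H) := by
  haveI : Module.Finite R (bp_fix (R := R) H) := bp_fix_finite H
  let f : ↥(bp_fix (R := R) H) →ₗ[R] ↥(bp_fixIn (R := R) K H) :=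
    { toFun := fun x => ⟨⟨(x : MonoidAlgebra R G), bp_fix_mono hKH x.2⟩, x.2⟩
      map_add' := fun _ _ => rfl
      map_smul' := fun _ _ => rfl }
  apply Module.Finite.of_surjective f
  intro y
  exact ⟨⟨((y : ↥(bp_fix (R := R) K)) : MonoidAlgebra R G), y.2⟩, rfl⟩

theorem bp_fixIn_prim {K H : Subgroup G} (hKH : K ≤ H) (n : MonoidAlgebra R G)
    (hn : n ∈ bp_fix (R := R) H) (hprim : bp_IsPrim (⟨n, hn⟩ : bp_fix (R := R) H)) :
    bp_IsPrim (⟨⟨n, bp_fix_mono hKH hn⟩, hn⟩ : ↥(bp_fixIn (R := R) K H)) := by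
  let f : ↥(bp_fixIn (R := R) K H) →+* ↥(bp_fix (R := R) H) :=
    { toFun := fun y => ⟨((y : ↥(bp_fix (R := R) K)) : MonoidAlgebra R G), y.2⟩
      map_one' := rfl
      map_mul' := fun _ _ => rfl
      map_zero' := rfl
      map_add' := fun _ _ => rfl }
  apply bp_isPrim_of_injective f
  · intro y z hyz
    apply Subtype.ext
    apply Subtype.ext
    have h := congrArg Subtype.val hyz
    exact h
  · exact hprim

end fixIn

/-- the statement of the index-`p` Green step `bp_green_step` (blueprint L5.0), as a proposition -/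
def bp_GreenStepStmt.{u, v} (R : Type u) [CommRing R] [IsLocalRing R] [SplitMonic R] (p : ℕ) :
    Prop :=
  ∀ (Λ₁ : Type v) [Ring Λ₁] [Algebra R Λ₁] [Module.Finite R Λ₁]
    (σ : Λ₁ ≃ₐ[R] Λ₁) (_ : ∀ a, (σ^[p]) a = a)
    (Φ : Subalgebra R Λ₁) (_ : ∀ a, a ∈ Φ ↔ σ a = a) [Module.Finite R Φ]
    (j : Φ) (_ : bp_IsPrim j) (a : Λ₁) (_ : ∑ d ∈ Finset.range p, (σ^[d]) a = (j : Λ₁)),
    ∃ κ : Λ₁, bp_IsPrim κ ∧ κ * j = κ ∧ j * κ = κ ∧ ∑ d ∈ Finset.range p, (σ^[d]) κ = j ∧
      ∀ d, 0 < d → d < p → κ * (σ^[d]) κ = 0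

universe uR uG

variable {R : Type uR} [CommRing R] [IsLocalRing R] [SplitMonic R] {G : Type uG} [Group G]
  [Finite G]

theorem bp_green_zeros_of_mem_tr (p : ℕ) [hpp : Fact p.Prime]
    (hGS : bp_GreenStepStmt.{uR, max uR uG} R p) {u s : G} (hus : Commute u s) {k : ℕ}
    (hu : orderOf u = p ^ (k + 1)) (hs : Nat.Coprime (orderOf s) p)
    (n : MonoidAlgebra R G) (hn : n ∈ bp_fix (Subgroup.zpowers u ⊔ Subgroup.zpowers s))
    (hprim : bp_IsPrim (⟨n, hn⟩ : bp_fix (R := R) (Subgroup.zpowers u ⊔ Subgroup.zpowers s)))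
    (a : MonoidAlgebra R G) (ha : a ∈ bp_fix (Subgroup.zpowers (u ^ p) ⊔ Subgroup.zpowers s))
    (htr : bp_tr (Subgroup.zpowers (u ^ p) ⊔ Subgroup.zpowers s)
      (Subgroup.zpowers u ⊔ Subgroup.zpowers s) a = n)
    {T : Type*} [AddCommGroup T] (τ : MonoidAlgebra R G →+ T)
    (hτ : ∀ a b, τ (a * b) = τ (b * a)) :
    τ (MonoidAlgebra.single (u * s) (1 : R) * n) = 0 := by
  classical
  set H : Subgroup G := Subgroup.zpowers u ⊔ Subgroup.zpowers s with hH
  set K : Subgroup G := Subgroup.zpowers (u ^ p) ⊔ Subgroup.zpowers s with hK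
  have hLT := bp_isLT_zpowers p hus hu hs
  rw [← hH, ← hK] at hLT
  have hKH : K ≤ H := hLT.le
  have hus' : Commute (u ^ p) s := hus.pow_left p
  haveI : Module.Finite R (bp_fix (R := R) K) := bp_fix_finite K
  haveI : Module.Finite R ↥(bp_fixIn (R := R) K H) := bp_fixIn_finite hKH
  -- `u` commutes with `K`
  have hcomm : ∀ x ∈ K, Commute u x := by
    intro x hx
    obtain ⟨i, j, rfl⟩ := (bp_mem_sup_zpowers hus' x).mp hx
    exact (((Commute.refl u).pow_right p).zpow_right i).mul_right (hus.zpow_right j)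
  have hupK : u ^ p ∈ K := Subgroup.mem_sup_left (Subgroup.mem_zpowers _)
  have hsK : s ∈ K := Subgroup.mem_sup_right (Subgroup.mem_zpowers _)
  have huH : u ∈ H := Subgroup.mem_sup_left (Subgroup.mem_zpowers _)
  have hσp : ∀ b : ↥(bp_fix (R := R) K), ((bp_conjFix K u hcomm)^[p]) b = b := by
    intro b
    apply Subtype.ext
    rw [bp_conjFix_iterate_coe]
    exact b.2 _ hupK
  have hΦ : ∀ b : ↥(bp_fix (R := R) K), b ∈ bp_fixIn (R := R) K H ↔ bp_conjFix K u hcomm b = b := by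
    intro b
    rw [bp_mem_fixIn]
    constructor
    · intro hb
      apply Subtype.ext
      rw [bp_conjFix_coe]
      exact hb u huH
    · intro hb
      have hb' : bp_conj u b.1 = b.1 := by
        have h := congrArg Subtype.val hb
        rw [bp_conjFix_coe] at h
        exact h
      rw [hH, bp_fix_sup, Algebra.mem_inf]
      refine ⟨?_, bp_fix_mono (le_sup_right : Subgroup.zpowers s ≤ K) b.2⟩
      rw [bp_mem_fix_iff_le_stab, Subgroup.zpowers_le, bp_mem_stab]
      exact hb'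
  have hj := bp_fixIn_prim hKH n hn hprim
  have hinj : Set.InjOn (fun d : ℕ => u ^ d) (Finset.range p : Set ℕ) := by
    intro d hd d' hd' hdd'
    simp only [Finset.coe_range, Set.mem_Iio] at hd hd'
    have hple : p ≤ orderOf u := by
      rw [hu, pow_succ]
      exact Nat.le_mul_of_pos_left p (pow_pos hpp.out.pos k)
    exact pow_injOn_Iio_orderOf (lt_of_lt_of_le hd hple) (lt_of_lt_of_le hd' hple) hdd'
  have hsumA : ∀ b : ↥(bp_fix (R := R) K),
      ((∑ d ∈ Finset.range p, ((bp_conjFix K u hcomm)^[d]) b : ↥(bp_fix (R := R) K)) :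
        MonoidAlgebra R G) = bp_tr K H b.1 := by
    intro b
    rw [bp_tr_eq_sum hLT b.2, Finset.sum_image hinj, AddSubmonoidClass.coe_finsetSum]
    exact Finset.sum_congr rfl (fun d _ => bp_conjFix_iterate_coe K u hcomm d b)
  have ha' : ∑ d ∈ Finset.range p, ((bp_conjFix K u hcomm)^[d]) (⟨a, ha⟩ : ↥(bp_fix (R := R) K))
      = (((⟨⟨n, bp_fix_mono hKH hn⟩, hn⟩ : ↥(bp_fixIn (R := R) K H))) : ↥(bp_fix (R := R) K)) := by
    apply Subtype.ext
    rw [hsumA]
    exact htr
  obtain ⟨κ, hκprim, -, -, hκsum, hκorth⟩ :=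
    hGS _ (bp_conjFix K u hcomm) hσp (bp_fixIn (R := R) K H) hΦ _ hj _ ha'
  have hκA : κ.1 * κ.1 = κ.1 := congrArg Subtype.val hκprim.1.eq
  have hκs : bp_conj s κ.1 = κ.1 := κ.2 s hsK
  have hκu : κ.1 * bp_conj u κ.1 = 0 := by
    have h1 := hκorth 1 Nat.one_pos hpp.out.one_lt
    have h2 := congrArg Subtype.val h1
    rw [Function.iterate_one] at h2
    exact h2
  have hnsum : n = ∑ d ∈ Finset.range p, bp_conj (u ^ d) κ.1 := by
    have h1 := congrArg Subtype.val hκsum
    rw [AddSubmonoidClass.coe_finsetSum] at h1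
    have h2 : n = ∑ d ∈ Finset.range p,
        ((((bp_conjFix K u hcomm)^[d]) κ : ↥(bp_fix (R := R) K)) : MonoidAlgebra R G) := h1.symm
    rw [h2]
    exact Finset.sum_congr rfl (fun d _ => bp_conjFix_iterate_coe K u hcomm d κ)
  exact bp_green_zeros_core τ hτ u s hus κ.1 hκA hκs hκu p n hnsum

end Cfsg.Agent.BP
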