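import Cfsg.Agent.BP.GreenZerosB
import Cfsg.Agent.BP.BrKerC

/-!
# BP / L6: Green's theorem on zeros, modulo the index-`p` Green step

`u` a `p`-element, `s` a `p'`-element commuting with `u`, `n` an idempotent of `(RG)^{⟨u⟩ ⊔ ⟨s⟩}`
with `br_{⟨u⟩}(n) = 0`, `τ` a symmetric additive map on `RG`: then `τ(us · n) = 0`.
Here with the statement of `bp_green_step` as the explicit hypothesis `bp_GreenStepStmt R p`;
`BP/GreenZeros.lean` discharges it.
-/

set_option autoImplicit false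
set_option linter.unusedSectionVars false
set_option linter.style.haveILetI false

namespace Cfsg.Agent.BP

open MonoidAlgebra

section cyc

variable {G : Type*} [Group G]

/-- a proper subgroup of a cyclic group of order `p^(k+1)` lies in the subgroup of `p`-th powers -/
theorem bp_le_zpowers_pow_of_lt (p : ℕ) [hp : Fact p.Prime] {u : G} {k : ℕ}
    (hu : orderOf u = p ^ (k + 1)) (Q : Subgroup G) (hQ : Q < Subgroup.zpowers u) :
    Q ≤ Subgroup.zpowers (u ^ p) := by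
  intro x hx
  obtain ⟨i, rfl⟩ := Subgroup.mem_zpowers_iff.mp (hQ.le hx)
  by_cases hpi : (p : ℤ) ∣ i
  · obtain ⟨j, rfl⟩ := hpi
    rw [zpow_mul, zpow_natCast]
    exact Subgroup.zpow_mem _ (Subgroup.mem_zpowers _) j
  · exfalso
    refine lt_irrefl _ (lt_of_lt_of_le hQ ?_)
    rw [Subgroup.zpowers_le]
    have hcop : IsCoprime i ((p : ℤ) ^ (k + 1)) := by
      have h1 : IsCoprime (p : ℤ) i :=
        (Prime.coprime_iff_not_dvd (Nat.prime_iff_prime_int.mp hp.out)).2 hpi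
      exact h1.symm.pow_right
    obtain ⟨a, b, hab⟩ := hcop
    have h1 : u ^ ((p : ℤ) ^ (k + 1)) = 1 := by
      rw [← Nat.cast_pow, zpow_natCast, ← hu, pow_orderOf_eq_one]
    have h2 : u = (u ^ i) ^ a := by
      calc u = u ^ (1 : ℤ) := (zpow_one u).symm
        _ = u ^ (a * i + b * (p : ℤ) ^ (k + 1)) := by rw [hab]
        _ = (u ^ i) ^ a := by
          rw [zpow_add, mul_comm a i, zpow_mul, mul_comm b, zpow_mul, h1, one_zpow, mul_one]
    rw [h2]
    exact Subgroup.zpow_mem _ hx a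

theorem bp_orderOf_of_isPGroup_zpowers (p : ℕ) [hp : Fact p.Prime] {u : G}
    (hu : IsPGroup p (Subgroup.zpowers u)) (hu1 : u ≠ 1) : ∃ k : ℕ, orderOf u = p ^ (k + 1) := by
  obtain ⟨m, hm⟩ := hu ⟨u, Subgroup.mem_zpowers u⟩
  have h1 : u ^ (p ^ m) = 1 := by
    have := congrArg Subtype.val hm
    simpa using this
  obtain ⟨j, -, hj⟩ := (Nat.dvd_prime_pow hp.out).mp (orderOf_dvd_of_pow_eq_one h1)
  cases j with
  | zero =>
    exfalso
    apply hu1
    rw [pow_zero] at hj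
    exact orderOf_eq_one_iff.mp hj
  | succ k => exact ⟨k, hj⟩

theorem bp_zpowers_le_centralizer_zpowers {u s : G} (hus : Commute u s) :
    Subgroup.zpowers s ≤ Subgroup.centralizer (Subgroup.zpowers u : Set G) := by
  rw [Subgroup.zpowers_le, Subgroup.mem_centralizer_iff]
  intro h hh
  obtain ⟨i, rfl⟩ := Subgroup.mem_zpowers_iff.mp hh
  exact (hus.zpow_left i).eq

end cyc

universe uR uG

variable {R : Type uR} [CommRing R] [IsLocalRing R] [SplitMonic R] {G : Type uG} [Group G]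
  [Finite G]

/-- `Tr_{⟨u^p⟩}^{⟨u⟩} = Tr_{⟨u^p⟩⊔⟨s⟩}^{⟨u⟩⊔⟨s⟩}` on `(RG)^{⟨u^p⟩ ⊔ ⟨s⟩}` -/
theorem bp_tr_zpowers_eq (p : ℕ) [hpp : Fact p.Prime] {u s : G} (hus : Commute u s) {k : ℕ}
    (hu : orderOf u = p ^ (k + 1)) (hs : Nat.Coprime (orderOf s) p)
    (a : MonoidAlgebra R G) (ha : a ∈ bp_fix (Subgroup.zpowers (u ^ p) ⊔ Subgroup.zpowers s)) :
    bp_tr (Subgroup.zpowers (u ^ p)) (Subgroup.zpowers u) a =
      bp_tr (Subgroup.zpowers (u ^ p) ⊔ Subgroup.zpowers s)
        (Subgroup.zpowers u ⊔ Subgroup.zpowers s) a := by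
  classical
  have h1 := bp_isLT_zpowers p hus hu hs
  have h2 := bp_isLT_zpowers p (Commute.one_right u) hu
    (by rw [orderOf_one]; exact Nat.coprime_one_left p)
  rw [Subgroup.zpowers_one_eq_bot, sup_bot_eq, sup_bot_eq] at h2
  rw [bp_tr_eq_sum h1 ha, bp_tr_eq_sum h2 (bp_fix_mono le_sup_left ha)]

/-- primitive case of Green's theorem on zeros -/
theorem bp_green_zeros_prim_of_step (p : ℕ) [hpp : Fact p.Prime]
    (hGS : bp_GreenStepStmt.{uR, max uR uG} R p)
    (hpR : (p : R) ∈ IsLocalRing.maximalIdeal R) {u s : G} (hus : Commute u s) {k : ℕ}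
    (hu : orderOf u = p ^ (k + 1)) (hs : Nat.Coprime (orderOf s) p)
    (n : MonoidAlgebra R G) (hn : n ∈ bp_fix (Subgroup.zpowers u ⊔ Subgroup.zpowers s))
    (hprim : bp_IsPrim (⟨n, hn⟩ : bp_fix (R := R) (Subgroup.zpowers u ⊔ Subgroup.zpowers s)))
    (hbr : bp_brFun (Subgroup.zpowers u) n = 0)
    {T : Type*} [AddCommGroup T] (τ : MonoidAlgebra R G →+ T)
    (hτ : ∀ a b, τ (a * b) = τ (b * a)) :
    τ (MonoidAlgebra.single (u * s) (1 : R) * n) = 0 := by
  classical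
  set P : Subgroup G := Subgroup.zpowers u with hP
  set C : Subgroup G := Subgroup.zpowers s with hC
  set P₁ : Subgroup G := Subgroup.zpowers (u ^ p) with hP₁
  have hPp : IsPGroup p P := by
    rw [hP]
    apply IsPGroup.of_card (n := k + 1)
    rw [Nat.card_zpowers, hu]
  have hCcop : (Nat.card C).Coprime p := by
    rw [hC, Nat.card_zpowers]
    exact hs
  have hCP : C ≤ Subgroup.centralizer (P : Set G) := bp_zpowers_le_centralizer_zpowers hus
  have hCP₁ : C ≤ Subgroup.centralizer (P₁ : Set G) :=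
    bp_zpowers_le_centralizer_zpowers (hus.pow_left p)
  have hP₁P : P₁ ≤ P := by
    rw [hP₁, Subgroup.zpowers_le]
    exact Subgroup.pow_mem _ (Subgroup.mem_zpowers u) p
  have hKH : P₁ ⊔ C ≤ P ⊔ C := sup_le_sup_right hP₁P C
  haveI : Module.Finite R (bp_fix (R := R) (P ⊔ C)) := bp_fix_finite (P ⊔ C)
  obtain ⟨t, ht, m, hm, hmc, hnm⟩ := bp_br_ker_C hpR P C hPp hCcop hCP n hn hbr
  -- the trace part comes from `P₁ ⊔ C`
  have htr : ∃ a ∈ bp_fix (R := R) (P₁ ⊔ C), bp_tr (P₁ ⊔ C) (P ⊔ C) a = t := by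
    have hle : bp_trLtC (R := R) C P ≤
        (Subalgebra.toSubmodule (bp_fix (R := R) (P₁ ⊔ C))).map (bp_tr (P₁ ⊔ C) (P ⊔ C)) := by
      unfold bp_trLtC
      rw [Submodule.span_le]
      rintro x ⟨Q', hQ'P, b, hb, rfl⟩
      have hQ'P₁ : Q' ≤ P₁ := bp_le_zpowers_pow_of_lt p hu Q' hQ'P
      have ha : bp_tr Q' P₁ b ∈ bp_fix (R := R) (P₁ ⊔ C) := bp_tr_mem_fix_sup hQ'P₁ hCP₁ hb
      refine Submodule.mem_map.2 ⟨bp_tr Q' P₁ b, ha, ?_⟩
      rw [← bp_tr_zpowers_eq p hus hu hs _ ha]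
      exact bp_tr_trans hQ'P₁ hP₁P (bp_fix_mono le_sup_left hb)
    obtain ⟨a, ha, hat⟩ := Submodule.mem_map.1 (hle ht)
    exact ⟨a, ha, hat⟩
  obtain ⟨a, ha, hat⟩ := htr
  have htfix : t ∈ bp_fix (R := R) (P ⊔ C) := by
    rw [← hat]
    exact bp_tr_mem hKH ha
  -- Rosenberg
  let e : ↥(bp_fix (R := R) (P ⊔ C)) := ⟨n, hn⟩
  let I : Bool → Set ↥(bp_fix (R := R) (P ⊔ C)) := fun b =>
    cond b ((bp_trIdeal (R := R) (P₁ ⊔ C) (P ⊔ C) hKH : Set ↥(bp_fix (R := R) (P ⊔ C))))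
      ((bp_mG R ↥(bp_fix (R := R) (P ⊔ C)) : Set ↥(bp_fix (R := R) (P ⊔ C))))
  let x : Bool → ↥(bp_fix (R := R) (P ⊔ C)) := fun b => cond b ⟨t, htfix⟩ ⟨m, hm⟩
  have hI : ∀ i ∈ (Finset.univ : Finset Bool), ∀ a y b : ↥(bp_fix (R := R) (P ⊔ C)),
      y ∈ I i → a * y * b ∈ I i := by
    intro i _ a y b hy
    cases i with
    | true =>
      exact (bp_trIdeal (R := R) (P₁ ⊔ C) (P ⊔ C) hKH).mul_mem_right _ _
        ((bp_trIdeal (R := R) (P₁ ⊔ C) (P ⊔ C) hKH).mul_mem_left _ _ hy)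
    | false => exact bp_mem_mG_mul (bp_mul_mem_mG a hy) b
  have hx : ∀ i ∈ (Finset.univ : Finset Bool), x i ∈ I i := by
    intro i _
    cases i with
    | true => exact (bp_mem_trIdeal hKH _).2 ⟨a, ha, hat⟩
    | false => exact bp_mem_smul_top_fix (P ⊔ C) (IsLocalRing.maximalIdeal R) m hm hmc
  have hsum : e = ∑ i ∈ (Finset.univ : Finset Bool), x i := by
    rw [Fintype.sum_bool]
    apply Subtype.ext
    exact hnm
  obtain ⟨i, -, hi⟩ := bp_rosenberg_sum R (Finset.univ : Finset Bool) e hprim I hI x hx hsum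
  cases i with
  | true =>
    obtain ⟨a', ha', hat'⟩ := (bp_mem_trIdeal hKH e).1 hi
    exact bp_green_zeros_of_mem_tr p hGS hus hu hs n hn hprim a' ha' hat' τ hτ
  | false =>
    exfalso
    exact hprim.2.1 (bp_idem_mG_eq_zero e hprim.1 hi)

/-- **L6, Green's theorem on zeros**, with the Green step as a hypothesis. -/
theorem bp_green_zeros_of_step {p : ℕ} [hpp : Fact p.Prime]
    (hGS : bp_GreenStepStmt.{uR, max uR uG} R p) (hpR : (p : R) ∈ IsLocalRing.maximalIdeal R)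
    (u s : G) (hu : IsPGroup p (Subgroup.zpowers u)) (hs : ¬ p ∣ orderOf s) (hus : Commute u s)
    (n : MonoidAlgebra R G) (hn : n ∈ bp_fix (Subgroup.zpowers u ⊔ Subgroup.zpowers s))
    (hidem : IsIdempotentElem n) (hbr : bp_brFun (Subgroup.zpowers u) n = 0)
    {T : Type*} [AddCommGroup T] (τ : MonoidAlgebra R G →+ T)
    (hτ : ∀ a b, τ (a * b) = τ (b * a)) :
    τ (MonoidAlgebra.single (u * s) (1 : R) * n) = 0 := by
  classical
  set H : Subgroup G := Subgroup.zpowers u ⊔ Subgroup.zpowers s with hH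
  haveI : Module.Finite R (bp_fix (R := R) H) := bp_fix_finite H
  have he : IsIdempotentElem (⟨n, hn⟩ : ↥(bp_fix (R := R) H)) := Subtype.ext hidem.eq
  by_cases hu1 : u = 1
  · -- `br_1` is reduction modulo the maximal ideal
    have hc : ∀ g, n.coeff g ∈ IsLocalRing.maximalIdeal R := by
      intro g
      refine (bp_brFun_eq_zero_iff _ n).1 hbr g ?_
      rw [Subgroup.mem_centralizer_iff]
      intro h hh
      rw [hu1] at hh
      obtain ⟨i, rfl⟩ := Subgroup.mem_zpowers_iff.mp hh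
      rw [one_zpow, one_mul, mul_one]
    have h0 := bp_idem_mG_eq_zero (R := R) (⟨n, hn⟩ : ↥(bp_fix (R := R) H)) he
      (bp_mem_smul_top_fix H (IsLocalRing.maximalIdeal R) n hn hc)
    have h1 : n = 0 := congrArg Subtype.val h0
    rw [h1, mul_zero, map_zero]
  · obtain ⟨k, hk⟩ := bp_orderOf_of_isPGroup_zpowers p hu hu1
    have hs' : Nat.Coprime (orderOf s) p := ((Nat.Prime.coprime_iff_not_dvd hpp.out).2 hs).symm
    obtain ⟨N, ε, hεprim, hεorth, hεsum⟩ :=
      bp_exists_prim_decomp R (⟨n, hn⟩ : ↥(bp_fix (R := R) H)) he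
    have hPH : Subgroup.zpowers u ≤ H := le_sup_left
    -- each `ε i` is killed by the Brauer map
    have hεn : ∀ i, ε i * (⟨n, hn⟩ : ↥(bp_fix (R := R) H)) = ε i := by
      intro i
      rw [← hεsum, Finset.mul_sum, Finset.sum_eq_single i, (hεprim i).1.eq]
      · intro j _ hji
        exact hεorth i j (Ne.symm hji)
      · intro hi
        exact absurd (Finset.mem_univ i) hi
    have hεbr : ∀ i, bp_brFun (Subgroup.zpowers u) ((ε i : ↥(bp_fix (R := R) H)) : MonoidAlgebra R G)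
        = 0 := by
      intro i
      have h1 : ((ε i : ↥(bp_fix (R := R) H)) : MonoidAlgebra R G) * n = ε i :=
        congrArg Subtype.val (hεn i)
      have h2 := map_mul (bp_br hpR (Subgroup.zpowers u) hu)
        ⟨((ε i : ↥(bp_fix (R := R) H)) : MonoidAlgebra R G), bp_fix_mono hPH (ε i).2⟩
        ⟨n, bp_fix_mono hPH hn⟩
      rw [bp_br_apply, bp_br_apply, bp_br_apply] at h2
      simp only [MulMemClass.mk_mul_mk] at h2
      rw [h1, hbr, mul_zero] at h2
      exact h2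
    have hnsum : n = ∑ i, ((ε i : ↥(bp_fix (R := R) H)) : MonoidAlgebra R G) := by
      have := congrArg Subtype.val hεsum
      rw [AddSubmonoidClass.coe_finsetSum] at this
      exact this.symm
    rw [hnsum, Finset.mul_sum, map_sum]
    refine Finset.sum_eq_zero (fun i _ => ?_)
    exact bp_green_zeros_prim_of_step p hGS hpR hus hk hs' _ (ε i).2 (hεprim i) (hεbr i) τ hτ

end Cfsg.Agent.BP
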