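import Cfsg.Agent.BP.RelTrace
import Cfsg.Agent.Helper6.CharBasic
import Cfsg.Agent.Helper6.GroupAlgB
import Cfsg.Agent.Helper6.CovLoc
import Cfsg.Agent.Helper6.Brauer8
import Cfsg.Agent.Helper6.DadeIntE
import Cfsg.Agent.Helper6.Induced

/-!
# BP / L9 character half : cutting a character by an idempotent, induction over transversals

* `bp_idem_isCharacter` : for a character `χ` of `G`, a subgroup `H` and an idempotent `i` of
  `ℂG` fixed by `H`, the function `h ↦ χ (h · i)` is a character of `H`.
* `bp_ind_isGeneralizedCharacter` : induction of generalized characters written as a sum over a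
  left transversal (`bp_IsLT`).
* `bp_prL`, `bp_infl_isGeneralizedCharacter` : inflation along `Q × C → Q`.
-/

set_option autoImplicit false

namespace Cfsg.Agent.BP

open Module

universe u

variable {G : Type u} [Group G] [Fintype G]

/-- pairing a character with a group algebra element is the trace of the element acting. -/
theorem bp_gaPair_character {n : ℕ} (ρ : Representation ℂ G (Fin n → ℂ))
    (w : MonoidAlgebra ℂ G) :
    Helper6.gaPair ρ.character w = LinearMap.trace ℂ (Fin n → ℂ) (ρ.asAlgebraHom w) := by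
  induction w using MonoidAlgebra.induction_linear with
  | zero => rw [Helper6.gaPair_zero, map_zero, map_zero]
  | add x y hx hy => rw [Helper6.gaPair_add, map_add, map_add, hx, hy]
  | single g c =>
    rw [Helper6.gaPair_single, Representation.asAlgebraHom_single, map_smul, smul_eq_mul]
    rfl

omit [Fintype G] in
/-- an element fixed by `h` commutes with `h`. -/
theorem bp_single_mul_of_conj_eq {R : Type*} [CommRing R] (h : G) (i : MonoidAlgebra R G)
    (hfix : bp_conj h i = i) :
    MonoidAlgebra.single h (1 : R) * i = i * MonoidAlgebra.single h (1 : R) := by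
  have h1 := bp_conj_eq_mul h i
  rw [hfix] at h1
  have h2 : i * MonoidAlgebra.single h (1 : R) =
      MonoidAlgebra.single h (1 : R) * i * MonoidAlgebra.single h⁻¹ (1 : R) *
        MonoidAlgebra.single h (1 : R) := by rw [← h1]
  rw [h2, mul_assoc, MonoidAlgebra.single_mul_single, inv_mul_cancel, mul_one,
    ← MonoidAlgebra.one_def, mul_one]

/-- **Cutting a representation by a fixed idempotent.**  For a representation `ρ` of `G`, a
subgroup `H` and an idempotent `i` of `ℂG` fixed by `H`, the function `h ↦ tr (ρ (h i))` is a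
character of `H` (afforded by the `H`-stable subspace `ρ(i) V`). -/
theorem bp_idem_isCharacter_rep {n : ℕ} (ρ : Representation ℂ G (Fin n → ℂ)) (H : Subgroup G)
    (i : MonoidAlgebra ℂ G) (hi : i * i = i) (hfix : i ∈ bp_fix (R := ℂ) H) :
    Cfsg.IsCharacter ↥H
      (fun h => Helper6.gaPair ρ.character (MonoidAlgebra.single (h : G) 1 * i)) := by
  classical
  set π : (Fin n → ℂ) →ₗ[ℂ] (Fin n → ℂ) := ρ.asAlgebraHom i with hπdef
  have hππ : ∀ v, π (π v) = π v := by
    intro v
    have : π * π = π := by rw [hπdef, ← map_mul, hi]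
    exact LinearMap.congr_fun this v
  have hcomm : ∀ h ∈ H, ∀ v, ρ h (π v) = π (ρ h v) := by
    intro h hh v
    have h1 := bp_single_mul_of_conj_eq h i (hfix h hh)
    have h2 := congrArg ρ.asAlgebraHom h1
    rw [map_mul, map_mul, Representation.asAlgebraHom_single, one_smul] at h2
    exact LinearMap.congr_fun h2 v
  set W : Submodule ℂ (Fin n → ℂ) := LinearMap.range π with hW
  set q : (Fin n → ℂ) →ₗ[ℂ] W := π.rangeRestrict with hq
  set ι : W →ₗ[ℂ] (Fin n → ℂ) := W.subtype with hι
  have hιq : ι ∘ₗ q = π := by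
    apply LinearMap.ext
    intro v
    rfl
  have hπW : ∀ w : W, π (w : Fin n → ℂ) = w := by
    rintro ⟨w, v, rfl⟩
    exact hππ v
  have hqv : ∀ v, ((q v : W) : Fin n → ℂ) = π v := fun v => rfl
  let σ : Representation ℂ ↥H W :=
    { toFun := fun h => q ∘ₗ (ρ (h : G)) ∘ₗ ι
      map_one' := by
        apply LinearMap.ext
        intro w
        apply Subtype.ext
        simp only [OneMemClass.coe_one, map_one, LinearMap.coe_comp, Function.comp_apply,
          Module.End.one_apply]
        rw [hqv]
        exact hπW w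
      map_mul' := by
        intro h h'
        apply LinearMap.ext
        intro w
        apply Subtype.ext
        simp only [Subgroup.coe_mul, map_mul, LinearMap.coe_comp, Function.comp_apply,
          Module.End.mul_apply]
        rw [hqv, hqv]
        show π (ρ h (ρ h' (w : Fin n → ℂ))) = π (ρ h (π (ρ h' (w : Fin n → ℂ))))
        rw [← hcomm h' h'.2, hπW] }
  have hchar : σ.character =
      fun h : ↥H => Helper6.gaPair ρ.character (MonoidAlgebra.single (h : G) 1 * i) := by
    funext h
    rw [bp_gaPair_character, map_mul, Representation.asAlgebraHom_single, one_smul]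
    show LinearMap.trace ℂ W (q ∘ₗ ((ρ (h : G)) ∘ₗ ι)) = _
    rw [LinearMap.trace_comp_comm', LinearMap.comp_assoc, hιq]
    rfl
  rw [← hchar]
  exact Helper6.isCharacter_of_rep σ

/-- **`χ(· i)` is a character of `H`** for a character `χ` of `G` and an idempotent `i` of `ℂG`
fixed by `H`. -/
theorem bp_idem_isCharacter (χ : G → ℂ) (hχ : Cfsg.IsCharacter G χ) (H : Subgroup G)
    (i : MonoidAlgebra ℂ G) (hi : i * i = i) (hfix : i ∈ bp_fix (R := ℂ) H) :
    Cfsg.IsCharacter ↥H (fun h => Helper6.gaPair χ (MonoidAlgebra.single (h : G) 1 * i)) := by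
  obtain ⟨n, ρ, rfl⟩ := hχ
  exact bp_idem_isCharacter_rep ρ H i hi hfix

omit [Fintype G] in
/-- the embedding `R_loc G → ℂG` preserves fixed points. -/
theorem bp_gaEmb_mem_fix {M : Ideal Cfsg.AlgInt} (hM : M.IsMaximal) (H : Subgroup G)
    (i : MonoidAlgebra (Helper6.Cov.Rloc hM) G) (hfix : i ∈ bp_fix (R := Helper6.Cov.Rloc hM) H) :
    Helper6.Cov.gaEmb hM G i ∈ bp_fix (R := ℂ) H := by
  rw [bp_mem_fix_iff] at hfix ⊢
  intro h hh g
  rw [Helper6.Cov.gaEmb_coeff, Helper6.Cov.gaEmb_coeff, hfix h hh g]

/-- local form of `bp_idem_isCharacter`: the idempotent lives in `R_loc G`. -/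
theorem bp_idem_isCharacter_loc {M : Ideal Cfsg.AlgInt} (hM : M.IsMaximal) (χ : G → ℂ)
    (hχ : Cfsg.IsCharacter G χ) (H : Subgroup G) (i : MonoidAlgebra (Helper6.Cov.Rloc hM) G)
    (hi : IsIdempotentElem i) (hfix : i ∈ bp_fix (R := Helper6.Cov.Rloc hM) H) :
    Cfsg.IsCharacter ↥H
      (fun h => Helper6.gaPair χ (MonoidAlgebra.single (h : G) 1 * Helper6.Cov.gaEmb hM G i)) := by
  apply bp_idem_isCharacter χ hχ H _ _ (bp_gaEmb_mem_fix hM H i hfix)
  rw [← map_mul, hi.eq]

end Cfsg.Agent.BP
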