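import Cfsg.Agent.BP.IdemChar

/-!
# BP / L9 character half, part B : induction over transversals, inflation along `Q × C → Q`

* `bp_ind_isGeneralizedCharacter` : induction of generalized characters from `K` to `H`
  (`K ≤ H ≤ G`), written as a sum over a left transversal (`bp_IsLT`).
* `bp_isLT_sup` : a left transversal of `Q` in `S` is a left transversal of `Q ⊔ C` in `S ⊔ C`
  when `C` centralizes `S` and meets it trivially.
* `bp_prL`, `bp_infl_isGeneralizedCharacter` : inflation along `Q × C → Q`.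
-/

set_option autoImplicit false
set_option linter.style.haveILetI false

namespace Cfsg.Agent.BP

open Module

universe u

variable {G : Type u} [Group G]

/-- a generalized character is a class function. -/
theorem bp_gc_isClassFunction {θ : G → ℂ} (h : Cfsg.IsGeneralizedCharacter G θ) :
    Cfsg.IsClassFunction G θ := by
  obtain ⟨a, b, ha, hb, rfl⟩ := h
  intro g x
  simp only [Pi.sub_apply]
  rw [Helper6.IsCharacter.isClassFunction ha g x, Helper6.IsCharacter.isClassFunction hb g x]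

/-- the sum over a subgroup `H`, decomposed along a left transversal of `K` in `H`. -/
theorem bp_sum_subgroup_eq_sum_transversal [Fintype G] {T : Finset G} {K H : Subgroup G}
    (hT : bp_IsLT T K H) {A : Type*} [AddCommMonoid A] (f : G → A)
    [DecidablePred (· ∈ H)] [DecidablePred (· ∈ K)] :
    ∑ x ∈ Finset.univ.filter (· ∈ H), f x =
      ∑ t ∈ T, ∑ k ∈ Finset.univ.filter (· ∈ K), f (t * k) := by
  classical
  rw [← Finset.sum_product']
  symm
  apply Finset.sum_bij (fun (p : G × G) _ => p.1 * p.2)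
  · intro p hp
    rw [Finset.mem_product, Finset.mem_filter] at hp
    rw [Finset.mem_filter]
    exact ⟨Finset.mem_univ _, H.mul_mem (hT.mem _ hp.1) (hT.le hp.2.2)⟩
  · intro p hp p' hp' heq
    rw [Finset.mem_product, Finset.mem_filter] at hp hp'
    have h1 : p.1⁻¹ * p'.1 = p.2 * p'.2⁻¹ := by
      have : p'.1 = p.1 * p.2 * p'.2⁻¹ := by rw [heq, mul_inv_cancel_right]
      rw [this, mul_assoc, inv_mul_cancel_left]
    have h2 : p.1 = p'.1 := hT.eq_of_mem hp.1 hp'.1 (by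
      rw [h1]; exact K.mul_mem hp.2.2 (K.inv_mem hp'.2.2))
    have h3 : p.2 = p'.2 := by
      rw [h2] at heq
      exact mul_left_cancel heq
    exact Prod.ext h2 h3
  · intro x hx
    rw [Finset.mem_filter] at hx
    obtain ⟨t, ⟨ht, htk⟩, _⟩ := hT.uniq x hx.2
    refine ⟨(t, t⁻¹ * x), ?_, ?_⟩
    · rw [Finset.mem_product, Finset.mem_filter]
      exact ⟨ht, Finset.mem_univ _, htk⟩
    · simp
  · intro p _
    rfl

/-- **Induction over a transversal.**  For `K ≤ H ≤ G`, a left transversal `T` of `K` in `H` and a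
generalized character `Φ` of `K`, the function `h ↦ ∑_{t ∈ T, t⁻¹ h t ∈ K} Φ (t⁻¹ h t)` is a
generalized character of `H` (it is `Ind_K^H Φ`). -/
theorem bp_ind_isGeneralizedCharacter [Fintype G] (K H : Subgroup G) [DecidablePred (· ∈ K)]
    (T : Finset G) (hT : bp_IsLT T K H) (Φ : ↥K → ℂ) (hΦ : Cfsg.IsGeneralizedCharacter ↥K Φ) :
    Cfsg.IsGeneralizedCharacter ↥H
      (fun h => ∑ t ∈ T,
        if hk : t⁻¹ * (h : G) * t ∈ K then Φ ⟨t⁻¹ * (h : G) * t, hk⟩ else 0) := by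
  classical
  letI : Fintype ↥H := Fintype.ofFinite _
  have hcf := bp_gc_isClassFunction hΦ
  let ψ : G → ℂ := fun g => if hk : g ∈ K then Φ ⟨g, hk⟩ else 0
  have hψK : ∀ g, ∀ k ∈ K, ψ (k⁻¹ * g * k) = ψ g := by
    intro g k hk
    by_cases hg : g ∈ K
    · have hg' : k⁻¹ * g * k ∈ K := K.mul_mem (K.mul_mem (K.inv_mem hk) hg) hk
      simp only [ψ, dif_pos hg, dif_pos hg']
      have h1 := hcf ⟨g, hg⟩ (⟨k, hk⟩⁻¹ : ↥K)
      rw [inv_inv] at h1
      rw [← h1]
      rfl
    · have hg' : k⁻¹ * g * k ∉ K := by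
        intro h
        apply hg
        have h2 := K.mul_mem (K.mul_mem hk h) (K.inv_mem hk)
        simpa [mul_assoc] using h2
      simp only [ψ, dif_neg hg, dif_neg hg']
  set K' : Subgroup ↥H := K.subgroupOf H with hK'
  let e : ↥K' ≃* ↥K := Subgroup.subgroupOfEquivOfLe hT.le
  have hΦ' : Cfsg.IsGeneralizedCharacter ↥K' (fun k => Φ (e k)) :=
    Helper6.IsGeneralizedCharacter.comp_hom' e.toMonoidHom hΦ
  have hext : ∀ y : ↥H, Cfsg.extendByZero K' (fun k => Φ (e k)) y = ψ (y : G) := by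
    intro y
    by_cases hy : (y : G) ∈ K
    · have hy' : y ∈ K' := Subgroup.mem_subgroupOf.mpr hy
      rw [Helper6.extendByZero_mem K' _ hy']
      simp only [ψ, dif_pos hy]
      rfl
    · have hy' : y ∉ K' := fun h => hy (Subgroup.mem_subgroupOf.mp h)
      rw [Helper6.extendByZero_not_mem K' _ hy']
      simp only [ψ, dif_neg hy]
  have hind := Helper6.IsGeneralizedCharacter.indFun K' hΦ'
  have hcard : (Nat.card K' : ℂ) = (Nat.card K : ℂ) := by
    rw [Nat.card_congr e.toEquiv]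
  have hcardK : ((Finset.univ.filter (· ∈ K)).card : ℂ) = (Nat.card K : ℂ) := by
    rw [Nat.card_eq_fintype_card, Fintype.card_subtype]
  have hK0 : (Nat.card K : ℂ) ≠ 0 := Nat.cast_ne_zero.mpr Nat.card_pos.ne'
  have heq : (fun h : ↥H => ∑ t ∈ T,
        if hk : t⁻¹ * (h : G) * t ∈ K then Φ ⟨t⁻¹ * (h : G) * t, hk⟩ else 0) =
      Cfsg.indFun K' (fun k => Φ (e k)) := by
    funext h
    unfold Cfsg.indFun
    simp only [hext]
    have h1 : ∑ x : ↥H, ψ ((x⁻¹ * h * x : ↥H) : G) =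
        ∑ x ∈ Finset.univ.filter (· ∈ H), ψ (x⁻¹ * (h : G) * x) := by
      rw [Finset.sum_subtype (Finset.univ.filter (· ∈ H)) (p := (· ∈ H))
        (fun x => by simp) (fun x => ψ (x⁻¹ * (h : G) * x))]
      apply Finset.sum_congr rfl
      intro x _
      rfl
    rw [h1, bp_sum_subgroup_eq_sum_transversal hT]
    have h2 : ∀ t ∈ T, ∑ k ∈ Finset.univ.filter (· ∈ K), ψ ((t * k)⁻¹ * (h : G) * (t * k)) =
        (Nat.card K : ℂ) * ψ (t⁻¹ * (h : G) * t) := by
      intro t _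
      rw [Finset.sum_congr rfl (g := fun _ => ψ (t⁻¹ * (h : G) * t)), Finset.sum_const,
        nsmul_eq_mul, hcardK]
      intro k hk
      rw [Finset.mem_filter] at hk
      rw [← hψK (t⁻¹ * (h : G) * t) k hk.2]
      congr 1
      simp only [mul_inv_rev, mul_assoc]
    rw [Finset.sum_congr rfl h2, ← Finset.mul_sum, hcard, ← mul_assoc, inv_mul_cancel₀ hK0,
      one_mul]
  rw [heq]
  exact hind

/-! ### Products `S ⊔ C` with `C` centralizing `S` -/

/-- elements of `S ⊔ C` are products `s * c` when `C` centralizes `S`. -/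
theorem bp_mem_sup_iff {S C : Subgroup G} (hC : C ≤ Subgroup.centralizer (S : Set G)) (x : G) :
    x ∈ S ⊔ C ↔ ∃ s ∈ S, ∃ c ∈ C, x = s * c := by
  have comm : ∀ (s : S) (c : C), Commute (S.subtype s) (C.subtype c) :=
    fun s c => hC c.2 s s.2
  have h := MonoidHom.noncommCoprod_range S.subtype C.subtype comm
  rw [Subgroup.range_subtype, Subgroup.range_subtype] at h
  rw [← h]
  constructor
  · rintro ⟨⟨s, c⟩, rfl⟩
    exact ⟨s, s.2, c, c.2, rfl⟩
  · rintro ⟨s, hs, c, hc, rfl⟩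
    exact ⟨(⟨s, hs⟩, ⟨c, hc⟩), rfl⟩

/-- a `p`-subgroup and a subgroup of order prime to `p` meet trivially. -/
theorem bp_disjoint_of_coprime [Finite G] {p : ℕ} [Fact p.Prime] {S C : Subgroup G}
    (hS : IsPGroup p S) (hC : (Nat.card C).Coprime p) : S ⊓ C = ⊥ := by
  obtain ⟨n, hn⟩ := IsPGroup.iff_card.mp hS
  apply (Subgroup.disjoint_of_coprime_natCard ?_).eq_bot
  rw [hn]
  exact (Nat.Coprime.pow_left n hC.symm)

/-- a `p`-subgroup and a subgroup of `p`-regular elements meet trivially. -/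
theorem bp_disjoint_of_pgroup [Finite G] {p : ℕ} [Fact p.Prime] {S C : Subgroup G}
    (hS : IsPGroup p S) (hC : ∀ c ∈ C, ¬ p ∣ orderOf c) : S ⊓ C = ⊥ := by
  rw [eq_bot_iff]
  intro x hx
  rw [Subgroup.mem_inf] at hx
  rw [Subgroup.mem_bot]
  obtain ⟨k, hk⟩ := hS ⟨x, hx.1⟩
  have hk' : x ^ p ^ k = 1 := by
    have := congrArg Subtype.val hk
    simpa using this
  obtain ⟨j, _, hj⟩ := (Nat.dvd_prime_pow (Fact.out : p.Prime)).mp (orderOf_dvd_of_pow_eq_one hk')
  have hnd := hC x hx.2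
  rw [hj] at hnd
  cases j with
  | zero =>
    rw [pow_zero] at hj
    exact orderOf_eq_one_iff.mp hj
  | succ j => exact absurd (dvd_pow_self p (Nat.succ_ne_zero j)) hnd

/-- a left transversal of `Q` in `S` is a left transversal of `Q ⊔ C` in `S ⊔ C`, when `C`
centralizes `S` and `S ∩ C = 1`. -/
theorem bp_isLT_sup {T : Finset G} {Q S C : Subgroup G} (hT : bp_IsLT T Q S)
    (hC : C ≤ Subgroup.centralizer (S : Set G)) (hd : S ⊓ C = ⊥) :
    bp_IsLT T (Q ⊔ C) (S ⊔ C) := by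
  have hCQ : C ≤ Subgroup.centralizer (Q : Set G) :=
    hC.trans (Subgroup.centralizer_le hT.le)
  have key : ∀ t ∈ S, ∀ s ∈ S, ∀ c ∈ C, (t⁻¹ * (s * c) ∈ Q ⊔ C ↔ t⁻¹ * s ∈ Q) := by
    intro t ht s hs c hc
    constructor
    · intro h
      obtain ⟨q, hq, c', hc', heq⟩ := (bp_mem_sup_iff hCQ _).mp h
      have h1 : q⁻¹ * (t⁻¹ * s) = c' * c⁻¹ := by
        rw [← mul_assoc] at heq
        have : t⁻¹ * s = q * c' * c⁻¹ := by rw [← heq, mul_inv_cancel_right]
        rw [this, mul_assoc, inv_mul_cancel_left]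
      have h2 : q⁻¹ * (t⁻¹ * s) ∈ S ⊓ C := by
        rw [Subgroup.mem_inf]
        refine ⟨S.mul_mem (S.inv_mem (hT.le hq)) (S.mul_mem (S.inv_mem ht) hs), ?_⟩
        rw [h1]
        exact C.mul_mem hc' (C.inv_mem hc)
      rw [hd, Subgroup.mem_bot] at h2
      have h3 : t⁻¹ * s = q := by
        have := congrArg (fun z => q * z) h2
        simpa using this
      rw [h3]
      exact hq
    · intro h
      rw [← mul_assoc]
      exact (Q ⊔ C).mul_mem (Subgroup.mem_sup_left h) (Subgroup.mem_sup_right hc)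
  refine ⟨sup_le_sup_right hT.le C, fun t ht => Subgroup.mem_sup_left (hT.mem t ht), ?_⟩
  intro h hh
  obtain ⟨s, hs, c, hc, rfl⟩ := (bp_mem_sup_iff hC _).mp hh
  obtain ⟨t, ⟨ht, hts⟩, huniq⟩ := hT.uniq s hs
  refine ⟨t, ⟨ht, (key t (hT.mem t ht) s hs c hc).mpr hts⟩, ?_⟩
  rintro t' ⟨ht', ht's⟩
  exact huniq t' ⟨ht', (key t' (hT.mem t' ht') s hs c hc).mp ht's⟩

/-! ### The projection `Q ⊔ C → Q` -/

theorem bp_commute_subtype (Q C : Subgroup G) (hc : C ≤ Subgroup.centralizer (Q : Set G))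
    (s : ↥Q) (c : ↥C) : Commute (Q.subtype s) (C.subtype c) := hc c.2 s s.2

/-- the multiplication map `Q × C → G` for commuting subgroups. -/
noncomputable def bp_mulHom (Q C : Subgroup G) (hc : C ≤ Subgroup.centralizer (Q : Set G)) :
    ↥Q × ↥C →* G :=
  MonoidHom.noncommCoprod Q.subtype C.subtype (bp_commute_subtype Q C hc)

theorem bp_mulHom_apply (Q C : Subgroup G) (hc : C ≤ Subgroup.centralizer (Q : Set G))
    (x : ↥Q × ↥C) : bp_mulHom Q C hc x = (x.1 : G) * (x.2 : G) := rfl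

theorem bp_mulHom_range (Q C : Subgroup G) (hc : C ≤ Subgroup.centralizer (Q : Set G)) :
    (bp_mulHom Q C hc).range = Q ⊔ C := by
  have h := MonoidHom.noncommCoprod_range Q.subtype C.subtype (bp_commute_subtype Q C hc)
  rw [Subgroup.range_subtype, Subgroup.range_subtype] at h
  exact h

theorem bp_mulHom_injective (Q C : Subgroup G) (hc : C ≤ Subgroup.centralizer (Q : Set G))
    (hd : Q ⊓ C = ⊥) : Function.Injective (bp_mulHom Q C hc) := by
  apply (MonoidHom.noncommCoprod_injective Q.subtype C.subtype (bp_commute_subtype Q C hc)).mpr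
  refine ⟨Subtype.val_injective, Subtype.val_injective, ?_⟩
  rw [Subgroup.range_subtype, Subgroup.range_subtype, disjoint_iff, hd]

/-- the projection `Q ⊔ C → Q`, `w * s ↦ w`, for `C` centralizing `Q` with `Q ∩ C = 1`. -/
noncomputable def bp_prL (Q C : Subgroup G) (hc : C ≤ Subgroup.centralizer (Q : Set G))
    (hd : Q ⊓ C = ⊥) : ↥(Q ⊔ C) →* ↥Q :=
  (MonoidHom.fst ↥Q ↥C).comp
    (((MonoidHom.ofInjective (bp_mulHom_injective Q C hc hd)).symm.toMonoidHom).comp
      (MulEquiv.subgroupCongr (bp_mulHom_range Q C hc).symm).toMonoidHom)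

/-- the projection `Q ⊔ C → C`, `w * s ↦ s`. -/
noncomputable def bp_prR (Q C : Subgroup G) (hc : C ≤ Subgroup.centralizer (Q : Set G))
    (hd : Q ⊓ C = ⊥) : ↥(Q ⊔ C) →* ↥C :=
  (MonoidHom.snd ↥Q ↥C).comp
    (((MonoidHom.ofInjective (bp_mulHom_injective Q C hc hd)).symm.toMonoidHom).comp
      (MulEquiv.subgroupCongr (bp_mulHom_range Q C hc).symm).toMonoidHom)

theorem bp_prL_prR_mul (Q C : Subgroup G) (hc : C ≤ Subgroup.centralizer (Q : Set G))
    (hd : Q ⊓ C = ⊥) {w s : G} (hw : w ∈ Q) (hs : s ∈ C) (h : w * s ∈ Q ⊔ C) :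
    bp_prL Q C hc hd ⟨w * s, h⟩ = ⟨w, hw⟩ ∧ bp_prR Q C hc hd ⟨w * s, h⟩ = ⟨s, hs⟩ := by
  have h1 : (MonoidHom.ofInjective (bp_mulHom_injective Q C hc hd)).symm
      (MulEquiv.subgroupCongr (bp_mulHom_range Q C hc).symm ⟨w * s, h⟩) =
      ((⟨w, hw⟩, ⟨s, hs⟩) : ↥Q × ↥C) := by
    rw [MulEquiv.symm_apply_eq]
    apply Subtype.ext
    rfl
  constructor
  · show ((MonoidHom.ofInjective (bp_mulHom_injective Q C hc hd)).symm
      (MulEquiv.subgroupCongr (bp_mulHom_range Q C hc).symm ⟨w * s, h⟩)).1 = _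
    rw [h1]
  · show ((MonoidHom.ofInjective (bp_mulHom_injective Q C hc hd)).symm
      (MulEquiv.subgroupCongr (bp_mulHom_range Q C hc).symm ⟨w * s, h⟩)).2 = _
    rw [h1]

theorem bp_prL_mul (Q C : Subgroup G) (hc : C ≤ Subgroup.centralizer (Q : Set G))
    (hd : Q ⊓ C = ⊥) {w s : G} (hw : w ∈ Q) (hs : s ∈ C) (h : w * s ∈ Q ⊔ C) :
    bp_prL Q C hc hd ⟨w * s, h⟩ = ⟨w, hw⟩ := (bp_prL_prR_mul Q C hc hd hw hs h).1

theorem bp_prR_mul (Q C : Subgroup G) (hc : C ≤ Subgroup.centralizer (Q : Set G))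
    (hd : Q ⊓ C = ⊥) {w s : G} (hw : w ∈ Q) (hs : s ∈ C) (h : w * s ∈ Q ⊔ C) :
    bp_prR Q C hc hd ⟨w * s, h⟩ = ⟨s, hs⟩ := (bp_prL_prR_mul Q C hc hd hw hs h).2

/-- every element of `Q ⊔ C` is the product of its two projections. -/
theorem bp_prL_mul_prR (Q C : Subgroup G) (hc : C ≤ Subgroup.centralizer (Q : Set G))
    (hd : Q ⊓ C = ⊥) (x : ↥(Q ⊔ C)) :
    ((bp_prL Q C hc hd x : ↥Q) : G) * ((bp_prR Q C hc hd x : ↥C) : G) = (x : G) := by
  obtain ⟨x, hx⟩ := x
  obtain ⟨w, hw, s, hs, rfl⟩ := (bp_mem_sup_iff hc x).mp hx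
  rw [bp_prL_mul Q C hc hd hw hs, bp_prR_mul Q C hc hd hw hs]

/-- **Inflation** of a generalized character of `Q` to `Q ⊔ C ≅ Q × C`. -/
theorem bp_infl_isGeneralizedCharacter (Q C : Subgroup G)
    (hc : C ≤ Subgroup.centralizer (Q : Set G)) (hd : Q ⊓ C = ⊥) (η : ↥Q → ℂ)
    (hη : Cfsg.IsGeneralizedCharacter ↥Q η) :
    Cfsg.IsGeneralizedCharacter ↥(Q ⊔ C) (fun x => η (bp_prL Q C hc hd x)) :=
  Helper6.IsGeneralizedCharacter.comp_hom' (bp_prL Q C hc hd) hη

/-! ### Closure properties of generalized characters -/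

theorem bp_gc_sub {f g : G → ℂ} (hf : Cfsg.IsGeneralizedCharacter G f)
    (hg : Cfsg.IsGeneralizedCharacter G g) : Cfsg.IsGeneralizedCharacter G (f - g) := by
  rw [sub_eq_add_neg]
  exact Helper6.IsGeneralizedCharacter.add hf (Helper6.IsGeneralizedCharacter.neg hg)

/-- the product of two generalized characters is a generalized character. -/
theorem bp_gc_mul {f g : G → ℂ} (hf : Cfsg.IsGeneralizedCharacter G f)
    (hg : Cfsg.IsGeneralizedCharacter G g) : Cfsg.IsGeneralizedCharacter G (f * g) := by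
  obtain ⟨a, b, ha, hb, rfl⟩ := hg
  rw [mul_sub]
  exact bp_gc_sub (Helper6.IsGeneralizedCharacter.mul_char hf ha)
    (Helper6.IsGeneralizedCharacter.mul_char hf hb)

/-- a finite sum of generalized characters is a generalized character. -/
theorem bp_gc_sum {ι : Type*} (s : Finset ι) (f : ι → G → ℂ)
    (h : ∀ i ∈ s, Cfsg.IsGeneralizedCharacter G (f i)) :
    Cfsg.IsGeneralizedCharacter G (fun g => ∑ i ∈ s, f i g) := by
  classical
  induction s using Finset.induction_on with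
  | empty =>
    simp only [Finset.sum_empty]
    exact Helper6.IsGeneralizedCharacter.zero
  | insert a s ha ih =>
    have h1 : (fun g => ∑ i ∈ insert a s, f i g) = f a + fun g => ∑ i ∈ s, f i g := by
      funext g
      rw [Finset.sum_insert ha]
      rfl
    rw [h1]
    exact Helper6.IsGeneralizedCharacter.add (h a (Finset.mem_insert_self a s))
      (ih (fun i hi => h i (Finset.mem_insert_of_mem hi)))

end Cfsg.Agent.BP
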