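import Cfsg.Agent.BP.Local

/-!
# BP / LocalExtra: further pure algebra on idempotents (complements to `BP/Local.lean`)

* `bp_cornerUnit_mul`, `bp_cornerUnit_self` : corner units form a group
* `bp_prim_map`    : a surjection killing `𝔪Γ` maps a primitive idempotent to `0` or to a primitive one
* `bp_lift_idem`   : lifting idempotents modulo `𝔪Γ` inside a corner
* `bp_prim_scalar` : the corner of a primitive idempotent is split local
* `bp_isAlgClosed_residueField` : `SplitMonic R` forces the residue field to be algebraically closed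
-/

namespace Cfsg.Agent.BP

open Polynomial

section units

variable {Γ : Type*} [Ring Γ]

theorem bp_cornerUnit_self {e : Γ} (he : IsIdempotentElem e) : bp_CornerUnit e e :=
  ⟨bp_corner_self he, e, bp_corner_self he, he.eq, he.eq⟩

theorem bp_cornerUnit_mul {e x y : Γ} (he : IsIdempotentElem e) (hx : bp_CornerUnit e x)
    (hy : bp_CornerUnit e y) : bp_CornerUnit e (x * y) := by
  obtain ⟨hx0, x', hx', hx1, hx2⟩ := hx
  obtain ⟨hy0, y', hy', hy1, hy2⟩ := hy
  refine ⟨bp_corner_mul he hx0 hy0, y' * x', bp_corner_mul he hy' hx', ?_, ?_⟩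
  · calc x * y * (y' * x') = x * (y * y') * x' := by simp only [mul_assoc]
      _ = e := by rw [hy1, bp_corner_right he hx0, hx1]
  · calc y' * x' * (x * y) = y' * (x' * x) * y := by simp only [mul_assoc]
      _ = e := by rw [hx2, bp_corner_right he hy', hy2]

end units

section extra

variable {R Γ : Type*} [CommRing R] [IsLocalRing R] [SplitMonic R] [Ring Γ] [Algebra R Γ]
  [Module.Finite R Γ]

/-- a surjective ring homomorphism which kills `𝔪Γ` maps a primitive idempotent either to `0`
or to a primitive idempotent (Thévenaz, Theorem 3.2 (a)). -/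
theorem bp_prim_map {Λ : Type*} [Ring Λ] (φ : Γ →+* Λ) (hφ : Function.Surjective φ)
    (hker : ∀ x ∈ bp_mG R Γ, φ x = 0) (e : Γ) (he : bp_IsPrim e) (hne : φ e ≠ 0) :
    bp_IsPrim (φ e) := by
  have hide : IsIdempotentElem (φ e) := by
    unfold IsIdempotentElem
    rw [← map_mul, he.1.eq]
  refine ⟨hide, hne, ?_⟩
  intro g hg h1 h2
  obtain ⟨x0, rfl⟩ := hφ g
  have hx : e * (e * x0 * e) * e = e * x0 * e := by
    calc e * (e * x0 * e) * e = (e * e) * x0 * (e * e) := by simp only [mul_assoc]
      _ = e * x0 * e := by rw [he.1.eq]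
  have hφx : φ (e * x0 * e) = φ x0 := by
    rw [map_mul, map_mul, h1, h2]
  rcases bp_prim_dichotomy (R := R) e (e * x0 * e) he hx with ⟨-, y, -, hxy, -⟩ | ⟨N, hN, hs⟩
  · right
    have h3 : φ x0 * φ y = φ e := by rw [← hφx, ← map_mul, hxy]
    have h4 : (φ e - φ x0) * φ x0 = 0 := by rw [sub_mul, h1, hg.eq, sub_self]
    have h5 : (φ e - φ x0) * φ e = 0 := by
      calc (φ e - φ x0) * φ e = (φ e - φ x0) * φ x0 * φ y := by rw [mul_assoc, h3]
        _ = 0 := by rw [h4, zero_mul]
    rw [sub_mul, hide.eq, h2] at h5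
    exact (sub_eq_zero.1 h5).symm
  · left
    obtain ⟨n, rfl⟩ : ∃ n, N = n + 1 := ⟨N - 1, by omega⟩
    have h3 : φ ((e * x0 * e) ^ (n + 1)) = 0 := hker _ hs
    rwa [map_pow, hφx, hg.pow_succ_eq] at h3

/-- LIFTING IDEMPOTENTS modulo `𝔪Γ` inside the corner of an idempotent `e`. -/
theorem bp_lift_idem (e x : Γ) (he : IsIdempotentElem e) (hx : e * x * e = x)
    (hxx : x * x - x ∈ bp_mG R Γ) :
    ∃ f : Γ, IsIdempotentElem f ∧ e * f = f ∧ f * e = f ∧ f * x = x * f ∧ f - x ∈ bp_mG R Γ := by
  obtain ⟨e₁, e₂, h1, h2, hsum, h12, h21, hc1, hc2, ⟨-, w, hw, hw1, -⟩, N, hN, hsmall⟩ :=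
    bp_fitting (R := R) e x he hx
  refine ⟨e₁, h1, ?_, ?_, hc1, ?_⟩
  · rw [← hsum, add_mul, h1.eq, h21, add_zero]
  · rw [← hsum, mul_add, h1.eq, h12, add_zero]
  · have hxe : x * e = x := bp_corner_right he hx
    have hsplit : x = x * e₁ + x * e₂ := by rw [← mul_add, hsum, hxe]
    have hsq2 : x * e₂ * (x * e₂) - x * e₂ = (x * x - x) * e₂ := by
      calc x * e₂ * (x * e₂) - x * e₂ = x * (e₂ * x) * e₂ - x * e₂ := by simp only [mul_assoc]
        _ = x * x * (e₂ * e₂) - x * e₂ := by rw [hc2]; simp only [mul_assoc]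
        _ = (x * x - x) * e₂ := by rw [h2.eq, sub_mul]
    have hsq1 : x * e₁ * (x * e₁) - x * e₁ = (x * x - x) * e₁ := by
      calc x * e₁ * (x * e₁) - x * e₁ = x * (e₁ * x) * e₁ - x * e₁ := by simp only [mul_assoc]
        _ = x * x * (e₁ * e₁) - x * e₁ := by rw [hc1]; simp only [mul_assoc]
        _ = (x * x - x) * e₁ := by rw [h1.eq, sub_mul]
    have hA : ∀ n : ℕ, (x * e₂) ^ (n + 1) - x * e₂ ∈ bp_mG R Γ := by
      intro n
      induction n with
      | zero => simp
      | succ n ih =>
        have : (x * e₂) ^ (n + 1 + 1) - x * e₂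
            = ((x * e₂) ^ (n + 1) - x * e₂) * (x * e₂) + (x * e₂ * (x * e₂) - x * e₂) := by
          rw [pow_succ (x * e₂) (n + 1), sub_mul]; abel
        rw [this, hsq2]
        exact Submodule.add_mem _ (bp_mem_mG_mul ih _) (bp_mem_mG_mul hxx _)
    have hB : x * e₂ ∈ bp_mG R Γ := by
      obtain ⟨n, rfl⟩ : ∃ n, N = n + 1 := ⟨N - 1, by omega⟩
      have := Submodule.sub_mem _ hsmall (hA n)
      simpa using this
    have hC : x * e₁ - e₁ ∈ bp_mG R Γ := by
      have h3 : (x * e₁ * (x * e₁) - x * e₁) * w = x * e₁ - e₁ := by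
        rw [sub_mul, mul_assoc (x * e₁) (x * e₁) w, hw1, mul_assoc x e₁ e₁, h1.eq]
      rw [← h3, hsq1]
      exact bp_mem_mG_mul (bp_mem_mG_mul hxx _) _
    have : e₁ - x = -(x * e₁ - e₁) - x * e₂ := by
      conv_lhs => rw [hsplit]
      abel
    rw [this]
    exact Submodule.sub_mem _ (Submodule.neg_mem _ hC) hB

/-- THE CORNER OF A PRIMITIVE IDEMPOTENT IS SPLIT LOCAL: every element of the corner is a scalar
multiple of `e` plus a "small" element. -/
theorem bp_prim_scalar (e x : Γ) (he : bp_IsPrim e) (hx : e * x * e = x) :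
    ∃ c : R, ∃ N : ℕ, 0 < N ∧ (x - c • e) ^ N ∈ bp_mG R Γ := by
  have hex : e * x = x := bp_corner_left he.1 hx
  have hxe : x * e = x := bp_corner_right he.1 hx
  have hc : Commute e x := by rw [Commute, SemiconjBy, hex, hxe]
  obtain ⟨f, hfm, hf0⟩ := Algebra.IsIntegral.isIntegral (R := R) x
  obtain ⟨s, hs⟩ := SplitMonic.splits f hfm
  obtain ⟨l, rfl⟩ := Quot.exists_rep s
  have hfac : ∀ a : R, e * aeval x (X - C a) = x - a • e := by
    intro a
    rw [map_sub, aeval_X, aeval_C, mul_sub, hex, Algebra.algebraMap_eq_smul_one, mul_smul_comm,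
      mul_one]
  have key : ∀ l : List R, (∀ a ∈ l, bp_CornerUnit e (x - a • e)) →
      bp_CornerUnit e (e * aeval x ((l.map fun a => X - C a).prod)) := by
    intro l
    induction l with
    | nil =>
      intro _
      rw [List.map_nil, List.prod_nil, map_one, mul_one]
      exact bp_cornerUnit_self he.1
    | cons a l ih =>
      intro h
      rw [List.map_cons, List.prod_cons, ← bp_psi_mul he.1 hc, hfac]
      exact bp_cornerUnit_mul he.1 (h a List.mem_cons_self)
        (ih fun b hb => h b (List.mem_cons_of_mem _ hb))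
  by_contra hcon
  have hall : ∀ a ∈ l, bp_CornerUnit e (x - a • e) := by
    intro a _
    have hcorner : e * (x - a • e) * e = x - a • e := by
      rw [mul_sub, sub_mul, hx, mul_smul_comm, smul_mul_assoc, he.1.eq, he.1.eq]
    rcases bp_prim_dichotomy (R := R) e _ he hcorner with h | ⟨N, hN, hs⟩
    · exact h
    · exact absurd ⟨a, N, hN, hs⟩ hcon
  have h1 := key l hall
  have h2 : aeval x ((l.map fun a => X - C a).prod) = 0 := by
    have : f = (l.map fun a => X - C a).prod := by
      rw [hs]; simp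
    rw [← this]
    exact hf0
  rw [h2, mul_zero] at h1
  obtain ⟨-, y, -, hy, -⟩ := h1
  rw [zero_mul] at hy
  exact he.2.1 hy.symm

end extra

section algclosed

variable (R : Type*) [CommRing R] [IsLocalRing R] [SplitMonic R]

/-- `SplitMonic R` forces the residue field of `R` to be algebraically closed. -/
theorem bp_isAlgClosed_residueField : IsAlgClosed (IsLocalRing.ResidueField R) := by
  refine IsAlgClosed.of_exists_root _ ?_
  intro p hp hirr
  have hl : p ∈ Polynomial.lifts (IsLocalRing.residue R) := by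
    rw [Polynomial.mem_lifts]
    exact Polynomial.map_surjective _ IsLocalRing.residue_surjective p
  obtain ⟨q, hq, -, hqm⟩ := Polynomial.lifts_and_degree_eq_and_monic hl hp
  obtain ⟨s, hs⟩ := SplitMonic.splits q hqm
  have hne : s ≠ 0 := by
    rintro rfl
    rw [Multiset.map_zero, Multiset.prod_zero] at hs
    rw [hs, Polynomial.map_one] at hq
    exact hirr.not_isUnit (hq ▸ isUnit_one)
  obtain ⟨a, ha⟩ := Multiset.exists_mem_of_ne_zero hne
  refine ⟨IsLocalRing.residue R a, ?_⟩
  have hroot : q.eval a = 0 := by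
    rw [hs, Polynomial.eval_multiset_prod]
    refine Multiset.prod_eq_zero ?_
    rw [Multiset.mem_map]
    refine ⟨X - C a, Multiset.mem_map.2 ⟨a, ha, rfl⟩, by simp⟩
  rw [← hq, Polynomial.eval_map, Polynomial.eval₂_at_apply, hroot, map_zero]

end algclosed

end Cfsg.Agent.BP
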