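import Mathlib
import Cfsg.Agent.BP.Bridge
import Cfsg.Agent.BP.Defect

/-!
# BP / L7.C : conjugation of local idempotents and of their blocks

For `x : G`, a subgroup `T` and `a ∈ RG`, the Brauer image of `x a x⁻¹` at `x T x⁻¹` is the
transport of the Brauer image of `a` at `T` under `c ↦ x c x⁻¹` (no fixedness hypothesis needed).
Consequences: `br` vanishes at the conjugate iff it vanishes (`bp_lpc_brFun_conj_eq_zero_iff`);
primitive idempotents of `(RG)^{Q ⊔ C}` are transported to primitive idempotents of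
`(RG)^{xQx⁻¹ ⊔ C}` when `x` centralizes `C`; and the block of a local idempotent is transported by
`Cfsg.conjBlock`.
-/

set_option autoImplicit false

namespace Cfsg.Agent.BP

open Cfsg.Agent.Helper6 Cfsg.Agent.Helper6.Cov

section general

variable {R : Type*} [CommRing R] [IsLocalRing R] {G : Type*} [Group G]

/-- **Transport of the Brauer map under conjugation**, for arbitrary elements of `RG`. -/
theorem bp_lpc_brFun_conj (T : Subgroup G) (x : G) (a : MonoidAlgebra R G) :
    bp_brFun (T.map (MulAut.conj x).toMonoidHom) (bp_conj x a) =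
      MonoidAlgebra.domCongr (IsLocalRing.ResidueField R) (IsLocalRing.ResidueField R)
        (bp_centConj x T) (bp_brFun T a) := by
  ext c
  rw [bp_brFun_coeff, MonoidAlgebra.coeff_domCongr, bp_brFun_coeff, bp_conj_coeff]
  rfl

/-- (c1) `br_{xTx⁻¹}(x a x⁻¹) = 0 ↔ br_T(a) = 0`, for all `x : G`. -/
theorem bp_lpc_brFun_conj_eq_zero_iff (T : Subgroup G) (x : G) (a : MonoidAlgebra R G) :
    bp_brFun (T.map (MulAut.conj x).toMonoidHom) (bp_conj x a) = 0 ↔ bp_brFun T a = 0 := by
  rw [bp_lpc_brFun_conj]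
  exact (MonoidAlgebra.domCongr (IsLocalRing.ResidueField R) (IsLocalRing.ResidueField R)
    (bp_centConj x T)).map_eq_zero_iff

theorem bp_lpc_brFun_conj_ne_zero (T : Subgroup G) (x : G) (a : MonoidAlgebra R G)
    (h : bp_brFun T a ≠ 0) :
    bp_brFun (T.map (MulAut.conj x).toMonoidHom) (bp_conj x a) ≠ 0 :=
  fun h0 => h ((bp_lpc_brFun_conj_eq_zero_iff T x a).mp h0)

omit [IsLocalRing R] in
/-- a subgroup is fixed by conjugation with an element centralizing it. -/
theorem bp_lpc_map_conj_eq_of_centralizer (C : Subgroup G) (x : G)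
    (hx : x ∈ Subgroup.centralizer (C : Set G)) : C.map (MulAut.conj x).toMonoidHom = C := by
  have hcomm : ∀ c ∈ C, c * x = x * c := fun c hc => Subgroup.mem_centralizer_iff.mp hx c hc
  ext c
  rw [bp_mem_map_conj]
  constructor
  · intro h
    have h1 := hcomm _ h
    -- x⁻¹ * c * x * x = x * (x⁻¹ * c * x)
    have h2 : c = x⁻¹ * c * x := by
      have : x⁻¹ * c * x * x = c * x := by rw [h1]; group
      exact (mul_right_cancel this).symm
    rw [h2]
    exact h
  · intro h
    have h1 := hcomm c h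
    have h2 : x⁻¹ * c * x = c := by
      rw [mul_assoc, h1]; group
    rw [h2]
    exact h

omit [IsLocalRing R] in
/-- (c2) primitive idempotents of `(RG)^{Q ⊔ C}` are transported to primitive idempotents of
`(RG)^{xQx⁻¹ ⊔ C}` by an element `x` centralizing `C`. -/
theorem bp_lpc_isPrimFix_conj (Q C : Subgroup G) (x : G)
    (hx : x ∈ Subgroup.centralizer (C : Set G)) (ι : MonoidAlgebra R G)
    (hι : bp_IsPrimFix (Q ⊔ C) ι) :
    bp_IsPrimFix (Q.map (MulAut.conj x).toMonoidHom ⊔ C) (bp_conj x ι) := by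
  have h := bp_isPrimFix_conj x (Q ⊔ C) ι hι
  rwa [Subgroup.map_sup, bp_lpc_map_conj_eq_of_centralizer C x hx] at h

omit [IsLocalRing R] in
/-- (c2), in the form used for `x ∈ S`, `C ≤ C_G(S)`. -/
theorem bp_lpc_isPrimFix_conj_of_mem (Q C S : Subgroup G)
    (hCS : C ≤ Subgroup.centralizer (S : Set G)) (x : G) (hx : x ∈ S) (ι : MonoidAlgebra R G)
    (hι : bp_IsPrimFix (Q ⊔ C) ι) :
    bp_IsPrimFix (Q.map (MulAut.conj x).toMonoidHom ⊔ C) (bp_conj x ι) := by
  apply bp_lpc_isPrimFix_conj Q C x _ ι hι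
  rw [Subgroup.mem_centralizer_iff]
  intro c hc
  exact (Subgroup.mem_centralizer_iff.mp (hCS hc) x hx).symm

end general

section rloc

universe u

variable {G : Type u} [Group G] [Finite G] {M : Ideal Cfsg.AlgInt}

/-- `(conjBlock Q x g)‾` is the transport of `ḡ` under `c ↦ x c x⁻¹`. -/
theorem bp_lpc_blockBar_conj (hM : M.IsMaximal) (Q : Subgroup G) (x : G)
    (g : Set (Cfsg.IrrCharacter (Subgroup.centralizer (Q : Set G)))) :
    bp_blockBar hM (Cfsg.conjBlock Q x g) =
      MonoidAlgebra.domCongr (IsLocalRing.ResidueField (Rloc hM))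
        (IsLocalRing.ResidueField (Rloc hM)) (bp_centConj x Q) (bp_blockBar hM g) := by
  rw [← bp_brFun_pairIdem, ← bp_conj_pairIdem, bp_lpc_brFun_conj, bp_brFun_pairIdem]

/-- transport of `br_Q(ι) ḡ` under conjugation. -/
theorem bp_lpc_brFun_mul_blockBar_conj (hM : M.IsMaximal) (Q : Subgroup G) (x : G)
    (g : Set (Cfsg.IrrCharacter (Subgroup.centralizer (Q : Set G))))
    (ι : MonoidAlgebra (Rloc hM) G) :
    bp_brFun (Q.map (MulAut.conj x).toMonoidHom) (bp_conj x ι) *
        bp_blockBar hM (Cfsg.conjBlock Q x g) =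
      MonoidAlgebra.domCongr (IsLocalRing.ResidueField (Rloc hM))
        (IsLocalRing.ResidueField (Rloc hM)) (bp_centConj x Q)
        (bp_brFun Q ι * bp_blockBar hM g) := by
  rw [bp_lpc_brFun_conj, bp_lpc_blockBar_conj, map_mul]

/-- (c3) if `g` is the block of `ι` at `Q` then `conjBlock Q x g` is the block of `x ι x⁻¹` at
`x Q x⁻¹`. -/
theorem bp_lpc_block_conj (hM : M.IsMaximal) (Q : Subgroup G) (x : G)
    (g : Set (Cfsg.IrrCharacter (Subgroup.centralizer (Q : Set G))))
    (ι : MonoidAlgebra (Rloc hM) G)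
    (h : bp_brFun Q ι * bp_blockBar hM g = bp_brFun Q ι) :
    bp_brFun (Q.map (MulAut.conj x).toMonoidHom) (bp_conj x ι) *
        bp_blockBar hM (Cfsg.conjBlock Q x g) =
      bp_brFun (Q.map (MulAut.conj x).toMonoidHom) (bp_conj x ι) := by
  rw [bp_lpc_brFun_mul_blockBar_conj, h, bp_lpc_brFun_conj]

/-- `br_{xQx⁻¹}(x ι x⁻¹) (conjBlock Q x g)‾ = 0 ↔ br_Q(ι) ḡ = 0`. -/
theorem bp_lpc_brFun_mul_blockBar_conj_eq_zero_iff (hM : M.IsMaximal) (Q : Subgroup G) (x : G)
    (g : Set (Cfsg.IrrCharacter (Subgroup.centralizer (Q : Set G))))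
    (ι : MonoidAlgebra (Rloc hM) G) :
    bp_brFun (Q.map (MulAut.conj x).toMonoidHom) (bp_conj x ι) *
        bp_blockBar hM (Cfsg.conjBlock Q x g) = 0 ↔
      bp_brFun Q ι * bp_blockBar hM g = 0 := by
  rw [bp_lpc_brFun_mul_blockBar_conj]
  exact (MonoidAlgebra.domCongr (IsLocalRing.ResidueField (Rloc hM))
    (IsLocalRing.ResidueField (Rloc hM)) (bp_centConj x Q)).map_eq_zero_iff

/-- **L7.C packaged**: a local idempotent `ι` at `Q` (primitive in `(RG)^{Q ⊔ C}`, `br_Q ι ≠ 0`)
with block `g` is transported by `x` centralizing `C` to a local idempotent at `x Q x⁻¹` with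
block `conjBlock Q x g`. -/
theorem bp_lpc_local_conj (hM : M.IsMaximal) (Q C : Subgroup G) (x : G)
    (hx : x ∈ Subgroup.centralizer (C : Set G)) (ι : MonoidAlgebra (Rloc hM) G)
    (hι : bp_IsPrimFix (R := Rloc hM) (Q ⊔ C) ι) (hloc : bp_brFun Q ι ≠ 0)
    (g : Set (Cfsg.IrrCharacter (Subgroup.centralizer (Q : Set G))))
    (hg : bp_brFun Q ι * bp_blockBar hM g = bp_brFun Q ι) :
    bp_IsPrimFix (R := Rloc hM) (Q.map (MulAut.conj x).toMonoidHom ⊔ C) (bp_conj x ι) ∧
      bp_brFun (Q.map (MulAut.conj x).toMonoidHom) (bp_conj x ι) ≠ 0 ∧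
      bp_brFun (Q.map (MulAut.conj x).toMonoidHom) (bp_conj x ι) *
          bp_blockBar hM (Cfsg.conjBlock Q x g) =
        bp_brFun (Q.map (MulAut.conj x).toMonoidHom) (bp_conj x ι) :=
  ⟨bp_lpc_isPrimFix_conj Q C x hx ι hι, bp_lpc_brFun_conj_ne_zero Q x ι hloc,
    bp_lpc_block_conj hM Q x g ι hg⟩

end rloc

end Cfsg.Agent.BP
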