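import Mathlib
import Cfsg.Prelude.Def_Characters
import Cfsg.Prelude.Def_Blocks
import Cfsg.Prelude.Def_BlockLocal
import Cfsg.Prelude.Def_BrauerPairs
import Cfsg.Agent.BP.StarDef
import Cfsg.Agent.Helper6.NilpotentSubpairs
import Cfsg.Agent.Helper6.HtCenF
import Cfsg.Agent.Helper6.K4H
import Cfsg.Agent.Helper6.AbelianInertial1
import Cfsg.Agent.Helper6.SubpairUnique
import Cfsg.Agent.Helper6.CentPairs

/-!
# BP §10 (nilpotent blocks), part A: the subpairs `(⟨u⟩, e_u) ≤ (D, e)` on the cyclic subgroups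

`bp_pairAt p M D e u` is the pair `(⟨u⟩, e_u)` below `(D, e)` (for `u ∈ D`).  We collect its
behaviour under conjugation and, for a nilpotent block, the description of the elements `h` with
`(⟨u⟩, e_u)^h ≤ (D, e)` as the products `v c`, `v ∈ D`, `c ∈ C_G(u)`.
-/

set_option autoImplicit false
set_option linter.style.haveILetI false

namespace Cfsg.Agent.BP

open Cfsg.Agent.Helper6 Cfsg.Agent.Helper6.Maj Cfsg.Agent.Helper6.K4

universe u

variable {G : Type u} [Group G] {M : Ideal Cfsg.AlgInt}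

/-- the pair `(⟨u⟩, e_u)` below `(D, e)`; a junk pair on `⟨u⟩` if there is none -/
noncomputable def bp_pairAt (p : ℕ) (M : Ideal Cfsg.AlgInt) (D : Subgroup G)
    (e : Set (Cfsg.IrrCharacter (Subgroup.centralizer (D : Set G)))) (u : G) :
    Cfsg.BrauerPairIdx G := by
  classical exact
    if h : ∃ a : Cfsg.BrauerPairIdx G, a.1 = Subgroup.zpowers u ∧
        Relation.ReflTransGen (Cfsg.NormalSubpairRel p M) a ⟨D, e⟩ then h.choose
    else ⟨Subgroup.zpowers u, ∅⟩

theorem bp_pairAt_fst (p : ℕ) (D : Subgroup G)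
    (e : Set (Cfsg.IrrCharacter (Subgroup.centralizer (D : Set G)))) (u : G) :
    (bp_pairAt p M D e u).1 = Subgroup.zpowers u := by
  unfold bp_pairAt
  split_ifs with h
  · exact h.choose_spec.1
  · rfl

/-- existence of the pair on `⟨u⟩` below `(D, e)` -/
theorem bp_exists_pair [Fintype G] {p : ℕ} [hp : Fact p.Prime] (hM : Cfsg.IsPModular p M)
    (D : Subgroup G) (e : Set (Cfsg.IrrCharacter (Subgroup.centralizer (D : Set G))))
    (hDe : Cfsg.IsBrauerPair p M D e) (u : G) (hu : u ∈ D) :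
    ∃ a : Cfsg.BrauerPairIdx G, a.1 = Subgroup.zpowers u ∧
        Relation.ReflTransGen (Cfsg.NormalSubpairRel p M) a ⟨D, e⟩ := by
  obtain ⟨f, ⟨-, hf⟩, -⟩ := existsUnique_subpairLE hM D (Subgroup.zpowers u) e hDe
    (by rw [Subgroup.zpowers_le]; exact hu)
  exact ⟨⟨Subgroup.zpowers u, f⟩, rfl, hf⟩

theorem bp_pairAt_le [Fintype G] {p : ℕ} [hp : Fact p.Prime] (hM : Cfsg.IsPModular p M)
    (D : Subgroup G) (e : Set (Cfsg.IrrCharacter (Subgroup.centralizer (D : Set G))))
    (hDe : Cfsg.IsBrauerPair p M D e) (u : G) (hu : u ∈ D) :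
    Relation.ReflTransGen (Cfsg.NormalSubpairRel p M) (bp_pairAt p M D e u) ⟨D, e⟩ := by
  have h := bp_exists_pair hM D e hDe u hu
  unfold bp_pairAt
  rw [dif_pos h]
  exact h.choose_spec.2

/-- two pairs below `(D, e)` on the same subgroup are equal -/
theorem bp_pair_unique [Fintype G] {p : ℕ} [hp : Fact p.Prime] (hM : Cfsg.IsPModular p M)
    (D : Subgroup G) (e : Set (Cfsg.IrrCharacter (Subgroup.centralizer (D : Set G))))
    (hDe : Cfsg.IsBrauerPair p M D e) (a a' : Cfsg.BrauerPairIdx G)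
    (ha : Relation.ReflTransGen (Cfsg.NormalSubpairRel p M) a ⟨D, e⟩)
    (ha' : Relation.ReflTransGen (Cfsg.NormalSubpairRel p M) a' ⟨D, e⟩) (h : a.1 = a'.1) :
    a = a' := by
  obtain ⟨Q, f⟩ := a
  obtain ⟨Q', f'⟩ := a'
  simp only at h
  subst h
  have hQD : Q ≤ D := SubpairLE.le' _ _ ha
  rw [subpairLE_unique hM _ D Q e hDe hQD rfl f f' ha ha']

theorem bp_eq_pairAt [Fintype G] {p : ℕ} [hp : Fact p.Prime] (hM : Cfsg.IsPModular p M)
    (D : Subgroup G) (e : Set (Cfsg.IrrCharacter (Subgroup.centralizer (D : Set G))))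
    (hDe : Cfsg.IsBrauerPair p M D e) (a : Cfsg.BrauerPairIdx G) (u : G)
    (ha : Relation.ReflTransGen (Cfsg.NormalSubpairRel p M) a ⟨D, e⟩)
    (h : a.1 = Subgroup.zpowers u) : a = bp_pairAt p M D e u := by
  have hu : u ∈ D := by
    have h1 : a.1 ≤ D := SubpairLE.le' _ _ ha
    rw [h] at h1
    exact h1 (Subgroup.mem_zpowers u)
  exact bp_pair_unique hM D e hDe a _ ha (bp_pairAt_le hM D e hDe u hu)
    (h.trans (bp_pairAt_fst p D e u).symm)


/-- the block of the pair at `u` is a block -/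
theorem bp_pairAt_isPBlock [Fintype G] {p : ℕ} [hp : Fact p.Prime] (hM : Cfsg.IsPModular p M)
    (B : Set (Cfsg.IrrCharacter G)) (D : Subgroup G)
    (e : Set (Cfsg.IrrCharacter (Subgroup.centralizer (D : Set G))))
    (hDe : Cfsg.IsBrauerPairOf p M B D e) (u : G) (hu : u ∈ D) :
    Cfsg.IsBrauerPairOf p M B (bp_pairAt p M D e u).1 (bp_pairAt p M D e u).2 :=
  isBrauerPairOf_of_subpairLE hM D _ e _ (bp_pairAt_le hM D e hDe.1 u hu) B hDe

/-- conjugation by an element of `D` -/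
theorem bp_conjPair_pairAt_of_mem [Fintype G] {p : ℕ} [hp : Fact p.Prime]
    (hM : Cfsg.IsPModular p M) (D : Subgroup G)
    (e : Set (Cfsg.IrrCharacter (Subgroup.centralizer (D : Set G))))
    (hDe : Cfsg.IsBrauerPair p M D e) (u : G) (hu : u ∈ D) (v : G) (hv : v ∈ D) :
    conjPair v (bp_pairAt p M D e u) = bp_pairAt p M D e (v * u * v⁻¹) := by
  apply bp_eq_pairAt hM D e hDe
  · have h1 := reflTransGen_conjPair (M := M) (p := p) v _ _ (bp_pairAt_le hM D e hDe u hu)
    rwa [conjPair_of_mem D e v hv] at h1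
  · show (bp_pairAt p M D e u).1.map (MulAut.conj v).toMonoidHom = _
    rw [bp_pairAt_fst, map_conj_zpowers]

/-- conjugation by an element of `C_G(u)` -/
theorem bp_conjPair_pairAt_of_centralizer [Fintype G] {p : ℕ} [hp : Fact p.Prime]
    (hM : Cfsg.IsPModular p M) (B : Set (Cfsg.IrrCharacter G)) (D : Subgroup G)
    (e : Set (Cfsg.IrrCharacter (Subgroup.centralizer (D : Set G))))
    (hDe : Cfsg.IsBrauerPairOf p M B D e) (u : G) (hu : u ∈ D) (c : G)
    (hc : c ∈ Subgroup.centralizer (Subgroup.zpowers u : Set G)) :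
    conjPair c (bp_pairAt p M D e u) = bp_pairAt p M D e u := by
  have hB := bp_pairAt_isPBlock hM B D e hDe u hu
  obtain ⟨f, hf⟩ := HtCen.pair_eq_mk (Subgroup.zpowers u) (bp_pairAt p M D e u)
    (bp_pairAt_fst p D e u)
  rw [hf] at hB ⊢
  have hcs : c ∈ Subgroup.zpowers u ⊔ Subgroup.centralizer (Subgroup.zpowers u : Set G) :=
    (le_sup_right : _ ≤ Subgroup.zpowers u ⊔ Subgroup.centralizer (Subgroup.zpowers u : Set G)) hc
  exact conjPair_eq_self_of_stabilizes hM.2.1 _ f hB.1.2 c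
    (Subgroup.centralizer_le_normalizer _ hc) (stabilizesBlock_of_mem_sup _ f c hcs)


/-- **nilpotent blocks**: the elements carrying `(⟨u⟩, e_u)` to a pair below `(D, e)` are the
products `v c` with `v ∈ D`, `c ∈ C_G(u)` -/
theorem bp_conjPair_pairAt_le_iff [Fintype G] {p : ℕ} [hp : Fact p.Prime]
    (hM : Cfsg.IsPModular p M) (B : Set (Cfsg.IrrCharacter G)) (D : Subgroup G)
    (e : Set (Cfsg.IrrCharacter (Subgroup.centralizer (D : Set G))))
    (hmax : Cfsg.IsMaximalBrauerPair p M B D e) (hnil : Cfsg.IsNilpotentBlock p M B)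
    (u : G) (hu : u ∈ D) (h : G) :
    Relation.ReflTransGen (Cfsg.NormalSubpairRel p M) (conjPair h (bp_pairAt p M D e u)) ⟨D, e⟩ ↔
      ∃ v ∈ D, ∃ c ∈ Subgroup.centralizer (Subgroup.zpowers u : Set G), h = v * c := by
  have hDe := hmax.1
  constructor
  · intro hle
    have hB := bp_pairAt_isPBlock hM B D e hDe u hu
    have hle0 := bp_pairAt_le hM D e hDe.1 u hu
    obtain ⟨f, hf⟩ := HtCen.pair_eq_mk (Subgroup.zpowers u) (bp_pairAt p M D e u)
      (bp_pairAt_fst p D e u)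
    rw [hf] at hB hle hle0
    obtain ⟨v, hvD, hv⟩ := exists_conj_eq_of_nilpotent hM B D e hmax hnil _ (Subgroup.zpowers u) f
      rfl (by rw [Subgroup.zpowers_le]; exact hu) hB.1.2 hle0 h hle
    refine ⟨v, hvD, v⁻¹ * h, ?_, by group⟩
    rw [Subgroup.mem_centralizer_iff]
    intro q hq
    have h1 := hv q hq
    calc q * (v⁻¹ * h) = v⁻¹ * (v * q * v⁻¹) * h := by group
      _ = v⁻¹ * (h * q * h⁻¹) * h := by rw [h1]
      _ = v⁻¹ * h * q := by group
  · rintro ⟨v, hvD, c, hc, rfl⟩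
    rw [← conjPair_conjPair, bp_conjPair_pairAt_of_centralizer hM B D e hDe u hu c hc,
      bp_conjPair_pairAt_of_mem hM D e hDe.1 u hu v hvD]
    exact bp_pairAt_le hM D e hDe.1 _ (D.mul_mem (D.mul_mem hvD hu) (D.inv_mem hvD))


/-- the fibres of the multiplication map `D × K → G` -/
noncomputable def bp_fiberEquiv (D K : Subgroup G) (v₀ : D) (c₀ : K) :
    {x : D × K // (x.1 : G) * (x.2 : G) = (v₀ : G) * (c₀ : G)} ≃ (D ⊓ K : Subgroup G) where
  toFun x := ⟨(v₀ : G)⁻¹ * (x.1.1 : G), by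
    refine ⟨D.mul_mem (D.inv_mem v₀.2) x.1.1.2, ?_⟩
    obtain ⟨⟨v, c⟩, h⟩ := x
    simp only at h ⊢
    have : (v₀ : G)⁻¹ * (v : G) = (c₀ : G) * (c : G)⁻¹ := by
      rw [inv_mul_eq_iff_eq_mul, ← mul_assoc, ← h, mul_inv_cancel_right]
    rw [this]
    exact K.mul_mem c₀.2 (K.inv_mem c.2)⟩
  invFun y := ⟨(v₀ * ⟨(y : G), y.2.1⟩, (⟨(y : G), y.2.2⟩ : K)⁻¹ * c₀), by
    simp only [Subgroup.coe_mul, Subgroup.coe_inv]
    group⟩
  left_inv x := by
    obtain ⟨⟨v, c⟩, h⟩ := x
    simp only at h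
    apply Subtype.ext
    apply Prod.ext
    · apply Subtype.ext
      simp
    · apply Subtype.ext
      simp only [Subgroup.coe_mul, Subgroup.coe_inv, mul_inv_rev, inv_inv]
      rw [mul_assoc, ← h]
      group
  right_inv y := by
    apply Subtype.ext
    simp

theorem bp_card_mul_set [Finite G] (D K : Subgroup G) :
    Nat.card {h : G // ∃ v ∈ D, ∃ c ∈ K, h = v * c} *
      Nat.card (D ⊓ K : Subgroup G) = Nat.card D * Nat.card K := by
  classical
  haveI : Fintype G := Fintype.ofFinite G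
  have h1 : (Finset.univ : Finset (D × K)).card =
      ∑ h ∈ Finset.univ.filter (fun h : G => ∃ v ∈ D, ∃ c ∈ K, h = v * c),
        ((Finset.univ : Finset (D × K)).filter (fun x => (x.1 : G) * (x.2 : G) = h)).card := by
    apply Finset.card_eq_sum_card_fiberwise
    intro x _
    simp only [Finset.mem_coe, Finset.mem_filter, Finset.mem_univ, true_and]
    exact ⟨x.1, x.1.2, x.2, x.2.2, rfl⟩
  have h2 : ∀ h ∈ Finset.univ.filter (fun h : G => ∃ v ∈ D, ∃ c ∈ K, h = v * c),
      ((Finset.univ : Finset (D × K)).filter (fun x => (x.1 : G) * (x.2 : G) = h)).card =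
        Nat.card (D ⊓ K : Subgroup G) := by
    intro h hh
    obtain ⟨v, hv, c, hc, rfl⟩ := (Finset.mem_filter.mp hh).2
    rw [← Fintype.card_subtype, ← Nat.card_eq_fintype_card]
    exact Nat.card_congr (bp_fiberEquiv D K ⟨v, hv⟩ ⟨c, hc⟩)
  rw [Finset.sum_congr rfl h2, Finset.sum_const, smul_eq_mul, Finset.card_univ,
    Fintype.card_prod] at h1
  rw [Nat.card_eq_fintype_card (α := {h : G // ∃ v ∈ D, ∃ c ∈ K, h = v * c}),
    Fintype.card_subtype, ← h1, Nat.card_eq_fintype_card, Nat.card_eq_fintype_card]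

/-- a sum over the image of a map, as a sum over the source weighted by the fibres -/
theorem bp_sum_image_fiber {α β : Type*} [DecidableEq β] (S : Finset α) (φ : α → β) (g : β → ℂ) :
    ∑ y ∈ S.image φ, g y =
      ∑ t ∈ S, g (φ t) / ((S.filter (fun t' => φ t' = φ t)).card : ℂ) := by
  apply Finset.sum_image'
  intro i hi
  have h1 : ∀ j ∈ S.filter (fun j => φ j = φ i),
      g (φ j) / ((S.filter (fun t' => φ t' = φ j)).card : ℂ) =
      g (φ i) / ((S.filter (fun t' => φ t' = φ i)).card : ℂ) := by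
    intro j hj
    rw [(Finset.mem_filter.mp hj).2]
  rw [Finset.sum_congr rfl h1, Finset.sum_const, nsmul_eq_mul]
  have hpos : 0 < (S.filter (fun t' => φ t' = φ i)).card :=
    Finset.card_pos.mpr ⟨i, Finset.mem_filter.mpr ⟨hi, rfl⟩⟩
  have hne : ((S.filter (fun t' => φ t' = φ i)).card : ℂ) ≠ 0 := by exact_mod_cast hpos.ne'
  field_simp

end Cfsg.Agent.BP
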