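import Mathlib
import Cfsg.Prelude.Def_Characters
import Cfsg.Prelude.Def_Blocks
import Cfsg.Prelude.Def_BlockLocal
import Cfsg.Prelude.Def_BrauerPairs
import Cfsg.Agent.BP.NilA
import Cfsg.Agent.Helper6.HtCenD
import Cfsg.Agent.Helper6.IndFun
import Cfsg.Agent.Helper6.SectionCountA

/-!
# BP §10 (nilpotent blocks), part B: the inner product of `η * χ` and `η' * χ'` as a sum over `D`

For a nilpotent block with maximal pair `(D, e)`, stable `η, η'` and class functions `χ, χ'`,
`⟨η * χ, η' * χ'⟩ = ∑_{u ∈ D} |C_D(u)|/|D| · η(u) conj(η'(u)) · m^{(u, e_u)}_{χχ'}`.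
The formula per `p`-section (a consequence of the definition of `*` and of the orthogonality of the
block projections on `p`-regular elements) is a hypothesis here.
-/

set_option autoImplicit false
set_option linter.style.haveILetI false

namespace Cfsg.Agent.BP

open Cfsg.Agent.Helper6 Cfsg.Agent.Helper6.Maj Cfsg.Agent.Helper6.K4 Cfsg.Agent.Helper6.HtCen

open scoped ComplexConjugate

universe u

variable {G : Type u} [Group G] {M : Ideal Cfsg.AlgInt}

/-- the pair on `⟨z⟩` obtained by pulling back the pair at `t z t⁻¹` -/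
noncomputable def bp_pullPair (p : ℕ) (M : Ideal Cfsg.AlgInt) (D : Subgroup G)
    (e : Set (Cfsg.IrrCharacter (Subgroup.centralizer (D : Set G)))) (z t : G) :
    Cfsg.BrauerPairIdx G :=
  conjPair t⁻¹ (bp_pairAt p M D e (t * z * t⁻¹))

theorem bp_pullPair_fst (p : ℕ) (D : Subgroup G)
    (e : Set (Cfsg.IrrCharacter (Subgroup.centralizer (D : Set G)))) (z t : G) :
    (bp_pullPair p M D e z t).1 = Subgroup.zpowers z := by
  show (bp_pairAt p M D e (t * z * t⁻¹)).1.map (MulAut.conj t⁻¹).toMonoidHom = _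
  rw [bp_pairAt_fst, map_conj_zpowers]
  congr 1
  group

theorem bp_conjPair_pullPair (p : ℕ) (D : Subgroup G)
    (e : Set (Cfsg.IrrCharacter (Subgroup.centralizer (D : Set G)))) (z t : G) :
    conjPair t (bp_pullPair p M D e z t) = bp_pairAt p M D e (t * z * t⁻¹) := by
  unfold bp_pullPair
  rw [conjPair_conjPair, mul_inv_cancel, conjPair_one]

/-- the summand of the section formula at a pulled back pair -/
theorem bp_term_pullPair [Fintype G] {p : ℕ} [hp : Fact p.Prime] (hM : Cfsg.IsPModular p M)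
    (D : Subgroup G) (e : Set (Cfsg.IrrCharacter (Subgroup.centralizer (D : Set G))))
    (hDe : Cfsg.IsBrauerPair p M D e)
    (η η' : D → ℂ) (hη : bp_stable p M D e η) (hη' : bp_stable p M D e η')
    (χ χ' : G → ℂ) (hχ : Cfsg.IsClassFunction G χ) (hχ' : Cfsg.IsClassFunction G χ')
    (z t : G) (ht : t * z * t⁻¹ ∈ D) :
    bp_etaAt p M D e η (bp_pullPair p M D e z t) z *
        conj (bp_etaAt p M D e η' (bp_pullPair p M D e z t) z) *
        contribP p (bp_pullPair p M D e z t) χ χ' z =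
      Cfsg.extendByZero D η (t * z * t⁻¹) * conj (Cfsg.extendByZero D η' (t * z * t⁻¹)) *
        contribP p (bp_pairAt p M D e (t * z * t⁻¹)) χ χ' (t * z * t⁻¹) := by
  have hz : z ∈ (bp_pullPair p M D e z t).1 := by
    rw [bp_pullPair_fst]; exact Subgroup.mem_zpowers z
  have hle : Relation.ReflTransGen (Cfsg.NormalSubpairRel p M)
      (conjPair t (bp_pullPair p M D e z t)) ⟨D, e⟩ := by
    rw [bp_conjPair_pullPair]
    exact bp_pairAt_le hM D e hDe _ ht
  rw [bp_etaAt_eq D e η hη _ z hz t hle, bp_etaAt_eq D e η' hη' _ z hz t hle,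
    ← contribP_conjPair p t (bp_pullPair p M D e z t) χ χ' hχ hχ' z, bp_conjPair_pullPair]

/-- the pairs on `⟨z⟩` at which the summand of the section formula does not vanish are pulled
back from `D` -/
theorem bp_exists_pullPair_of_ne [Fintype G] {p : ℕ} [hp : Fact p.Prime]
    (hM : Cfsg.IsPModular p M)
    (D : Subgroup G) (e : Set (Cfsg.IrrCharacter (Subgroup.centralizer (D : Set G))))
    (hDe : Cfsg.IsBrauerPair p M D e) (η : D → ℂ) (z : G) (a : Cfsg.BrauerPairIdx G)
    (ha : a.1 = Subgroup.zpowers z) (hne : bp_etaAt p M D e η a z ≠ 0) :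
    ∃ t : G, t * z * t⁻¹ ∈ D ∧ a = bp_pullPair p M D e z t := by
  by_cases hex : ∃ t : G, Relation.ReflTransGen (Cfsg.NormalSubpairRel p M) (conjPair t a) ⟨D, e⟩
  · obtain ⟨t, ht⟩ := hex
    have hfst : (conjPair t a).1 = Subgroup.zpowers (t * z * t⁻¹) := by
      show a.1.map (MulAut.conj t).toMonoidHom = _
      rw [ha, map_conj_zpowers]
    have htD : t * z * t⁻¹ ∈ D := by
      have h1 : (conjPair t a).1 ≤ D := SubpairLE.le' _ _ ht
      rw [hfst] at h1
      exact h1 (Subgroup.mem_zpowers _)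
    refine ⟨t, htD, ?_⟩
    have h2 := bp_eq_pairAt hM D e hDe (conjPair t a) (t * z * t⁻¹) ht hfst
    unfold bp_pullPair
    rw [← h2, conjPair_conjPair, inv_mul_cancel, conjPair_one]
  · exact absurd (bp_etaAt_of_not_exists D e η a z hex) hne


/-- **nilpotent blocks**: the fibres of `t ↦ bp_pullPair z t` -/
theorem bp_pullPair_eq_iff [Fintype G] {p : ℕ} [hp : Fact p.Prime]
    (hM : Cfsg.IsPModular p M) (B : Set (Cfsg.IrrCharacter G)) (D : Subgroup G)
    (e : Set (Cfsg.IrrCharacter (Subgroup.centralizer (D : Set G))))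
    (hmax : Cfsg.IsMaximalBrauerPair p M B D e) (hnil : Cfsg.IsNilpotentBlock p M B)
    (z t t' : G) (ht : t * z * t⁻¹ ∈ D) :
    (t' * z * t'⁻¹ ∈ D ∧ bp_pullPair p M D e z t' = bp_pullPair p M D e z t) ↔
      ∃ v ∈ D, ∃ c ∈ Subgroup.centralizer (Subgroup.zpowers (t * z * t⁻¹) : Set G),
        t' * t⁻¹ = v * c := by
  have hDe := hmax.1
  have hu' : t' * t⁻¹ * (t * z * t⁻¹) * (t' * t⁻¹)⁻¹ = t' * z * t'⁻¹ := by group
  constructor
  · rintro ⟨ht', heq⟩
    rw [← bp_conjPair_pairAt_le_iff hM B D e hmax hnil _ ht]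
    have h1 : conjPair (t' * t⁻¹) (bp_pairAt p M D e (t * z * t⁻¹)) =
        bp_pairAt p M D e (t' * z * t'⁻¹) := by
      rw [← bp_conjPair_pullPair p D e z t', heq]
      unfold bp_pullPair
      rw [conjPair_conjPair]
    rw [h1]
    exact bp_pairAt_le hM D e hDe.1 _ ht'
  · intro h
    have hle := (bp_conjPair_pairAt_le_iff hM B D e hmax hnil _ ht (t' * t⁻¹)).mpr h
    have hfst : (conjPair (t' * t⁻¹) (bp_pairAt p M D e (t * z * t⁻¹))).1 =
        Subgroup.zpowers (t' * z * t'⁻¹) := by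
      show (bp_pairAt p M D e (t * z * t⁻¹)).1.map (MulAut.conj (t' * t⁻¹)).toMonoidHom = _
      rw [bp_pairAt_fst, map_conj_zpowers, hu']
    have ht' : t' * z * t'⁻¹ ∈ D := by
      have h1 : (conjPair (t' * t⁻¹) (bp_pairAt p M D e (t * z * t⁻¹))).1 ≤ D :=
        SubpairLE.le' _ _ hle
      rw [hfst] at h1
      exact h1 (Subgroup.mem_zpowers _)
    refine ⟨ht', ?_⟩
    have h2 := bp_eq_pairAt hM D e hDe.1 _ _ hle hfst
    unfold bp_pullPair
    rw [← h2, conjPair_conjPair]
    congr 1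
    group


/-- **nilpotent blocks**: the size of the fibres of `t ↦ bp_pullPair z t` -/
theorem bp_card_fiber_pullPair [Fintype G] {p : ℕ} [hp : Fact p.Prime]
    (hM : Cfsg.IsPModular p M) (B : Set (Cfsg.IrrCharacter G)) (D : Subgroup G)
    (e : Set (Cfsg.IrrCharacter (Subgroup.centralizer (D : Set G))))
    (hmax : Cfsg.IsMaximalBrauerPair p M B D e) (hnil : Cfsg.IsNilpotentBlock p M B)
    (z t : G) (ht : t * z * t⁻¹ ∈ D) :
    Nat.card {t' : G // t' * z * t'⁻¹ ∈ D ∧
        bp_pullPair p M D e z t' = bp_pullPair p M D e z t} *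
      Nat.card (D ⊓ Subgroup.centralizer (Subgroup.zpowers (t * z * t⁻¹) : Set G) : Subgroup G) =
      Nat.card D * Nat.card (Subgroup.centralizer (Subgroup.zpowers (t * z * t⁻¹) : Set G)) := by
  rw [← bp_card_mul_set D (Subgroup.centralizer (Subgroup.zpowers (t * z * t⁻¹) : Set G))]
  congr 1
  apply Nat.card_congr
  refine Equiv.subtypeEquiv (Equiv.mulRight t⁻¹) (fun t' => ?_)
  rw [bp_pullPair_eq_iff hM B D e hmax hnil z t t' ht]
  rfl


theorem bp_card_centralizer_conj [Finite G] (z t : G) :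
    Nat.card (Subgroup.centralizer (Subgroup.zpowers (t * z * t⁻¹) : Set G)) =
      Nat.card (Subgroup.centralizer (Subgroup.zpowers z : Set G)) := by
  have h := Nat.card_congr (centConjEquiv (Subgroup.zpowers z) t).toEquiv
  rw [map_conj_zpowers] at h
  exact h.symm

/-- the weight attached to an element of `D` in the inner product formula -/
noncomputable def bp_wD (p : ℕ) (M : Ideal Cfsg.AlgInt) [Finite G] (D : Subgroup G)
    (e : Set (Cfsg.IrrCharacter (Subgroup.centralizer (D : Set G)))) (η η' : D → ℂ)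
    (χ χ' : G → ℂ) (u : G) : ℂ :=
  (Nat.card (D ⊓ Subgroup.centralizer (Subgroup.zpowers u : Set G) : Subgroup G) : ℂ) /
      (Nat.card D : ℂ) *
    (Cfsg.extendByZero D η u * conj (Cfsg.extendByZero D η' u) *
      contribP p (bp_pairAt p M D e u) χ χ' u)

open Classical in
/-- **the section formula transferred to `D`** (one `p`-section) -/
theorem bp_section_transfer [Fintype G] {p : ℕ} [hp : Fact p.Prime]
    (hM : Cfsg.IsPModular p M) (B : Set (Cfsg.IrrCharacter G)) (D : Subgroup G)
    (e : Set (Cfsg.IrrCharacter (Subgroup.centralizer (D : Set G))))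
    (hmax : Cfsg.IsMaximalBrauerPair p M B D e) (hnil : Cfsg.IsNilpotentBlock p M B)
    (η η' : D → ℂ) (hη : bp_stable p M D e η) (hη' : bp_stable p M D e η')
    (χ χ' : G → ℂ) (hχ : Cfsg.IsClassFunction G χ) (hχ' : Cfsg.IsClassFunction G χ') (z : G) :
    (Nat.card (Subgroup.centralizer (Subgroup.zpowers z : Set G)) : ℂ) *
      ∑ᶠ f ∈ {f : Set (Cfsg.IrrCharacter
          (Subgroup.centralizer ((Subgroup.zpowers z : Subgroup G) : Set G))) | Cfsg.IsPBlock M f},
        bp_etaAt p M D e η ⟨Subgroup.zpowers z, f⟩ z *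
          conj (bp_etaAt p M D e η' ⟨Subgroup.zpowers z, f⟩ z) *
          contribP p ⟨Subgroup.zpowers z, f⟩ χ χ' z =
      ∑ t : G, if t * z * t⁻¹ ∈ D then bp_wD p M D e η η' χ χ' (t * z * t⁻¹) else 0 := by
  have hDe := hmax.1
  set gz : Cfsg.BrauerPairIdx G → ℂ := fun a =>
    bp_etaAt p M D e η a z * conj (bp_etaAt p M D e η' a z) * contribP p a χ χ' z with hgz
  set mk : Set (Cfsg.IrrCharacter (Subgroup.centralizer
      ((Subgroup.zpowers z : Subgroup G) : Set G))) → Cfsg.BrauerPairIdx G :=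
    fun f => ⟨Subgroup.zpowers z, f⟩ with hmk
  have hmkinj : Function.Injective mk := by
    intro f f' h
    exact eq_of_heq (Sigma.mk.inj_iff.mp h).2
  set S : Finset G := Finset.univ.filter (fun t => t * z * t⁻¹ ∈ D) with hS
  -- step 1: the sum over the blocks as a sum over pairs
  have h1 : ∑ᶠ f ∈ {f : Set (Cfsg.IrrCharacter
          (Subgroup.centralizer ((Subgroup.zpowers z : Subgroup G) : Set G))) | Cfsg.IsPBlock M f},
        bp_etaAt p M D e η ⟨Subgroup.zpowers z, f⟩ z *
          conj (bp_etaAt p M D e η' ⟨Subgroup.zpowers z, f⟩ z) *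
          contribP p ⟨Subgroup.zpowers z, f⟩ χ χ' z =
      ∑ᶠ a ∈ mk '' {f | Cfsg.IsPBlock M f}, gz a := by
    rw [finsum_mem_image hmkinj.injOn]
  -- step 2: the support lies in the pulled back pairs
  have h2 : ∑ᶠ a ∈ mk '' {f | Cfsg.IsPBlock M f}, gz a =
      ∑ᶠ a ∈ ((S.image (bp_pullPair p M D e z) : Finset (Cfsg.BrauerPairIdx G)) :
        Set (Cfsg.BrauerPairIdx G)), gz a := by
    apply finsum_mem_inter_support_eq'
    intro a ha
    have hne : bp_etaAt p M D e η a z ≠ 0 := by
      intro h0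
      apply ha
      rw [hgz]
      simp only
      rw [h0, zero_mul, zero_mul]
    constructor
    · rintro ⟨f, -, rfl⟩
      obtain ⟨t, htD, hat⟩ := bp_exists_pullPair_of_ne hM D e hDe.1 η z (mk f) rfl hne
      rw [Finset.mem_coe, Finset.mem_image]
      exact ⟨t, Finset.mem_filter.mpr ⟨Finset.mem_univ _, htD⟩, hat.symm⟩
    · intro hmem
      rw [Finset.mem_coe, Finset.mem_image] at hmem
      obtain ⟨t, htS, rfl⟩ := hmem
      have htD : t * z * t⁻¹ ∈ D := (Finset.mem_filter.mp htS).2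
      obtain ⟨f, hf⟩ := pair_eq_mk (Subgroup.zpowers z) (bp_pullPair p M D e z t)
        (bp_pullPair_fst p D e z t)
      have hblk : Cfsg.IsPBlock M (bp_pullPair p M D e z t).2 :=
        isPBlock_conjBlock _ _ _ (bp_pairAt_isPBlock hM B D e hDe _ htD).1.2
      rw [hf] at hblk
      exact ⟨f, hblk, hf.symm⟩
  rw [h1, h2, finsum_mem_coe_finset, bp_sum_image_fiber, Finset.mul_sum, hS, Finset.sum_filter]
  apply Finset.sum_congr rfl
  intro t _
  split_ifs with htD
  · rw [hgz]
    simp only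
    rw [bp_term_pullPair hM D e hDe.1 η η' hη hη' χ χ' hχ hχ' z t htD]
    have hcard := bp_card_fiber_pullPair hM B D e hmax hnil z t htD
    rw [Nat.card_eq_fintype_card (α := {t' : G // t' * z * t'⁻¹ ∈ D ∧
        bp_pullPair p M D e z t' = bp_pullPair p M D e z t}), Fintype.card_subtype,
      bp_card_centralizer_conj] at hcard
    rw [Finset.filter_filter]
    have hcardC : ((Finset.univ.filter (fun t' : G => t' * z * t'⁻¹ ∈ D ∧
        bp_pullPair p M D e z t' = bp_pullPair p M D e z t)).card : ℂ) *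
        (Nat.card (D ⊓ Subgroup.centralizer (Subgroup.zpowers (t * z * t⁻¹) : Set G) :
          Subgroup G) : ℂ) =
        (Nat.card D : ℂ) * (Nat.card (Subgroup.centralizer (Subgroup.zpowers z : Set G)) : ℂ) := by
      exact_mod_cast hcard
    have hD0 : (Nat.card D : ℂ) ≠ 0 := by
      have : 0 < Nat.card D := Nat.card_pos
      exact_mod_cast this.ne'
    have hK0 : (Nat.card (Subgroup.centralizer (Subgroup.zpowers z : Set G)) : ℂ) ≠ 0 := by
      have : 0 < Nat.card (Subgroup.centralizer (Subgroup.zpowers z : Set G)) := Nat.card_pos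
      exact_mod_cast this.ne'
    have hI0 : (Nat.card (D ⊓ Subgroup.centralizer (Subgroup.zpowers (t * z * t⁻¹) : Set G) :
          Subgroup G) : ℂ) ≠ 0 := by
      have : 0 < Nat.card (D ⊓ Subgroup.centralizer (Subgroup.zpowers (t * z * t⁻¹) : Set G) :
          Subgroup G) := Nat.card_pos
      exact_mod_cast this.ne'
    have hF0 : ((Finset.univ.filter (fun t' : G => t' * z * t'⁻¹ ∈ D ∧
        bp_pullPair p M D e z t' = bp_pullPair p M D e z t)).card : ℂ) ≠ 0 := by
      intro h0
      rw [h0, zero_mul] at hcardC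
      exact mul_ne_zero hD0 hK0 hcardC.symm
    unfold bp_wD
    generalize Cfsg.extendByZero D η (t * z * t⁻¹) *
      conj (Cfsg.extendByZero D η' (t * z * t⁻¹)) *
      contribP p (bp_pairAt p M D e (t * z * t⁻¹)) χ χ' (t * z * t⁻¹) = A
    field_simp
    linear_combination (-A) * hcardC
  · rfl


/-- elements of a `p`-subgroup have `p`-power order -/
theorem bp_orderOf_of_mem_pGroup {p : ℕ} [hp : Fact p.Prime] (D : Subgroup G)
    (hD : IsPGroup p D) (u : G) (hu : u ∈ D) : ∃ k : ℕ, orderOf u = p ^ k := by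
  obtain ⟨k, hk⟩ := hD ⟨u, hu⟩
  have h1 : u ^ p ^ k = 1 := by
    have := congrArg (fun z : D => (z : G)) hk
    simpa using this
  obtain ⟨j, -, hj⟩ := (Nat.dvd_prime_pow hp.out).mp (orderOf_dvd_of_pow_eq_one h1)
  exact ⟨j, hj⟩

open Classical in
/-- **nilpotent blocks: the inner product of `η * χ` and `η' * χ'` as a sum over `D`**; the
formula for one `p`-section is a hypothesis -/
theorem bp_inner_star_eq_sum [Fintype G] {p : ℕ} [hp : Fact p.Prime]
    (hM : Cfsg.IsPModular p M) (B : Set (Cfsg.IrrCharacter G)) (D : Subgroup G)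
    (e : Set (Cfsg.IrrCharacter (Subgroup.centralizer (D : Set G))))
    (hmax : Cfsg.IsMaximalBrauerPair p M B D e) (hnil : Cfsg.IsNilpotentBlock p M B)
    (η η' : D → ℂ) (hη : bp_stable p M D e η) (hη' : bp_stable p M D e η')
    (χ χ' : G → ℂ) (hχ : Cfsg.IsClassFunction G χ) (hχ' : Cfsg.IsClassFunction G χ')
    (hsec : ∀ z : G, (∃ k : ℕ, orderOf z = p ^ k) →
      ∑ g : G, (if Cfsg.IsPPart p g z then
          bp_star p M D e η χ g * conj (bp_star p M D e η' χ' g) else 0) =
        (Nat.card (Subgroup.centralizer (Subgroup.zpowers z : Set G)) : ℂ) *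
          ∑ᶠ f ∈ {f : Set (Cfsg.IrrCharacter (Subgroup.centralizer
              ((Subgroup.zpowers z : Subgroup G) : Set G))) | Cfsg.IsPBlock M f},
            bp_etaAt p M D e η ⟨Subgroup.zpowers z, f⟩ z *
              conj (bp_etaAt p M D e η' ⟨Subgroup.zpowers z, f⟩ z) *
              contribP p ⟨Subgroup.zpowers z, f⟩ χ χ' z) :
    Cfsg.classInner (bp_star p M D e η χ) (bp_star p M D e η' χ') =
      ∑ u : D, bp_wD p M D e η η' χ χ' (u : G) := by
  have hDp : IsPGroup p D := hmax.1.1.1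
  have hG0 : (Nat.card G : ℂ) ≠ 0 := by
    have : 0 < Nat.card G := Nat.card_pos
    exact_mod_cast this.ne'
  rw [classInner_def,
    sum_eq_sum_isPPart p (fun g => bp_star p M D e η χ g * conj (bp_star p M D e η' χ' g))]
  have hz : ∀ z : G, ∑ g : G, (if Cfsg.IsPPart p g z then
      bp_star p M D e η χ g * conj (bp_star p M D e η' χ' g) else 0) =
      ∑ t : G, if t * z * t⁻¹ ∈ D then bp_wD p M D e η η' χ χ' (t * z * t⁻¹) else 0 := by
    intro z
    by_cases hzp : ∃ k : ℕ, orderOf z = p ^ k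
    · rw [hsec z hzp, bp_section_transfer hM B D e hmax hnil η η' hη hη' χ χ' hχ hχ' z]
    · rw [Finset.sum_eq_zero, Finset.sum_eq_zero]
      · intro t _
        rw [if_neg]
        intro htD
        apply hzp
        obtain ⟨k, hk⟩ := bp_orderOf_of_mem_pGroup D hDp _ htD
        refine ⟨k, ?_⟩
        have := MulEquiv.orderOf_eq (MulAut.conj t) z
        rw [MulAut.conj_apply] at this
        rw [← this, hk]
      · intro g _
        rw [if_neg]
        rintro ⟨y, -, -, hk, -⟩
        exact hzp hk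
  rw [Finset.sum_congr rfl (fun z _ => hz z), Finset.sum_comm]
  have ht : ∀ t : G, ∑ z : G,
      (if t * z * t⁻¹ ∈ D then bp_wD p M D e η η' χ χ' (t * z * t⁻¹) else 0) =
      ∑ u : D, bp_wD p M D e η η' χ χ' (u : G) := by
    intro t
    have h1 := Equiv.sum_comp (MulAut.conj t).toEquiv
      (fun u : G => if u ∈ D then bp_wD p M D e η η' χ χ' u else 0)
    simp only [MulEquiv.toEquiv_eq_coe, MulEquiv.coe_toEquiv, MulAut.conj_apply] at h1
    refine h1.trans ?_
    rw [← Finset.sum_filter]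
    exact (Finset.sum_subtype (Finset.univ.filter (fun u : G => u ∈ D))
      (fun u => by simp) (fun u => bp_wD p M D e η η' χ χ' u))
  rw [Finset.sum_congr rfl (fun t _ => ht t), Finset.sum_const, Finset.card_univ, nsmul_eq_mul,
    ← Nat.card_eq_fintype_card, ← mul_assoc, inv_mul_cancel₀ hG0, one_mul]

end Cfsg.Agent.BP
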