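import Mathlib
import Cfsg.Prelude.Def_Characters
import Cfsg.Prelude.Def_Blocks
import Cfsg.Prelude.Def_BlockRank
import Cfsg.Agent.Helper6.SecondMainE
import Cfsg.Agent.Helper6.HtCenE
import Cfsg.Agent.Helper6.MajC

/-!
# BP §9, part 0: block projections on the `p`-regular elements

For a finite group `H`, a block `f` of `H` and a function `Φ : H → ℂ` put
`P_f Φ := pRegularPart p (blockPart f Φ)`.  This file collects the linear algebra of these
projections that is needed for (C1) and (C2) of the Broué–Puig construction: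

* `bp_blockPart_blockPart` : `blockPart b (blockPart b' F) = blockPart (b ∩ b') F`;
* `bp_proj_of_vanish` : `P_f` kills functions vanishing on the `p`-regular elements;
* `bp_proj_decomp` : if `Φ = ∑_f c_f · blockPart f Ψ` on the `p`-regular elements, then
  `P_f Φ = c_f • P_f Ψ` for every block `f`  (the uniqueness statement (U));
* `bp_proj_orthogonal` : `P_f Φ ⊥ P_f' Ψ` for distinct blocks;
* `bp_pRegularPart_eq_sum_proj` : `pRegularPart Φ = ∑_f P_f Φ` for class functions `Φ`;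
* `bp_classInner_pRegular_eq_sum` : `⟨pRegularPart Φ, pRegularPart Ψ⟩ = ∑_f ⟨P_f Φ, P_f Ψ⟩`.
-/

set_option autoImplicit false
set_option linter.style.haveILetI false

namespace Cfsg.Agent.BP

open Cfsg.Agent.Helper6 Cfsg.Agent.Helper6.Maj Cfsg.Agent.Helper6.HtCen

open scoped ComplexConjugate

universe u

variable {H : Type u} [Group H] {M : Ideal Cfsg.AlgInt}

/-! ### linearity of `blockPart` -/

theorem bp_blockPart_add [Fintype H] (b : Set (Cfsg.IrrCharacter H)) (F₁ F₂ : H → ℂ) :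
    Cfsg.blockPart b (F₁ + F₂) = Cfsg.blockPart b F₁ + Cfsg.blockPart b F₂ := by
  funext s
  rw [Pi.add_apply, blockPart_apply, blockPart_apply, blockPart_apply]
  haveI : Finite (Cfsg.IrrCharacter H) := irr_finite
  rw [← finsum_mem_add_distrib (Set.toFinite b)]
  apply finsum_mem_congr rfl
  intro θ _
  rw [classInner_add_left, add_mul]

theorem bp_blockPart_smul [Fintype H] (b : Set (Cfsg.IrrCharacter H)) (c : ℂ) (F : H → ℂ) :
    Cfsg.blockPart b (c • F) = c • Cfsg.blockPart b F := by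
  funext s
  rw [Pi.smul_apply, blockPart_apply, blockPart_apply, smul_eq_mul]
  haveI : Finite (Cfsg.IrrCharacter H) := irr_finite
  rw [mul_finsum_mem (fun θ : Cfsg.IrrCharacter H =>
    Cfsg.classInner F (θ : H → ℂ) * (θ : H → ℂ) s) c]
  apply finsum_mem_congr rfl
  intro θ _
  rw [classInner_smul_left, mul_assoc]

theorem bp_blockPart_zero [Fintype H] (b : Set (Cfsg.IrrCharacter H)) :
    Cfsg.blockPart b (0 : H → ℂ) = 0 := by
  have h := bp_blockPart_smul b 0 (0 : H → ℂ)
  rw [zero_smul, zero_smul] at h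
  exact h

theorem bp_blockPart_neg [Fintype H] (b : Set (Cfsg.IrrCharacter H)) (F : H → ℂ) :
    Cfsg.blockPart b (-F) = -Cfsg.blockPart b F := by
  have h := bp_blockPart_smul b (-1) F
  rwa [neg_one_smul, neg_one_smul] at h

theorem bp_blockPart_sub [Fintype H] (b : Set (Cfsg.IrrCharacter H)) (F₁ F₂ : H → ℂ) :
    Cfsg.blockPart b (F₁ - F₂) = Cfsg.blockPart b F₁ - Cfsg.blockPart b F₂ := by
  rw [sub_eq_add_neg, bp_blockPart_add, bp_blockPart_neg, sub_eq_add_neg]

theorem bp_blockPart_sum [Fintype H] (b : Set (Cfsg.IrrCharacter H)) {ι : Type*}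
    (s : Finset ι) (F : ι → H → ℂ) :
    Cfsg.blockPart b (∑ i ∈ s, F i) = ∑ i ∈ s, Cfsg.blockPart b (F i) := by
  classical
  induction s using Finset.induction_on with
  | empty => simp [bp_blockPart_zero]
  | insert a s ha ih => rw [Finset.sum_insert ha, Finset.sum_insert ha, bp_blockPart_add, ih]

theorem bp_blockPart_empty [Fintype H] (F : H → ℂ) :
    Cfsg.blockPart (∅ : Set (Cfsg.IrrCharacter H)) F = 0 := by
  funext s
  rw [blockPart_apply, finsum_mem_empty, Pi.zero_apply]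

/-- composition of block parts -/
theorem bp_blockPart_blockPart [Fintype H] (b b' : Set (Cfsg.IrrCharacter H)) (F : H → ℂ) :
    Cfsg.blockPart b (Cfsg.blockPart b' F) = Cfsg.blockPart (b ∩ b') F := by
  classical
  haveI : Finite (Cfsg.IrrCharacter H) := irr_finite
  haveI : Fintype (Cfsg.IrrCharacter H) := Fintype.ofFinite _
  rw [blockPart_eq_sum b, blockPart_eq_sum (b ∩ b')]
  apply Finset.sum_congr rfl
  intro θ _
  rw [classInner_blockPart_irr]
  by_cases h1 : θ ∈ b
  · by_cases h2 : θ ∈ b'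
    · rw [if_pos h1, if_pos h2, if_pos (Set.mem_inter h1 h2)]
    · rw [if_pos h1, if_neg h2, if_neg (fun h => h2 h.2), zero_smul]
  · rw [if_neg h1, if_neg (fun h => h1 h.1)]

/-- distinct blocks are disjoint -/
theorem bp_block_inter_eq_empty (hM : M.IsMaximal) (b b' : Set (Cfsg.IrrCharacter H))
    (hb : Cfsg.IsPBlock M b) (hb' : Cfsg.IsPBlock M b') (hne : b ≠ b') : b ∩ b' = ∅ := by
  rw [Set.eq_empty_iff_forall_notMem]
  rintro θ ⟨h1, h2⟩
  apply hne
  rw [eq_blockOf_of_mem hM b hb θ h1, eq_blockOf_of_mem hM b' hb' θ h2]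

/-! ### the projections `P_f` -/

/-- a function vanishing on the `p`-regular elements has block parts vanishing on the
`p`-regular elements -/
theorem bp_proj_of_vanish [Fintype H] {p : ℕ} [hp : Fact p.Prime] (hM : Cfsg.IsPModular p M)
    (b : Set (Cfsg.IrrCharacter H)) (hb : Cfsg.IsPBlock M b) (φ : H → ℂ)
    (hφ : ∀ c : H, ¬ p ∣ orderOf c → φ c = 0) :
    Cfsg.pRegularPart p (Cfsg.blockPart b φ) = 0 := by
  classical
  haveI : Finite (Cfsg.IrrCharacter H) := irr_finite
  haveI : Fintype (Cfsg.IrrCharacter H) := Fintype.ofFinite _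
  funext y
  rw [pRegularPart_apply, Pi.zero_apply]
  split_ifs with hy
  · rfl
  · rw [blockPart_apply, finsum_mem_eq_sum_ite]
    exact blockPart_vanish_regular hM.2.1 p hM.2.2 b hb φ hφ y hy

/-- `P_f` only sees the values on the `p`-regular elements -/
theorem bp_proj_congr [Fintype H] {p : ℕ} [hp : Fact p.Prime] (hM : Cfsg.IsPModular p M)
    (b : Set (Cfsg.IrrCharacter H)) (hb : Cfsg.IsPBlock M b) (Φ Ξ : H → ℂ)
    (h : ∀ c : H, ¬ p ∣ orderOf c → Φ c = Ξ c) :
    Cfsg.pRegularPart p (Cfsg.blockPart b Φ) = Cfsg.pRegularPart p (Cfsg.blockPart b Ξ) := by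
  have h1 := bp_proj_of_vanish hM b hb (Φ - Ξ) (fun c hc => by
    rw [Pi.sub_apply, h c hc, sub_self])
  rw [bp_blockPart_sub] at h1
  have h2 : Cfsg.pRegularPart p (Cfsg.blockPart b Φ - Cfsg.blockPart b Ξ) =
      Cfsg.pRegularPart p (Cfsg.blockPart b Φ) - Cfsg.pRegularPart p (Cfsg.blockPart b Ξ) := by
    classical
    funext y
    rw [Pi.sub_apply, pRegularPart_apply, pRegularPart_apply, pRegularPart_apply, Pi.sub_apply]
    split_ifs
    · rw [sub_zero]
    · rfl
  rw [h2] at h1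
  exact sub_eq_zero.mp h1

/-- **(U)**: if `Φ = ∑_f c_f · blockPart f Ψ` on the `p`-regular elements (sum over the blocks of
`H`), then `P_f Φ = c_f • P_f Ψ` for every block `f`. -/
theorem bp_proj_decomp [Fintype H] {p : ℕ} [hp : Fact p.Prime] (hM : Cfsg.IsPModular p M)
    (Φ Ψ : H → ℂ) (c : Set (Cfsg.IrrCharacter H) → ℂ)
    (h : ∀ s : H, ¬ p ∣ orderOf s →
      Φ s = ∑ᶠ f ∈ {f : Set (Cfsg.IrrCharacter H) | Cfsg.IsPBlock M f},
        c f * Cfsg.blockPart f Ψ s)
    (f₀ : Set (Cfsg.IrrCharacter H)) (hf₀ : Cfsg.IsPBlock M f₀) :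
    Cfsg.pRegularPart p (Cfsg.blockPart f₀ Φ) =
      c f₀ • Cfsg.pRegularPart p (Cfsg.blockPart f₀ Ψ) := by
  classical
  haveI : Finite (Cfsg.IrrCharacter H) := irr_finite
  have hfin : {f : Set (Cfsg.IrrCharacter H) | Cfsg.IsPBlock M f}.Finite := Set.toFinite _
  set Ξ : H → ℂ := ∑ f ∈ hfin.toFinset, c f • Cfsg.blockPart f Ψ with hΞ
  have h1 : ∀ s : H, ¬ p ∣ orderOf s → Φ s = Ξ s := by
    intro s hs
    rw [h s hs, finsum_mem_eq_finite_toFinset_sum _ hfin, hΞ, Finset.sum_apply]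
    apply Finset.sum_congr rfl
    intro f _
    rfl
  rw [bp_proj_congr hM f₀ hf₀ Φ Ξ h1, hΞ, bp_blockPart_sum]
  have h2 : ∑ f ∈ hfin.toFinset, Cfsg.blockPart f₀ (c f • Cfsg.blockPart f Ψ) =
      c f₀ • Cfsg.blockPart f₀ Ψ := by
    rw [Finset.sum_eq_single f₀]
    · rw [bp_blockPart_smul, bp_blockPart_blockPart, Set.inter_self]
    · intro f hf hne
      rw [Set.Finite.mem_toFinset] at hf
      rw [bp_blockPart_smul, bp_blockPart_blockPart,
        bp_block_inter_eq_empty hM.2.1 f₀ f hf₀ hf (Ne.symm hne), bp_blockPart_empty, smul_zero]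
    · intro hnot
      exfalso
      apply hnot
      rw [Set.Finite.mem_toFinset]
      exact hf₀
  rw [h2, pRegularPart_smul]

/-- `P_f Φ` as a combination of the truncated members of `f` -/
theorem bp_proj_eq_sum [Fintype H] [Fintype (Cfsg.IrrCharacter H)] (p : ℕ)
    (b : Set (Cfsg.IrrCharacter H)) [DecidablePred (· ∈ b)] (Φ : H → ℂ) :
    Cfsg.pRegularPart p (Cfsg.blockPart b Φ) = ∑ θ : Cfsg.IrrCharacter H,
      if θ ∈ b then Cfsg.classInner Φ (θ : H → ℂ) • Cfsg.pRegularPart p (θ : H → ℂ) else 0 := by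
  classical
  rw [blockPart_eq_sum, pRegularPart_sum]
  apply Finset.sum_congr rfl
  intro θ _
  split_ifs
  · rw [pRegularPart_smul]
  · exact pRegularPart_zero p

/-- truncated characters in distinct blocks are orthogonal -/
theorem bp_classInner_pRegularPart_irr_of_ne [Fintype H] {p : ℕ} [hp : Fact p.Prime]
    (hM : Cfsg.IsPModular p M) (b : Set (Cfsg.IrrCharacter H)) (hb : Cfsg.IsPBlock M b)
    (θ θ' : Cfsg.IrrCharacter H) (hθ : θ ∈ b) (hθ' : θ' ∉ b) :
    Cfsg.classInner (Cfsg.pRegularPart p (θ : H → ℂ)) (θ' : H → ℂ) = 0 := by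
  classical
  haveI : Finite (Cfsg.IrrCharacter H) := irr_finite
  haveI : Fintype (Cfsg.IrrCharacter H) := Fintype.ofFinite _
  rw [pRegularPart_expansion hM.2.1 p hM.2.2 b hb θ hθ, classInner_sum_left]
  apply Finset.sum_eq_zero
  intro χ _
  split_ifs with hχ
  · rw [classInner_smul_left, classInner_irr_ne χ.2 θ'.2, mul_zero]
    intro h
    apply hθ'
    have : χ = θ' := Subtype.ext h
    rwa [← this]
  · rw [classInner_zero_left]

/-- the projections to distinct blocks are orthogonal -/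
theorem bp_proj_orthogonal [Fintype H] {p : ℕ} [hp : Fact p.Prime] (hM : Cfsg.IsPModular p M)
    (b b' : Set (Cfsg.IrrCharacter H)) (hb : Cfsg.IsPBlock M b) (hb' : Cfsg.IsPBlock M b')
    (hne : b ≠ b') (Φ Ψ : H → ℂ) :
    Cfsg.classInner (Cfsg.pRegularPart p (Cfsg.blockPart b Φ))
      (Cfsg.pRegularPart p (Cfsg.blockPart b' Ψ)) = 0 := by
  classical
  haveI : Finite (Cfsg.IrrCharacter H) := irr_finite
  haveI : Fintype (Cfsg.IrrCharacter H) := Fintype.ofFinite _
  rw [← classInner_pRegularPart_left, bp_proj_eq_sum p b Φ, blockPart_eq_sum b' Ψ,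
    classInner_sum_left]
  apply Finset.sum_eq_zero
  intro θ _
  split_ifs with hθ
  · rw [classInner_smul_left, classInner_sum_right]
    have : ∑ θ' : Cfsg.IrrCharacter H, Cfsg.classInner (Cfsg.pRegularPart p (θ : H → ℂ))
        (if θ' ∈ b' then Cfsg.classInner Ψ (θ' : H → ℂ) • (θ' : H → ℂ) else 0) = 0 := by
      apply Finset.sum_eq_zero
      intro θ' _
      split_ifs with hθ'
      · rw [classInner_smul_right, bp_classInner_pRegularPart_irr_of_ne hM b hb θ θ' hθ, mul_zero]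
        intro h
        have h1 := Set.mem_inter h hθ'
        rw [bp_block_inter_eq_empty hM.2.1 b b' hb hb' hne] at h1
        exact h1
      · rw [classInner_zero_right]
    rw [this, mul_zero]
  · rw [classInner_zero_left]

/-! ### the sum over all blocks -/

/-- a class function is the sum of its block parts -/
theorem bp_sum_blockPart [Fintype H] (hM : M.IsMaximal) (Φ : H → ℂ)
    (hΦ : Cfsg.IsClassFunction H Φ)
    (hfin : {f : Set (Cfsg.IrrCharacter H) | Cfsg.IsPBlock M f}.Finite) :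
    ∑ f ∈ hfin.toFinset, Cfsg.blockPart f Φ = Φ := by
  classical
  haveI : Finite (Cfsg.IrrCharacter H) := irr_finite
  haveI : Fintype (Cfsg.IrrCharacter H) := Fintype.ofFinite _
  conv_rhs => rw [classFunction_expansion Φ hΦ]
  have h1 : ∀ f ∈ hfin.toFinset, Cfsg.blockPart f Φ = ∑ θ : Cfsg.IrrCharacter H,
      if θ ∈ f then Cfsg.classInner Φ (θ : H → ℂ) • (θ : H → ℂ) else 0 :=
    fun f _ => blockPart_eq_sum f Φ
  rw [Finset.sum_congr rfl h1, Finset.sum_comm]
  apply Finset.sum_congr rfl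
  intro θ _
  rw [Finset.sum_eq_single (Cfsg.blockOf M (θ : H → ℂ))]
  · rw [if_pos (mem_blockOf_self hM θ)]
  · intro f hf hne
    rw [Set.Finite.mem_toFinset] at hf
    rw [if_neg]
    intro hθ
    exact hne (eq_blockOf_of_mem hM f hf θ hθ)
  · intro hnot
    exfalso
    apply hnot
    rw [Set.Finite.mem_toFinset]
    exact ⟨θ, rfl⟩

/-- the truncation of a class function to the `p`-regular elements is the sum of its
projections `P_f` -/
theorem bp_pRegularPart_eq_sum_proj [Fintype H] (hM : M.IsMaximal) (p : ℕ) (Φ : H → ℂ)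
    (hΦ : Cfsg.IsClassFunction H Φ)
    (hfin : {f : Set (Cfsg.IrrCharacter H) | Cfsg.IsPBlock M f}.Finite) :
    Cfsg.pRegularPart p Φ =
      ∑ f ∈ hfin.toFinset, Cfsg.pRegularPart p (Cfsg.blockPart f Φ) := by
  rw [← pRegularPart_sum, bp_sum_blockPart hM Φ hΦ hfin]

/-- **block decomposition of the inner product on the `p`-regular elements**:
`⟨Φ°, Ψ°⟩ = ∑_f ⟨P_f Φ, P_f Ψ⟩` for class functions `Φ`, `Ψ`. -/
theorem bp_classInner_pRegular_eq_sum [Fintype H] {p : ℕ} [hp : Fact p.Prime]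
    (hM : Cfsg.IsPModular p M) (Φ Ψ : H → ℂ) (hΦ : Cfsg.IsClassFunction H Φ)
    (hΨ : Cfsg.IsClassFunction H Ψ) :
    Cfsg.classInner (Cfsg.pRegularPart p Φ) (Cfsg.pRegularPart p Ψ) =
      ∑ᶠ f ∈ {f : Set (Cfsg.IrrCharacter H) | Cfsg.IsPBlock M f},
        Cfsg.classInner (Cfsg.pRegularPart p (Cfsg.blockPart f Φ))
          (Cfsg.pRegularPart p (Cfsg.blockPart f Ψ)) := by
  classical
  haveI : Finite (Cfsg.IrrCharacter H) := irr_finite
  have hfin : {f : Set (Cfsg.IrrCharacter H) | Cfsg.IsPBlock M f}.Finite := Set.toFinite _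
  rw [finsum_mem_eq_finite_toFinset_sum _ hfin,
    bp_pRegularPart_eq_sum_proj hM.2.1 p Φ hΦ hfin, bp_pRegularPart_eq_sum_proj hM.2.1 p Ψ hΨ hfin,
    classInner_sum_left]
  apply Finset.sum_congr rfl
  intro f hf
  rw [Set.Finite.mem_toFinset] at hf
  rw [classInner_sum_right, Finset.sum_eq_single f]
  · intro f' hf' hne
    rw [Set.Finite.mem_toFinset] at hf'
    exact bp_proj_orthogonal hM f f' hf hf' (Ne.symm hne) Φ Ψ
  · intro hnot
    exfalso
    apply hnot
    rw [Set.Finite.mem_toFinset]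
    exact hf

end Cfsg.Agent.BP
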