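import Mathlib
import Cfsg.Prelude.Def_Characters
import Cfsg.Prelude.Def_Blocks
import Cfsg.Prelude.Def_BlockRank
import Cfsg.Agent.Helper6.SectionCountA
import Cfsg.Agent.Helper6.HtCenD
import Cfsg.Agent.Helper6.HtCenF
import Cfsg.Agent.Helper6.K4H
import Cfsg.Agent.BP.StarDef
import Cfsg.Agent.BP.StarProj

/-!
# BP §9: (C1), (C2'), (C2) for the Broué–Puig `*`-construction
-/

set_option autoImplicit false
set_option linter.style.haveILetI false

namespace Cfsg.Agent.BP

open Cfsg.Agent.Helper6 Cfsg.Agent.Helper6.Maj Cfsg.Agent.Helper6.HtCen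

open scoped ComplexConjugate

universe u

variable {G : Type u} [Group G] {M : Ideal Cfsg.AlgInt}

/-- elements of `C_G(⟨u⟩)` commute with `u` -/
theorem bp_commute_of_mem_centralizer_zpowers (u : G)
    (s : Subgroup.centralizer ((Subgroup.zpowers u : Subgroup G) : Set G)) :
    Commute u (s : G) := by
  have h := Subgroup.mem_centralizer_iff.mp s.2 u (Subgroup.mem_zpowers u)
  exact h

/-- **(V)** the value of `η * χ` at `u s` -/
theorem bp_star_apply_mul [Fintype G] {p : ℕ} [hp : Fact p.Prime]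
    (D : Subgroup G) (e : Set (Cfsg.IrrCharacter (Subgroup.centralizer (D : Set G))))
    (η : D → ℂ) (χ : G → ℂ) (u : G) (hu : ∃ k : ℕ, orderOf u = p ^ k)
    (s : Subgroup.centralizer ((Subgroup.zpowers u : Subgroup G) : Set G))
    (hs : ¬ p ∣ orderOf s) :
    bp_star p M D e η χ (u * (s : G)) =
      ∑ᶠ f ∈ {f : Set (Cfsg.IrrCharacter
          (Subgroup.centralizer ((Subgroup.zpowers u : Subgroup G) : Set G))) | Cfsg.IsPBlock M f},
        bp_etaAt p M D e η ⟨Subgroup.zpowers u, f⟩ u *
          secPart p (Subgroup.centralizer ((Subgroup.zpowers u : Subgroup G) : Set G)) f χ u s := by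
  have hs' : ¬ p ∣ orderOf (s : G) := by rwa [Subgroup.orderOf_coe]
  rw [bp_star_mul D e η χ hu hs' (bp_commute_of_mem_centralizer_zpowers u s),
    bp_starAt_eq_secPart D e η χ u s hs]

/-- **(C1)** -/
theorem bp_secPart_star [Fintype G] {p : ℕ} [hp : Fact p.Prime] (hM : Cfsg.IsPModular p M)
    (D : Subgroup G) (e : Set (Cfsg.IrrCharacter (Subgroup.centralizer (D : Set G))))
    (η : D → ℂ) (χ : G → ℂ) (u : G) (hu : ∃ k : ℕ, orderOf u = p ^ k)
    (f : Set (Cfsg.IrrCharacter
      (Subgroup.centralizer ((Subgroup.zpowers u : Subgroup G) : Set G))))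
    (hf : Cfsg.IsPBlock M f) :
    secPart p (Subgroup.centralizer ((Subgroup.zpowers u : Subgroup G) : Set G)) f
        (bp_star p M D e η χ) u =
      bp_etaAt p M D e η ⟨Subgroup.zpowers u, f⟩ u •
        secPart p (Subgroup.centralizer ((Subgroup.zpowers u : Subgroup G) : Set G)) f χ u := by
  haveI : Fintype (Subgroup.centralizer ((Subgroup.zpowers u : Subgroup G) : Set G)) :=
    Fintype.ofFinite _
  unfold secPart
  apply bp_proj_decomp hM
    (fun c : Subgroup.centralizer ((Subgroup.zpowers u : Subgroup G) : Set G) =>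
      bp_star p M D e η χ (u * (c : G)))
    (fun c : Subgroup.centralizer ((Subgroup.zpowers u : Subgroup G) : Set G) => χ (u * (c : G)))
    (fun f => bp_etaAt p M D e η ⟨Subgroup.zpowers u, f⟩ u) ?_ f hf
  intro s hs
  have hs' : ¬ p ∣ orderOf (s : G) := by rwa [Subgroup.orderOf_coe]
  show bp_star p M D e η χ (u * (s : G)) = _
  rw [bp_star_mul D e η χ hu hs' (bp_commute_of_mem_centralizer_zpowers u s)]
  unfold bp_starAt
  apply finsum_mem_congr rfl
  intro f' _
  congr 1
  unfold Cfsg.extendByZero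
  exact Subtype.val_injective.extend_apply _ _ s

/-- a sum over a subgroup only depends on the subgroup -/
theorem bp_sum_subgroup_congr {K K' : Subgroup G} (h : K = K') [Fintype K] [Fintype K']
    (Φ : G → ℂ) : ∑ s : K, Φ (s : G) = ∑ s : K', Φ (s : G) :=
  Fintype.sum_equiv (MulEquiv.subgroupCongr h).toEquiv _ _ (fun _ => rfl)

/-- the translate of a class function by a central element is a class function -/
theorem bp_translate_isClassFunction (θ : G → ℂ) (hθ : Cfsg.IsClassFunction G θ) (u : G) :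
    Cfsg.IsClassFunction (Subgroup.centralizer ((Subgroup.zpowers u : Subgroup G) : Set G))
      (fun c => θ (u * (c : G))) := by
  intro c k
  simp only [Subgroup.coe_mul, Subgroup.coe_inv]
  have hk : u * (k : G) = (k : G) * u := (bp_commute_of_mem_centralizer_zpowers u k).eq
  have e1 : u * ((k : G) * (c : G) * (k : G)⁻¹) = (k : G) * (u * (c : G)) * (k : G)⁻¹ := by
    rw [← mul_assoc, ← mul_assoc, hk]
    group
  rw [e1, hθ]

open Classical in
/-- the sum over a `p`-section as an inner product on the centralizer -/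
theorem bp_section_sum_eq [Fintype G] {p : ℕ} (θ θ' : G → ℂ) (x : G)
    (hx : ∃ k : ℕ, orderOf x = p ^ k)
    [Fintype (Subgroup.centralizer ((Subgroup.zpowers x : Subgroup G) : Set G))] :
    (Nat.card G : ℂ)⁻¹ * ((Nat.card {z : G // IsConj x z} : ℂ) *
      ∑ g : G, (if Cfsg.IsPPart p g x then θ g * conj (θ' g) else 0)) =
    Cfsg.classInner
      (Cfsg.pRegularPart p
        (fun c : Subgroup.centralizer ((Subgroup.zpowers x : Subgroup G) : Set G) =>
          θ (x * (c : G))))
      (Cfsg.pRegularPart p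
        (fun c : Subgroup.centralizer ((Subgroup.zpowers x : Subgroup G) : Set G) =>
          θ' (x * (c : G)))) := by
  classical
  haveI : Fintype (Subgroup.centralizer ({x} : Set G)) := Fintype.ofFinite _
  have hG0 : (Nat.card G : ℂ) ≠ 0 := by
    have : 0 < Nat.card G := Nat.card_pos
    exact_mod_cast this.ne'
  have hK0 : (Nat.card (Subgroup.centralizer ({x} : Set G)) : ℂ) ≠ 0 := by
    have : 0 < Nat.card (Subgroup.centralizer ({x} : Set G)) := Nat.card_pos
    exact_mod_cast this.ne'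
  have hcc : (Nat.card {z : G // IsConj x z} : ℂ) *
      (Nat.card (Subgroup.centralizer ({x} : Set G)) : ℂ) = (Nat.card G : ℂ) := by
    exact_mod_cast card_conj_mul_card_centralizer x
  have hcard : Nat.card (Subgroup.centralizer ((Subgroup.zpowers x : Subgroup G) : Set G)) =
      Nat.card (Subgroup.centralizer ({x} : Set G)) := by
    rw [K4.centralizer_zpowers_eq' x]
  rw [sum_isPPart_eq x hx (fun g => θ g * conj (θ' g)), classInner_def, hcard]
  obtain ⟨Φ, hΦ⟩ : ∃ Φ : G → ℂ, ∀ g, Φ g =
      if p ∣ orderOf g then (0 : ℂ) else θ (x * g) * conj (θ' (x * g)) := ⟨_, fun _ => rfl⟩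
  have h1 : ∑ s : Subgroup.centralizer ({x} : Set G),
      (if p ∣ orderOf s then (0 : ℂ) else θ (x * (s : G)) * conj (θ' (x * (s : G)))) =
      ∑ s : Subgroup.centralizer ({x} : Set G), Φ (s : G) := by
    apply Finset.sum_congr rfl
    intro s _
    rw [hΦ]
    simp only [Subgroup.orderOf_coe]
  rw [h1, ← bp_sum_subgroup_congr (K4.centralizer_zpowers_eq' x) Φ]
  have h2 : ∑ s : Subgroup.centralizer ((Subgroup.zpowers x : Subgroup G) : Set G), Φ (s : G) =
      ∑ s : Subgroup.centralizer ((Subgroup.zpowers x : Subgroup G) : Set G),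
        Cfsg.pRegularPart p
          (fun c : Subgroup.centralizer ((Subgroup.zpowers x : Subgroup G) : Set G) =>
            θ (x * (c : G))) s *
        conj (Cfsg.pRegularPart p
          (fun c : Subgroup.centralizer ((Subgroup.zpowers x : Subgroup G) : Set G) =>
            θ' (x * (c : G))) s) := by
    apply Finset.sum_congr rfl
    intro s _
    rw [pRegularPart_apply, pRegularPart_apply, hΦ]
    simp only [Subgroup.orderOf_coe]
    split_ifs
    · rw [zero_mul]
    · rfl
  rw [h2, ← hcc]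
  field_simp

/-- **(C2')** the `p`-section and block decomposition of the inner product of two class
functions of `G` -/
theorem bp_classInner_eq_sum_contribP [Fintype G] {p : ℕ} [hp : Fact p.Prime]
    (hM : Cfsg.IsPModular p M) (θ θ' : G → ℂ) (hθ : Cfsg.IsClassFunction G θ)
    (hθ' : Cfsg.IsClassFunction G θ') (X : Finset G)
    (hX : ∀ x ∈ X, ∃ k : ℕ, orderOf x = p ^ k)
    (hXrep : ∀ g : G, (∃ k : ℕ, orderOf g = p ^ k) → ∃! x, x ∈ X ∧ IsConj g x) :
    Cfsg.classInner θ θ' = ∑ x ∈ X,
      ∑ᶠ f ∈ {f : Set (Cfsg.IrrCharacter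
          (Subgroup.centralizer ((Subgroup.zpowers x : Subgroup G) : Set G))) | Cfsg.IsPBlock M f},
        contribP p ⟨Subgroup.zpowers x, f⟩ θ θ' x := by
  classical
  have hΛcf : Cfsg.IsClassFunction G (fun g => θ g * conj (θ' g)) := by
    intro g h
    simp only
    rw [hθ, hθ']
  rw [classInner_def, sum_eq_sum_sections p (fun g => θ g * conj (θ' g)) hΛcf X hX hXrep,
    Finset.mul_sum]
  apply Finset.sum_congr rfl
  intro x hxX
  haveI : Fintype (Subgroup.centralizer ((Subgroup.zpowers x : Subgroup G) : Set G)) :=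
    Fintype.ofFinite _
  rw [bp_section_sum_eq θ θ' x (hX x hxX),
    bp_classInner_pRegular_eq_sum hM _ _ (bp_translate_isClassFunction θ hθ x)
      (bp_translate_isClassFunction θ' hθ' x)]
  apply finsum_mem_congr rfl
  intro f _
  rw [contribP_eq]
  rfl

/-- (C1) for the contributions, left argument -/
theorem bp_contribP_star_left [Fintype G] {p : ℕ} [hp : Fact p.Prime] (hM : Cfsg.IsPModular p M)
    (D : Subgroup G) (e : Set (Cfsg.IrrCharacter (Subgroup.centralizer (D : Set G))))
    (η : D → ℂ) (χ θ' : G → ℂ) (u : G) (hu : ∃ k : ℕ, orderOf u = p ^ k)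
    (f : Set (Cfsg.IrrCharacter
      (Subgroup.centralizer ((Subgroup.zpowers u : Subgroup G) : Set G))))
    (hf : Cfsg.IsPBlock M f) :
    contribP p ⟨Subgroup.zpowers u, f⟩ (bp_star p M D e η χ) θ' u =
      bp_etaAt p M D e η ⟨Subgroup.zpowers u, f⟩ u *
        contribP p ⟨Subgroup.zpowers u, f⟩ χ θ' u := by
  haveI : Fintype (Subgroup.centralizer ((Subgroup.zpowers u : Subgroup G) : Set G)) :=
    Fintype.ofFinite _
  rw [contribP_eq, contribP_eq, bp_secPart_star hM D e η χ u hu f hf, classInner_smul_left]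

/-- (C1) for the contributions, right argument -/
theorem bp_contribP_star_right [Fintype G] {p : ℕ} [hp : Fact p.Prime] (hM : Cfsg.IsPModular p M)
    (D : Subgroup G) (e : Set (Cfsg.IrrCharacter (Subgroup.centralizer (D : Set G))))
    (η' : D → ℂ) (θ χ' : G → ℂ) (u : G) (hu : ∃ k : ℕ, orderOf u = p ^ k)
    (f : Set (Cfsg.IrrCharacter
      (Subgroup.centralizer ((Subgroup.zpowers u : Subgroup G) : Set G))))
    (hf : Cfsg.IsPBlock M f) :
    contribP p ⟨Subgroup.zpowers u, f⟩ θ (bp_star p M D e η' χ') u =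
      conj (bp_etaAt p M D e η' ⟨Subgroup.zpowers u, f⟩ u) *
        contribP p ⟨Subgroup.zpowers u, f⟩ θ χ' u := by
  haveI : Fintype (Subgroup.centralizer ((Subgroup.zpowers u : Subgroup G) : Set G)) :=
    Fintype.ofFinite _
  rw [contribP_eq, contribP_eq, bp_secPart_star hM D e η' χ' u hu f hf, classInner_smul_right]

/-- **(C2)** -/
theorem bp_classInner_star [Fintype G] {p : ℕ} [hp : Fact p.Prime] (hM : Cfsg.IsPModular p M)
    (D : Subgroup G) (e : Set (Cfsg.IrrCharacter (Subgroup.centralizer (D : Set G))))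
    (η η' : D → ℂ) (χ χ' : G → ℂ)
    (hcf : Cfsg.IsClassFunction G (bp_star p M D e η χ))
    (hcf' : Cfsg.IsClassFunction G (bp_star p M D e η' χ')) (X : Finset G)
    (hX : ∀ x ∈ X, ∃ k : ℕ, orderOf x = p ^ k)
    (hXrep : ∀ g : G, (∃ k : ℕ, orderOf g = p ^ k) → ∃! x, x ∈ X ∧ IsConj g x) :
    Cfsg.classInner (bp_star p M D e η χ) (bp_star p M D e η' χ') = ∑ x ∈ X,
      ∑ᶠ f ∈ {f : Set (Cfsg.IrrCharacter
          (Subgroup.centralizer ((Subgroup.zpowers x : Subgroup G) : Set G))) | Cfsg.IsPBlock M f},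
        bp_etaAt p M D e η ⟨Subgroup.zpowers x, f⟩ x *
          conj (bp_etaAt p M D e η' ⟨Subgroup.zpowers x, f⟩ x) *
          contribP p ⟨Subgroup.zpowers x, f⟩ χ χ' x := by
  rw [bp_classInner_eq_sum_contribP hM _ _ hcf hcf' X hX hXrep]
  apply Finset.sum_congr rfl
  intro x hxX
  apply finsum_mem_congr rfl
  intro f hf
  rw [bp_contribP_star_left hM D e η χ _ x (hX x hxX) f hf,
    bp_contribP_star_right hM D e η' χ χ' x (hX x hxX) f hf, mul_assoc]

/-- (C2), one-sided: against an arbitrary class function -/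
theorem bp_classInner_star_left [Fintype G] {p : ℕ} [hp : Fact p.Prime]
    (hM : Cfsg.IsPModular p M)
    (D : Subgroup G) (e : Set (Cfsg.IrrCharacter (Subgroup.centralizer (D : Set G))))
    (η : D → ℂ) (χ θ' : G → ℂ)
    (hcf : Cfsg.IsClassFunction G (bp_star p M D e η χ))
    (hθ' : Cfsg.IsClassFunction G θ') (X : Finset G)
    (hX : ∀ x ∈ X, ∃ k : ℕ, orderOf x = p ^ k)
    (hXrep : ∀ g : G, (∃ k : ℕ, orderOf g = p ^ k) → ∃! x, x ∈ X ∧ IsConj g x) :
    Cfsg.classInner (bp_star p M D e η χ) θ' = ∑ x ∈ X,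
      ∑ᶠ f ∈ {f : Set (Cfsg.IrrCharacter
          (Subgroup.centralizer ((Subgroup.zpowers x : Subgroup G) : Set G))) | Cfsg.IsPBlock M f},
        bp_etaAt p M D e η ⟨Subgroup.zpowers x, f⟩ x *
          contribP p ⟨Subgroup.zpowers x, f⟩ χ θ' x := by
  rw [bp_classInner_eq_sum_contribP hM _ _ hcf hθ' X hX hXrep]
  apply Finset.sum_congr rfl
  intro x hxX
  apply finsum_mem_congr rfl
  intro f hf
  rw [bp_contribP_star_left hM D e η χ _ x (hX x hxX) f hf]

/-- **(S)** a class function on the section of `u` is the sum of its section block parts -/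
theorem bp_sum_secPart [Fintype G] {p : ℕ} (hM : Cfsg.IsPModular p M)
    (θ : G → ℂ) (hθ : Cfsg.IsClassFunction G θ) (u : G)
    (s : Subgroup.centralizer ((Subgroup.zpowers u : Subgroup G) : Set G))
    (hs : ¬ p ∣ orderOf s) :
    ∑ᶠ f ∈ {f : Set (Cfsg.IrrCharacter
        (Subgroup.centralizer ((Subgroup.zpowers u : Subgroup G) : Set G))) | Cfsg.IsPBlock M f},
      secPart p (Subgroup.centralizer ((Subgroup.zpowers u : Subgroup G) : Set G)) f θ u s =
    θ (u * (s : G)) := by
  classical
  haveI : Fintype (Subgroup.centralizer ((Subgroup.zpowers u : Subgroup G) : Set G)) :=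
    Fintype.ofFinite _
  haveI : Finite (Cfsg.IrrCharacter
      (Subgroup.centralizer ((Subgroup.zpowers u : Subgroup G) : Set G))) := irr_finite
  have hfin : {f : Set (Cfsg.IrrCharacter
      (Subgroup.centralizer ((Subgroup.zpowers u : Subgroup G) : Set G))) |
        Cfsg.IsPBlock M f}.Finite := Set.toFinite _
  have h1 := bp_pRegularPart_eq_sum_proj hM.2.1 p _ (bp_translate_isClassFunction θ hθ u) hfin
  have h2 := congrFun h1 s
  rw [pRegularPart_apply, if_neg hs, Finset.sum_apply] at h2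
  rw [finsum_mem_eq_finite_toFinset_sum _ hfin, h2]
  rfl

/-- **determination**: a class function is determined by its section block parts -/
theorem bp_eq_of_secPart_eq [Fintype G] {p : ℕ} [hp : Fact p.Prime] (hM : Cfsg.IsPModular p M)
    (θ θ' : G → ℂ) (hθ : Cfsg.IsClassFunction G θ) (hθ' : Cfsg.IsClassFunction G θ')
    (h : ∀ (u : G) (_ : ∃ k : ℕ, orderOf u = p ^ k)
      (f : Set (Cfsg.IrrCharacter
        (Subgroup.centralizer ((Subgroup.zpowers u : Subgroup G) : Set G)))),
      Cfsg.IsPBlock M f →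
      secPart p (Subgroup.centralizer ((Subgroup.zpowers u : Subgroup G) : Set G)) f θ u =
        secPart p (Subgroup.centralizer ((Subgroup.zpowers u : Subgroup G) : Set G)) f θ' u) :
    θ = θ' := by
  funext x
  have hmem := bp_pPart_inv_mul_mem p x
  have hx : x = bp_pPart p x * (bp_pPart p x)⁻¹ * x := by group
  have hreg : ¬ p ∣ orderOf (⟨(bp_pPart p x)⁻¹ * x, hmem⟩ :
      Subgroup.centralizer ((Subgroup.zpowers (bp_pPart p x) : Subgroup G) : Set G)) := by
    rw [← Subgroup.orderOf_coe]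
    exact bp_pPart_inv_mul_regular p x
  have h1 := bp_sum_secPart hM θ hθ (bp_pPart p x) ⟨(bp_pPart p x)⁻¹ * x, hmem⟩ hreg
  have h2 := bp_sum_secPart hM θ' hθ' (bp_pPart p x) ⟨(bp_pPart p x)⁻¹ * x, hmem⟩ hreg
  have e1 : bp_pPart p x * ((⟨(bp_pPart p x)⁻¹ * x, hmem⟩ :
      Subgroup.centralizer ((Subgroup.zpowers (bp_pPart p x) : Subgroup G) : Set G)) : G) = x := by
    show bp_pPart p x * ((bp_pPart p x)⁻¹ * x) = x
    group
  rw [e1] at h1 h2
  rw [← h1, ← h2]
  apply finsum_mem_congr rfl
  intro f hf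
  rw [h (bp_pPart p x) (bp_pPart_orderOf p x) f hf]

end Cfsg.Agent.BP
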