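import Mathlib
import Cfsg.Prelude.Def_Characters
import Cfsg.Prelude.Def_Blocks
import Cfsg.Prelude.Def_BlockRank
import Cfsg.Agent.BP.StarC

/-!
# BP §9: the inner product formula (C2) on a single `p`-section

`bp_star_section_inner`: for a `p`-element `z` and arbitrary functions `χ χ' : G → ℂ`,
`∑_{g : g_p = z} (η*χ)(g) conj((η'*χ')(g)) = |C_G(z)| ∑_f η[z,f] conj(η'[z,f]) m^{(z,f)}_{χχ'}`.
No stability of `η`, `η'` and no class function hypothesis is needed.
-/

set_option autoImplicit false
set_option linter.style.haveILetI false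

namespace Cfsg.Agent.BP

open Cfsg.Agent.Helper6 Cfsg.Agent.Helper6.Maj Cfsg.Agent.Helper6.HtCen

open scoped ComplexConjugate

universe u

variable {G : Type u} [Group G] {M : Ideal Cfsg.AlgInt}

/-- the truncation of `c ↦ (η * χ)(z c)` to the `p`-regular elements of `C_G(z)` -/
theorem bp_pRegularPart_star_section [Fintype G] {p : ℕ} [hp : Fact p.Prime]
    (D : Subgroup G) (e : Set (Cfsg.IrrCharacter (Subgroup.centralizer (D : Set G))))
    (η : D → ℂ) (χ : G → ℂ) (z : G) (hz : ∃ k : ℕ, orderOf z = p ^ k)
    (hfin : {f : Set (Cfsg.IrrCharacter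
      (Subgroup.centralizer ((Subgroup.zpowers z : Subgroup G) : Set G))) |
        Cfsg.IsPBlock M f}.Finite) :
    Cfsg.pRegularPart p
      (fun c : Subgroup.centralizer ((Subgroup.zpowers z : Subgroup G) : Set G) =>
        bp_star p M D e η χ (z * (c : G))) =
      ∑ f ∈ hfin.toFinset, bp_etaAt p M D e η ⟨Subgroup.zpowers z, f⟩ z •
        secPart p (Subgroup.centralizer ((Subgroup.zpowers z : Subgroup G) : Set G)) f χ z := by
  classical
  funext s
  rw [pRegularPart_apply, Finset.sum_apply]
  split_ifs with hs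
  · symm
    apply Finset.sum_eq_zero
    intro f _
    rw [Pi.smul_apply]
    unfold secPart
    rw [pRegularPart_apply, if_pos hs, smul_zero]
  · rw [bp_star_apply_mul D e η χ z hz s hs, finsum_mem_eq_finite_toFinset_sum _ hfin]
    apply Finset.sum_congr rfl
    intro f _
    rw [Pi.smul_apply, smul_eq_mul]

open Classical in
/-- **(C2z)** the inner product formula on the `p`-section of `z` -/
theorem bp_star_section_inner [Fintype G] {p : ℕ} [hp : Fact p.Prime]
    (hM : Cfsg.IsPModular p M) (D : Subgroup G)
    (e : Set (Cfsg.IrrCharacter (Subgroup.centralizer (D : Set G)))) (η η' : D → ℂ)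
    (χ χ' : G → ℂ) (z : G) (hz : ∃ k : ℕ, orderOf z = p ^ k) :
    (∑ g : G, (if Cfsg.IsPPart p g z then
        bp_star p M D e η χ g * conj (bp_star p M D e η' χ' g) else 0)) =
    (Nat.card (Subgroup.centralizer ((Subgroup.zpowers z : Subgroup G) : Set G)) : ℂ) *
      ∑ᶠ f ∈ {f : Set (Cfsg.IrrCharacter
          (Subgroup.centralizer ((Subgroup.zpowers z : Subgroup G) : Set G))) | Cfsg.IsPBlock M f},
        bp_etaAt p M D e η ⟨Subgroup.zpowers z, f⟩ z *
          conj (bp_etaAt p M D e η' ⟨Subgroup.zpowers z, f⟩ z) *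
          contribP p ⟨Subgroup.zpowers z, f⟩ χ χ' z := by
  classical
  haveI : Fintype (Subgroup.centralizer ((Subgroup.zpowers z : Subgroup G) : Set G)) :=
    Fintype.ofFinite _
  haveI : Finite (Cfsg.IrrCharacter
      (Subgroup.centralizer ((Subgroup.zpowers z : Subgroup G) : Set G))) := irr_finite
  have hfin : {f : Set (Cfsg.IrrCharacter
      (Subgroup.centralizer ((Subgroup.zpowers z : Subgroup G) : Set G))) |
        Cfsg.IsPBlock M f}.Finite := Set.toFinite _
  have hG0 : (Nat.card G : ℂ) ≠ 0 := by
    have : 0 < Nat.card G := Nat.card_pos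
    exact_mod_cast this.ne'
  have hcl0 : (Nat.card {y : G // IsConj z y} : ℂ) ≠ 0 := by
    have : 0 < Nat.card {y : G // IsConj z y} := by
      haveI : Nonempty {y : G // IsConj z y} := ⟨⟨z, IsConj.refl z⟩⟩
      exact Nat.card_pos
    exact_mod_cast this.ne'
  have hcc : (Nat.card {y : G // IsConj z y} : ℂ) *
      (Nat.card (Subgroup.centralizer ((Subgroup.zpowers z : Subgroup G) : Set G)) : ℂ) =
      (Nat.card G : ℂ) := by
    rw [K4.centralizer_zpowers_eq' z]
    exact_mod_cast card_conj_mul_card_centralizer z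
  have h1 := bp_section_sum_eq (p := p) (bp_star p M D e η χ) (bp_star p M D e η' χ') z hz
  have h2 : (∑ g : G, (if Cfsg.IsPPart p g z then
      bp_star p M D e η χ g * conj (bp_star p M D e η' χ' g) else 0)) =
      (Nat.card (Subgroup.centralizer ((Subgroup.zpowers z : Subgroup G) : Set G)) : ℂ) *
      Cfsg.classInner
        (Cfsg.pRegularPart p
          (fun c : Subgroup.centralizer ((Subgroup.zpowers z : Subgroup G) : Set G) =>
            bp_star p M D e η χ (z * (c : G))))
        (Cfsg.pRegularPart p
          (fun c : Subgroup.centralizer ((Subgroup.zpowers z : Subgroup G) : Set G) =>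
            bp_star p M D e η' χ' (z * (c : G)))) := by
    rw [← h1, ← hcc]
    field_simp
  convert h2 using 2
  rw [bp_pRegularPart_star_section D e η χ z hz hfin,
    bp_pRegularPart_star_section D e η' χ' z hz hfin, finsum_mem_eq_finite_toFinset_sum _ hfin,
    classInner_sum_left]
  apply Finset.sum_congr rfl
  intro f hf
  rw [Set.Finite.mem_toFinset] at hf
  rw [classInner_sum_right, Finset.sum_eq_single f]
  · rw [classInner_smul_left, classInner_smul_right, contribP_eq]
    ring
  · intro f' hf' hne
    rw [Set.Finite.mem_toFinset] at hf'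
    rw [classInner_smul_left, classInner_smul_right]
    unfold secPart
    rw [bp_proj_orthogonal hM f f' hf hf' (Ne.symm hne), mul_zero, mul_zero]
  · intro hnot
    exfalso
    apply hnot
    rw [Set.Finite.mem_toFinset]
    exact hf

end Cfsg.Agent.BP
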