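import Mathlib
import Cfsg.Prelude.Def_Characters
import Cfsg.Prelude.Def_Blocks
import Cfsg.Prelude.Def_BlockRank
import Cfsg.Prelude.Def_BlockLocal
import Cfsg.Prelude.Def_BrauerPairs
import Cfsg.Agent.BP.NilB
import Cfsg.Agent.BP.StarSec

/-!
# BP §10 (nilpotent blocks): the induction statement, the normalised contributions, and the inner
product formula with the section formula discharged
-/

set_option autoImplicit false

namespace Cfsg.Agent.BP

open Cfsg.Agent.Helper6 Cfsg.Agent.Helper6.Maj Cfsg.Agent.Helper6.K4 Cfsg.Agent.Helper6.HtCen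

open scoped ComplexConjugate

universe u

variable {G : Type u} [Group G] {M : Ideal Cfsg.AlgInt}

/-- the statement proved by induction on the group order (for ONE group `K`): in a nilpotent block
`b` with a character `ζ₀` of height zero, the norm of `ζ₀` on the `p`-regular elements is
`p^{-d(b)}`, and every member of `b` is a natural multiple of `ζ₀` on the `p`-regular elements -/
def bp_NilProp (p : ℕ) (M : Ideal Cfsg.AlgInt) (K : Type u) [Group K] [Fintype K] : Prop :=
  ∀ b : Set (Cfsg.IrrCharacter K), Cfsg.IsNilpotentBlock p M b →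
    ∀ ζ₀ : Cfsg.IrrCharacter K, ζ₀ ∈ b → Cfsg.blockHeight p b (ζ₀ : K → ℂ) = 0 →
      Cfsg.classInner (Cfsg.pRegularPart p (ζ₀ : K → ℂ)) (Cfsg.pRegularPart p (ζ₀ : K → ℂ)) =
          ((p : ℂ) ^ Cfsg.blockDefect p b)⁻¹ ∧
        ∀ ζ : Cfsg.IrrCharacter K, ζ ∈ b → ∃ n : ℕ,
          Cfsg.pRegularPart p (ζ : K → ℂ) = (n : ℂ) • Cfsg.pRegularPart p (ζ₀ : K → ℂ)

/-- the normalised contribution `n(u) = |C_D(u)| · m^{(u, e_u)}_{χχ}` -/
noncomputable def bp_nAt (p : ℕ) (M : Ideal Cfsg.AlgInt) [Finite G] (D : Subgroup G)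
    (e : Set (Cfsg.IrrCharacter (Subgroup.centralizer (D : Set G)))) (χ : G → ℂ) (u : G) : ℝ :=
  (Nat.card (D ⊓ Subgroup.centralizer (Subgroup.zpowers u : Set G) : Subgroup G) : ℝ) *
    (contribP p (bp_pairAt p M D e u) χ χ u).re

open Classical in
/-- **nilpotent blocks: `⟨η * χ, η' * χ'⟩ = ∑_{u ∈ D} |C_D(u)|/|D| η(u) conj(η'(u)) m^{(u,e_u)}_{χχ'}`**
for stable `η, η'` and class functions `χ, χ'` -/
theorem bp_inner_star_eq_sum' [Fintype G] {p : ℕ} [hp : Fact p.Prime]
    (hM : Cfsg.IsPModular p M) (B : Set (Cfsg.IrrCharacter G)) (D : Subgroup G)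
    (e : Set (Cfsg.IrrCharacter (Subgroup.centralizer (D : Set G))))
    (hmax : Cfsg.IsMaximalBrauerPair p M B D e) (hnil : Cfsg.IsNilpotentBlock p M B)
    (η η' : D → ℂ) (hη : bp_stable p M D e η) (hη' : bp_stable p M D e η')
    (χ χ' : G → ℂ) (hχ : Cfsg.IsClassFunction G χ) (hχ' : Cfsg.IsClassFunction G χ') :
    Cfsg.classInner (bp_star p M D e η χ) (bp_star p M D e η' χ') =
      ∑ u : D, bp_wD p M D e η η' χ χ' (u : G) := by
  apply bp_inner_star_eq_sum hM B D e hmax hnil η η' hη hη' χ χ' hχ hχ'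
  intro z hz
  convert bp_star_section_inner hM D e η η' χ χ' z hz using 2

end Cfsg.Agent.BP
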