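import Mathlib
import Cfsg.Prelude.Def_Characters
import Cfsg.Prelude.Def_Blocks
import Cfsg.Prelude.Def_BlockRank
import Cfsg.Prelude.Def_BrauerPairs
import Cfsg.Agent.Helper6.HtCenD
import Cfsg.Agent.Helper6.HeightZeroSection
import Cfsg.Agent.BP.NilDefs

set_option autoImplicit false
set_option linter.style.haveILetI false

namespace Cfsg.Agent.BP

open Cfsg.Agent.Helper6 Cfsg.Agent.Helper6.Maj Cfsg.Agent.Helper6.K4 Cfsg.Agent.Helper6.HtCen
open scoped ComplexConjugate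

universe u

variable {G : Type u} [Group G] {M : Ideal Cfsg.AlgInt}

open Classical in
/-- **Local analysis, step A.**  If every member of `f` agrees on the `p`-regular elements with a
natural multiple of a fixed function `ζ₀`, then for a central element `u` of `H` the section parts of a
character `χ` of `G` at the powers of `u` are cyclotomic multiples of `ζ₀`, in a Galois-compatible way. -/
theorem bp_nilc_secPart_rankOne (p : ℕ) (H : Subgroup G) [Fintype H]
    [Fintype (Cfsg.IrrCharacter H)] (f : Set (Cfsg.IrrCharacter H)) (χ : G → ℂ)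
    (hχ : Cfsg.IsCharacter G χ) (u : G) (huH : u ∈ H)
    (hcen : (⟨u, huH⟩ : H) ∈ Subgroup.center H) (ζ₀ : H → ℂ)
    (hrk : ∀ θ ∈ f, ∃ n : ℕ, Cfsg.pRegularPart p (θ : H → ℂ) = (n : ℂ) • ζ₀)
    (N : ℕ) [NeZero N] (hN : orderOf u ∣ N) (ζ : ℂ) (hζ : IsPrimitiveRoot ζ N) :
    ∃ (a : Cfsg.IrrCharacter H → ℤ) (ex : Cfsg.IrrCharacter H → ℕ), ∀ k : ℕ,
      secPart p H f χ (u ^ k) =
        (∑ θ : Cfsg.IrrCharacter H, (a θ : ℂ) * ζ ^ (ex θ * k)) • ζ₀ := by
  haveI : Finite H := Finite.of_fintype H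
  choose ε hεn hε1 hε using fun θ : Cfsg.IrrCharacter H => exists_center_twist θ ⟨u, huH⟩ hcen
  have hord : orderOf (⟨u, huH⟩ : H) = orderOf u := Subgroup.orderOf_mk u huH
  -- each twist is a power of `ζ`
  have hpow : ∀ θ : Cfsg.IrrCharacter H, ∃ i : ℕ, ζ ^ i = ε θ := by
    intro θ
    have h1 : ε θ ^ N = 1 := by
      obtain ⟨m, hm⟩ := hN
      rw [hm, pow_mul, ← hord, hεn, one_pow]
    obtain ⟨i, -, hi⟩ := hζ.eq_pow_of_pow_eq_one h1
    exact ⟨i, hi⟩
  choose ex hex using hpow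
  -- multiplicities are natural numbers
  have hmult : ∀ θ : Cfsg.IrrCharacter H, ∃ m : ℕ,
      Cfsg.classInner (fun c : H => χ (c : G)) (θ : H → ℂ) = m := fun θ =>
    classInner_char_char_nat (IsCharacter.restrict H hχ) (IsIrrCharacter.isCharacter θ.2)
  choose mult hmult using hmult
  -- the multiples
  have hn : ∀ θ : Cfsg.IrrCharacter H, ∃ n : ℕ, θ ∈ f →
      Cfsg.pRegularPart p (θ : H → ℂ) = (n : ℂ) • ζ₀ := by
    intro θ
    by_cases hθ : θ ∈ f
    · obtain ⟨n, hn⟩ := hrk θ hθ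
      exact ⟨n, fun _ => hn⟩
    · exact ⟨0, fun h => absurd h hθ⟩
  choose n hn using hn
  refine ⟨fun θ => if θ ∈ f then (mult θ : ℤ) * (n θ : ℤ) else 0, ex, ?_⟩
  intro k
  rw [secPart_pow_eq p H f χ u huH ε hε1 hε k, Finset.sum_smul]
  apply Finset.sum_congr rfl
  intro θ _
  beta_reduce
  by_cases hθ : θ ∈ f
  · rw [if_pos hθ, if_pos hθ, hn θ hθ, hmult θ, smul_smul, ← hex θ, ← pow_mul]
    congr 1
    push_cast
    ring
  · rw [if_neg hθ, if_neg hθ]
    simp


open Classical in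
/-- **Local analysis, step B**: the contributions. -/
theorem bp_nilc_contrib_rankOne [Finite G] (p : ℕ) (Q : Subgroup G)
    (f : Set (Cfsg.IrrCharacter (Subgroup.centralizer (Q : Set G)))) (χ : G → ℂ)
    (hχ : Cfsg.IsCharacter G χ) (u : G) (huH : u ∈ Subgroup.centralizer (Q : Set G))
    (hcen : (⟨u, huH⟩ : Subgroup.centralizer (Q : Set G)) ∈
      Subgroup.center (Subgroup.centralizer (Q : Set G)))
    (ζ₀ : Subgroup.centralizer (Q : Set G) → ℂ)
    (hrk : ∀ θ ∈ f, ∃ n : ℕ, Cfsg.pRegularPart p (θ : Subgroup.centralizer (Q : Set G) → ℂ) =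
      (n : ℂ) • ζ₀)
    (N : ℕ) [NeZero N] (hN : orderOf u ∣ N) (ζ : ℂ) (hζ : IsPrimitiveRoot ζ N) :
    ∃ (s : Finset (Cfsg.IrrCharacter (Subgroup.centralizer (Q : Set G))))
      (a : Cfsg.IrrCharacter (Subgroup.centralizer (Q : Set G)) → ℤ)
      (ex : Cfsg.IrrCharacter (Subgroup.centralizer (Q : Set G)) → ℕ),
      (∀ k : ℕ, secPart p (Subgroup.centralizer (Q : Set G)) f χ (u ^ k) =
        (∑ θ ∈ s, (a θ : ℂ) * ζ ^ (ex θ * k)) • ζ₀) ∧
      ∀ k : ℕ, contribP p ⟨Q, f⟩ χ χ (u ^ k) =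
        ((‖∑ θ ∈ s, (a θ : ℂ) * ζ ^ (ex θ * k)‖ ^ 2 : ℝ) : ℂ) *
          @Cfsg.classInner _ _ (Fintype.ofFinite _) ζ₀ ζ₀ := by
  haveI : Fintype (Subgroup.centralizer (Q : Set G)) := Fintype.ofFinite _
  haveI : Fintype (Cfsg.IrrCharacter (Subgroup.centralizer (Q : Set G))) :=
    @Fintype.ofFinite _ irr_finite
  obtain ⟨a, ex, h⟩ := bp_nilc_secPart_rankOne p (Subgroup.centralizer (Q : Set G)) f χ hχ u huH
    hcen ζ₀ hrk N hN ζ hζ
  refine ⟨Finset.univ, a, ex, h, ?_⟩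
  intro k
  rw [contribP_eq, h k, classInner_smul_left, classInner_smul_right, ← mul_assoc,
    Complex.mul_conj, Complex.normSq_eq_norm_sq]
  congr 1
  exact classInner_inst_irrel _ _ _ _


/-- powers prime to the order generate the same cyclic subgroup -/
theorem bp_nilc_zpowers_pow {u : G} {k N : ℕ} (hN : orderOf u ∣ N) (hk : k.Coprime N) :
    Subgroup.zpowers (u ^ k) = Subgroup.zpowers u := by
  apply le_antisymm
  · rw [Subgroup.zpowers_le]
    exact Subgroup.pow_mem _ (Subgroup.mem_zpowers u) k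
  · rw [Subgroup.zpowers_le]
    obtain ⟨m, hm⟩ := exists_pow_eq_self_of_coprime (x := u) (Nat.Coprime.coprime_dvd_right hN hk)
    have h2 : (u ^ k) ^ m ∈ Subgroup.zpowers (u ^ k) :=
      Subgroup.pow_mem (Subgroup.zpowers (u ^ k)) (Subgroup.mem_zpowers (u ^ k)) m
    rwa [hm] at h2

/-- **(NilC)** local analysis at `u ∈ D` from the induction hypothesis for `C_G(u)` -/
theorem bp_nil_local [Fintype G] {p : ℕ} [hp : Fact p.Prime]
    (hM : Cfsg.IsPModular p M) (B : Set (Cfsg.IrrCharacter G)) (D : Subgroup G)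
    (e : Set (Cfsg.IrrCharacter (Subgroup.centralizer (D : Set G))))
    (hmax : Cfsg.IsMaximalBrauerPair p M B D e) (hnil : Cfsg.IsNilpotentBlock p M B)
    (χ₀ : Cfsg.IrrCharacter G) (hχ₀ : χ₀ ∈ B) (h0 : Cfsg.blockHeight p B (χ₀ : G → ℂ) = 0)
    (u : G) (hu : u ∈ D)
    [Fintype (Subgroup.centralizer (Subgroup.zpowers u : Set G))]
    (hIH : bp_NilProp p M (Subgroup.centralizer (Subgroup.zpowers u : Set G)))
    (ζ : ℂ) (hζ : IsPrimitiveRoot ζ (Nat.card D)) :
    ∃ (s : Finset (Cfsg.IrrCharacter (Subgroup.centralizer (Subgroup.zpowers u : Set G))))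
      (a : Cfsg.IrrCharacter (Subgroup.centralizer (Subgroup.zpowers u : Set G)) → ℤ)
      (ex : Cfsg.IrrCharacter (Subgroup.centralizer (Subgroup.zpowers u : Set G)) → ℕ),
      (∑ i ∈ s, (a i : ℂ) * ζ ^ ex i ≠ 0) ∧
      ∀ k : ℕ, k.Coprime (Nat.card D) →
        bp_nAt p M D e (χ₀ : G → ℂ) (u ^ k) = ‖∑ i ∈ s, (a i : ℂ) * ζ ^ (ex i * k)‖ ^ 2 := by
  classical
  have hDe := hmax.1
  have hDe' : Cfsg.IsBrauerPair p M D e := hDe.1
  obtain ⟨f, hpf⟩ := HtCen.pair_eq_mk (Subgroup.zpowers u) (bp_pairAt p M D e u)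
    (bp_pairAt_fst p D e u)
  have hle : Cfsg.SubpairLE p M (Subgroup.zpowers u) f D e := by
    have h1 := bp_pairAt_le hM D e hDe' u hu
    rw [hpf] at h1
    exact h1
  have hBf : Cfsg.IsBrauerPairOf p M B (Subgroup.zpowers u) f := by
    have h1 := bp_pairAt_isPBlock hM B D e hDe u hu
    rw [hpf] at h1
    exact h1
  have hf : Cfsg.IsPBlock M f := hBf.1.2
  have huH : u ∈ Subgroup.centralizer (Subgroup.zpowers u : Set G) :=
    K4.zpowers_le_centralizer_zpowers u (Subgroup.mem_zpowers u)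
  have hcomm : ∀ t : Subgroup.centralizer (Subgroup.zpowers u : Set G),
      u * (t : G) = (t : G) * u := fun t =>
    Subgroup.mem_centralizer_iff.mp t.2 u (Subgroup.mem_zpowers u)
  have hcen : (⟨u, huH⟩ : Subgroup.centralizer (Subgroup.zpowers u : Set G)) ∈
      Subgroup.center (Subgroup.centralizer (Subgroup.zpowers u : Set G)) := by
    rw [Subgroup.mem_center_iff]
    intro t
    apply Subtype.ext
    simp only [Subgroup.coe_mul]
    exact (hcomm t).symm
  have hfnil : Cfsg.IsNilpotentBlock p M f :=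
    isNilpotentBlock_of_isBrauerPairOf hM B hnil _ _ hBf
  have hfD : Cfsg.IsDefectGroup p M f
      ((D ⊓ Subgroup.centralizer (Subgroup.zpowers u : Set G)).subgroupOf
        (Subgroup.centralizer (Subgroup.zpowers u : Set G))) :=
    inf_centralizer_isDefectGroup_of_nilpotent hM B D e hmax hnil _ _ hf hle
  have hcardP : Nat.card ((D ⊓ Subgroup.centralizer (Subgroup.zpowers u : Set G)).subgroupOf
      (Subgroup.centralizer (Subgroup.zpowers u : Set G))) =
      Nat.card (D ⊓ Subgroup.centralizer (Subgroup.zpowers u : Set G) : Subgroup G) :=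
    Nat.card_congr (Subgroup.subgroupOfEquivOfLe inf_le_right).toEquiv
  have hcard := card_defectGroup hM.2.1 p hM.2.2 f hf _ hfD
  rw [hcardP] at hcard
  -- a character of height zero in `f`
  obtain ⟨ψ, hψ⟩ := isPBlock_nonempty' hM.2.1 f hf
  obtain ⟨ζ₀, hζ₀f, hζ₀0⟩ := exists_height_zero p f ⟨ψ, hψ⟩
  obtain ⟨hnorm, hrk⟩ := hIH f hfnil ζ₀ hζ₀f hζ₀0
  haveI : NeZero (Nat.card D) := ⟨Nat.card_pos.ne'⟩
  have hN : orderOf u ∣ Nat.card D := by
    have h1 : orderOf (⟨u, hu⟩ : D) ∣ Nat.card D := orderOf_dvd_natCard _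
    rwa [Subgroup.orderOf_mk] at h1
  obtain ⟨s, a, ex, h1, h2⟩ := bp_nilc_contrib_rankOne p (Subgroup.zpowers u) f (χ₀ : G → ℂ)
    (IsIrrCharacter.isCharacter χ₀.2) u huH hcen
    (Cfsg.pRegularPart p (ζ₀ : Subgroup.centralizer (Subgroup.zpowers u : Set G) → ℂ)) hrk
    (Nat.card D) hN ζ hζ
  refine ⟨s, a, ex, ?_, ?_⟩
  · -- non-vanishing from height zero
    have hx : ∃ k : ℕ, orderOf u = p ^ k := by
      obtain ⟨k, hk⟩ := hDe'.1 ⟨u, hu⟩
      have h3 : u ^ p ^ k = 1 := by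
        have := congrArg (fun z : D => (z : G)) hk
        simpa using this
      obtain ⟨j, -, hj⟩ := (Nat.dvd_prime_pow hp.out).mp (orderOf_dvd_of_pow_eq_one h3)
      exact ⟨j, hj⟩
    have hb : Cfsg.IsInducedBlock M (Subgroup.centralizer (Subgroup.zpowers u : Set G)) f B :=
      isInducedBlock_of_isBrauerPairOf hM B (Subgroup.zpowers u)
        (K4.zpowers_le_centralizer_zpowers u) f hBf
    obtain ⟨y, hy, hne⟩ := section_blockPart_ne_zero' p hM B χ₀ hχ₀ h0 u hx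
      (Subgroup.centralizer (Subgroup.zpowers u : Set G)) hcomm f hb
    intro hzero
    apply hne
    have h3 := h1 1
    rw [pow_one] at h3
    simp only [mul_one] at h3
    rw [hzero, zero_smul] at h3
    have h4 := congrFun h3 y
    unfold secPart at h4
    rw [pRegularPart_apply, if_neg hy] at h4
    exact h4
  · intro k hk
    have hz : Subgroup.zpowers (u ^ k) = Subgroup.zpowers u := bp_nilc_zpowers_pow hN hk
    have hpair : bp_pairAt p M D e (u ^ k) = bp_pairAt p M D e u :=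
      (bp_eq_pairAt hM D e hDe' (bp_pairAt p M D e u) (u ^ k) (bp_pairAt_le hM D e hDe' u hu)
        (by rw [bp_pairAt_fst, hz])).symm
    unfold bp_nAt
    rw [hz, hpair, hpf, h2 k, classInner_inst_irrel _ (inferInstance : Fintype
      (Subgroup.centralizer (Subgroup.zpowers u : Set G))), hnorm, hcard]
    have hp0 : ((p : ℝ) ^ Cfsg.blockDefect p f) ≠ 0 := pow_ne_zero _ (Nat.cast_ne_zero.mpr hp.out.ne_zero)
    have e1 : (((‖∑ θ ∈ s, (a θ : ℂ) * ζ ^ (ex θ * k)‖ ^ 2 : ℝ) : ℂ) *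
        ((p : ℂ) ^ Cfsg.blockDefect p f)⁻¹) =
        (((‖∑ θ ∈ s, (a θ : ℂ) * ζ ^ (ex θ * k)‖ ^ 2 *
          ((p : ℝ) ^ Cfsg.blockDefect p f)⁻¹ : ℝ)) : ℂ) := by
      push_cast
      rfl
    rw [e1, Complex.ofReal_re]
    push_cast
    field_simp
    exact mul_div_cancel_left₀ _ hp0

end Cfsg.Agent.BP
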