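import Mathlib
import Cfsg.Prelude.Def_Characters
import Cfsg.Prelude.Def_Blocks
import Cfsg.Prelude.Def_BlockRank
import Cfsg.Prelude.Def_BrauerPairs
import Cfsg.Agent.Helper6.ColumnOrth
import Cfsg.Agent.Helper6.NormOne
import Cfsg.Agent.Helper6.IrrDegree
import Cfsg.Agent.BP.StarDef
import Cfsg.Agent.BP.StarProj

/-!
# BP §10, part L: linearity of `η ↦ η * χ`, the indicator of `1`, two irreducibility criteria
-/

set_option autoImplicit false
set_option linter.style.haveILetI false

namespace Cfsg.Agent.BP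

open Cfsg.Agent.Helper6 Cfsg.Agent.Helper6.Maj

open scoped ComplexConjugate

universe u

variable {G : Type u} [Group G] {M : Ideal Cfsg.AlgInt}

/-- extension by zero is linear -/
theorem bp_nil_l_extendByZero_sum (D : Subgroup G) {ι : Type*} (s : Finset ι) (c : ι → ℂ)
    (η : ι → D → ℂ) (g : G) :
    Cfsg.extendByZero D (fun w => ∑ i ∈ s, c i * η i w) g =
      ∑ i ∈ s, c i * Cfsg.extendByZero D (η i) g := by
  unfold Cfsg.extendByZero
  by_cases hg : g ∈ D
  · rw [Subtype.val_injective.extend_apply _ _ (⟨g, hg⟩ : D)]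
    apply Finset.sum_congr rfl
    intro i _
    rw [Subtype.val_injective.extend_apply _ _ (⟨g, hg⟩ : D)]
  · have hne : ¬ ∃ w : D, (w : G) = g := by
      rintro ⟨w, hw⟩
      exact hg (hw ▸ w.2)
    rw [Function.extend_apply' _ _ _ hne]
    symm
    apply Finset.sum_eq_zero
    intro i _
    rw [Function.extend_apply' _ _ _ hne]
    simp

/-- `η ↦ η[a; u]` is linear -/
theorem bp_nil_l_etaAt_sum {p : ℕ} (D : Subgroup G)
    (e : Set (Cfsg.IrrCharacter (Subgroup.centralizer (D : Set G)))) {ι : Type*} (s : Finset ι)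
    (c : ι → ℂ) (η : ι → D → ℂ) (a : Cfsg.BrauerPairIdx G) (u : G) :
    bp_etaAt p M D e (fun w => ∑ i ∈ s, c i * η i w) a u =
      ∑ i ∈ s, c i * bp_etaAt p M D e (η i) a u := by
  classical
  unfold bp_etaAt
  by_cases h : ∃ t : G, Relation.ReflTransGen (Cfsg.NormalSubpairRel p M) (conjPair t a) ⟨D, e⟩
  · rw [dif_pos h, bp_nil_l_extendByZero_sum]
    apply Finset.sum_congr rfl
    intro i _
    rw [dif_pos h]
  · rw [dif_neg h]
    symm
    apply Finset.sum_eq_zero
    intro i _
    rw [dif_neg h, mul_zero]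

/-- **(NilL)** linearity of `*` in `η` -/
theorem bp_star_sum_smul [Fintype G] {p : ℕ} [hp : Fact p.Prime] (D : Subgroup G)
    (e : Set (Cfsg.IrrCharacter (Subgroup.centralizer (D : Set G)))) {ι : Type*} (s : Finset ι)
    (c : ι → ℂ) (η : ι → D → ℂ) (χ : G → ℂ) (x : G) :
    bp_star p M D e (fun w => ∑ i ∈ s, c i * η i w) χ x =
      ∑ i ∈ s, c i * bp_star p M D e (η i) χ x := by
  classical
  unfold bp_star bp_starAt
  haveI : Finite (Cfsg.IrrCharacter (Subgroup.centralizer
      ((Subgroup.zpowers (bp_pPart p x) : Subgroup G) : Set G))) := irr_finite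
  have hfin : {f : Set (Cfsg.IrrCharacter (Subgroup.centralizer
      ((Subgroup.zpowers (bp_pPart p x) : Subgroup G) : Set G))) | Cfsg.IsPBlock M f}.Finite :=
    Set.toFinite _
  rw [finsum_mem_eq_finite_toFinset_sum _ hfin]
  have h1 : ∀ i ∈ s, c i * (∑ᶠ f ∈ {f : Set (Cfsg.IrrCharacter (Subgroup.centralizer
      ((Subgroup.zpowers (bp_pPart p x) : Subgroup G) : Set G))) | Cfsg.IsPBlock M f},
      bp_etaAt p M D e (η i) ⟨Subgroup.zpowers (bp_pPart p x), f⟩ (bp_pPart p x) *
        Cfsg.extendByZero (Subgroup.centralizer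
          ((Subgroup.zpowers (bp_pPart p x) : Subgroup G) : Set G))
          (Cfsg.blockPart f (fun c => χ (bp_pPart p x * (c : G)))) ((bp_pPart p x)⁻¹ * x)) =
      ∑ f ∈ hfin.toFinset, c i *
        (bp_etaAt p M D e (η i) ⟨Subgroup.zpowers (bp_pPart p x), f⟩ (bp_pPart p x) *
        Cfsg.extendByZero (Subgroup.centralizer
          ((Subgroup.zpowers (bp_pPart p x) : Subgroup G) : Set G))
          (Cfsg.blockPart f (fun c => χ (bp_pPart p x * (c : G)))) ((bp_pPart p x)⁻¹ * x)) := by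
    intro i _
    rw [finsum_mem_eq_finite_toFinset_sum _ hfin, Finset.mul_sum]
  rw [Finset.sum_congr rfl h1, Finset.sum_comm]
  apply Finset.sum_congr rfl
  intro f _
  rw [bp_nil_l_etaAt_sum, Finset.sum_mul]
  apply Finset.sum_congr rfl
  intro i _
  ring

/-- **(NilL)** the indicator function of `1` as a combination of the irreducible characters -/
theorem bp_indicator_one_eq_sum {D : Type u} [Group D] [Fintype D]
    [Fintype (Cfsg.IrrCharacter D)] [DecidableEq D] (w : D) :
    (if w = 1 then (1 : ℂ) else 0) =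
      ∑ η : Cfsg.IrrCharacter D, ((η : D → ℂ) 1 / (Nat.card D : ℂ)) * (η : D → ℂ) w := by
  classical
  have hD0 : (Nat.card D : ℂ) ≠ 0 := by
    have : 0 < Nat.card D := Nat.card_pos
    exact_mod_cast this.ne'
  have h1 := column_orthogonality_aux w (1 : D)
  have h2 : ∀ η : Cfsg.IrrCharacter D, ((η : D → ℂ) 1 / (Nat.card D : ℂ)) * (η : D → ℂ) w =
      (Nat.card D : ℂ)⁻¹ * ((η : D → ℂ) w * conj ((η : D → ℂ) 1)) := by
    intro η
    obtain ⟨n, hn⟩ := IsCharacter.apply_one (IsIrrCharacter.isCharacter η.2)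
    rw [hn, Complex.conj_natCast]
    field_simp
  rw [Finset.sum_congr rfl (fun η _ => h2 η), ← Finset.mul_sum, h1]
  by_cases hw : w = 1
  · subst hw
    rw [if_pos rfl, if_pos (IsConj.refl 1)]
    have hc : Nat.card (Subgroup.centralizer ({(1 : D)} : Set D)) = Nat.card D := by
      have : Subgroup.centralizer ({(1 : D)} : Set D) = ⊤ := by
        ext x
        simp [Subgroup.mem_centralizer_singleton_iff]
      rw [this, Subgroup.card_top]
    rw [hc, inv_mul_cancel₀ hD0]
  · rw [if_neg hw, if_neg, mul_zero]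
    intro hc
    exact hw (isConj_one_left.mp hc)

/-- **(NilL)** an irreducible character whose `p`-regular part is a nonzero multiple of that of a
member of the block `B` lies in `B` -/
theorem bp_mem_block_of_pRegularPart [Fintype G] {p : ℕ} [hp : Fact p.Prime]
    (hM : Cfsg.IsPModular p M) (B : Set (Cfsg.IrrCharacter G)) (hB : Cfsg.IsPBlock M B)
    (χ₀ ψ : Cfsg.IrrCharacter G) (hχ₀ : χ₀ ∈ B) (c : ℂ) (hc : c ≠ 0)
    (h : Cfsg.pRegularPart p (ψ : G → ℂ) = c • Cfsg.pRegularPart p (χ₀ : G → ℂ)) : ψ ∈ B := by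
  classical
  by_contra hψ
  have h1 : Cfsg.classInner (Cfsg.pRegularPart p (ψ : G → ℂ)) (ψ : G → ℂ) = 0 := by
    rw [h, classInner_smul_left, bp_classInner_pRegularPart_irr_of_ne hM B hB χ₀ ψ hχ₀ hψ,
      mul_zero]
  rw [classInner_pRegularPart_left] at h1
  have h2 := classInner_self_eq_zero h1
  have h3 := congrFun h2 1
  rw [pRegularPart_apply, Pi.zero_apply, if_neg] at h3
  · exact IsIrrCharacter.apply_one_ne_zero ψ.2 h3
  · rw [orderOf_one]
    exact fun hd => hp.out.one_lt.ne' (Nat.dvd_one.mp hd)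

/-- **(NilL)** a generalized character of norm one and positive degree is irreducible -/
theorem bp_irr_of_norm_one [Fintype G] (θ : G → ℂ) (hθ : Cfsg.IsGeneralizedCharacter G θ)
    (hn : Cfsg.classInner θ θ = 1) (hpos : 0 < (θ 1).re) : Cfsg.IsIrrCharacter G θ := by
  obtain ⟨χ, hχ, h | h⟩ := exists_signed_irr_of_norm_one hθ hn
  · rw [h]
    exact hχ
  · exfalso
    obtain ⟨m, hm, hm1⟩ := IsIrrCharacter.apply_one_pos hχ
    rw [h, Pi.neg_apply, hm1] at hpos
    simp only [Complex.neg_re, Complex.natCast_re] at hpos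
    have : (0 : ℝ) ≤ (m : ℝ) := Nat.cast_nonneg m
    linarith

end Cfsg.Agent.BP
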