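import Mathlib
import Cfsg.Prelude.Def_Characters
import Cfsg.Prelude.Def_Blocks
import Cfsg.Prelude.Def_BlockRank
import Cfsg.Prelude.Def_BrauerPairs
import Cfsg.Agent.Helper6.SectionOrthB
import Cfsg.Agent.Helper6.SecondMainC
import Cfsg.Agent.Helper6.FreeActionNilpotent
import Cfsg.Agent.Helper6.PairConj2
import Cfsg.Agent.Helper6.DefectOneTwoB
import Cfsg.Agent.BP.StarC

/-!
# BP §9: (Z), (C3), (C4) for the Broué–Puig `*`-construction

`(D, e)` a maximal Brauer pair of the block `B`, `χ ∈ Irr(B)`.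

* `bp_secPart_eq_zero_of_not_conj` (Z): `d^{(u,f)} χ = 0` unless `(⟨u⟩, f)` is conjugate to a pair
  below `(D, e)` (second main theorem + conjugacy of the Brauer pairs of `B`);
* `bp_star_one` (C4'): `1 * χ = χ`;
* `bp_star_apply_regular` (C4): `(η * χ)(s) = η(1) χ(s)` for `p`-regular `s`;
* `bp_star_star` (C4''): `η * (η' * χ) = (η η') * χ`;
* `bp_classInner_star_eq_zero` (C3): `η * χ` is orthogonal to the irreducible characters outside `B`.
-/

set_option autoImplicit false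
set_option linter.style.haveILetI false

namespace Cfsg.Agent.BP

open Cfsg.Agent.Helper6 Cfsg.Agent.Helper6.Maj Cfsg.Agent.Helper6.HtCen

open scoped ComplexConjugate

universe u

variable {G : Type u} [Group G] {M : Ideal Cfsg.AlgInt}

/-- the second main theorem on a subgroup equal to the centralizer -/
theorem bp_blockPart_section_eq_zero [Fintype G] {p : ℕ} [hp : Fact p.Prime]
    (hM : Cfsg.IsPModular p M) (x : G) (hx : ∃ k : ℕ, orderOf x = p ^ k)
    (H : Subgroup G) (hH : H = Subgroup.centralizer ({x} : Set G))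
    (B' : Set (Cfsg.IrrCharacter G)) (f : Set (Cfsg.IrrCharacter H))
    (hf : Cfsg.IsInducedBlock M H f B') (χ : Cfsg.IrrCharacter G) (hχ : χ ∉ B')
    (s : H) (hs : ¬ p ∣ orderOf s) :
    Cfsg.blockPart f (fun c : H => (χ : G → ℂ) (x * (c : G))) s = 0 := by
  subst hH
  exact blockPart_section_eq_zero_of_not_mem hM x hx B' f hf χ hχ s hs

/-- `d^{(u,f)} χ = 0` for `χ` outside the block induced by `f` -/
theorem bp_secPart_eq_zero_of_not_mem [Fintype G] {p : ℕ} [hp : Fact p.Prime]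
    (hM : Cfsg.IsPModular p M) (u : G) (hu : ∃ k : ℕ, orderOf u = p ^ k)
    (B' : Set (Cfsg.IrrCharacter G))
    (f : Set (Cfsg.IrrCharacter
      (Subgroup.centralizer ((Subgroup.zpowers u : Subgroup G) : Set G))))
    (hf : Cfsg.IsInducedBlock M
      (Subgroup.centralizer ((Subgroup.zpowers u : Subgroup G) : Set G)) f B')
    (χ : Cfsg.IrrCharacter G) (hχ : χ ∉ B') :
    secPart p (Subgroup.centralizer ((Subgroup.zpowers u : Subgroup G) : Set G)) f
      (χ : G → ℂ) u = 0 := by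
  classical
  funext s
  unfold secPart
  rw [pRegularPart_apply, Pi.zero_apply]
  split_ifs with hs
  · rfl
  · exact bp_blockPart_section_eq_zero hM u hu _ (K4.centralizer_zpowers_eq' u) B' f hf χ hχ s hs

/-- every block of `C_G(u)`, `u` a `p`-element, induces a block of `G` -/
theorem bp_inducedBlockDefined [Fintype G] {p : ℕ} [hp : Fact p.Prime]
    (hM : Cfsg.IsPModular p M) (u : G) (hu : ∃ k : ℕ, orderOf u = p ^ k)
    (f : Set (Cfsg.IrrCharacter
      (Subgroup.centralizer ((Subgroup.zpowers u : Subgroup G) : Set G))))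
    (hf : Cfsg.IsPBlock M f) :
    ∃ B' : Set (Cfsg.IrrCharacter G), Cfsg.IsInducedBlock M
      (Subgroup.centralizer ((Subgroup.zpowers u : Subgroup G) : Set G)) f B' := by
  obtain ⟨k, hk⟩ := hu
  have hP : IsPGroup p (Subgroup.zpowers u) := by
    apply IsPGroup.of_card (n := k)
    rw [Nat.card_zpowers, hk]
  exact inducedBlockDefined_of_local hM (Subgroup.zpowers u) _ hP
    (K4.zpowers_le_centralizer_zpowers u) le_rfl (Subgroup.centralizer_le_normalizer _) f hf

/-- **(Z)**: for `χ ∈ Irr(B)` the part `d^{(u,f)} χ` vanishes unless `(⟨u⟩, f)` is conjugate to a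
pair below the maximal pair `(D, e)` of `B` -/
theorem bp_secPart_eq_zero_of_not_conj [Fintype G] {p : ℕ} [hp : Fact p.Prime]
    (hM : Cfsg.IsPModular p M) (B : Set (Cfsg.IrrCharacter G)) (D : Subgroup G)
    (e : Set (Cfsg.IrrCharacter (Subgroup.centralizer (D : Set G))))
    (hmax : Cfsg.IsMaximalBrauerPair p M B D e) (χ : Cfsg.IrrCharacter G) (hχ : χ ∈ B)
    (u : G) (hu : ∃ k : ℕ, orderOf u = p ^ k)
    (f : Set (Cfsg.IrrCharacter
      (Subgroup.centralizer ((Subgroup.zpowers u : Subgroup G) : Set G))))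
    (hf : Cfsg.IsPBlock M f)
    (h : ¬ ∃ t : G, Relation.ReflTransGen (Cfsg.NormalSubpairRel p M)
      (conjPair t ⟨Subgroup.zpowers u, f⟩) ⟨D, e⟩) :
    secPart p (Subgroup.centralizer ((Subgroup.zpowers u : Subgroup G) : Set G)) f
      (χ : G → ℂ) u = 0 := by
  obtain ⟨B', hB'⟩ := bp_inducedBlockDefined hM u hu f hf
  apply bp_secPart_eq_zero_of_not_mem hM u hu B' f hB' χ
  intro hχ'
  apply h
  have hBB' : B' = B := by
    rw [eq_blockOf_of_mem hM.2.1 B' hB'.2.1 χ hχ', eq_blockOf_of_mem hM.2.1 B hmax.1.2.1 χ hχ]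
  rw [hBB'] at hB'
  obtain ⟨k, hk⟩ := hu
  have hP : IsPGroup p (Subgroup.zpowers u) := by
    apply IsPGroup.of_card (n := k)
    rw [Nat.card_zpowers, hk]
  have hpair := isBrauerPairOf_of_isInducedBlock hM B (Subgroup.zpowers u) hP f hB'
  obtain ⟨x, hx⟩ := exists_conj_subpairLE hM B D (Subgroup.zpowers u) e f hmax hpair
  exact ⟨x, hx⟩

/-- the value `η[a; u]` at a pair conjugate to a pair below `(D, e)` is a value of `η` -/
theorem bp_etaAt_eq_apply {p : ℕ} (D : Subgroup G)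
    (e : Set (Cfsg.IrrCharacter (Subgroup.centralizer (D : Set G)))) (η : D → ℂ)
    (a : Cfsg.BrauerPairIdx G) (u : G) (hu : u ∈ a.1)
    (h : ∃ t : G, Relation.ReflTransGen (Cfsg.NormalSubpairRel p M) (conjPair t a) ⟨D, e⟩) :
    ∃ (t : G) (ht : t * u * t⁻¹ ∈ D), bp_etaAt p M D e η a u = η ⟨t * u * t⁻¹, ht⟩ := by
  have hle := SubpairLE.le' _ _ h.choose_spec
  have hmem : h.choose * u * h.choose⁻¹ ∈ D := hle ⟨u, hu, rfl⟩
  refine ⟨h.choose, hmem, ?_⟩
  unfold bp_etaAt
  rw [dif_pos h]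
  unfold Cfsg.extendByZero
  exact Subtype.val_injective.extend_apply _ _ (⟨h.choose * u * h.choose⁻¹, hmem⟩ : D)

/-- replacing the coefficients `η[u, f]` on the pairs conjugate below `(D, e)` -/
theorem bp_etaAt_smul_secPart_congr [Fintype G] {p : ℕ} [hp : Fact p.Prime]
    (hM : Cfsg.IsPModular p M) (B : Set (Cfsg.IrrCharacter G)) (D : Subgroup G)
    (e : Set (Cfsg.IrrCharacter (Subgroup.centralizer (D : Set G))))
    (hmax : Cfsg.IsMaximalBrauerPair p M B D e) (η : D → ℂ)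
    (χ : Cfsg.IrrCharacter G) (hχ : χ ∈ B)
    (u : G) (hu : ∃ k : ℕ, orderOf u = p ^ k)
    (f : Set (Cfsg.IrrCharacter
      (Subgroup.centralizer ((Subgroup.zpowers u : Subgroup G) : Set G))))
    (hf : Cfsg.IsPBlock M f) (c : ℂ)
    (hc : (∃ t : G, Relation.ReflTransGen (Cfsg.NormalSubpairRel p M)
      (conjPair t ⟨Subgroup.zpowers u, f⟩) ⟨D, e⟩) →
        bp_etaAt p M D e η ⟨Subgroup.zpowers u, f⟩ u = c)
    (s : Subgroup.centralizer ((Subgroup.zpowers u : Subgroup G) : Set G)) :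
    bp_etaAt p M D e η ⟨Subgroup.zpowers u, f⟩ u *
        secPart p (Subgroup.centralizer ((Subgroup.zpowers u : Subgroup G) : Set G)) f
          (χ : G → ℂ) u s =
      c * secPart p (Subgroup.centralizer ((Subgroup.zpowers u : Subgroup G) : Set G)) f
          (χ : G → ℂ) u s := by
  by_cases h : ∃ t : G, Relation.ReflTransGen (Cfsg.NormalSubpairRel p M)
      (conjPair t ⟨Subgroup.zpowers u, f⟩) ⟨D, e⟩
  · rw [hc h]
  · rw [bp_secPart_eq_zero_of_not_conj hM B D e hmax χ hχ u hu f hf h, Pi.zero_apply, mul_zero,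
      mul_zero]

/-- the decomposition `x = u s` of an element into its `p`-part and `p'`-part, packaged -/
theorem bp_exists_decomp [Finite G] (p : ℕ) [hp : Fact p.Prime] (x : G) :
    ∃ (u : G) (_ : ∃ k : ℕ, orderOf u = p ^ k)
      (s : Subgroup.centralizer ((Subgroup.zpowers u : Subgroup G) : Set G)),
      ¬ p ∣ orderOf s ∧ x = u * (s : G) := by
  refine ⟨bp_pPart p x, bp_pPart_orderOf p x, ⟨(bp_pPart p x)⁻¹ * x, bp_pPart_inv_mul_mem p x⟩,
    ?_, ?_⟩
  · rw [← Subgroup.orderOf_coe]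
    exact bp_pPart_inv_mul_regular p x
  · show x = bp_pPart p x * ((bp_pPart p x)⁻¹ * x)
    group

/-- **(C4')** `1 * χ = χ` for `χ ∈ Irr(B)` -/
theorem bp_star_one [Fintype G] {p : ℕ} [hp : Fact p.Prime]
    (hM : Cfsg.IsPModular p M) (B : Set (Cfsg.IrrCharacter G)) (D : Subgroup G)
    (e : Set (Cfsg.IrrCharacter (Subgroup.centralizer (D : Set G))))
    (hmax : Cfsg.IsMaximalBrauerPair p M B D e) (χ : Cfsg.IrrCharacter G) (hχ : χ ∈ B) :
    bp_star p M D e (fun _ => (1 : ℂ)) (χ : G → ℂ) = (χ : G → ℂ) := by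
  funext x
  obtain ⟨u, hu, s, hs, rfl⟩ := bp_exists_decomp p x
  rw [bp_star_apply_mul D e _ _ u hu s hs,
    ← bp_sum_secPart hM (χ : G → ℂ)
      (IsCharacter.isClassFunction (IsIrrCharacter.isCharacter χ.2)) u s hs]
  apply finsum_mem_congr rfl
  intro f hf
  rw [bp_etaAt_smul_secPart_congr hM B D e hmax _ χ hχ u hu f hf 1 ?_ s, one_mul]
  intro h
  obtain ⟨t, ht, h1⟩ := bp_etaAt_eq_apply (M := M) (p := p) D e (fun _ => (1 : ℂ))
    ⟨Subgroup.zpowers u, f⟩ u (Subgroup.mem_zpowers u) h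
  rw [h1]

/-- **(C4)** `(η * χ)(s) = η(1) χ(s)` for `p`-regular `s`, `χ ∈ Irr(B)` -/
theorem bp_star_apply_regular [Fintype G] {p : ℕ} [hp : Fact p.Prime]
    (hM : Cfsg.IsPModular p M) (B : Set (Cfsg.IrrCharacter G)) (D : Subgroup G)
    (e : Set (Cfsg.IrrCharacter (Subgroup.centralizer (D : Set G))))
    (hmax : Cfsg.IsMaximalBrauerPair p M B D e) (η : D → ℂ) (χ : Cfsg.IrrCharacter G)
    (hχ : χ ∈ B) (s : G) (hs : ¬ p ∣ orderOf s) :
    bp_star p M D e η (χ : G → ℂ) s = η 1 * (χ : G → ℂ) s := by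
  have hu : ∃ k : ℕ, orderOf (1 : G) = p ^ k := ⟨0, by rw [orderOf_one, pow_zero]⟩
  have hmem : s ∈ Subgroup.centralizer ((Subgroup.zpowers (1 : G) : Subgroup G) : Set G) := by
    rw [Subgroup.mem_centralizer_iff]
    intro h hh
    obtain ⟨n, rfl⟩ := Subgroup.mem_zpowers_iff.mp hh
    simp
  have hs' : ¬ p ∣ orderOf (⟨s, hmem⟩ :
      Subgroup.centralizer ((Subgroup.zpowers (1 : G) : Subgroup G) : Set G)) := by
    rw [← Subgroup.orderOf_coe]
    exact hs
  have e1 : s = 1 * ((⟨s, hmem⟩ :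
      Subgroup.centralizer ((Subgroup.zpowers (1 : G) : Subgroup G) : Set G)) : G) := by
    rw [one_mul]
  have h2 := bp_sum_secPart hM (χ : G → ℂ)
      (IsCharacter.isClassFunction (IsIrrCharacter.isCharacter χ.2)) 1 ⟨s, hmem⟩ hs'
  rw [← e1] at h2
  conv_lhs => rw [e1]
  rw [bp_star_apply_mul D e _ _ 1 hu ⟨s, hmem⟩ hs', ← h2]
  haveI : Finite (Cfsg.IrrCharacter
      (Subgroup.centralizer ((Subgroup.zpowers (1 : G) : Subgroup G) : Set G))) := irr_finite
  rw [mul_finsum_mem]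
  apply finsum_mem_congr rfl
  intro f hf
  apply bp_etaAt_smul_secPart_congr hM B D e hmax _ χ hχ 1 hu f hf (η 1) ?_ ⟨s, hmem⟩
  intro h
  obtain ⟨t, ht, h1⟩ := bp_etaAt_eq_apply (M := M) (p := p) D e η
    ⟨Subgroup.zpowers (1 : G), f⟩ 1 (Subgroup.mem_zpowers 1) h
  rw [h1]
  congr 1
  apply Subtype.ext
  show t * 1 * t⁻¹ = 1
  group

/-- `(η η')[a; u] = η[a; u] η'[a; u]` -/
theorem bp_etaAt_mul {p : ℕ} (D : Subgroup G)
    (e : Set (Cfsg.IrrCharacter (Subgroup.centralizer (D : Set G)))) (η η' : D → ℂ)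
    (a : Cfsg.BrauerPairIdx G) (u : G) :
    bp_etaAt p M D e (η * η') a u = bp_etaAt p M D e η a u * bp_etaAt p M D e η' a u := by
  classical
  unfold bp_etaAt
  by_cases h : ∃ t : G, Relation.ReflTransGen (Cfsg.NormalSubpairRel p M) (conjPair t a) ⟨D, e⟩
  · rw [dif_pos h, dif_pos h, dif_pos h]
    unfold Cfsg.extendByZero
    by_cases hmem : h.choose * u * h.choose⁻¹ ∈ D
    · rw [Subtype.val_injective.extend_apply _ _ (⟨_, hmem⟩ : D),
        Subtype.val_injective.extend_apply _ _ (⟨_, hmem⟩ : D),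
        Subtype.val_injective.extend_apply _ _ (⟨_, hmem⟩ : D), Pi.mul_apply]
    · have hne : ¬ ∃ w : D, (w : G) = h.choose * u * h.choose⁻¹ := by
        rintro ⟨w, hw⟩
        exact hmem (hw ▸ w.2)
      rw [Function.extend_apply' _ _ _ hne, Function.extend_apply' _ _ _ hne,
        Function.extend_apply' _ _ _ hne]
      simp
  · rw [dif_neg h, dif_neg h, dif_neg h, zero_mul]

/-- **(C4'')** `η * (η' * χ) = (η η') * χ` -/
theorem bp_star_star [Fintype G] {p : ℕ} [hp : Fact p.Prime]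
    (hM : Cfsg.IsPModular p M) (D : Subgroup G)
    (e : Set (Cfsg.IrrCharacter (Subgroup.centralizer (D : Set G)))) (η η' : D → ℂ)
    (χ : G → ℂ) :
    bp_star p M D e η (bp_star p M D e η' χ) = bp_star p M D e (η * η') χ := by
  funext x
  obtain ⟨u, hu, s, hs, rfl⟩ := bp_exists_decomp p x
  rw [bp_star_apply_mul D e _ _ u hu s hs, bp_star_apply_mul D e _ _ u hu s hs]
  apply finsum_mem_congr rfl
  intro f hf
  rw [bp_secPart_star hM D e η' χ u hu f hf, bp_etaAt_mul, Pi.smul_apply, smul_eq_mul, mul_assoc]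

end Cfsg.Agent.BP
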