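import Mathlib
import Cfsg.Prelude.Def_Characters
import Cfsg.Prelude.Def_Blocks
import Cfsg.Prelude.Def_BlockRank
import Cfsg.Prelude.Def_BrauerPairs
import Cfsg.Agent.Helper6.NormOne
import Cfsg.Agent.Helper6.IrrDegree
import Cfsg.Agent.Helper6.DefectOneTwoB
import Cfsg.Agent.BP.StarC4

/-!
# BP §9: (C3) and (C5)

`(D, e)` a maximal Brauer pair of the block `B`, `χ ∈ Irr(B)`.

* `bp_classInner_star_eq_zero` (C3): `η * χ` is orthogonal to the irreducible characters outside
  `B` (if it is a class function);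
* `bp_classInner_star_self` : `⟨λ * χ, λ * χ⟩ = 1` for a linear character `λ` of `D`;
* `bp_star_irr` (C5): if `λ * χ` is a generalized character, it is an irreducible character in `B`.
-/

set_option autoImplicit false
set_option linter.style.haveILetI false

namespace Cfsg.Agent.BP

open Cfsg.Agent.Helper6 Cfsg.Agent.Helper6.Maj Cfsg.Agent.Helper6.HtCen

open scoped ComplexConjugate

universe u

variable {G : Type u} [Group G] {M : Ideal Cfsg.AlgInt}

/-- the contribution of two irreducible characters in different blocks vanishes -/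
theorem bp_contribP_eq_zero_of_not_mem [Fintype G] {p : ℕ} [hp : Fact p.Prime]
    (hM : Cfsg.IsPModular p M) (B : Set (Cfsg.IrrCharacter G)) (hB : Cfsg.IsPBlock M B)
    (χ ψ : Cfsg.IrrCharacter G) (hχ : χ ∈ B) (hψ : ψ ∉ B)
    (u : G) (hu : ∃ k : ℕ, orderOf u = p ^ k)
    (f : Set (Cfsg.IrrCharacter
      (Subgroup.centralizer ((Subgroup.zpowers u : Subgroup G) : Set G))))
    (hf : Cfsg.IsPBlock M f) :
    contribP p ⟨Subgroup.zpowers u, f⟩ (χ : G → ℂ) (ψ : G → ℂ) u = 0 := by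
  haveI : Fintype (Subgroup.centralizer ((Subgroup.zpowers u : Subgroup G) : Set G)) :=
    Fintype.ofFinite _
  obtain ⟨B', hB'⟩ := bp_inducedBlockDefined hM u hu f hf
  rw [contribP_eq]
  by_cases hχ' : χ ∈ B'
  · have hBB' : B' = B := by
      rw [eq_blockOf_of_mem hM.2.1 B' hB'.2.1 χ hχ', eq_blockOf_of_mem hM.2.1 B hB χ hχ]
    rw [bp_secPart_eq_zero_of_not_mem hM u hu B' f hB' ψ (by rw [hBB']; exact hψ),
      classInner_zero_right]
  · rw [bp_secPart_eq_zero_of_not_mem hM u hu B' f hB' χ hχ', classInner_zero_left]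

/-- **(C3)** `η * χ` is orthogonal to the irreducible characters outside `B` -/
theorem bp_classInner_star_eq_zero [Fintype G] {p : ℕ} [hp : Fact p.Prime]
    (hM : Cfsg.IsPModular p M) (B : Set (Cfsg.IrrCharacter G)) (hB : Cfsg.IsPBlock M B)
    (D : Subgroup G)
    (e : Set (Cfsg.IrrCharacter (Subgroup.centralizer (D : Set G)))) (η : D → ℂ)
    (χ : Cfsg.IrrCharacter G) (hχ : χ ∈ B)
    (hcf : Cfsg.IsClassFunction G (bp_star p M D e η (χ : G → ℂ)))
    (ψ : Cfsg.IrrCharacter G) (hψ : ψ ∉ B) :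
    Cfsg.classInner (bp_star p M D e η (χ : G → ℂ)) (ψ : G → ℂ) = 0 := by
  obtain ⟨X, -, hX, hXrep⟩ := exists_section_reps p (1 : G) ⟨0, by rw [orderOf_one, pow_zero]⟩
  rw [bp_classInner_star_left hM D e η _ _ hcf
    (IsCharacter.isClassFunction (IsIrrCharacter.isCharacter ψ.2)) X hX hXrep]
  apply Finset.sum_eq_zero
  intro x hxX
  apply finsum_mem_eq_zero_of_forall_eq_zero
  intro f hf
  rw [bp_contribP_eq_zero_of_not_mem hM B hB χ ψ hχ hψ x (hX x hxX) f hf, mul_zero]

/-- the values of a linear character of a finite group have absolute value one -/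
theorem bp_lam_mul_conj {D : Type*} [Group D] [Finite D] (lam : D →* ℂˣ) (w : D) :
    ((lam w : ℂˣ) : ℂ) * conj ((lam w : ℂˣ) : ℂ) = 1 := by
  have h1 : ((lam w : ℂˣ) : ℂ) ^ Nat.card D = 1 := by
    rw [← Units.val_pow_eq_pow_val, ← map_pow, pow_card_eq_one', map_one, Units.val_one]
  have h2 : ‖((lam w : ℂˣ) : ℂ)‖ = 1 :=
    Complex.norm_eq_one_of_pow_eq_one h1 Nat.card_pos.ne'
  rw [Complex.mul_conj, Complex.normSq_eq_norm_sq, h2]
  simp

/-- `⟨λ * χ, λ * χ⟩ = 1` for a linear character `λ` of `D` and `χ ∈ Irr(B)` -/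
theorem bp_classInner_star_self [Fintype G] {p : ℕ} [hp : Fact p.Prime]
    (hM : Cfsg.IsPModular p M) (B : Set (Cfsg.IrrCharacter G)) (D : Subgroup G)
    (e : Set (Cfsg.IrrCharacter (Subgroup.centralizer (D : Set G))))
    (hmax : Cfsg.IsMaximalBrauerPair p M B D e) (lam : D →* ℂˣ)
    (χ : Cfsg.IrrCharacter G) (hχ : χ ∈ B)
    (hcf : Cfsg.IsClassFunction G
      (bp_star p M D e (fun w => ((lam w : ℂˣ) : ℂ)) (χ : G → ℂ))) :
    Cfsg.classInner (bp_star p M D e (fun w => ((lam w : ℂˣ) : ℂ)) (χ : G → ℂ))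
      (bp_star p M D e (fun w => ((lam w : ℂˣ) : ℂ)) (χ : G → ℂ)) = 1 := by
  obtain ⟨X, -, hX, hXrep⟩ := exists_section_reps p (1 : G) ⟨0, by rw [orderOf_one, pow_zero]⟩
  have hχcf := IsCharacter.isClassFunction (IsIrrCharacter.isCharacter χ.2)
  rw [bp_classInner_star hM D e _ _ _ _ hcf hcf X hX hXrep, ← classInner_irr_self χ.2,
    bp_classInner_eq_sum_contribP hM _ _ hχcf hχcf X hX hXrep]
  apply Finset.sum_congr rfl
  intro x hxX
  apply finsum_mem_congr rfl
  intro f hf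
  haveI : Fintype (Subgroup.centralizer ((Subgroup.zpowers x : Subgroup G) : Set G)) :=
    Fintype.ofFinite _
  by_cases h : ∃ t : G, Relation.ReflTransGen (Cfsg.NormalSubpairRel p M)
      (conjPair t ⟨Subgroup.zpowers x, f⟩) ⟨D, e⟩
  · obtain ⟨t, ht, h1⟩ := bp_etaAt_eq_apply (M := M) (p := p) D e
      (fun w => ((lam w : ℂˣ) : ℂ)) ⟨Subgroup.zpowers x, f⟩ x (Subgroup.mem_zpowers x) h
    haveI : Finite D := inferInstance
    rw [h1, bp_lam_mul_conj lam, one_mul]
  · rw [contribP_eq, bp_secPart_eq_zero_of_not_conj hM B D e hmax χ hχ x (hX x hxX) f hf h,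
      classInner_zero_left, mul_zero]

/-- **(C5)** if `λ * χ` is a generalized character (`λ` a linear character of `D`,
`χ ∈ Irr(B)`), then it is an irreducible character in `B` -/
theorem bp_star_irr [Fintype G] {p : ℕ} [hp : Fact p.Prime]
    (hM : Cfsg.IsPModular p M) (B : Set (Cfsg.IrrCharacter G)) (D : Subgroup G)
    (e : Set (Cfsg.IrrCharacter (Subgroup.centralizer (D : Set G))))
    (hmax : Cfsg.IsMaximalBrauerPair p M B D e) (lam : D →* ℂˣ)
    (χ : Cfsg.IrrCharacter G) (hχ : χ ∈ B)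
    (hgc : Cfsg.IsGeneralizedCharacter G
      (bp_star p M D e (fun w => ((lam w : ℂˣ) : ℂ)) (χ : G → ℂ))) :
    ∃ ψ : Cfsg.IrrCharacter G, ψ ∈ B ∧
      (ψ : G → ℂ) = bp_star p M D e (fun w => ((lam w : ℂˣ) : ℂ)) (χ : G → ℂ) := by
  have hcf := IsGeneralizedCharacter.isClassFunction hgc
  have hnorm := bp_classInner_star_self hM B D e hmax lam χ hχ hcf
  have h1 : bp_star p M D e (fun w => ((lam w : ℂˣ) : ℂ)) (χ : G → ℂ) 1 = (χ : G → ℂ) 1 := by
    rw [bp_star_apply_regular hM B D e hmax _ χ hχ 1 (by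
      rw [orderOf_one]
      exact fun h => hp.out.one_lt.ne' (Nat.dvd_one.mp h))]
    simp
  obtain ⟨χ', hχ', h | h⟩ := exists_signed_irr_of_norm_one hgc hnorm
  · refine ⟨⟨χ', hχ'⟩, ?_, h.symm⟩
    by_contra hnot
    have h0 := bp_classInner_star_eq_zero hM B hmax.1.2.1 D e _ χ hχ hcf ⟨χ', hχ'⟩ hnot
    rw [h] at h0
    simp only at h0
    rw [classInner_irr_self hχ'] at h0
    exact one_ne_zero h0
  · exfalso
    obtain ⟨n, hn, hn1⟩ := IsIrrCharacter.apply_one_pos χ.2
    obtain ⟨m, hm, hm1⟩ := IsIrrCharacter.apply_one_pos hχ'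
    rw [h, hn1, Pi.neg_apply, hm1] at h1
    have h3 : ((m + n : ℕ) : ℂ) = 0 := by
      push_cast
      linear_combination -h1
    have h4 : m + n = 0 := by exact_mod_cast h3
    omega

end Cfsg.Agent.BP
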