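import Mathlib
import Cfsg.Prelude.Def_Characters
import Cfsg.Prelude.Def_Blocks
import Cfsg.Prelude.Def_BlockRank
import Cfsg.Prelude.Def_BrauerPairs
import Cfsg.Agent.Helper6.HtCenI
import Cfsg.Agent.Helper6.HeightZeroSection
import Cfsg.Agent.Helper6.SectionOrthD
import Cfsg.Agent.Helper6.AbelianInertial1
import Cfsg.Agent.Helper6.DefectClassValues
import Cfsg.Agent.BP.StarC5

/-!
# BP §9: stabilizers of irreducible characters under `λ ↦ λ * χ`

`(D, e)` a maximal Brauer pair of `B`, `λ` a stable linear character of `D`, `χ ∈ Irr(B)` with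
`λ * χ = χ`.

* `bp_lam_eq_one_of_contribP_ne_zero` : `λ(u) = 1` for `u ∈ D` if `m^{(u, e_u)}_{χψ} ≠ 0` for
  some `ψ`;
* `bp_lam_eq_one_of_height_zero` : `λ = 1` if `χ` has height zero (S4684);
* `bp_lam_eq_one_of_mem_center` : `λ(u) = 1` for `u ∈ Z(D)` (S4685).
-/

set_option autoImplicit false
set_option linter.style.haveILetI false

namespace Cfsg.Agent.BP

open Cfsg.Agent.Helper6 Cfsg.Agent.Helper6.Maj Cfsg.Agent.Helper6.HtCen Cfsg.Agent.Helper6.K4
  Cfsg.Agent.Blk47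

open scoped ComplexConjugate

universe u

variable {G : Type u} [Group G] {M : Ideal Cfsg.AlgInt}

/-- elements of a `p`-subgroup are `p`-elements -/
theorem bp_star_orderOf_of_mem_pGroup {p : ℕ} [hp : Fact p.Prime] (D : Subgroup G) (hD : IsPGroup p D)
    (u : G) (hu : u ∈ D) : ∃ k : ℕ, orderOf u = p ^ k := by
  obtain ⟨k, hk⟩ := hD ⟨u, hu⟩
  have h1 : u ^ p ^ k = 1 := by
    have := congrArg (fun w : D => (w : G)) hk
    simpa using this
  obtain ⟨j, -, hj⟩ := (Nat.dvd_prime_pow hp.out).mp (orderOf_dvd_of_pow_eq_one h1)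
  exact ⟨j, hj⟩

/-- **the basic stabilizer criterion**: if `λ * χ = χ` and `m^{(u,f)}_{χψ} ≠ 0` for the pair
`(⟨u⟩, f) ≤ (D, e)`, then `λ(u) = 1` -/
theorem bp_lam_eq_one_of_contribP_ne_zero [Fintype G] {p : ℕ} [hp : Fact p.Prime]
    (hM : Cfsg.IsPModular p M) (D : Subgroup G)
    (e : Set (Cfsg.IrrCharacter (Subgroup.centralizer (D : Set G)))) (lam : D →* ℂˣ)
    (hst : bp_stable p M D e (fun w => ((lam w : ℂˣ) : ℂ))) (χ ψ : G → ℂ)
    (hfix : bp_star p M D e (fun w => ((lam w : ℂˣ) : ℂ)) χ = χ)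
    (u : G) (huD : u ∈ D) (hu : ∃ k : ℕ, orderOf u = p ^ k)
    (f : Set (Cfsg.IrrCharacter
      (Subgroup.centralizer ((Subgroup.zpowers u : Subgroup G) : Set G))))
    (hf : Cfsg.IsPBlock M f)
    (hle : Relation.ReflTransGen (Cfsg.NormalSubpairRel p M) ⟨Subgroup.zpowers u, f⟩ ⟨D, e⟩)
    (hne : contribP p ⟨Subgroup.zpowers u, f⟩ χ ψ u ≠ 0) :
    lam ⟨u, huD⟩ = 1 := by
  have h1 := bp_contribP_star_left hM D e (fun w => ((lam w : ℂˣ) : ℂ)) χ ψ u hu f hf
  rw [hfix] at h1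
  have hle1 : Relation.ReflTransGen (Cfsg.NormalSubpairRel p M)
      (conjPair 1 ⟨Subgroup.zpowers u, f⟩) ⟨D, e⟩ := by
    rw [conjPair_one]
    exact hle
  have h2 := bp_etaAt_eq D e (fun w => ((lam w : ℂˣ) : ℂ)) hst ⟨Subgroup.zpowers u, f⟩ u
    (Subgroup.mem_zpowers u) 1 hle1
  have h3 : Cfsg.extendByZero D (fun w => ((lam w : ℂˣ) : ℂ)) (1 * u * 1⁻¹) =
      ((lam ⟨u, huD⟩ : ℂˣ) : ℂ) := by
    have h4 : (1 : G) * u * 1⁻¹ = ((⟨u, huD⟩ : D) : G) := by simp
    rw [h4]
    unfold Cfsg.extendByZero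
    exact Subtype.val_injective.extend_apply _ _ (⟨u, huD⟩ : D)
  rw [h2, h3] at h1
  have h5 : ((lam ⟨u, huD⟩ : ℂˣ) : ℂ) = 1 := by
    have h6 : (((lam ⟨u, huD⟩ : ℂˣ) : ℂ) - 1) * contribP p ⟨Subgroup.zpowers u, f⟩ χ ψ u = 0 := by
      rw [sub_mul, one_mul, ← h1, sub_self]
    rcases mul_eq_zero.mp h6 with h7 | h7
    · exact sub_eq_zero.mp h7
    · exact absurd h7 hne
  exact Units.ext h5

/-- the pair below `(D, e)` on a cyclic subgroup of `D`, with its properties -/
theorem bp_exists_pair_below [Fintype G] {p : ℕ} [hp : Fact p.Prime]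
    (hM : Cfsg.IsPModular p M) (B : Set (Cfsg.IrrCharacter G)) (D : Subgroup G)
    (e : Set (Cfsg.IrrCharacter (Subgroup.centralizer (D : Set G))))
    (hmax : Cfsg.IsMaximalBrauerPair p M B D e) (u : G) (huD : u ∈ D) :
    ∃ f : Set (Cfsg.IrrCharacter
        (Subgroup.centralizer ((Subgroup.zpowers u : Subgroup G) : Set G))),
      Cfsg.IsPBlock M f ∧
      Relation.ReflTransGen (Cfsg.NormalSubpairRel p M) ⟨Subgroup.zpowers u, f⟩ ⟨D, e⟩ ∧
      Cfsg.IsInducedBlock M
        (Subgroup.centralizer ((Subgroup.zpowers u : Subgroup G) : Set G)) f B := by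
  have hQD : Subgroup.zpowers u ≤ D := by
    rw [Subgroup.zpowers_le]
    exact huD
  obtain ⟨f, ⟨hf, hle⟩, -⟩ := existsUnique_subpairLE hM D (Subgroup.zpowers u) e hmax.1.1 hQD
  refine ⟨f, hf, hle, ?_⟩
  have hpair := isBrauerPairOf_of_subpairLE hM D _ e f hle B hmax.1
  exact isInducedBlock_of_isBrauerPairOf hM B _ (zpowers_le_centralizer_zpowers u) f hpair

/-- **S4684, the stabilizer**: a stable linear character `λ` of `D` fixing a character of
height zero of `B` is trivial -/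
theorem bp_lam_eq_one_of_height_zero [Fintype G] {p : ℕ} [hp : Fact p.Prime]
    (hM : Cfsg.IsPModular p M) (B : Set (Cfsg.IrrCharacter G)) (D : Subgroup G)
    (e : Set (Cfsg.IrrCharacter (Subgroup.centralizer (D : Set G))))
    (hmax : Cfsg.IsMaximalBrauerPair p M B D e) (lam : D →* ℂˣ)
    (hst : bp_stable p M D e (fun w => ((lam w : ℂˣ) : ℂ)))
    (χ : Cfsg.IrrCharacter G) (hχ : χ ∈ B) (h0 : Cfsg.blockHeight p B (χ : G → ℂ) = 0)
    (hfix : bp_star p M D e (fun w => ((lam w : ℂˣ) : ℂ)) (χ : G → ℂ) = (χ : G → ℂ))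
    (w : D) : lam w = 1 := by
  classical
  obtain ⟨u, huD⟩ := w
  have hu := bp_star_orderOf_of_mem_pGroup D hmax.1.1.1 u huD
  obtain ⟨f, hf, hle, hind⟩ := bp_exists_pair_below hM B D e hmax u huD
  haveI : Fintype (Subgroup.centralizer ((Subgroup.zpowers u : Subgroup G) : Set G)) :=
    Fintype.ofFinite _
  apply bp_lam_eq_one_of_contribP_ne_zero hM D e lam hst (χ : G → ℂ) (χ : G → ℂ) hfix u huD hu f
    hf hle
  rw [contribP_eq]
  intro h
  have h1 := classInner_self_eq_zero h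
  obtain ⟨y, hy, hne⟩ := section_blockPart_ne_zero' p hM B χ hχ h0 u hu
    (Subgroup.centralizer ((Subgroup.zpowers u : Subgroup G) : Set G))
    (fun t => (bp_commute_of_mem_centralizer_zpowers u t).eq) f hind
  apply hne
  have h2 := congrFun h1 y
  unfold secPart at h2
  rw [pRegularPart_apply, if_neg hy, Pi.zero_apply] at h2
  exact h2

/-- **major subsections**: for `u ∈ Z(D)` and every `χ ∈ Irr(B)` some generator `u ^ k` of `⟨u⟩`
has a nonzero contribution `m^{(u^k, e)}_{χψ}` -/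
theorem bp_exists_pow_contribP_ne_zero [Fintype G] {p : ℕ} [hp : Fact p.Prime]
    (hM : Cfsg.IsPModular p M) (B : Set (Cfsg.IrrCharacter G)) (D : Subgroup G)
    (e : Set (Cfsg.IrrCharacter (Subgroup.centralizer (D : Set G))))
    (hmax : Cfsg.IsMaximalBrauerPair p M B D e) (χ : Cfsg.IrrCharacter G) (hχ : χ ∈ B)
    (u : G) (huD : u ∈ D)
    (hDC : D ≤ Subgroup.centralizer ((Subgroup.zpowers u : Subgroup G) : Set G)) :
    ∃ (k : ℕ) (ψ : Cfsg.IrrCharacter G) (f' : Set (Cfsg.IrrCharacter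
        (Subgroup.centralizer ((Subgroup.zpowers (u ^ k) : Subgroup G) : Set G)))),
      (orderOf u).Coprime k ∧ Cfsg.IsPBlock M f' ∧
      Relation.ReflTransGen (Cfsg.NormalSubpairRel p M) ⟨Subgroup.zpowers (u ^ k), f'⟩ ⟨D, e⟩ ∧
      contribP p ⟨Subgroup.zpowers (u ^ k), f'⟩ (χ : G → ℂ) (ψ : G → ℂ) (u ^ k) ≠ 0 := by
  classical
  have hB : Cfsg.IsPBlock M B := hmax.1.2.1
  have hPe : Cfsg.IsBrauerPair p M D e := hmax.1.1
  have hBD := isDefectGroup_of_isMaximalBrauerPair hM B D e hmax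
  have hcardD := card_defectGroup hM.2.1 p hM.2.2 B hB D hBD
  obtain ⟨ψ, hψ, h0ψ⟩ := exists_height_zero p B ⟨χ, hχ⟩
  have hu := bp_star_orderOf_of_mem_pGroup D hPe.1 u huD
  have hQD : Subgroup.zpowers u ≤ D := by
    rw [Subgroup.zpowers_le]
    exact huD
  obtain ⟨f, hf, hle, hind⟩ := bp_exists_pair_below hM B D e hmax u huD
  have hmaj : Cfsg.blockDefect p f = Cfsg.blockDefect p B := by
    have h1 := card_eq_of_le_centralizer hM B D (Subgroup.zpowers u) e f hmax hQD hf hle hDC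
    rw [hcardD] at h1
    exact (Nat.pow_right_injective hp.out.two_le h1).symm
  haveI : NeZero (orderOf u) := ⟨(orderOf_pos u).ne'⟩
  haveI : Fintype (Subgroup.centralizer ((Subgroup.zpowers u : Subgroup G) : Set G)) :=
    Fintype.ofFinite _
  haveI : Finite (Cfsg.IrrCharacter
      (Subgroup.centralizer ((Subgroup.zpowers u : Subgroup G) : Set G))) := irr_finite
  haveI : Fintype (Cfsg.IrrCharacter
      (Subgroup.centralizer ((Subgroup.zpowers u : Subgroup G) : Set G))) := Fintype.ofFinite _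
  have hyH : u ∈ Subgroup.centralizer ((Subgroup.zpowers u : Subgroup G) : Set G) :=
    zpowers_le_centralizer_zpowers u (Subgroup.mem_zpowers _)
  have h1 := sum_norm_contribution_ge hM B hB χ ψ hχ hψ h0ψ u hu (orderOf u) rfl
    (Subgroup.centralizer ((Subgroup.zpowers u : Subgroup G) : Set G)) hyH
    (fun t => (bp_commute_of_mem_centralizer_zpowers u t).eq) f hind hmaj
  -- some term of the sum is nonzero
  have hex : ∃ k : (ZMod (orderOf u))ˣ,
      Cfsg.classInner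
        (secPart p (Subgroup.centralizer ((Subgroup.zpowers u : Subgroup G) : Set G)) f
          (χ : G → ℂ) (u ^ (k : ZMod (orderOf u)).val))
        (secPart p (Subgroup.centralizer ((Subgroup.zpowers u : Subgroup G) : Set G)) f
          (ψ : G → ℂ) (u ^ (k : ZMod (orderOf u)).val)) ≠ 0 := by
    by_contra hall
    push Not at hall
    have hzero : ∑ k : (ZMod (orderOf u))ˣ, ‖(p : ℂ) ^ Cfsg.blockDefect p B *
        Cfsg.classInner
          (secPart p (Subgroup.centralizer ((Subgroup.zpowers u : Subgroup G) : Set G)) f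
            (χ : G → ℂ) (u ^ (k : ZMod (orderOf u)).val))
          (secPart p (Subgroup.centralizer ((Subgroup.zpowers u : Subgroup G) : Set G)) f
            (ψ : G → ℂ) (u ^ (k : ZMod (orderOf u)).val))‖ = 0 := by
      apply Finset.sum_eq_zero
      intro k _
      rw [hall k, mul_zero, norm_zero]
    rw [hzero] at h1
    have hpos : (0 : ℝ) < (Fintype.card (ZMod (orderOf u))ˣ : ℝ) *
        (p : ℝ) ^ Cfsg.blockHeight p B (χ : G → ℂ) := by
      apply mul_pos
      · have : 0 < Fintype.card (ZMod (orderOf u))ˣ := Fintype.card_pos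
        exact_mod_cast this
      · have : (0 : ℝ) < (p : ℝ) := by exact_mod_cast hp.out.pos
        exact pow_pos this _
    linarith
  obtain ⟨k, hk⟩ := hex
  set k' : ℕ := (k : ZMod (orderOf u)).val with hk'
  have hcop : (orderOf u).Coprime k' := (ZMod.val_coe_unit_coprime k).symm
  have hzp : Subgroup.zpowers (u ^ k') = Subgroup.zpowers u := b47_p_zpowers_pow hcop
  have hukD : u ^ k' ∈ D := D.pow_mem huD k'
  obtain ⟨f', hf', hle', -⟩ := bp_exists_pair_below hM B D e hmax (u ^ k') hukD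
  refine ⟨k', ψ, f', hcop, hf', hle', ?_⟩
  have hQD' : Subgroup.zpowers (u ^ k') ≤ D := by
    rw [Subgroup.zpowers_le]
    exact hukD
  have hpe : (⟨Subgroup.zpowers (u ^ k'), f'⟩ : Cfsg.BrauerPairIdx G) = ⟨Subgroup.zpowers u, f⟩ :=
    pair_eq_of_subpairLE hM D e hPe _ _ hzp hQD' f' f hle' hle
  rw [hpe, contribP_eq]
  exact hk

/-- **S4685, the stabilizer**: a stable linear character `λ` of `D` fixing a character of `B` is
trivial on `Z(D)` -/
theorem bp_lam_eq_one_of_mem_center [Fintype G] {p : ℕ} [hp : Fact p.Prime]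
    (hM : Cfsg.IsPModular p M) (B : Set (Cfsg.IrrCharacter G)) (D : Subgroup G)
    (e : Set (Cfsg.IrrCharacter (Subgroup.centralizer (D : Set G))))
    (hmax : Cfsg.IsMaximalBrauerPair p M B D e) (lam : D →* ℂˣ)
    (hst : bp_stable p M D e (fun w => ((lam w : ℂˣ) : ℂ)))
    (χ : Cfsg.IrrCharacter G) (hχ : χ ∈ B)
    (hfix : bp_star p M D e (fun w => ((lam w : ℂˣ) : ℂ)) (χ : G → ℂ) = (χ : G → ℂ))
    (u : G) (huD : u ∈ D) (huC : u ∈ Subgroup.centralizer (D : Set G)) :
    lam ⟨u, huD⟩ = 1 := by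
  have hDC : D ≤ Subgroup.centralizer ((Subgroup.zpowers u : Subgroup G) : Set G) := by
    intro x hx
    rw [centralizer_zpowers_eq', Subgroup.mem_centralizer_singleton_iff]
    exact Subgroup.mem_centralizer_iff.mp huC x hx
  obtain ⟨k, ψ, f', hcop, hf', hle', hne⟩ :=
    bp_exists_pow_contribP_ne_zero hM B D e hmax χ hχ u huD hDC
  have hukD : u ^ k ∈ D := D.pow_mem huD k
  have hu := bp_star_orderOf_of_mem_pGroup D hmax.1.1.1 (u ^ k) hukD
  have h1 := bp_lam_eq_one_of_contribP_ne_zero hM D e lam hst (χ : G → ℂ) (ψ : G → ℂ) hfix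
    (u ^ k) hukD hu f' hf' hle' hne
  have h2 : (⟨u ^ k, hukD⟩ : D) = (⟨u, huD⟩ : D) ^ k := rfl
  rw [h2, map_pow] at h1
  have h3 : (lam ⟨u, huD⟩) ^ orderOf u = 1 := by
    rw [← map_pow]
    have : (⟨u, huD⟩ : D) ^ orderOf u = 1 := by
      apply Subtype.ext
      simp [pow_orderOf_eq_one]
    rw [this, map_one]
  have h4 := orderOf_dvd_of_pow_eq_one h1
  have h5 := orderOf_dvd_of_pow_eq_one h3
  have h6 : orderOf (lam ⟨u, huD⟩) ∣ 1 := by
    have := Nat.dvd_gcd h5 h4
    rwa [Nat.Coprime.gcd_eq_one hcop] at this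
  exact orderOf_eq_one_iff.mp (Nat.dvd_one.mp h6)

end Cfsg.Agent.BP
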