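import Mathlib
import Cfsg.Prelude.Def_Characters
import Cfsg.Prelude.Def_Blocks
import Cfsg.Prelude.Def_BlockRank
import Cfsg.Prelude.Def_BlockLocal
import Cfsg.Prelude.Def_BrauerPairs
import Cfsg.Agent.BP.NilDefs
import Cfsg.Agent.BP.StarStab
import Cfsg.Agent.BP.StarC4
import Cfsg.Agent.Helper6.NilAbC
import Cfsg.Agent.Helper6.HtCenB

/-!
# BP §10, part Z: the central subsections

* `bp_nil_central` : for `u ∈ D ∩ Z(G)` the contribution `m^{(u,e_u)}_{χ₀χ₀}` is the norm of `χ₀` on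
  the `p`-regular elements.
* `bp_nil_m1_ge` : `|D| · ⟨χ₀°, χ₀°⟩ ≥ 1` for `χ₀` of height zero.
* `bp_nil_contrib_one_ne_zero` : `m^{(1,B)}_{χ₀χ'} ≠ 0` for every `χ' ∈ B`, `χ₀` of height zero.
-/

set_option autoImplicit false

namespace Cfsg.Agent.BP

open Cfsg.Agent.Helper6 Cfsg.Agent.Helper6.Maj Cfsg.Agent.Helper6.K4 Cfsg.Agent.Helper6.HtCen

open scoped ComplexConjugate

universe u

variable {G : Type u} [Group G] {M : Ideal Cfsg.AlgInt}

/-- for a central `p`-element `u ∈ D`, the only block `f` of `C_G(u) = G` with `d^{(u,f)} χ ≠ 0`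
(`χ ∈ B`) is the one of the pair `(⟨u⟩, e_u)`: the section part is the whole `p`-regular part. -/
theorem bp_nilz_secPart_central [Fintype G] {p : ℕ} [hp : Fact p.Prime]
    (hM : Cfsg.IsPModular p M) (B : Set (Cfsg.IrrCharacter G)) (D : Subgroup G)
    (e : Set (Cfsg.IrrCharacter (Subgroup.centralizer (D : Set G))))
    (hmax : Cfsg.IsMaximalBrauerPair p M B D e)
    (χ : Cfsg.IrrCharacter G) (hχ : χ ∈ B)
    (u : G) (hu : u ∈ D) (huZ : u ∈ Subgroup.center G)
    (f₀ : Set (Cfsg.IrrCharacter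
      (Subgroup.centralizer ((Subgroup.zpowers u : Subgroup G) : Set G))))
    (hf₀ : bp_pairAt p M D e u = ⟨Subgroup.zpowers u, f₀⟩) :
    secPart p (Subgroup.centralizer ((Subgroup.zpowers u : Subgroup G) : Set G)) f₀
        (χ : G → ℂ) u =
      Cfsg.pRegularPart p
        (fun c : Subgroup.centralizer ((Subgroup.zpowers u : Subgroup G) : Set G) =>
          (χ : G → ℂ) (u * (c : G))) := by
  classical
  have hDe := hmax.1
  have hup := bp_star_orderOf_of_mem_pGroup D hDe.1.1 u hu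
  have hKtop : ∀ g : G, g ∈ Subgroup.centralizer ((Subgroup.zpowers u : Subgroup G) : Set G) := by
    intro g
    rw [Subgroup.mem_centralizer_iff]
    intro h hh
    obtain ⟨i, rfl⟩ := Subgroup.mem_zpowers_iff.mp hh
    exact ((Subgroup.mem_center_iff.mp ((Subgroup.center G).zpow_mem huZ i)) g).symm
  have hf₀b : Cfsg.IsPBlock M f₀ := by
    have h1 := bp_pairAt_isPBlock hM B D e hDe u hu
    rw [hf₀] at h1
    exact h1.1.2
  have hz : ∀ f : Set (Cfsg.IrrCharacter
      (Subgroup.centralizer ((Subgroup.zpowers u : Subgroup G) : Set G))),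
      Cfsg.IsPBlock M f → f ≠ f₀ →
      secPart p (Subgroup.centralizer ((Subgroup.zpowers u : Subgroup G) : Set G)) f
        (χ : G → ℂ) u = 0 := by
    intro f hf hne
    apply bp_secPart_eq_zero_of_not_conj hM B D e hmax χ hχ u hup f hf
    rintro ⟨t, ht⟩
    apply hne
    have htu : t * u * t⁻¹ = u := by
      rw [(Subgroup.mem_center_iff.mp huZ) t, mul_inv_cancel_right]
    have h1 : (conjPair t (⟨Subgroup.zpowers u, f⟩ : Cfsg.BrauerPairIdx G)).1 =
        Subgroup.zpowers u := by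
      show (Subgroup.zpowers u).map (MulAut.conj t).toMonoidHom = Subgroup.zpowers u
      rw [map_conj_zpowers, htu]
    have h2 := bp_eq_pairAt hM D e hDe.1 _ u ht h1
    have h3 := bp_conjPair_pairAt_of_centralizer hM B D e hDe u hu t (hKtop t)
    have h4 : conjPair t (⟨Subgroup.zpowers u, f⟩ : Cfsg.BrauerPairIdx G) =
        conjPair t (⟨Subgroup.zpowers u, f₀⟩ : Cfsg.BrauerPairIdx G) := by
      rw [h2, ← hf₀, h3]
    have h5 := congrArg (conjPair t⁻¹) h4
    rw [conjPair_conjPair, conjPair_conjPair, inv_mul_cancel, conjPair_one, conjPair_one] at h5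
    exact eq_of_heq (Sigma.mk.inj h5).2
  haveI : Finite (Cfsg.IrrCharacter
      (Subgroup.centralizer ((Subgroup.zpowers u : Subgroup G) : Set G))) := irr_finite
  have hfin : {f : Set (Cfsg.IrrCharacter
      (Subgroup.centralizer ((Subgroup.zpowers u : Subgroup G) : Set G))) |
        Cfsg.IsPBlock M f}.Finite := Set.toFinite _
  funext s
  by_cases hs : p ∣ orderOf s
  · unfold secPart
    rw [pRegularPart_apply, pRegularPart_apply, if_pos hs, if_pos hs]
  · have h1 := bp_sum_secPart hM (χ : G → ℂ)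
      (IsCharacter.isClassFunction (IsIrrCharacter.isCharacter χ.2)) u s hs
    rw [pRegularPart_apply, if_neg hs, ← h1, finsum_mem_eq_finite_toFinset_sum _ hfin,
      Finset.sum_eq_single f₀]
    · intro f hf hne
      rw [hz f ((Set.Finite.mem_toFinset hfin).1 hf) hne]
      rfl
    · intro hnot
      exfalso
      apply hnot
      rw [Set.Finite.mem_toFinset]
      exact hf₀b

/-- **(NilZ)** central elements: the contribution is the norm of `χ₀` on `p`-regular
elements -/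
theorem bp_nil_central [Fintype G] {p : ℕ} [hp : Fact p.Prime]
    (hM : Cfsg.IsPModular p M) (B : Set (Cfsg.IrrCharacter G)) (D : Subgroup G)
    (e : Set (Cfsg.IrrCharacter (Subgroup.centralizer (D : Set G))))
    (hmax : Cfsg.IsMaximalBrauerPair p M B D e)
    (χ₀ : Cfsg.IrrCharacter G) (hχ₀ : χ₀ ∈ B) (h0 : Cfsg.blockHeight p B (χ₀ : G → ℂ) = 0)
    (u : G) (hu : u ∈ D) (huZ : u ∈ Subgroup.center G) :
    contribP p (bp_pairAt p M D e u) (χ₀ : G → ℂ) (χ₀ : G → ℂ) u =
      Cfsg.classInner (Cfsg.pRegularPart p (χ₀ : G → ℂ)) (Cfsg.pRegularPart p (χ₀ : G → ℂ)) := by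
  classical
  haveI : Fintype (Subgroup.centralizer ((Subgroup.zpowers u : Subgroup G) : Set G)) :=
    Fintype.ofFinite _
  have hKtop : ∀ g : G, g ∈ Subgroup.centralizer ((Subgroup.zpowers u : Subgroup G) : Set G) := by
    intro g
    rw [Subgroup.mem_centralizer_iff]
    intro h hh
    obtain ⟨i, rfl⟩ := Subgroup.mem_zpowers_iff.mp hh
    exact ((Subgroup.mem_center_iff.mp ((Subgroup.center G).zpow_mem huZ i)) g).symm
  obtain ⟨f₀, hf₀⟩ := HtCen.pair_eq_mk (Subgroup.zpowers u) (bp_pairAt p M D e u)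
    (bp_pairAt_fst p D e u)
  rw [hf₀, contribP_eq, bp_nilz_secPart_central hM B D e hmax χ₀ hχ₀ u hu huZ f₀ hf₀]
  obtain ⟨ε, -, hε1, hε⟩ := exists_center_twist χ₀ u huZ
  let eqv : ↥(Subgroup.centralizer ((Subgroup.zpowers u : Subgroup G) : Set G)) ≃ G :=
    { toFun := fun c => (c : G)
      invFun := fun g => ⟨g, hKtop g⟩
      left_inv := fun c => rfl
      right_inv := fun g => rfl }
  rw [classInner_def, classInner_def, Nat.card_congr eqv]
  congr 1
  apply Fintype.sum_equiv eqv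
  intro c
  show _ = Cfsg.pRegularPart p (χ₀ : G → ℂ) (c : G) * conj (Cfsg.pRegularPart p (χ₀ : G → ℂ) (c : G))
  rw [pRegularPart_apply, pRegularPart_apply, Subgroup.orderOf_coe]
  by_cases hc : p ∣ orderOf c
  · rw [if_pos hc, if_pos hc]
  · rw [if_neg hc, if_neg hc]
    have h1 := hε 1 (c : G)
    rw [pow_one, pow_one] at h1
    rw [h1, map_mul]
    calc ε * (χ₀ : G → ℂ) (c : G) * (conj ε * conj ((χ₀ : G → ℂ) (c : G)))
        = (ε * conj ε) * ((χ₀ : G → ℂ) (c : G) * conj ((χ₀ : G → ℂ) (c : G))) := by ring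
      _ = (χ₀ : G → ℂ) (c : G) * conj ((χ₀ : G → ℂ) (c : G)) := by rw [hε1, one_mul]

/-- the data of the subsection at `1`: block, inducedness and majority -/
theorem bp_nilz_one_data [Fintype G] {p : ℕ} [hp : Fact p.Prime]
    (hM : Cfsg.IsPModular p M) (B : Set (Cfsg.IrrCharacter G)) (D : Subgroup G)
    (e : Set (Cfsg.IrrCharacter (Subgroup.centralizer (D : Set G))))
    (hmax : Cfsg.IsMaximalBrauerPair p M B D e) :
    ∃ f : Set (Cfsg.IrrCharacter
        (Subgroup.centralizer ((Subgroup.zpowers (1 : G) : Subgroup G) : Set G))),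
      bp_pairAt p M D e 1 = ⟨Subgroup.zpowers (1 : G), f⟩ ∧
      Cfsg.IsInducedBlock M
        (Subgroup.centralizer ((Subgroup.zpowers (1 : G) : Subgroup G) : Set G)) f B ∧
      Cfsg.blockDefect p f = Cfsg.blockDefect p B ∧
      Nat.card D = p ^ Cfsg.blockDefect p B := by
  have hB : Cfsg.IsPBlock M B := hmax.1.2.1
  have hBD := isDefectGroup_of_isMaximalBrauerPair hM B D e hmax
  have hcardD := card_defectGroup hM.2.1 p hM.2.2 B hB D hBD
  obtain ⟨f, hf, hle, hind⟩ := bp_exists_pair_below hM B D e hmax 1 D.one_mem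
  have hQD : Subgroup.zpowers (1 : G) ≤ D := by
    rw [Subgroup.zpowers_le]
    exact D.one_mem
  have hDC : D ≤ Subgroup.centralizer ((Subgroup.zpowers (1 : G) : Subgroup G) : Set G) := by
    intro x _
    rw [Subgroup.mem_centralizer_iff]
    intro h hh
    obtain ⟨i, rfl⟩ := Subgroup.mem_zpowers_iff.mp hh
    rw [one_zpow, one_mul, mul_one]
  have hmaj : Cfsg.blockDefect p f = Cfsg.blockDefect p B := by
    have h1 := card_eq_of_le_centralizer hM B D (Subgroup.zpowers (1 : G)) e f hmax hQD hf hle hDC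
    rw [hcardD] at h1
    exact (Nat.pow_right_injective hp.out.two_le h1).symm
  refine ⟨f, ?_, hind, hmaj, hcardD⟩
  exact (bp_eq_pairAt hM D e hmax.1.1 ⟨Subgroup.zpowers (1 : G), f⟩ 1 hle rfl).symm

/-- **(NilZ)** the contribution at `1` against a height zero character never vanishes -/
theorem bp_nil_contrib_one_ne_zero [Fintype G] {p : ℕ} [hp : Fact p.Prime]
    (hM : Cfsg.IsPModular p M) (B : Set (Cfsg.IrrCharacter G)) (D : Subgroup G)
    (e : Set (Cfsg.IrrCharacter (Subgroup.centralizer (D : Set G))))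
    (hmax : Cfsg.IsMaximalBrauerPair p M B D e)
    (χ₀ : Cfsg.IrrCharacter G) (hχ₀ : χ₀ ∈ B) (h0 : Cfsg.blockHeight p B (χ₀ : G → ℂ) = 0)
    (χ' : Cfsg.IrrCharacter G) (hχ' : χ' ∈ B) :
    contribP p (bp_pairAt p M D e 1) (χ₀ : G → ℂ) (χ' : G → ℂ) 1 ≠ 0 := by
  classical
  have hB : Cfsg.IsPBlock M B := hmax.1.2.1
  obtain ⟨f, hf, hind, hmaj, -⟩ := bp_nilz_one_data hM B D e hmax
  haveI : Fintype (Subgroup.centralizer ((Subgroup.zpowers (1 : G) : Subgroup G) : Set G)) :=
    Fintype.ofFinite _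
  haveI : Finite (Cfsg.IrrCharacter
      (Subgroup.centralizer ((Subgroup.zpowers (1 : G) : Subgroup G) : Set G))) := irr_finite
  haveI : Fintype (Cfsg.IrrCharacter
      (Subgroup.centralizer ((Subgroup.zpowers (1 : G) : Subgroup G) : Set G))) := Fintype.ofFinite _
  have h1 := NilAb.contribution_ne_zero_of_major hM B hB χ' χ₀ hχ' hχ₀ h0 1 ⟨0, by simp⟩
    (Subgroup.centralizer ((Subgroup.zpowers (1 : G) : Subgroup G) : Set G)) (Subgroup.one_mem _)
    (fun t => by rw [one_mul, mul_one]) f hind hmaj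
  rw [hf, contribP_eq, classInner_conj_symm]
  intro h2
  apply h1
  have h3 := congrArg conj h2
  rw [Complex.conj_conj, map_zero] at h3
  exact h3

/-- **(NilZ)** `|D| m₁ ≥ 1` -/
theorem bp_nil_m1_ge [Fintype G] {p : ℕ} [hp : Fact p.Prime]
    (hM : Cfsg.IsPModular p M) (B : Set (Cfsg.IrrCharacter G)) (D : Subgroup G)
    (e : Set (Cfsg.IrrCharacter (Subgroup.centralizer (D : Set G))))
    (hmax : Cfsg.IsMaximalBrauerPair p M B D e)
    (χ₀ : Cfsg.IrrCharacter G) (hχ₀ : χ₀ ∈ B) (h0 : Cfsg.blockHeight p B (χ₀ : G → ℂ) = 0) :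
    1 ≤ (Nat.card D : ℝ) *
      (Cfsg.classInner (Cfsg.pRegularPart p (χ₀ : G → ℂ)) (Cfsg.pRegularPart p (χ₀ : G → ℂ))).re := by
  classical
  have hB : Cfsg.IsPBlock M B := hmax.1.2.1
  obtain ⟨f, hf, hind, hmaj, hcardD⟩ := bp_nilz_one_data hM B D e hmax
  haveI : Fintype (Subgroup.centralizer ((Subgroup.zpowers (1 : G) : Subgroup G) : Set G)) :=
    Fintype.ofFinite _
  haveI : Finite (Cfsg.IrrCharacter
      (Subgroup.centralizer ((Subgroup.zpowers (1 : G) : Subgroup G) : Set G))) := irr_finite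
  haveI : Fintype (Cfsg.IrrCharacter
      (Subgroup.centralizer ((Subgroup.zpowers (1 : G) : Subgroup G) : Set G))) := Fintype.ofFinite _
  have h1 := sum_norm_contribution_ge hM B hB χ₀ χ₀ hχ₀ hχ₀ h0 1 ⟨0, by simp⟩ 1 orderOf_one
    (Subgroup.centralizer ((Subgroup.zpowers (1 : G) : Subgroup G) : Set G)) (Subgroup.one_mem _)
    (fun t => by rw [one_mul, mul_one]) f hind hmaj
  have hcen := bp_nil_central hM B D e hmax χ₀ hχ₀ h0 1 D.one_mem (Subgroup.one_mem _)
  rw [hf, contribP_eq] at hcen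
  -- every term of the sum is the same
  have hterm : ∀ k : (ZMod 1)ˣ, ‖(p : ℂ) ^ Cfsg.blockDefect p B *
      Cfsg.classInner
        (secPart p (Subgroup.centralizer ((Subgroup.zpowers (1 : G) : Subgroup G) : Set G)) f
          (χ₀ : G → ℂ) ((1 : G) ^ (k : ZMod 1).val))
        (secPart p (Subgroup.centralizer ((Subgroup.zpowers (1 : G) : Subgroup G) : Set G)) f
          (χ₀ : G → ℂ) ((1 : G) ^ (k : ZMod 1).val))‖ =
      (Nat.card D : ℝ) * (Cfsg.classInner (Cfsg.pRegularPart p (χ₀ : G → ℂ))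
        (Cfsg.pRegularPart p (χ₀ : G → ℂ))).re := by
    intro k
    rw [one_pow, hcen, Cfsg.Agent.Helper6.classInner_self_eq, hcardD]
    set S : ℝ := ∑ g : G, ‖Cfsg.pRegularPart p (χ₀ : G → ℂ) g‖ ^ 2 with hS
    have hS0 : 0 ≤ S := Finset.sum_nonneg (fun g _ => by positivity)
    have hreal : ((p : ℂ) ^ Cfsg.blockDefect p B * ((Nat.card G : ℂ)⁻¹ * (S : ℂ))) =
        (((p : ℝ) ^ Cfsg.blockDefect p B * ((Nat.card G : ℝ)⁻¹ * S) : ℝ) : ℂ) := by
      push_cast
      ring
    have hre : ((Nat.card G : ℂ)⁻¹ * (S : ℂ)).re = (Nat.card G : ℝ)⁻¹ * S := by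
      have : ((Nat.card G : ℂ)⁻¹ * (S : ℂ)) = (((Nat.card G : ℝ)⁻¹ * S : ℝ) : ℂ) := by
        push_cast
        ring
      rw [this, Complex.ofReal_re]
    rw [hreal, Complex.norm_real, hre, Real.norm_eq_abs, abs_of_nonneg (by positivity)]
    push_cast
    ring
  rw [Finset.sum_congr rfl (fun k _ => hterm k), Finset.sum_const, h0, pow_zero,
    Finset.card_univ, nsmul_eq_mul] at h1
  have hc : (0 : ℝ) < (Fintype.card (ZMod 1)ˣ : ℝ) := by
    have : 0 < Fintype.card (ZMod 1)ˣ := Fintype.card_pos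
    exact_mod_cast this
  exact le_of_mul_le_mul_left h1 hc

end Cfsg.Agent.BP
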