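import Mathlib
import Cfsg.Prelude.Def_Characters
import Cfsg.Prelude.Def_Blocks
import Cfsg.Prelude.Def_BlockRank
import Cfsg.Prelude.Def_BlockLocal
import Cfsg.Prelude.Def_BrauerPairs
import Cfsg.Agent.BP.NilDefs
import Cfsg.Agent.BP.NilC
import Cfsg.Agent.BP.NilZ
import Cfsg.Agent.BP.NilL
import Cfsg.Agent.BP.StarC4
import Cfsg.Agent.BP.CycNormC

/-!
# BP §10 (nilpotent blocks), part D: the squeeze

From the norm equation `∑_{u ∈ D} |C_D(u)|/|D| · m^{(u,e_u)}_{χ₀χ₀} = 1`, the local analysis at the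
non-central elements of `D` (induction hypothesis) and the lower bound `|D| m₁ ≥ 1` we get
`m^{(u,e_u)}_{χ₀χ₀} = 1/|C_D(u)|` for every `u ∈ D`.
-/

set_option autoImplicit false
set_option linter.style.haveILetI false

namespace Cfsg.Agent.BP

open Cfsg.Agent.Helper6 Cfsg.Agent.Helper6.Maj Cfsg.Agent.Helper6.K4 Cfsg.Agent.Helper6.HtCen

open scoped ComplexConjugate

universe u

variable {G : Type u} [Group G] {M : Ideal Cfsg.AlgInt}

/-- for a central element `u`, `D ⊓ C_G(u) = D` -/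
theorem bp_inf_centralizer_of_center (D : Subgroup G) (u : G) (hu : u ∈ Subgroup.center G) :
    D ⊓ Subgroup.centralizer (Subgroup.zpowers u : Set G) = D := by
  apply inf_eq_left.mpr
  intro x _
  rw [Subgroup.mem_centralizer_iff]
  intro h hh
  obtain ⟨n, rfl⟩ := Subgroup.mem_zpowers_iff.mp hh
  have h1 : Commute u x := (Subgroup.mem_center_iff.mp hu x).symm
  exact (h1.zpow_left n).eq

/-- the diagonal contributions are real -/
theorem bp_contribP_self_eq_re [Finite G] (p : ℕ) (a : Cfsg.BrauerPairIdx G) (χ : G → ℂ) (z : G) :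
    contribP p a χ χ z = (((contribP p a χ χ z).re : ℝ) : ℂ) := by
  unfold contribP
  rw [@HtCen.classInner_self_eq _ _ (Fintype.ofFinite _) _, Complex.ofReal_re]

open Classical in
/-- **the norm equation** `∑_{u ∈ D} n(u) = |D|` -/
theorem bp_sum_nAt [Fintype G] {p : ℕ} [hp : Fact p.Prime]
    (hM : Cfsg.IsPModular p M) (B : Set (Cfsg.IrrCharacter G)) (D : Subgroup G)
    (e : Set (Cfsg.IrrCharacter (Subgroup.centralizer (D : Set G))))
    (hmax : Cfsg.IsMaximalBrauerPair p M B D e) (hnil : Cfsg.IsNilpotentBlock p M B)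
    (χ₀ : Cfsg.IrrCharacter G) (hχ₀ : χ₀ ∈ B) :
    ∑ u : D, bp_nAt p M D e (χ₀ : G → ℂ) (u : G) = (Nat.card D : ℝ) := by
  have hcf := IsCharacter.isClassFunction (IsIrrCharacter.isCharacter χ₀.2)
  have hst : bp_stable p M D e (fun _ : D => (1 : ℂ)) :=
    bp_stable_of_nilpotent hM B D e hmax hnil _ (fun _ _ => rfl)
  have h1 := bp_inner_star_eq_sum' hM B D e hmax hnil (fun _ => 1) (fun _ => 1) hst hst
    (χ₀ : G → ℂ) (χ₀ : G → ℂ) hcf hcf
  rw [bp_star_one hM B D e hmax χ₀ hχ₀, classInner_irr_self χ₀.2] at h1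
  have hD0 : (Nat.card D : ℂ) ≠ 0 := by
    have : 0 < Nat.card D := Nat.card_pos
    exact_mod_cast this.ne'
  have h2 : ∀ u : D, bp_wD p M D e (fun _ => 1) (fun _ => 1) (χ₀ : G → ℂ) (χ₀ : G → ℂ) (u : G) =
      ((bp_nAt p M D e (χ₀ : G → ℂ) (u : G) : ℝ) : ℂ) / (Nat.card D : ℂ) := by
    intro u
    unfold bp_wD bp_nAt
    rw [extendByZero_coe, map_one, one_mul, one_mul,
      bp_contribP_self_eq_re p (bp_pairAt p M D e (u : G)) (χ₀ : G → ℂ) (u : G)]
    push_cast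
    rw [Complex.ofReal_re]
    ring
  rw [Finset.sum_congr rfl (fun u _ => h2 u), ← Finset.sum_div, eq_div_iff hD0, one_mul] at h1
  have h3 : ((∑ u : D, bp_nAt p M D e (χ₀ : G → ℂ) (u : G) : ℝ) : ℂ) = ((Nat.card D : ℝ) : ℂ) := by
    push_cast
    exact h1.symm
  exact_mod_cast h3


open Classical in
/-- **the squeeze**: `n(u) = 1` for every `u ∈ D`, and `|D| m₁ = 1` -/
theorem bp_nAt_eq_one [Fintype G] {p : ℕ} [hp : Fact p.Prime]
    (hM : Cfsg.IsPModular p M) (B : Set (Cfsg.IrrCharacter G)) (D : Subgroup G)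
    (e : Set (Cfsg.IrrCharacter (Subgroup.centralizer (D : Set G))))
    (hmax : Cfsg.IsMaximalBrauerPair p M B D e) (hnil : Cfsg.IsNilpotentBlock p M B)
    (χ₀ : Cfsg.IrrCharacter G) (hχ₀ : χ₀ ∈ B) (h0 : Cfsg.blockHeight p B (χ₀ : G → ℂ) = 0)
    (hIH : ∀ u ∈ D, u ∉ Subgroup.center G →
      @bp_NilProp p M (Subgroup.centralizer (Subgroup.zpowers u : Set G)) _ (Fintype.ofFinite _)) :
    (Nat.card D : ℝ) * (Cfsg.classInner (Cfsg.pRegularPart p (χ₀ : G → ℂ))
        (Cfsg.pRegularPart p (χ₀ : G → ℂ))).re = 1 ∧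
      ∀ u ∈ D, bp_nAt p M D e (χ₀ : G → ℂ) u = 1 := by
  set m₁ : ℝ := (Cfsg.classInner (Cfsg.pRegularPart p (χ₀ : G → ℂ))
        (Cfsg.pRegularPart p (χ₀ : G → ℂ))).re with hm₁
  set Z : Subgroup D := (Subgroup.center G).subgroupOf D with hZ
  have hmemZ : ∀ u : D, u ∈ Z ↔ (u : G) ∈ Subgroup.center G := fun u => Subgroup.mem_subgroupOf
  have hcardD : Fintype.card D = Nat.card D := Nat.card_eq_fintype_card.symm
  have hNpos : 0 < Nat.card D := Nat.card_pos
  haveI : NeZero (Nat.card D) := ⟨hNpos.ne'⟩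
  obtain ⟨ζ, hζ⟩ : ∃ ζ : ℂ, IsPrimitiveRoot ζ (Nat.card D) :=
    ⟨_, Complex.isPrimitiveRoot_exp (Nat.card D) hNpos.ne'⟩
  set n : D → ℝ := fun u => bp_nAt p M D e (χ₀ : G → ℂ) (u : G) with hn
  -- central elements
  have hcen : ∀ u : D, u ∈ Z → n u = (Nat.card D : ℝ) * m₁ := by
    intro u hu
    have huZ := (hmemZ u).mp hu
    rw [hn]
    simp only
    unfold bp_nAt
    rw [bp_inf_centralizer_of_center D (u : G) huZ,
      bp_nil_central hM B D e hmax χ₀ hχ₀ h0 (u : G) u.2 huZ]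
  have hsumn := bp_sum_nAt hM B D e hmax hnil χ₀ hχ₀
  have hsplit : ∑ u : D, n u = (Nat.card Z : ℝ) * ((Nat.card D : ℝ) * m₁) +
      ∑ u : D, (if u ∈ Z then (0 : ℝ) else n u) := by
    have h1 : ∀ u : D, n u = (if u ∈ Z then (Nat.card D : ℝ) * m₁ else 0) +
        (if u ∈ Z then (0 : ℝ) else n u) := by
      intro u
      by_cases h : u ∈ Z
      · rw [if_pos h, if_pos h, add_zero, hcen u h]
      · rw [if_neg h, if_neg h, zero_add]
    rw [Finset.sum_congr rfl (fun u _ => h1 u), Finset.sum_add_distrib, ← Finset.sum_filter,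
      Finset.sum_const, nsmul_eq_mul]
    congr 2
    rw [Nat.card_eq_fintype_card, Fintype.card_subtype]
  have hres := bp_nil_squeeze_sq (D := D) Z ζ (by rw [hcardD]; exact hζ) n m₁ (by
      intro u huZ
      have huc : (u : G) ∉ Subgroup.center G := fun h => huZ ((hmemZ u).mpr h)
      letI : Fintype (Subgroup.centralizer (Subgroup.zpowers (u : G) : Set G)) :=
        Fintype.ofFinite _
      obtain ⟨s, a, ex, hne, hk⟩ := bp_nil_local hM B D e hmax hnil χ₀ hχ₀ h0 (u : G) u.2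
        (hIH (u : G) u.2 huc) ζ hζ
      refine ⟨_, s, a, ex, hne, fun k hkc => ?_⟩
      rw [hcardD] at hkc
      rw [hn]
      simp only [SubmonoidClass.coe_pow]
      exact hk k hkc)
    (by rw [hcardD]; exact bp_nil_m1_ge hM B D e hmax χ₀ hχ₀ h0)
    (by rw [hcardD, ← hsplit]; exact hsumn)
  rw [hcardD] at hres
  refine ⟨hres.1, fun u hu => ?_⟩
  by_cases h : (⟨u, hu⟩ : D) ∈ Z
  · have := hcen ⟨u, hu⟩ h
    rw [hres.1] at this
    exact this
  · exact hres.2 ⟨u, hu⟩ h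

end Cfsg.Agent.BP
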