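import Mathlib
import Cfsg.Prelude.Def_Characters
import Cfsg.Prelude.Def_Blocks
import Cfsg.Prelude.Def_BlockRank
import Cfsg.Prelude.Def_BlockLocal
import Cfsg.Prelude.Def_BrauerPairs
import Cfsg.Agent.BP.NilD
import Cfsg.Agent.Helper6.IrrDegree

/-!
# BP §10 (nilpotent blocks), part E: `η ↦ η * χ₀` is an isometry onto `Irr(B)`
-/

set_option autoImplicit false
set_option linter.style.haveILetI false

namespace Cfsg.Agent.BP

open Cfsg.Agent.Helper6 Cfsg.Agent.Helper6.Maj Cfsg.Agent.Helper6.K4 Cfsg.Agent.Helper6.HtCen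

open scoped ComplexConjugate

universe u

variable {G : Type u} [Group G] {M : Ideal Cfsg.AlgInt}

open Classical in
/-- **the isometry**: if `n(u) = 1` for all `u ∈ D` then `⟨η * χ₀, η' * χ₀⟩ = ⟨η, η'⟩_D` -/
theorem bp_nil_isometry [Fintype G] {p : ℕ} [hp : Fact p.Prime]
    (hM : Cfsg.IsPModular p M) (B : Set (Cfsg.IrrCharacter G)) (D : Subgroup G)
    (e : Set (Cfsg.IrrCharacter (Subgroup.centralizer (D : Set G))))
    (hmax : Cfsg.IsMaximalBrauerPair p M B D e) (hnil : Cfsg.IsNilpotentBlock p M B)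
    (χ₀ : Cfsg.IrrCharacter G)
    (hn1 : ∀ u ∈ D, bp_nAt p M D e (χ₀ : G → ℂ) u = 1)
    (η η' : D → ℂ) (hη : Cfsg.IsClassFunction D η) (hη' : Cfsg.IsClassFunction D η') :
    Cfsg.classInner (bp_star p M D e η (χ₀ : G → ℂ)) (bp_star p M D e η' (χ₀ : G → ℂ)) =
      Cfsg.classInner η η' := by
  have hcf := IsCharacter.isClassFunction (IsIrrCharacter.isCharacter χ₀.2)
  rw [bp_inner_star_eq_sum' hM B D e hmax hnil η η'
    (bp_stable_of_nilpotent hM B D e hmax hnil η hη)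
    (bp_stable_of_nilpotent hM B D e hmax hnil η' hη') (χ₀ : G → ℂ) (χ₀ : G → ℂ) hcf hcf,
    classInner_def, Finset.mul_sum]
  apply Finset.sum_congr rfl
  intro u _
  have h1 := hn1 (u : G) u.2
  unfold bp_nAt at h1
  unfold bp_wD
  rw [extendByZero_coe, extendByZero_coe,
    bp_contribP_self_eq_re p (bp_pairAt p M D e (u : G)) (χ₀ : G → ℂ) (u : G)]
  generalize Nat.card (D ⊓ Subgroup.centralizer (Subgroup.zpowers (u : G) : Set G) :
      Subgroup G) = c at h1 ⊢
  generalize (contribP p (bp_pairAt p M D e (u : G)) (χ₀ : G → ℂ)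
        (χ₀ : G → ℂ) (u : G)).re = m at h1 ⊢
  have h2 : (c : ℂ) * (m : ℂ) = 1 := by
    have h3 := congrArg Complex.ofReal h1
    rw [Complex.ofReal_mul, Complex.ofReal_natCast, Complex.ofReal_one] at h3
    exact h3
  have : (c : ℂ) / (Nat.card D : ℂ) * (η u * conj (η' u) * (m : ℂ)) =
      (Nat.card D : ℂ)⁻¹ * (η u * conj (η' u)) * ((c : ℂ) * (m : ℂ)) := by ring
  rw [this, h2, mul_one]


/-- the `p`-regular part of `η * χ₀` -/
theorem bp_pRegularPart_star [Fintype G] {p : ℕ} [hp : Fact p.Prime]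
    (hM : Cfsg.IsPModular p M) (B : Set (Cfsg.IrrCharacter G)) (D : Subgroup G)
    (e : Set (Cfsg.IrrCharacter (Subgroup.centralizer (D : Set G))))
    (hmax : Cfsg.IsMaximalBrauerPair p M B D e) (η : D → ℂ) (χ : Cfsg.IrrCharacter G)
    (hχ : χ ∈ B) :
    Cfsg.pRegularPart p (bp_star p M D e η (χ : G → ℂ)) =
      η 1 • Cfsg.pRegularPart p (χ : G → ℂ) := by
  classical
  funext g
  rw [Pi.smul_apply, pRegularPart_apply, pRegularPart_apply, smul_eq_mul]
  split_ifs with h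
  · rw [mul_zero]
  · exact bp_star_apply_regular hM B D e hmax η χ hχ g h

open Classical in
/-- **`η * χ₀` is an irreducible character in `B`** for `η ∈ Irr(D)` -/
theorem bp_nil_star_irr [Fintype G] {p : ℕ} [hp : Fact p.Prime]
    (hM : Cfsg.IsPModular p M) (B : Set (Cfsg.IrrCharacter G)) (D : Subgroup G)
    (e : Set (Cfsg.IrrCharacter (Subgroup.centralizer (D : Set G))))
    (hmax : Cfsg.IsMaximalBrauerPair p M B D e) (hnil : Cfsg.IsNilpotentBlock p M B)
    (χ₀ : Cfsg.IrrCharacter G) (hχ₀ : χ₀ ∈ B)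
    (hn1 : ∀ u ∈ D, bp_nAt p M D e (χ₀ : G → ℂ) u = 1)
    (hBP : ∀ η : D → ℂ, Cfsg.IsGeneralizedCharacter D η → bp_stable p M D e η →
      ∀ χ : G → ℂ, Cfsg.IsCharacter G χ → Cfsg.IsGeneralizedCharacter G (bp_star p M D e η χ))
    (η : Cfsg.IrrCharacter D) :
    ∃ ψ : Cfsg.IrrCharacter G, ψ ∈ B ∧
      (ψ : G → ℂ) = bp_star p M D e (η : D → ℂ) (χ₀ : G → ℂ) := by
  have hηc := IsIrrCharacter.isCharacter η.2
  have hηcf := IsCharacter.isClassFunction hηc
  have hst := bp_stable_of_nilpotent hM B D e hmax hnil (η : D → ℂ) hηcf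
  have hgc := hBP (η : D → ℂ) (IsGeneralizedCharacter.of_isCharacter hηc) hst (χ₀ : G → ℂ)
    (IsIrrCharacter.isCharacter χ₀.2)
  have hnorm : Cfsg.classInner (bp_star p M D e (η : D → ℂ) (χ₀ : G → ℂ))
      (bp_star p M D e (η : D → ℂ) (χ₀ : G → ℂ)) = 1 := by
    rw [bp_nil_isometry hM B D e hmax hnil χ₀ hn1 _ _ hηcf hηcf, classInner_irr_self η.2]
  have hp1 : ¬ p ∣ orderOf (1 : G) := by
    rw [orderOf_one]
    exact hp.out.one_lt.ne' ∘ Nat.dvd_one.mp
  have hdeg := bp_star_apply_regular hM B D e hmax (η : D → ℂ) χ₀ hχ₀ 1 hp1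
  obtain ⟨a, ha, h1⟩ := IsIrrCharacter.apply_one_pos η.2
  obtain ⟨b, hb, h2⟩ := IsIrrCharacter.apply_one_pos χ₀.2
  have hpos : 0 < (bp_star p M D e (η : D → ℂ) (χ₀ : G → ℂ) 1).re := by
    rw [hdeg, h1, h2]
    have : ((a : ℂ) * (b : ℂ)).re = (a : ℝ) * (b : ℝ) := by
      rw [← Nat.cast_mul, Complex.natCast_re, Nat.cast_mul]
    rw [this]
    positivity
  have hirr := bp_irr_of_norm_one _ hgc hnorm hpos
  refine ⟨⟨_, hirr⟩, ?_, rfl⟩
  apply bp_mem_block_of_pRegularPart hM B hnil.1 χ₀ ⟨_, hirr⟩ hχ₀ ((η : D → ℂ) 1)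
    (IsIrrCharacter.apply_one_ne_zero η.2)
  exact bp_pRegularPart_star hM B D e hmax (η : D → ℂ) χ₀ hχ₀


open Classical in
/-- **every member of `B` is of the form `η * χ₀`** -/
theorem bp_nil_star_surj [Fintype G] {p : ℕ} [hp : Fact p.Prime]
    (hM : Cfsg.IsPModular p M) (B : Set (Cfsg.IrrCharacter G)) (D : Subgroup G)
    (e : Set (Cfsg.IrrCharacter (Subgroup.centralizer (D : Set G))))
    (hmax : Cfsg.IsMaximalBrauerPair p M B D e) (hnil : Cfsg.IsNilpotentBlock p M B)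
    (χ₀ : Cfsg.IrrCharacter G) (hχ₀ : χ₀ ∈ B) (h0 : Cfsg.blockHeight p B (χ₀ : G → ℂ) = 0)
    (hn1 : ∀ u ∈ D, bp_nAt p M D e (χ₀ : G → ℂ) u = 1)
    (hBP : ∀ η : D → ℂ, Cfsg.IsGeneralizedCharacter D η → bp_stable p M D e η →
      ∀ χ : G → ℂ, Cfsg.IsCharacter G χ → Cfsg.IsGeneralizedCharacter G (bp_star p M D e η χ))
    (χ' : Cfsg.IrrCharacter G) (hχ' : χ' ∈ B) :
    ∃ η : Cfsg.IrrCharacter D,
      (χ' : G → ℂ) = bp_star p M D e (η : D → ℂ) (χ₀ : G → ℂ) := by
  by_contra hcon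
  push Not at hcon
  haveI : Finite (Cfsg.IrrCharacter D) := irr_finite
  haveI : Fintype (Cfsg.IrrCharacter D) := Fintype.ofFinite _
  have hcf0 := IsCharacter.isClassFunction (IsIrrCharacter.isCharacter χ₀.2)
  have hcf' := IsCharacter.isClassFunction (IsIrrCharacter.isCharacter χ'.2)
  set δ : D → ℂ := fun w => if w = 1 then (1 : ℂ) else 0 with hδ
  have hδcf : Cfsg.IsClassFunction D δ := by
    intro g h
    rw [hδ]
    simp only
    have : h * g * h⁻¹ = 1 ↔ g = 1 := by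
      constructor
      · intro h1
        have := congrArg (fun y => h⁻¹ * y * h) h1
        simpa [mul_assoc] using this
      · rintro rfl
        simp
    rw [if_congr this rfl rfl]
  have hone : Cfsg.IsClassFunction D (fun _ : D => (1 : ℂ)) := fun _ _ => rfl
  -- the expansion of `δ * χ₀`
  have hexp : bp_star p M D e δ (χ₀ : G → ℂ) =
      ∑ η : Cfsg.IrrCharacter D, ((η : D → ℂ) 1 / (Nat.card D : ℂ)) •
        bp_star p M D e (η : D → ℂ) (χ₀ : G → ℂ) := by
    funext x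
    have h1 : δ = fun w => ∑ η : Cfsg.IrrCharacter D,
        ((η : D → ℂ) 1 / (Nat.card D : ℂ)) * (η : D → ℂ) w := by
      funext w
      exact bp_indicator_one_eq_sum w
    rw [h1, bp_star_sum_smul, Finset.sum_apply]
    apply Finset.sum_congr rfl
    intro η _
    rw [Pi.smul_apply, smul_eq_mul]
  -- the left side vanishes
  have hzero : Cfsg.classInner (bp_star p M D e δ (χ₀ : G → ℂ)) (χ' : G → ℂ) = 0 := by
    rw [hexp, classInner_sum_left]
    apply Finset.sum_eq_zero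
    intro η _
    rw [classInner_smul_left]
    obtain ⟨ψ, -, hψ⟩ := bp_nil_star_irr hM B D e hmax hnil χ₀ hχ₀ hn1 hBP η
    rw [← hψ, classInner_irr_ne ψ.2 χ'.2 (fun h => hcon η (h ▸ hψ)), mul_zero]
  -- the right side does not
  have hval := bp_inner_star_eq_sum' hM B D e hmax hnil δ (fun _ => 1)
    (bp_stable_of_nilpotent hM B D e hmax hnil δ hδcf)
    (bp_stable_of_nilpotent hM B D e hmax hnil _ hone) (χ₀ : G → ℂ) (χ' : G → ℂ) hcf0 hcf'
  rw [bp_star_one hM B D e hmax χ' hχ', hzero, Finset.sum_eq_single (1 : D)] at hval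
  · apply bp_nil_contrib_one_ne_zero hM B D e hmax χ₀ hχ₀ h0 χ' hχ'
    have hD0 : (Nat.card D : ℂ) ≠ 0 := by
      have : 0 < Nat.card D := Nat.card_pos
      exact_mod_cast this.ne'
    unfold bp_wD at hval
    rw [extendByZero_coe, extendByZero_coe] at hval
    simp only [hδ, if_true, map_one, mul_one, one_mul, OneMemClass.coe_one] at hval
    rw [bp_inf_centralizer_of_center D 1 (Subgroup.one_mem _), div_self hD0, one_mul] at hval
    exact hval.symm
  · intro u _ hu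
    unfold bp_wD
    rw [extendByZero_coe]
    simp only [hδ, if_neg hu, zero_mul, mul_zero]
  · intro h
    exact absurd (Finset.mem_univ _) h

end Cfsg.Agent.BP
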