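import Mathlib
import Cfsg.Prelude.Def_Characters
import Cfsg.Prelude.Def_Blocks
import Cfsg.Prelude.Def_BlockRank
import Cfsg.Prelude.Def_BlockLocal
import Cfsg.Prelude.Def_BrauerPairs
import Cfsg.Agent.BP.NilE
import Cfsg.Agent.Helper6.BlockFusionRec1
import Cfsg.Agent.Helper6.PiKerD
import Cfsg.Agent.Helper6.DefectOrder

/-!
# BP §10 (nilpotent blocks), part F: the induction on the group order

`bp_nil_BPHyp p M` is the theorem (BP) of Broué–Puig for all finite groups of the universe.  Under it,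
`bp_NilProp p M G` holds for every finite group `G`.
-/

set_option autoImplicit false
set_option linter.style.haveILetI false

namespace Cfsg.Agent.BP

open Cfsg.Agent.Helper6 Cfsg.Agent.Helper6.Maj Cfsg.Agent.Helper6.K4 Cfsg.Agent.Helper6.HtCen

open scoped ComplexConjugate

universe u

/-- the theorem (BP) for all finite groups of the universe `u` -/
def bp_nil_BPHyp (p : ℕ) [Fact p.Prime] (M : Ideal Cfsg.AlgInt) : Prop :=
  ∀ (K : Type u) [Group K] [Fintype K] (B : Set (Cfsg.IrrCharacter K)) (D : Subgroup K)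
    (e : Set (Cfsg.IrrCharacter (Subgroup.centralizer (D : Set K)))),
    Cfsg.IsMaximalBrauerPair p M B D e →
    ∀ η : D → ℂ, Cfsg.IsGeneralizedCharacter D η → bp_stable p M D e η →
      ∀ χ : K → ℂ, Cfsg.IsCharacter K χ → Cfsg.IsGeneralizedCharacter K (bp_star p M D e η χ)

variable {M : Ideal Cfsg.AlgInt}

/-- the centralizer of a non-central element is a proper subgroup -/
theorem bp_card_centralizer_lt {G : Type u} [Group G] [Finite G] (u : G)
    (hu : u ∉ Subgroup.center G) :
    Nat.card (Subgroup.centralizer (Subgroup.zpowers u : Set G)) < Nat.card G := by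
  have hne : Subgroup.centralizer (Subgroup.zpowers u : Set G) ≠ ⊤ := by
    intro htop
    apply hu
    rw [Subgroup.mem_center_iff]
    intro g
    have hg : g ∈ Subgroup.centralizer (Subgroup.zpowers u : Set G) := by
      rw [htop]; exact Subgroup.mem_top g
    exact Subgroup.mem_centralizer_iff.mp hg u (Subgroup.mem_zpowers u) |>.symm
  have hle := Subgroup.card_le_card_group (Subgroup.centralizer (Subgroup.zpowers u : Set G))
  rcases lt_or_eq_of_le hle with h | h
  · exact h
  · exact absurd ((Subgroup.card_eq_iff_eq_top _).mp h) hne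

/-- **the induction** -/
theorem bp_nilProp_aux {p : ℕ} [hp : Fact p.Prime] (hM : Cfsg.IsPModular p M)
    (hBP : bp_nil_BPHyp.{u} p M) :
    ∀ n : ℕ, ∀ (G : Type u) [Group G] [Fintype G], Nat.card G = n → bp_NilProp p M G := by
  intro n
  induction n using Nat.strong_induction_on with
  | _ n ih =>
  intro G _ _ hn b hnil ζ₀ hζ₀ h0
  have hB := hnil.1
  obtain ⟨P, hP⟩ := exists_isDefectGroup hM.2.1 p b hB
  obtain ⟨e, hmax⟩ := exists_isBrauerPairOf_of_isDefectGroup hM b hB P hP
  have hIH : ∀ u ∈ P, u ∉ Subgroup.center G →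
      @bp_NilProp p M (Subgroup.centralizer (Subgroup.zpowers u : Set G)) _
        (Fintype.ofFinite _) := by
    intro u _ huc
    exact @ih _ (hn ▸ bp_card_centralizer_lt u huc) _ _ (Fintype.ofFinite _) rfl
  obtain ⟨hm1, hn1⟩ := bp_nAt_eq_one hM b P e hmax hnil ζ₀ hζ₀ h0 hIH
  have hcardP := card_defectGroup hM.2.1 p hM.2.2 b hB P hP
  constructor
  · rw [HtCen.classInner_self_eq] at hm1 ⊢
    rw [Complex.ofReal_re] at hm1
    have hP0 : (Nat.card P : ℝ) ≠ 0 := by
      have : 0 < Nat.card P := Nat.card_pos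
      exact_mod_cast this.ne'
    have h1 := eq_inv_of_mul_eq_one_right hm1
    rw [h1, hcardP]
    push_cast
    rfl
  · intro ζ hζ
    obtain ⟨η, hη⟩ := bp_nil_star_surj hM b P e hmax hnil ζ₀ hζ₀ h0 hn1
      (hBP G b P e hmax) ζ hζ
    obtain ⟨a, -, h1⟩ := IsIrrCharacter.apply_one_pos η.2
    refine ⟨a, ?_⟩
    rw [hη, bp_pRegularPart_star hM b P e hmax (η : P → ℂ) ζ₀ hζ₀, h1]

/-- **nilpotent blocks, main statement** (modulo (BP)) -/
theorem bp_nilProp {p : ℕ} [hp : Fact p.Prime] (hM : Cfsg.IsPModular p M)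
    (hBP : bp_nil_BPHyp.{u} p M) (G : Type u) [Group G] [Fintype G] : bp_NilProp p M G :=
  bp_nilProp_aux hM hBP _ G rfl

end Cfsg.Agent.BP
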