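import Mathlib
import Cfsg.Prelude.Def_Characters
import Cfsg.Prelude.Def_Blocks
import Cfsg.Prelude.Def_BlockRank
import Cfsg.Prelude.Def_BlockLocal
import Cfsg.Prelude.Def_BrauerPairs
import Cfsg.Agent.BP.NilF
import Cfsg.Agent.Helper6.DefectClassValues
import Cfsg.Agent.Helper6.K4G

/-!
# BP §10 (nilpotent blocks), part G: S4689 modulo (BP)
-/

set_option autoImplicit false
set_option linter.style.haveILetI false

namespace Cfsg.Agent.BP

open Cfsg.Agent.Helper6 Cfsg.Agent.Helper6.Maj Cfsg.Agent.Helper6.K4 Cfsg.Agent.Helper6.HtCen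

open scoped ComplexConjugate

universe u

variable {G : Type u} [Group G] {M : Ideal Cfsg.AlgInt}

/-- **S4689 modulo (BP)**: a nilpotent block has `p`-regular rank one, with unit decomposition
row -/
theorem bp_S4689_of_BP [Fintype G] (p : ℕ) [hp : Fact p.Prime] (hM : Cfsg.IsPModular p M)
    (hBP : bp_nil_BPHyp.{u} p M) (B : Set (Cfsg.IrrCharacter G))
    (hnil : Cfsg.IsNilpotentBlock p M B) :
    Cfsg.blockRank p B = 1 ∧ ∃ χ₀ ∈ B, ∀ χ ∈ B, ∃ d : ℕ, ∀ x : G,
      Cfsg.pRegularPart p (χ : G → ℂ) x = (d : ℂ) * Cfsg.pRegularPart p (χ₀ : G → ℂ) x := by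
  classical
  obtain ⟨ψ, hψ⟩ := isPBlock_nonempty' hM.2.1 B hnil.1
  obtain ⟨χ₀, hχ₀, h0⟩ := exists_height_zero p B ⟨ψ, hψ⟩
  obtain ⟨-, hall⟩ := bp_nilProp hM hBP G B hnil χ₀ hχ₀ h0
  have hne : Cfsg.pRegularPart p (χ₀ : G → ℂ) ≠ 0 := by
    intro h
    have h1 := congrFun h 1
    rw [pRegularPart_apply, orderOf_one, if_neg (hp.out.one_lt.ne' ∘ Nat.dvd_one.mp)] at h1
    exact IsIrrCharacter.apply_one_ne_zero χ₀.2 h1
  constructor
  · unfold Cfsg.blockRank
    have hspan : Submodule.span ℂ ((fun χ : Cfsg.IrrCharacter G =>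
        Cfsg.pRegularPart p (χ : G → ℂ)) '' B) =
        Submodule.span ℂ {Cfsg.pRegularPart p (χ₀ : G → ℂ)} := by
      apply le_antisymm
      · rw [Submodule.span_le]
        rintro _ ⟨χ, hχ, rfl⟩
        obtain ⟨n, hn⟩ := hall χ hχ
        simp only
        rw [hn]
        exact Submodule.smul_mem _ _ (Submodule.mem_span_singleton_self _)
      · rw [Submodule.span_le]
        rintro _ rfl
        exact Submodule.subset_span ⟨χ₀, hχ₀, rfl⟩
    rw [hspan]
    exact finrank_span_singleton hne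
  · refine ⟨χ₀, hχ₀, fun χ hχ => ?_⟩
    obtain ⟨n, hn⟩ := hall χ hχ
    refine ⟨n, fun x => ?_⟩
    rw [hn, Pi.smul_apply, smul_eq_mul]

end Cfsg.Agent.BP
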