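import Mathlib
import Cfsg.Prelude.Def_Characters
import Cfsg.Prelude.Def_Blocks
import Cfsg.Prelude.Def_BlockRank
import Cfsg.Prelude.Def_BlockLocal
import Cfsg.Prelude.Def_BrauerPairs
import Cfsg.Agent.BP.NilG
import Cfsg.Agent.Helper6.SRealE

/-!
# BP §10 (nilpotent blocks), part H: S4690 modulo (BP)
-/

set_option autoImplicit false
set_option linter.style.haveILetI false

namespace Cfsg.Agent.BP

open Cfsg.Agent.Helper6 Cfsg.Agent.Helper6.Maj Cfsg.Agent.Helper6.K4 Cfsg.Agent.Helper6.HtCen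

open scoped ComplexConjugate

universe u

variable {G : Type u} [Group G] {M : Ideal Cfsg.AlgInt}

/-- **S4690 modulo (BP)**: a height preserving bijection between a nilpotent block and the
irreducible characters of its defect group -/
theorem bp_S4690_of_BP [Fintype G] (p : ℕ) [hp : Fact p.Prime] (hM : Cfsg.IsPModular p M)
    (hBP : bp_nil_BPHyp.{u} p M) (B : Set (Cfsg.IrrCharacter G))
    (hnil : Cfsg.IsNilpotentBlock p M B) (P : Subgroup G)
    (hP : Cfsg.IsDefectGroup p M B P) :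
    ∃ Φ : B ≃ Cfsg.IrrCharacter P, ∀ χ : B,
      Cfsg.blockHeight p B ((χ : Cfsg.IrrCharacter G) : G → ℂ) =
        (Cfsg.charDegree ((Φ χ : Cfsg.IrrCharacter P) : P → ℂ)).factorization p := by
  classical
  obtain ⟨e, hmax⟩ := exists_isBrauerPairOf_of_isDefectGroup hM B hnil.1 P hP
  obtain ⟨ψ, hψ⟩ := isPBlock_nonempty' hM.2.1 B hnil.1
  obtain ⟨χ₀, hχ₀, h0⟩ := exists_height_zero p B ⟨ψ, hψ⟩
  have hIH : ∀ u ∈ P, u ∉ Subgroup.center G →
      @bp_NilProp p M (Subgroup.centralizer (Subgroup.zpowers u : Set G)) _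
        (Fintype.ofFinite _) := fun u _ _ => @bp_nilProp M p hp hM hBP _ _ (Fintype.ofFinite _)
  obtain ⟨-, hn1⟩ := bp_nAt_eq_one hM B P e hmax hnil χ₀ hχ₀ h0 hIH
  have hBPG := hBP G B P e hmax
  choose Ψ hΨB hΨ using bp_nil_star_irr hM B P e hmax hnil χ₀ hχ₀ hn1 hBPG
  set F : Cfsg.IrrCharacter P → B := fun η => ⟨Ψ η, hΨB η⟩ with hF
  have hinj : Function.Injective F := by
    intro η η' h
    have h1 : (Ψ η : G → ℂ) = (Ψ η' : G → ℂ) := by
      have := congrArg (fun x : B => ((x : Cfsg.IrrCharacter G) : G → ℂ)) h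
      exact this
    rw [hΨ η, hΨ η'] at h1
    by_contra hne
    have hcf := IsCharacter.isClassFunction (IsIrrCharacter.isCharacter η.2)
    have hcf' := IsCharacter.isClassFunction (IsIrrCharacter.isCharacter η'.2)
    have h2 := bp_nil_isometry hM B P e hmax hnil χ₀ hn1 (η : P → ℂ) (η' : P → ℂ) hcf hcf'
    have h3 := bp_nil_isometry hM B P e hmax hnil χ₀ hn1 (η : P → ℂ) (η : P → ℂ) hcf hcf
    rw [← h1, h3, classInner_irr_self η.2,
      classInner_irr_ne η.2 η'.2 (fun h => hne (Subtype.ext h))] at h2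
    exact one_ne_zero h2
  have hsurj : Function.Surjective F := by
    rintro ⟨χ, hχ⟩
    obtain ⟨η, hη⟩ := bp_nil_star_surj hM B P e hmax hnil χ₀ hχ₀ h0 hn1 hBPG χ hχ
    refine ⟨η, ?_⟩
    apply Subtype.ext
    apply Subtype.ext
    show (Ψ η : G → ℂ) = (χ : G → ℂ)
    rw [hΨ η, hη]
  refine ⟨(Equiv.ofBijective F ⟨hinj, hsurj⟩).symm, fun χ => ?_⟩
  set η := (Equiv.ofBijective F ⟨hinj, hsurj⟩).symm χ with hη
  have hFη : F η = χ := (Equiv.ofBijective F ⟨hinj, hsurj⟩).apply_symm_apply χ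
  have hχeq : ((χ : Cfsg.IrrCharacter G) : G → ℂ) =
      bp_star p M P e (η : P → ℂ) (χ₀ : G → ℂ) := by
    rw [← hFη]
    exact hΨ η
  have hp1 : ¬ p ∣ orderOf (1 : G) := by
    rw [orderOf_one]
    exact hp.out.one_lt.ne' ∘ Nat.dvd_one.mp
  have hdeg := bp_star_apply_regular hM B P e hmax (η : P → ℂ) χ₀ hχ₀ 1 hp1
  obtain ⟨a, ha, h1⟩ := IsIrrCharacter.apply_one_pos η.2
  obtain ⟨b, hb, h2⟩ := IsIrrCharacter.apply_one_pos χ₀.2
  have hχ1 : ((χ : Cfsg.IrrCharacter G) : G → ℂ) 1 = ((a * b : ℕ) : ℂ) := by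
    rw [hχeq, hdeg, h1, h2]
    push_cast
    rfl
  have hdχ := SReal.charDegree_eq_of_apply_one _ _ hχ1
  have hdη := SReal.charDegree_eq_of_apply_one _ _ h1
  have hd0 := SReal.charDegree_eq_of_apply_one _ _ h2
  unfold Cfsg.blockHeight at h0 ⊢
  rw [hdχ, hdη, Nat.factorization_mul ha.ne' hb.ne', Finsupp.add_apply]
  rw [hd0] at h0
  have hle : sInf ((fun ψ : Cfsg.IrrCharacter G =>
      (Cfsg.charDegree (ψ : G → ℂ)).factorization p) '' B) ≤ b.factorization p := by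
    apply Nat.sInf_le
    exact ⟨χ₀, hχ₀, by simp only; rw [hd0]⟩
  omega

end Cfsg.Agent.BP
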