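import Mathlib
import Cfsg.Prelude.Def_Characters
import Cfsg.Prelude.Def_Blocks
import Cfsg.Prelude.Def_BrauerPairs
import Cfsg.Agent.BP.NilH
import Cfsg.Agent.BP.BPGlue
import Cfsg.Agent.BP.StarDefB
import Cfsg.Agent.BP.Restrict

/-!
# BP §10: the hypothesis `bp_nil_BPHyp` holds (the theorem (BP) of Broué–Puig), hence S4689 and
S4690 for nilpotent blocks
-/

set_option autoImplicit false

namespace Cfsg.Agent.BP

open Cfsg.Agent.Helper6

universe u

/-- **(BP) for all finite groups of the universe** -/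
theorem bp_nil_BPHyp_holds {p : ℕ} [Fact p.Prime] {M : Ideal Cfsg.AlgInt}
    (hM : Cfsg.IsPModular p M) : bp_nil_BPHyp.{u} p M := by
  intro K _ _ B D e hmax
  exact bp_hBP_of_restrict p M D e
    (fun η _ hst χ hχ => bp_star_isClassFunction D e η hst χ (IsCharacter.isClassFunction hχ))
    (fun η hη hst χ hχ S C hS hC hCS => bp_star_restrict hM B D e hmax η hη hst χ hχ S C hS hC hCS)

/-- **nilpotent blocks have `p`-regular rank one, with unit decomposition row** -/
theorem bp_nil_rank_one {G : Type u} [Group G] [Fintype G] (p : ℕ) [Fact p.Prime]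
    {M : Ideal Cfsg.AlgInt} (hM : Cfsg.IsPModular p M) (B : Set (Cfsg.IrrCharacter G))
    (hnil : Cfsg.IsNilpotentBlock p M B) :
    Cfsg.blockRank p B = 1 ∧ ∃ χ₀ ∈ B, ∀ χ ∈ B, ∃ d : ℕ, ∀ x : G,
      Cfsg.pRegularPart p (χ : G → ℂ) x = (d : ℂ) * Cfsg.pRegularPart p (χ₀ : G → ℂ) x :=
  bp_S4689_of_BP p hM (bp_nil_BPHyp_holds hM) B hnil

/-- **nilpotent blocks: height preserving bijection with the characters of a defect group** -/
theorem bp_nil_bijection {G : Type u} [Group G] [Fintype G] (p : ℕ) [Fact p.Prime]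
    {M : Ideal Cfsg.AlgInt} (hM : Cfsg.IsPModular p M) (B : Set (Cfsg.IrrCharacter G))
    (hnil : Cfsg.IsNilpotentBlock p M B) (P : Subgroup G)
    (hP : Cfsg.IsDefectGroup p M B P) :
    ∃ Φ : B ≃ Cfsg.IrrCharacter P, ∀ χ : B,
      Cfsg.blockHeight p B ((χ : Cfsg.IrrCharacter G) : G → ℂ) =
        (Cfsg.charDegree ((Φ χ : Cfsg.IrrCharacter P) : P → ℂ)).factorization p :=
  bp_S4690_of_BP p hM (bp_nil_BPHyp_holds hM) B hnil P hP

end Cfsg.Agent.BP
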