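import Mathlib
import Cfsg.Prelude.Def_Characters
import Cfsg.Agent.Helper6.Induced
import Cfsg.Agent.Helper6.ClassInner

/-!
# BP §10, NilC side lemma (iii): multiplicities of a restricted character are natural numbers
-/

set_option autoImplicit false

namespace Cfsg.Agent.BP

open Cfsg.Agent.Helper6

open scoped ComplexConjugate

universe u

variable {G : Type u} [Group G]

/-- the multiplicity of an irreducible character in a character is a natural number -/
theorem bp_nc1_classInner_char_irr_nat [Fintype G] {ψ χ : G → ℂ} (hψ : Cfsg.IsCharacter G ψ)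
    (hχ : Cfsg.IsIrrCharacter G χ) : ∃ n : ℕ, Cfsg.classInner ψ χ = n := by
  obtain ⟨n, hn⟩ := classInner_irr_char_nat hχ hψ
  refine ⟨n, ?_⟩
  rw [classInner_conj_symm, hn, Complex.conj_natCast]

/-- **(iii)** `a_θ := ⟨Res χ, θ⟩` is a natural number -/
theorem bp_nc1_classInner_res_nat (H : Subgroup G) [Fintype H] {χ : G → ℂ}
    (hχ : Cfsg.IsCharacter G χ) (θ : Cfsg.IrrCharacter H) :
    ∃ n : ℕ, Cfsg.classInner (fun h : H => χ (h : G)) (θ : H → ℂ) = n :=
  bp_nc1_classInner_char_irr_nat (IsCharacter.restrict H hχ) θ.2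

/-- the same for a translate by a central element of `H`: `c ↦ χ(u c)` is `ε`-times a character
on each irreducible constituent; here only the plain restriction statement in the symmetric
order -/
theorem bp_nc1_classInner_irr_res_nat (H : Subgroup G) [Fintype H] {χ : G → ℂ}
    (hχ : Cfsg.IsCharacter G χ) (θ : Cfsg.IrrCharacter H) :
    ∃ n : ℕ, Cfsg.classInner (θ : H → ℂ) (fun h : H => χ (h : G)) = n :=
  classInner_irr_char_nat θ.2 (IsCharacter.restrict H hχ)

end Cfsg.Agent.BP
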