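import Mathlib

/-!
# BP / PStep: a proper subgroup of a finite `p`-group lies in a normal subgroup of index `p`,
with an explicit cyclic left transversal `1, x, …, x^(p-1)`.
-/

set_option autoImplicit false

namespace Cfsg.Agent.BP

/-- For `Q₀ < P`, `P` a finite `p`-group: there are `P₁` with `Q₀ ≤ P₁ ≤ P` normalised by `P`
and `x ∈ P ∖ P₁` with `x ^ p ∈ P₁` such that every `z ∈ P` is `x ^ d * y` with a unique
`d < p` and `y ∈ P₁`. -/
theorem bp_exists_index_p {G : Type*} [Group G] [Finite G] {p : ℕ} [hp : Fact p.Prime]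
    (P Q₀ : Subgroup G) (hP : IsPGroup p P) (h : Q₀ < P) :
    ∃ (P₁ : Subgroup G) (x : G), Q₀ ≤ P₁ ∧ P₁ ≤ P ∧ x ∈ P ∧ x ∉ P₁ ∧
      (∀ z ∈ P, ∀ y ∈ P₁, z * y * z⁻¹ ∈ P₁) ∧ x ^ p ∈ P₁ ∧ Nat.card P₁ < Nat.card P ∧
      ∀ z ∈ P, ∃ d, d < p ∧ (x ^ d)⁻¹ * z ∈ P₁ ∧
        ∀ d', d' < p → (x ^ d')⁻¹ * z ∈ P₁ → d' = d := by
  classical
  obtain ⟨m, hm⟩ := hP.exists_card_eq
  set Q' : Subgroup P := Q₀.subgroupOf P with hQ'
  obtain ⟨n, hn⟩ := (hP.to_subgroup Q').exists_card_eq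
  have hQ'ne : Q' ≠ ⊤ := by
    intro htop
    rw [hQ', Subgroup.subgroupOf_eq_top] at htop
    exact (not_le_of_gt h) htop
  have hnm : n < m := by
    by_contra hcon
    have hcon := not_lt.1 hcon
    have h1 : Nat.card Q' ∣ Nat.card P := Subgroup.card_subgroup_dvd_card Q'
    rw [hn, hm] at h1
    have h2 : n ≤ m := (Nat.pow_dvd_pow_iff_le_right hp.1.one_lt).1 h1
    have h3 : n = m := le_antisymm h2 hcon
    apply hQ'ne
    apply Subgroup.eq_top_of_card_eq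
    rw [hn, hm, h3]
  have hm0 : m ≠ 0 := by omega
  obtain ⟨K, hKcard, hQK⟩ := Sylow.exists_subgroup_card_pow_prime_le p
    (show p ^ (m - 1) ∣ Nat.card P by rw [hm]; exact pow_dvd_pow p (Nat.sub_le m 1)) Q' hn
    (show n ≤ m - 1 by omega)
  have hidx : K.index = p := by
    have h1 := Subgroup.index_mul_card K
    rw [hKcard, hm] at h1
    have h2 : p ^ m = p * p ^ (m - 1) := by
      rw [← pow_succ']
      congr 1
      omega
    rw [h2] at h1
    exact Nat.eq_of_mul_eq_mul_right (pow_pos hp.1.pos _) h1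
  have hKn : K.Normal := by
    apply Subgroup.normal_of_index_eq_minFac_card
    rw [hidx, hm, Nat.Prime.pow_minFac hp.1 hm0]
  have hqcard : Nat.card (P ⧸ K) = p := by
    rw [← Subgroup.index_eq_card, hidx]
  have hKne : K ≠ ⊤ := by
    intro htop
    rw [htop, Subgroup.index_top] at hidx
    exact hp.1.one_lt.ne hidx
  obtain ⟨x, -, hxK⟩ := SetLike.exists_of_lt (lt_top_iff_ne_top.2 hKne)
  have hxb : (QuotientGroup.mk x : P ⧸ K) ≠ 1 := by
    intro h1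
    exact hxK ((QuotientGroup.eq_one_iff x).1 h1)
  have hxp : (QuotientGroup.mk x : P ⧸ K) ^ p = 1 := by
    rw [← hqcard]
    exact pow_card_eq_one'
  have hord : orderOf (QuotientGroup.mk x : P ⧸ K) = p := orderOf_eq_prime hxp hxb
  have hmemK : ∀ y : G, y ∈ K.map P.subtype ↔ ∃ hy : y ∈ P, (⟨y, hy⟩ : P) ∈ K := by
    intro y
    rw [Subgroup.mem_map]
    constructor
    · rintro ⟨k, hk, rfl⟩
      exact ⟨k.2, hk⟩
    · rintro ⟨hy, hk⟩
      exact ⟨⟨y, hy⟩, hk, rfl⟩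
  refine ⟨K.map P.subtype, (x : G), ?_, ?_, x.2, ?_, ?_, ?_, ?_, ?_⟩
  · intro y hy
    have hyP : y ∈ P := h.le hy
    rw [hmemK]
    refine ⟨hyP, hQK ?_⟩
    rw [hQ', Subgroup.mem_subgroupOf]
    exact hy
  · exact Subgroup.map_subtype_le K
  · intro hx
    obtain ⟨hx', hxk⟩ := (hmemK _).1 hx
    exact hxK hxk
  · intro z hz y hy
    obtain ⟨hyP, hyK⟩ := (hmemK _).1 hy
    rw [hmemK]
    refine ⟨P.mul_mem (P.mul_mem hz hyP) (P.inv_mem hz), ?_⟩
    have := hKn.conj_mem ⟨y, hyP⟩ hyK ⟨z, hz⟩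
    exact this
  · rw [hmemK]
    refine ⟨P.pow_mem x.2 p, ?_⟩
    have h1 : (QuotientGroup.mk (x ^ p) : P ⧸ K) = 1 := by
      rw [QuotientGroup.mk_pow, hxp]
    have h2 := (QuotientGroup.eq_one_iff (x ^ p)).1 h1
    exact h2
  · have h1 : Nat.card (K.map P.subtype) = Nat.card K :=
      Nat.card_congr (K.equivMapOfInjective P.subtype Subtype.coe_injective).symm.toEquiv
    rw [h1, hKcard, hm]
    exact Nat.pow_lt_pow_right hp.1.one_lt (by omega)
  · intro z hz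
    have hzmem : (QuotientGroup.mk (⟨z, hz⟩ : P) : P ⧸ K) ∈
        Submonoid.powers (QuotientGroup.mk x : P ⧸ K) := mem_powers_of_prime_card hqcard hxb
    obtain ⟨d0, hd0⟩ := hzmem
    have hkey : ∀ d : ℕ, ((x : G) ^ d)⁻¹ * z ∈ K.map P.subtype ↔
        (QuotientGroup.mk x : P ⧸ K) ^ d = QuotientGroup.mk (⟨z, hz⟩ : P) := by
      intro d
      rw [hmemK]
      constructor
      · rintro ⟨h1, h2⟩
        rw [← QuotientGroup.mk_pow, QuotientGroup.eq]
        have e : (x ^ d)⁻¹ * (⟨z, hz⟩ : P) = ⟨((x : G) ^ d)⁻¹ * z, h1⟩ := Subtype.ext (by simp)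
        rw [e]
        exact h2
      · intro h1
        rw [← QuotientGroup.mk_pow, QuotientGroup.eq] at h1
        have hmem := P.mul_mem (P.inv_mem (P.pow_mem x.2 d)) hz
        have e : (x ^ d)⁻¹ * (⟨z, hz⟩ : P) = ⟨((x : G) ^ d)⁻¹ * z, hmem⟩ := Subtype.ext (by simp)
        rw [e] at h1
        exact ⟨hmem, h1⟩
    refine ⟨d0 % p, Nat.mod_lt _ hp.1.pos, ?_, ?_⟩
    · rw [hkey, ← hd0, ← hord, pow_mod_orderOf]
    · intro d' hd' hd'z
      rw [hkey, ← hd0] at hd'z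
      have h1 := (pow_inj_mod (x := (QuotientGroup.mk x : P ⧸ K))).1 hd'z
      rw [hord] at h1
      rw [← h1, Nat.mod_eq_of_lt hd']

end Cfsg.Agent.BP
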