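import Mathlib
import Cfsg.Agent.BP.BrauerMapB
import Cfsg.Agent.BP.DefectB
import Cfsg.Agent.BP.LocalB

/-!
# BP / L7 : the Puig step (helper1's CLAIM P), pure algebra form inside `kG`

* `bp_suppAlg H`, `bp_suppFixIn H N` : the subalgebras of `SG` of the elements supported on `H` (and fixed by `N`);
* `bp_lemmaX` : an `N`-fixed idempotent of `k C_G(U)` all of whose Brauer images at the subgroups `T`,
  `U < T ≤ N`, vanish, is a relative trace from `U`;
* `bp_puig_step` : `i` a primitive idempotent of `(RG)^{Q ⊔ C}` with `br_Q(i) ≠ 0`, `U < Q`, `fbar` a central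
  idempotent of `k C_G(U)` whose `N_Q(U)`-conjugates are equal or orthogonal, `br_U(i) fbar ≠ 0`: then there is `T`,
  `U < T ≤ N_Q(U)`, stabilizing `fbar`, with `br_T(i) · trunc_{C_G(T)}(fbar) ≠ 0`.
-/

set_option maxHeartbeats 800000

set_option autoImplicit false

namespace Cfsg.Agent.BP

open MonoidAlgebra

section suppAlg

variable {S : Type*} [CommRing S] {G : Type*} [Group G]

/-- The elements of `SG` supported on the subgroup `H`, as a subalgebra (the image of `SH`). -/
noncomputable def bp_suppAlg (H : Subgroup G) : Subalgebra S (MonoidAlgebra S G) where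
  carrier := {a | bp_SuppIn H a}
  mul_mem' := fun ha hb => bp_suppIn_mul ha hb
  one_mem' := bp_suppIn_one H
  add_mem' := fun ha hb => bp_suppIn_add ha hb
  zero_mem' := bp_suppIn_zero H
  algebraMap_mem' := fun r => by
    change bp_SuppIn H (algebraMap S (MonoidAlgebra S G) r)
    rw [MonoidAlgebra.coe_algebraMap]
    exact bp_suppIn_single H.one_mem _

theorem bp_mem_suppAlg (H : Subgroup G) (a : MonoidAlgebra S G) :
    a ∈ bp_suppAlg (S := S) H ↔ bp_SuppIn H a := Iff.rfl

/-- The `N`-fixed elements supported on `H`. -/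
noncomputable def bp_suppFixIn (H N : Subgroup G) : Subalgebra S (MonoidAlgebra S G) := bp_suppAlg H ⊓ bp_fix N

theorem bp_mem_suppFixIn (H N : Subgroup G) (a : MonoidAlgebra S G) :
    a ∈ bp_suppFixIn (S := S) H N ↔ bp_SuppIn H a ∧ a ∈ bp_fix N := Iff.rfl

/-- Elements supported on `C_G(R)` are fixed by `R`. -/
theorem bp_mem_fix_of_suppIn_centralizer (R : Subgroup G) {a : MonoidAlgebra S G}
    (ha : bp_SuppIn (Subgroup.centralizer (R : Set G)) a) : a ∈ bp_fix R := by
  rw [bp_mem_fix_iff]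
  intro x hx g
  by_cases hg : g ∈ Subgroup.centralizer (R : Set G)
  · have : x * g * x⁻¹ = g := by
      have h := (Subgroup.mem_centralizer_iff.mp hg) x hx
      rw [h, mul_assoc, mul_inv_cancel, mul_one]
    rw [this]
  · have hg' : x * g * x⁻¹ ∉ Subgroup.centralizer (R : Set G) := by
      intro h
      apply hg
      rw [Subgroup.mem_centralizer_iff] at h ⊢
      intro y hy
      have h1 := h (x * y * x⁻¹) (R.mul_mem (R.mul_mem hx hy) (R.inv_mem hx))
      have h2 : x * (y * g) * x⁻¹ = x * (g * y) * x⁻¹ := by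
        calc x * (y * g) * x⁻¹ = x * y * x⁻¹ * (x * g * x⁻¹) := by group
          _ = x * g * x⁻¹ * (x * y * x⁻¹) := h1
          _ = x * (g * y) * x⁻¹ := by group
      exact mul_left_cancel (mul_right_cancel h2)
    rw [ha _ hg', ha _ hg]

/-- Conjugation by an element normalizing `H` preserves `bp_SuppIn H`. -/
theorem bp_suppIn_conj {H : Subgroup G} {x : G} (hx : x ∈ Subgroup.normalizer (H : Set G))
    {a : MonoidAlgebra S G} (ha : bp_SuppIn H a) : bp_SuppIn H (bp_conj x a) := by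
  intro g hg
  rw [bp_conj_coeff]
  apply ha
  intro h
  apply hg
  have := (Subgroup.mem_normalizer_iff.mp hx) (x⁻¹ * g * x)
  rw [this] at h
  have e : x * (x⁻¹ * g * x) * x⁻¹ = g := by group
  rwa [e] at h

theorem bp_suppIn_sum {ι : Type*} (s : Finset ι) {H : Subgroup G} {a : ι → MonoidAlgebra S G}
    (ha : ∀ i ∈ s, bp_SuppIn H (a i)) : bp_SuppIn H (∑ i ∈ s, a i) :=
  (bp_suppAlg (S := S) H).sum_mem ha

/-- Relative traces from subgroups normalizing `H` preserve `bp_SuppIn H`. -/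
theorem bp_suppIn_tr [Finite G] {H K N : Subgroup G} (hKN : K ≤ N)
    (hN : N ≤ Subgroup.normalizer (H : Set G)) {a : MonoidAlgebra S G} (ha : bp_SuppIn H a) :
    bp_SuppIn H (bp_tr K N a) := by
  rw [bp_tr_apply]
  exact bp_suppIn_sum _ (fun t ht => bp_suppIn_conj (hN ((bp_transv_isLT hKN).mem t ht)) ha)

end suppAlg

section lemmaX

theorem bp_card_lt_of_lt {G : Type*} [Group G] [Finite G] {K N : Subgroup G} (h : K < N) :
    Nat.card K < Nat.card N := by
  have h1 : (K : Set G) ⊂ (N : Set G) := h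
  have := Set.ncard_lt_ncard h1 (Set.toFinite _)
  rwa [← Nat.card_coe_set_eq, ← Nat.card_coe_set_eq] at this

variable {k : Type*} [Field k] [SplitMonic k] {G : Type*} [Group G] [Finite G]

/-- LEMMA X.  `N` a `p`-group normalizing `R ≤ N`, `ε` an `N`-fixed idempotent of `kG` supported on `C_G(R)`
all of whose Brauer images at the subgroups `T`, `R < T ≤ N`, vanish.  Then `ε` is a relative trace from `R`:
`ε = Tr_R^N(a₀)` with `a₀ ∈ ε k C_G(R) ε`. -/
theorem bp_lemmaX (p : ℕ) [Fact p.Prime] (hp0 : (p : k) = 0) (R : Subgroup G) :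
    ∀ (n : ℕ) (N : Subgroup G), Nat.card N = n → IsPGroup p N → R ≤ N →
      N ≤ Subgroup.normalizer (R : Set G) →
      ∀ ε : MonoidAlgebra k G, IsIdempotentElem ε →
        bp_SuppIn (Subgroup.centralizer (R : Set G)) ε → ε ∈ bp_fix N →
        (∀ T : Subgroup G, R < T → T ≤ N →
          bp_truncG (Subgroup.centralizer (T : Set G)) ε = 0) →
        ∃ a₀ : MonoidAlgebra k G, bp_SuppIn (Subgroup.centralizer (R : Set G)) a₀ ∧
          ε * a₀ * ε = a₀ ∧ bp_tr R N a₀ = ε := by
  intro n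
  induction n using Nat.strong_induction_on with
  | _ n ih =>
  intro N hcard hN hRN hNR ε hε hεH hεN hvan
  set H : Subgroup G := Subgroup.centralizer (R : Set G) with hHdef
  -- `N` normalizes `H = C_G(R)`
  have hNH : N ≤ Subgroup.normalizer (H : Set G) := by
    intro x hx
    have hxR := hNR hx
    rw [Subgroup.mem_normalizer_iff]
    intro g
    have key : ∀ (y : G), y ∈ Subgroup.normalizer (R : Set G) → ∀ g, g ∈ H → y * g * y⁻¹ ∈ H := by
      intro y hy g hg
      rw [hHdef, Subgroup.mem_centralizer_iff] at hg ⊢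
      intro r hr
      have hr' : y⁻¹ * r * y ∈ R := by
        have := (Subgroup.mem_normalizer_iff.mp hy) (y⁻¹ * r * y)
        rw [this]
        have e : y * (y⁻¹ * r * y) * y⁻¹ = r := by group
        rw [e]; exact hr
      have h1 := hg (y⁻¹ * r * y) hr'
      calc r * (y * g * y⁻¹) = y * (y⁻¹ * r * y * g) * y⁻¹ := by group
        _ = y * (g * (y⁻¹ * r * y)) * y⁻¹ := by rw [h1]
        _ = y * g * y⁻¹ * r := by group
    constructor
    · intro hg
      exact key x hxR g hg
    · intro hg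
      have := key x⁻¹ (Subgroup.inv_mem _ hxR) _ hg
      have e : x⁻¹ * (x * g * x⁻¹) * x⁻¹⁻¹ = g := by group
      rwa [e] at this
  by_cases hRN' : R = N
  · -- trivial case
    refine ⟨ε, hεH, ?_, ?_⟩
    · rw [hε.eq, hε.eq]
    · rw [← hRN']
      rw [← hRN'] at hεN
      exact bp_tr_self R hεN
  have hRltN : R < N := lt_of_le_of_ne hRN hRN'
  -- the finite `k`-algebra Γ of `N`-fixed elements supported on `H`
  set Γ := bp_suppFixIn (S := k) H N with hΓ
  have hεΓ : ε ∈ Γ := ⟨hεH, hεN⟩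
  have hE : IsIdempotentElem (⟨ε, hεΓ⟩ : Γ) := Subtype.ext hε.eq
  obtain ⟨m, e, hprim, horth, hsum⟩ := bp_exists_prim_decomp k (⟨ε, hεΓ⟩ : Γ) hE
  -- each `e j` lies below `ε`
  have hle : ∀ j, (e j : MonoidAlgebra k G) * ε = e j := by
    intro j
    have h1 : e j * (⟨ε, hεΓ⟩ : Γ) = e j := by
      rw [← hsum, Finset.mul_sum, Finset.sum_eq_single j]
      · exact (hprim j).1.eq
      · intro i _ hij
        exact horth j i (Ne.symm hij)
      · intro h; exact absurd (Finset.mem_univ j) h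
    have := congrArg (fun z : Γ => (z : MonoidAlgebra k G)) h1
    simpa using this
  have hle' : ∀ j, ε * (e j : MonoidAlgebra k G) = e j := by
    intro j
    have h1 : (⟨ε, hεΓ⟩ : Γ) * e j = e j := by
      rw [← hsum, Finset.sum_mul, Finset.sum_eq_single j]
      · exact (hprim j).1.eq
      · intro i _ hij
        exact horth i j hij
      · intro h; exact absurd (Finset.mem_univ j) h
    have := congrArg (fun z : Γ => (z : MonoidAlgebra k G)) h1
    simpa using this
  have hejH : ∀ j, bp_SuppIn H (e j : MonoidAlgebra k G) := fun j => (e j).2.1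
  have hejN : ∀ j, (e j : MonoidAlgebra k G) ∈ bp_fix N := fun j => (e j).2.2
  have hejI : ∀ j, IsIdempotentElem (e j : MonoidAlgebra k G) := by
    intro j
    have := congrArg (fun z : Γ => (z : MonoidAlgebra k G)) (hprim j).1.eq
    simpa [IsIdempotentElem] using this
  -- vanishing of the Brauer images of the `e j`
  have hvanj : ∀ j, ∀ T : Subgroup G, R < T → T ≤ N →
      bp_truncG (Subgroup.centralizer (T : Set G)) (e j : MonoidAlgebra k G) = 0 := by
    intro j T hRT hTN
    rw [← hle j, bp_truncG_mul_of_eq_zero p hp0 T (hN.to_le hTN) (bp_fix_mono hTN (hejN j))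
      (bp_fix_mono hTN hεN), hvan T hRT hTN, mul_zero]
  -- each `e j` is a trace from `R`
  have hstep : ∀ j, ∃ d : MonoidAlgebra k G, bp_SuppIn H d ∧ bp_tr R N d = e j := by
    intro j
    -- kernel theorem
    have hker : (e j : MonoidAlgebra k G) ∈ bp_trLtIn (S := k) R H N :=
      bp_truncG_ker_suppIn hRN le_rfl (hejN j) (hejH j) (hvanj j N hRltN le_rfl)
    -- Rosenberg
    let I : {K : Subgroup G // R ≤ K ∧ K < N} → Submodule k Γ := fun K =>
      { carrier := {x | ∃ b ∈ bp_fix (R := k) K.1, bp_SuppIn H b ∧ bp_tr K.1 N b = (x : MonoidAlgebra k G)}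
        zero_mem' := ⟨0, Subalgebra.zero_mem _, bp_suppIn_zero H, by simp⟩
        add_mem' := by
          rintro x y ⟨b, hb, hbH, hbx⟩ ⟨c, hc, hcH, hcy⟩
          exact ⟨b + c, Subalgebra.add_mem _ hb hc, bp_suppIn_add hbH hcH, by
            rw [map_add, hbx, hcy]; rfl⟩
        smul_mem' := by
          rintro r x ⟨b, hb, hbH, hbx⟩
          exact ⟨r • b, Subalgebra.smul_mem _ hb r, bp_suppIn_smul r hbH, by
            rw [map_smul, hbx]; rfl⟩ }
    have hI : ∀ K, ∀ a x b : Γ, x ∈ I K → a * x * b ∈ I K := by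
      rintro K a x b ⟨c, hc, hcH, hcx⟩
      refine ⟨a * c * b, ?_, ?_, ?_⟩
      · exact Subalgebra.mul_mem _ (Subalgebra.mul_mem _ (bp_fix_mono K.2.2.le a.2.2) hc)
          (bp_fix_mono K.2.2.le b.2.2)
      · exact bp_suppIn_mul (bp_suppIn_mul a.2.1 hcH) b.2.1
      · rw [bp_tr_mul_right K.2.2.le b.2.2, bp_tr_mul_left K.2.2.le a.2.2, hcx]
        rfl
    have hmemsup : e j ∈ ⨆ K, I K := by
      have hle2 : bp_trLtIn (S := k) R H N ≤ (⨆ K, I K).map Γ.val.toLinearMap := by
        unfold bp_trLtIn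
        rw [Submodule.span_le]
        rintro x ⟨K, hRK, hKN, b, hb, hbH, rfl⟩
        have hmem : bp_tr K N b ∈ Γ :=
          ⟨bp_suppIn_tr hKN.le hNH hbH, bp_tr_mem hKN.le hb⟩
        refine ⟨⟨bp_tr K N b, hmem⟩, ?_, rfl⟩
        have : (⟨bp_tr K N b, hmem⟩ : Γ) ∈ I ⟨K, hRK, hKN⟩ := ⟨b, hb, hbH, rfl⟩
        exact (le_iSup I ⟨K, hRK, hKN⟩) this
      obtain ⟨z, hz, hze⟩ := hle2 hker
      have : z = e j := Subtype.ext hze
      rwa [← this]
    obtain ⟨K, c, hcK, hcH, hcx⟩ := bp_rosenberg_iSup_submodule k (e j) (hprim j) I hI hmemsup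
    obtain ⟨hRK, hKN⟩ := K.2
    -- Higman
    set c₁ := (e j : MonoidAlgebra k G) * c * e j with hc₁
    have hc₁K : c₁ ∈ bp_fix (R := k) K.1 :=
      Subalgebra.mul_mem _ (Subalgebra.mul_mem _ (bp_fix_mono hKN.le (hejN j)) hcK)
        (bp_fix_mono hKN.le (hejN j))
    have hc₁H : bp_SuppIn H c₁ := bp_suppIn_mul (bp_suppIn_mul (hejH j) hcH) (hejH j)
    have hc₁tr : bp_tr K.1 N c₁ = e j := by
      rw [hc₁, bp_tr_mul_right hKN.le (hejN j), bp_tr_mul_left hKN.le (hejN j), hcx,
        (hejI j).eq, (hejI j).eq]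
    -- induction hypothesis for `(K, e j)`
    have hcardK : Nat.card K.1 < n := by
      rw [← hcard]
      exact bp_card_lt_of_lt hKN
    obtain ⟨c', hc'H, hc'e, hc'tr⟩ := ih (Nat.card K.1) hcardK K.1 rfl (hN.to_le hKN.le) hRK
      (le_trans hKN.le hNR) (e j) (hejI j) (hejH j) (bp_fix_mono hKN.le (hejN j))
      (fun T hRT hTK => hvanj j T hRT (le_trans hTK hKN.le))
    refine ⟨c₁ * c', bp_suppIn_mul hc₁H hc'H, ?_⟩
    have hfixR : c₁ * c' ∈ bp_fix (R := k) R :=
      bp_mem_fix_of_suppIn_centralizer R (bp_suppIn_mul hc₁H hc'H)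
    calc bp_tr R N (c₁ * c') = bp_tr K.1 N (bp_tr R K.1 (c₁ * c')) :=
          (bp_tr_trans hRK hKN.le hfixR).symm
      _ = bp_tr K.1 N (c₁ * bp_tr R K.1 c') := by rw [bp_tr_mul_left hRK hc₁K]
      _ = bp_tr K.1 N (c₁ * (e j : MonoidAlgebra k G)) := by rw [hc'tr]
      _ = bp_tr K.1 N c₁ * (e j : MonoidAlgebra k G) := bp_tr_mul_right hKN.le (hejN j)
      _ = (e j : MonoidAlgebra k G) := by rw [hc₁tr, (hejI j).eq]
  choose d hdH hdtr using hstep
  refine ⟨ε * (∑ j, d j) * ε, ?_, ?_, ?_⟩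
  · exact bp_suppIn_mul (bp_suppIn_mul hεH (bp_suppIn_sum _ (fun j _ => hdH j))) hεH
  · rw [← mul_assoc, ← mul_assoc, hε.eq, mul_assoc, mul_assoc, hε.eq, ← mul_assoc]
  · rw [bp_tr_mul_right hRN hεN, bp_tr_mul_left hRN hεN, map_sum]
    have : ∑ j, bp_tr R N (d j) = ε := by
      rw [Finset.sum_congr rfl (fun j _ => hdtr j)]
      have := congrArg (fun z : Γ => (z : MonoidAlgebra k G)) hsum
      simpa using this
    rw [this, hε.eq, hε.eq]

end lemmaX

section aux

/-- An algebraically closed field is `SplitMonic`. -/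
theorem bp_splitMonic_of_isAlgClosed (k : Type*) [Field k] [IsAlgClosed k] : SplitMonic k :=
  ⟨fun f hf => ⟨f.roots, (IsAlgClosed.splits f).eq_prod_roots_of_monic hf⟩⟩

theorem bp_splitMonic_residueField (R : Type*) [CommRing R] [IsLocalRing R] [SplitMonic R] :
    SplitMonic (IsLocalRing.ResidueField R) :=
  haveI := bp_isAlgClosed_residueField R
  bp_splitMonic_of_isAlgClosed _

variable {G : Type*} [Group G]

/-- If `U ≤ x U x⁻¹` for a finite subgroup `U` then `x` normalizes `U`. -/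
theorem bp_mem_normalizer_of_le_map [Finite G] {U : Subgroup G} {x : G}
    (h : U ≤ U.map (MulAut.conj x).toMonoidHom) : x ∈ Subgroup.normalizer (U : Set G) := by
  have hcard : Nat.card (U.map (MulAut.conj x).toMonoidHom) = Nat.card U :=
    Subgroup.card_map_of_injective (MulAut.conj x).injective
  have heq : U = U.map (MulAut.conj x).toMonoidHom :=
    Subgroup.eq_of_le_of_card_ge h (le_of_eq hcard)
  rw [Subgroup.mem_normalizer_iff]
  intro g
  constructor
  · intro hg
    rw [heq, bp_mem_map_conj]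
    have e : x⁻¹ * (x * g * x⁻¹) * x = g := by group
    rw [e]; exact hg
  · intro hg
    rw [heq, bp_mem_map_conj] at hg
    have e : x⁻¹ * (x * g * x⁻¹) * x = g := by group
    rwa [e] at hg

theorem bp_map_conj_eq_of_mem_normalizer {U : Subgroup G} {x : G}
    (hx : x ∈ Subgroup.normalizer (U : Set G)) : U.map (MulAut.conj x).toMonoidHom = U := by
  ext g
  rw [bp_mem_map_conj x U g]
  have h1 := (Subgroup.mem_normalizer_iff.mp hx) (x⁻¹ * g * x)
  rw [h1]
  have : x * (x⁻¹ * g * x) * x⁻¹ = g := by group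
  rw [this]

/-- The double coset representatives lying in a subgroup `N ≤ N_Q(U)` (containing `U`) form a left
transversal of `U` in `N`. -/
theorem bp_isLT_filter_of_isDC {X : Finset G} {U Q N : Subgroup G} (hX : bp_IsDC X U U Q)
    (hUN : U ≤ N) (hNQ : N ≤ Q) (hNU : N ≤ Subgroup.normalizer (U : Set G))
    [DecidablePred fun x => x ∈ N] : bp_IsLT (X.filter (fun x => x ∈ N)) U N := by
  refine ⟨hUN, ?_, ?_⟩
  · intro t ht
    exact (Finset.mem_filter.1 ht).2
  · intro h hh
    obtain ⟨x, ⟨hxX, l, hl, k, hk, hlxk⟩, huniq⟩ := hX.uniq h (hNQ hh)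
    have hxN : x ∈ N := by
      have : x = l⁻¹ * h * k⁻¹ := by rw [hlxk]; group
      rw [this]
      exact N.mul_mem (N.mul_mem (N.inv_mem (hUN hl)) hh) (N.inv_mem (hUN hk))
    have hxinv : x⁻¹ ∈ Subgroup.normalizer (U : Set G) := Subgroup.inv_mem _ (hNU hxN)
    refine ⟨x, ⟨Finset.mem_filter.2 ⟨hxX, hxN⟩, ?_⟩, ?_⟩
    · have h1 : x⁻¹ * l * x⁻¹⁻¹ ∈ U := (Subgroup.mem_normalizer_iff.mp hxinv l).1 hl
      have : x⁻¹ * h = x⁻¹ * l * x⁻¹⁻¹ * k := by rw [hlxk]; group
      rw [this]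
      exact U.mul_mem h1 hk
    · rintro t ⟨htX, htU⟩
      apply huniq
      refine ⟨(Finset.mem_filter.1 htX).1, 1, U.one_mem, t⁻¹ * h, htU, ?_⟩
      group

end aux

section puig

variable {R : Type*} [CommRing R] [IsLocalRing R] [SplitMonic R] {G : Type*} [Group G] [Finite G]
  {p : ℕ} [Fact p.Prime]

omit [SplitMonic R] [Finite G] in
theorem bp_mem_smul_top_of_mem_mG (A : Subalgebra R (MonoidAlgebra R G)) {x : A}
    (hx : x ∈ bp_mG R A) :
    (x : MonoidAlgebra R G) ∈
      IsLocalRing.maximalIdeal R • (⊤ : Submodule R (MonoidAlgebra R G)) := by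
  refine Submodule.smul_induction_on hx ?_ ?_
  · intro r hr y _
    rw [SetLike.val_smul]
    exact Submodule.smul_mem_smul hr Submodule.mem_top
  · intro y z hy hz
    rw [AddMemClass.coe_add]
    exact Submodule.add_mem _ hy hz

omit [SplitMonic R] in
theorem bp_brG_pow (hpR : (p : R) ∈ IsLocalRing.maximalIdeal R) (P : Subgroup G)
    (hP : IsPGroup p P) {a : MonoidAlgebra R G} (ha : a ∈ bp_fix P) (n : ℕ) :
    bp_brG P (a ^ n) = bp_brG P a ^ n := by
  induction n with
  | zero => rw [pow_zero, pow_zero, bp_brG_one]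
  | succ n ih =>
    rw [pow_succ, pow_succ, bp_brG_mul hpR P hP (Subalgebra.pow_mem _ ha n) ha, ih]

/-- THE PUIG STEP (helper1's CLAIM P, pure algebra form). -/
theorem bp_puig_step (hpR : (p : R) ∈ IsLocalRing.maximalIdeal R) (Q C U : Subgroup G)
    (hQ : IsPGroup p Q) (hC : (Nat.card C).Coprime p)
    (hCQ : C ≤ Subgroup.centralizer (Q : Set G))
    (i : MonoidAlgebra R G) (hi : bp_IsPrimFix (Q ⊔ C) i) (hbr : bp_brFun Q i ≠ 0) (hUQ : U < Q)
    (fbar : MonoidAlgebra (IsLocalRing.ResidueField R) G)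
    (hfH : bp_SuppIn (Subgroup.centralizer (U : Set G)) fbar) (hfi : IsIdempotentElem fbar)
    (hfc : ∀ z, bp_SuppIn (Subgroup.centralizer (U : Set G)) z → fbar * z = z * fbar)
    (hforth : ∀ x ∈ Q ⊓ Subgroup.normalizer (U : Set G),
      bp_conj x fbar = fbar ∨ bp_conj x fbar * fbar = 0)
    (hne : bp_brG U i * fbar ≠ 0) :
    ∃ T : Subgroup G, U < T ∧ T ≤ Q ⊓ Subgroup.normalizer (U : Set G) ∧
      (∀ x ∈ T, bp_conj x fbar = fbar) ∧
      bp_brG T i * bp_truncG (Subgroup.centralizer (T : Set G)) fbar ≠ 0 := by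
  classical
  have : SplitMonic (IsLocalRing.ResidueField R) := bp_splitMonic_residueField R
  have hp0 : ((p : ℕ) : IsLocalRing.ResidueField R) = 0 := by
    have : IsLocalRing.residue R (p : R) = 0 := by
      rw [IsLocalRing.residue_eq_zero_iff]; exact hpR
    rw [← this, map_natCast]
  set H : Subgroup G := Subgroup.centralizer (U : Set G) with hHdef
  set NQ : Subgroup G := Q ⊓ Subgroup.normalizer (U : Set G) with hNQ
  set N : Subgroup G := NQ ⊓ bp_stab fbar with hNdef
  have hiF : i ∈ bp_fix (R := R) (Q ⊔ C) := hi.1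
  have hiQ : i ∈ bp_fix (R := R) Q := bp_fix_mono le_sup_left hiF
  have hiC : i ∈ bp_fix (R := R) C := bp_fix_mono le_sup_right hiF
  have hiI : IsIdempotentElem i := hi.2.1
  have hUleQ : U ≤ Q := hUQ.le
  have hNleQ : N ≤ Q := fun x hx => hx.1.1
  have hNnorm : N ≤ Subgroup.normalizer (U : Set G) := fun x hx => hx.1.2
  have hfU : fbar ∈ bp_fix U := bp_mem_fix_of_suppIn_centralizer U hfH
  have hUN : U ≤ N := by
    intro x hx
    exact ⟨⟨hUleQ hx, Subgroup.le_normalizer hx⟩, hfU x hx⟩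
  have hNp : IsPGroup p N := hQ.to_le hNleQ
  have hfN : fbar ∈ bp_fix N := fun x hx => hx.2
  -- the idempotent ī and ε
  set ib := bp_brG U i with hib
  have hibH : bp_SuppIn H ib := bp_brG_suppIn U i
  have hibI : IsIdempotentElem ib := by
    unfold IsIdempotentElem
    rw [hib, ← bp_brG_mul hpR U (hQ.to_le hUleQ) (bp_fix_mono hUleQ hiQ) (bp_fix_mono hUleQ hiQ),
      hiI.eq]
  have hcomm : fbar * ib = ib * fbar := hfc ib hibH
  set ε := ib * fbar with hε
  have hεI : IsIdempotentElem ε := by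
    unfold IsIdempotentElem
    calc ib * fbar * (ib * fbar) = ib * (fbar * ib) * fbar := by simp only [mul_assoc]
      _ = ib * (ib * fbar) * fbar := by rw [hcomm]
      _ = (ib * ib) * (fbar * fbar) := by simp only [mul_assoc]
      _ = ib * fbar := by rw [hibI.eq, hfi.eq]
  have hεH : bp_SuppIn H ε := bp_suppIn_mul hibH hfH
  have hibN : ib ∈ bp_fix N := bp_brG_mem_fix hNnorm (bp_fix_mono hNleQ hiQ)
  have hεN : ε ∈ bp_fix N := Subalgebra.mul_mem _ hibN hfN
  have hCH : C ≤ H := fun c hc => (Subgroup.centralizer_le hUleQ) (hCQ hc)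
  have hCnormU : C ≤ Subgroup.normalizer (U : Set G) := by
    intro c hc
    rw [Subgroup.mem_normalizer_iff]
    intro g
    have hcU := Subgroup.mem_centralizer_iff.mp (hCH hc)
    constructor
    · intro hg
      have : c * g * c⁻¹ = g := by rw [← hcU g hg, mul_assoc, mul_inv_cancel, mul_one]
      rw [this]; exact hg
    · intro hg
      have h2 := hcU _ hg
      have : g = c * g * c⁻¹ := by
        have h3 : c * g * c⁻¹ * c = c * (c * g * c⁻¹) := h2
        have h4 : c * g = c * (c * g * c⁻¹) := by rw [← h3]; group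
        exact mul_left_cancel h4
      rw [this]; exact hg
  have hibC : ib ∈ bp_fix C := bp_brG_mem_fix hCnormU hiC
  have hfC : fbar ∈ bp_fix C := by
    intro c hc
    rw [bp_conj_eq_mul]
    have h1 := hfc (single c 1) (bp_suppIn_single (hCH hc) 1)
    rw [← h1, mul_assoc, single_mul_single, mul_inv_cancel, mul_one]
    change fbar * 1 = fbar
    rw [mul_one]
  have hεC : ε ∈ bp_fix C := Subalgebra.mul_mem _ hibC hfC
  -- either some Brauer image of ε is non-zero (done), or we derive a contradiction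
  by_contra hcon
  push Not at hcon
  have hvan : ∀ T : Subgroup G, U < T → T ≤ N →
      bp_truncG (Subgroup.centralizer (T : Set G)) ε = 0 := by
    intro T hUT hTN
    have hTNQ : T ≤ NQ := fun x hx => (hTN hx).1
    have hTstab : ∀ x ∈ T, bp_conj x fbar = fbar := fun x hx => (hTN hx).2
    have h1 := hcon T hUT hTNQ hTstab
    have hTp : IsPGroup p T := hNp.to_le hTN
    rw [hε, bp_truncG_mul_of_eq_zero p hp0 T hTp (bp_fix_mono hTN hibN) (bp_fix_mono hTN hfN),
      hib, ← bp_brG_trans hUT.le]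
    exact h1
  -- Lemma X
  obtain ⟨a₀, ha₀H, ha₀ε, ha₀tr⟩ := bp_lemmaX p hp0 U (Nat.card N) N rfl hNp hUN hNnorm ε hεI hεH hεN hvan
  -- averaging over `C`, downstairs
  obtain ⟨v, hv⟩ := bp_isUnit_natCast_of_coprime (R := R) p hpR _ hC
  have hrel : (⊥ : Subgroup G).relIndex C = Nat.card C := Subgroup.relIndex_bot_left C
  have hcancel : IsLocalRing.residue R (↑v⁻¹ : R) * ((Nat.card C : ℕ) : IsLocalRing.ResidueField R) = 1 := by
    rw [← map_natCast (IsLocalRing.residue R), ← map_mul, ← hv, Units.inv_mul, map_one]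
  have hCcN : C ≤ Subgroup.centralizer (N : Set G) :=
    fun c hc => (Subgroup.centralizer_le hNleQ) (hCQ hc)
  have hCnormH : C ≤ Subgroup.normalizer (H : Set G) := fun c hc => Subgroup.le_normalizer (hCH hc)
  set a₁ := IsLocalRing.residue R (↑v⁻¹ : R) • bp_tr ⊥ C a₀ with ha₁
  have ha₁H : bp_SuppIn H a₁ := bp_suppIn_smul _ (bp_suppIn_tr bot_le hCnormH ha₀H)
  have ha₁C : a₁ ∈ bp_fix C :=
    Subalgebra.smul_mem _ (bp_tr_mem bot_le (bp_mem_fix_bot a₀)) _
  have ha₁U : a₁ ∈ bp_fix U := bp_mem_fix_of_suppIn_centralizer U ha₁H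
  have havgfix : ∀ z : MonoidAlgebra (IsLocalRing.ResidueField R) G, z ∈ bp_fix C →
      IsLocalRing.residue R (↑v⁻¹ : R) • bp_tr ⊥ C z = z := by
    intro z hz
    rw [bp_tr_of_mem_fix_relIndex bot_le hz, hrel,
      ← Nat.cast_smul_eq_nsmul (IsLocalRing.ResidueField R), smul_smul, hcancel, one_smul]
  have ha₁tr : bp_tr U N a₁ = ε := by
    rw [ha₁, map_smul, ← bp_trC_comm hUN hCcN a₀, ha₀tr]
    exact havgfix ε hεC
  have ha₁ε : ε * a₁ * ε = a₁ := by
    rw [ha₁, mul_smul_comm, smul_mul_assoc, ← bp_tr_mul_left bot_le hεC,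
      ← bp_tr_mul_right bot_le hεC, ha₀ε]
  have hibε : ib * ε = ε := by rw [hε, ← mul_assoc, hibI.eq]
  have hεib : ε * ib = ε := by rw [hε, mul_assoc, hcomm, ← mul_assoc, hibI.eq]
  have hfε : fbar * ε = ε := by rw [hε, ← mul_assoc, hcomm, mul_assoc, hfi.eq]
  have hεf : ε * fbar = ε := by rw [hε, mul_assoc, hfi.eq]
  have ha₁f : a₁ * fbar = a₁ := by
    rw [← ha₁ε, mul_assoc, hεf]
  have hiba₁ : ib * a₁ * ib = a₁ := by
    rw [← ha₁ε]
    calc ib * (ε * a₁ * ε) * ib = (ib * ε) * a₁ * (ε * ib) := by simp only [mul_assoc]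
      _ = ε * a₁ * ε := by rw [hibε, hεib]
  -- lifting
  obtain ⟨a', ha'⟩ := bp_bc_surjective (G := G) (IsLocalRing.residue R) IsLocalRing.residue_surjective a₁
  set a'' := bp_truncG H a' with ha''
  have ha''H : bp_SuppIn H a'' := bp_truncG_suppIn H a'
  have hreda'' : bp_red a'' = a₁ := by
    unfold bp_red
    rw [ha'', bp_bc_truncG, ha', bp_truncG_of_suppIn ha₁H]
  set a3 := (↑v⁻¹ : R) • bp_tr ⊥ C a'' with ha3
  have ha3H : bp_SuppIn H a3 := bp_suppIn_smul _ (bp_suppIn_tr bot_le hCnormH ha''H)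
  have ha3C : a3 ∈ bp_fix C := Subalgebra.smul_mem _ (bp_tr_mem bot_le (bp_mem_fix_bot a'')) _
  have ha3U : a3 ∈ bp_fix U := bp_mem_fix_of_suppIn_centralizer U ha3H
  have hreda3 : bp_red a3 = a₁ := by
    have h1 : bp_red a3 = IsLocalRing.residue R (↑v⁻¹ : R) • bp_tr ⊥ C (bp_red a'') := by
      unfold bp_red
      rw [ha3, bp_bc_smul, bp_bc_tr]
    rw [h1, hreda'']
    exact havgfix a₁ ha₁C
  have hiU : i ∈ bp_fix (R := R) U := bp_fix_mono hUleQ hiQ
  set a := i * a3 * i with ha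
  have haU : a ∈ bp_fix (R := R) U := Subalgebra.mul_mem _ (Subalgebra.mul_mem _ hiU ha3U) hiU
  have haC : a ∈ bp_fix (R := R) C := Subalgebra.mul_mem _ (Subalgebra.mul_mem _ hiC ha3C) hiC
  have haUC : a ∈ bp_fix (R := R) (U ⊔ C) := by
    rw [bp_fix_sup, Algebra.mem_inf]; exact ⟨haU, haC⟩
  have hUp : IsPGroup p U := hQ.to_le hUleQ
  have hbrGa : bp_brG U a = a₁ := by
    rw [ha, bp_brG_mul hpR U hUp (Subalgebra.mul_mem _ hiU ha3U) hiU, bp_brG_mul hpR U hUp hiU ha3U,
      bp_brG_of_suppIn U ha3H, hreda3]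
    exact hiba₁
  set b := bp_tr U Q a with hb
  have hbF : b ∈ bp_fix (R := R) (Q ⊔ C) := bp_tr_mem_fix_sup hUleQ hCQ haUC
  have hbQ : b ∈ bp_fix (R := R) Q := bp_fix_mono le_sup_left hbF
  have hibi : i * b * i = b := by
    rw [hb, ← bp_tr_mul_left hUleQ hiQ, ← bp_tr_mul_right hUleQ hiQ, ha]
    congr 1
    calc i * (i * a3 * i) * i = (i * i) * a3 * (i * i) := by simp only [mul_assoc]
      _ = i * a3 * i := by rw [hiI.eq]
  -- the Brauer image of `b` at `U`
  set β := bp_brG U b with hβ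
  have hβH : bp_SuppIn H β := bp_brG_suppIn U b
  have hX := bp_dcReps_isDC (L := U) (K := U) (H := Q) hUleQ hUleQ
  set X := bp_dcReps U U Q with hXdef
  have hβf : β * fbar = ε := by
    rw [hβ, hb, bp_mackey hUleQ hUleQ hX haU, bp_brG_sum, Finset.sum_mul]
    have hterm : ∀ x ∈ X,
        bp_brG U (bp_tr (U ⊓ U.map (MulAut.conj x).toMonoidHom) U (bp_conj x a)) * fbar =
          if x ∈ N then bp_conj x a₁ * fbar else 0 := by
      intro x hxX
      have hxQ : x ∈ Q := hX.mem x hxX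
      by_cases hxn : x ∈ Subgroup.normalizer (U : Set G)
      · have hmap := bp_map_conj_eq_of_mem_normalizer hxn
        have hxa : bp_conj x a ∈ bp_fix (R := R) U := by
          have := bp_conj_mem_fix x haU
          rwa [hmap] at this
        rw [hmap, inf_idem U, bp_tr_self U hxa, bp_brG_conj_of_mem_normalizer U hxn, hbrGa]
        by_cases hxN : x ∈ N
        · rw [if_pos hxN]
        · rw [if_neg hxN]
          have hxNQ : x ∈ NQ := ⟨hxQ, hxn⟩
          have hstab : bp_conj x fbar ≠ fbar := fun h => hxN ⟨hxNQ, h⟩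
          have h0 : bp_conj x fbar * fbar = 0 := (hforth x hxNQ).resolve_left hstab
          calc bp_conj x a₁ * fbar = bp_conj x (a₁ * fbar) * fbar := by rw [ha₁f]
            _ = bp_conj x a₁ * (bp_conj x fbar * fbar) := by rw [map_mul, mul_assoc]
            _ = 0 := by rw [h0, mul_zero]
      · have hxN : x ∉ N := fun h => hxn (hNnorm h)
        rw [if_neg hxN]
        have hlt : U ⊓ U.map (MulAut.conj x).toMonoidHom < U := by
          refine lt_of_le_of_ne inf_le_left ?_
          intro heq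
          apply hxn
          apply bp_mem_normalizer_of_le_map
          have h2 : U ⊓ U.map (MulAut.conj x).toMonoidHom ≤ U.map (MulAut.conj x).toMonoidHom :=
            inf_le_right
          rwa [heq] at h2
        rw [bp_brG_tr_eq_zero hpR hUp hlt, zero_mul]
    rw [Finset.sum_congr rfl hterm, ← Finset.sum_filter, ← Finset.sum_mul]
    have hLT : bp_IsLT (X.filter (fun x => x ∈ N)) U N :=
      bp_isLT_filter_of_isDC hX hUN hNleQ hNnorm
    rw [← bp_tr_eq_sum hLT ha₁U, ha₁tr, hεf]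
  have hβpow : ∀ M : ℕ, 0 < M → β ^ M * fbar = ε := by
    intro M hM
    induction M with
    | zero => exact absurd hM (lt_irrefl 0)
    | succ M ih =>
      by_cases hM0 : M = 0
      · subst hM0
        rw [zero_add, pow_one]
        exact hβf
      · have ih' := ih (Nat.pos_of_ne_zero hM0)
        calc β ^ (M + 1) * fbar = β ^ M * (β * fbar) := by rw [pow_succ, mul_assoc]
          _ = β ^ M * (fbar * ε) := by rw [hβf, hfε]
          _ = (β ^ M * fbar) * ε := by rw [mul_assoc]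
          _ = ε := by rw [ih', hεI.eq]
  -- dichotomy in the corner of `i`
  have hfin : Module.Finite R (bp_fix (R := R) (Q ⊔ C)) := bp_fix_finite (Q ⊔ C)
  obtain ⟨hiF', hprim⟩ := (bp_isPrimFix_iff (Q ⊔ C) i).1 hi
  have hcorner : (⟨i, hiF'⟩ : bp_fix (R := R) (Q ⊔ C)) * ⟨b, hbF⟩ * ⟨i, hiF'⟩ = ⟨b, hbF⟩ :=
    Subtype.ext hibi
  rcases bp_prim_dichotomy (R := R) (⟨i, hiF'⟩ : bp_fix (R := R) (Q ⊔ C)) ⟨b, hbF⟩ hprim hcorner with
    hunit | ⟨M, hM, hsmall⟩
  · obtain ⟨-, y, -, hby, -⟩ := hunit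
    have hby' : b * (y : MonoidAlgebra R G) = i := by
      have := congrArg (fun z : bp_fix (R := R) (Q ⊔ C) => (z : MonoidAlgebra R G)) hby
      simpa using this
    have hyQ : (y : MonoidAlgebra R G) ∈ bp_fix (R := R) Q := bp_fix_mono le_sup_left y.2
    apply hbr
    rw [← hby', hb, ← bp_tr_mul_right hUleQ hyQ]
    exact bp_brFun_tr_eq_zero hpR hQ hUQ _
  · have h1 := bp_mem_smul_top_of_mem_mG _ hsmall
    have h2 : ((⟨b, hbF⟩ : bp_fix (R := R) (Q ⊔ C)) ^ M : bp_fix (R := R) (Q ⊔ C)) =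
        ⟨b ^ M, Subalgebra.pow_mem _ hbF M⟩ := by
      apply Subtype.ext
      simp
    rw [h2] at h1
    have h3 : bp_brG U (b ^ M) = 0 := bp_brG_of_mem_smul_top U h1
    rw [bp_brG_pow hpR U hUp (bp_fix_mono hUleQ hbQ)] at h3
    have h4 := hβpow M hM
    rw [← hβ] at h3
    rw [h3, zero_mul] at h4
    exact hne h4.symm

end puig

end Cfsg.Agent.BP
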