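import Cfsg.Agent.BP.Defect
import Cfsg.Agent.BP.PStep

/-!
# BP / SourcePrep: tools for the index-`p` step of L5/L6

Restriction of `bp_conj x` to a stable subalgebra, the cyclic transversal `1, x, …, x^(p-1)` of a
normal subgroup of index `p`, `Tr_{P₁}^P = Σ_{d<p} conj (x^d)`, and transport of primitivity to
the copy of `(RG)^(P ⊔ C)` inside `(RG)^(P₁ ⊔ C)`.
-/

set_option autoImplicit false

namespace Cfsg.Agent.BP

open MonoidAlgebra

variable {R : Type*} [CommRing R] {G : Type*} [Group G]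

/-- conjugation by an element normalising `H` preserves `(RG)^H`. -/
theorem bp_conj_mem_fix_of_normalizes {H : Subgroup G} {x : G} (hx : ∀ h ∈ H, x⁻¹ * h * x ∈ H)
    {a : MonoidAlgebra R G} (ha : a ∈ bp_fix H) : bp_conj x a ∈ bp_fix H := by
  intro h hh
  have h1 : h * x = x * (x⁻¹ * h * x) := by group
  rw [← bp_conj_mul, h1, bp_conj_mul, ha _ (hx h hh)]

/-- conjugation by an element centralising `C` preserves `(RG)^C`. -/
theorem bp_conj_mem_fix_of_centralizes {C : Subgroup G} {x : G} (hx : ∀ c ∈ C, x * c = c * x)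
    {a : MonoidAlgebra R G} (ha : a ∈ bp_fix C) : bp_conj x a ∈ bp_fix C := by
  apply bp_conj_mem_fix_of_normalizes _ ha
  intro c hc
  have : x⁻¹ * c * x = c := by
    calc x⁻¹ * c * x = x⁻¹ * (c * x) := by group
      _ = x⁻¹ * (x * c) := by rw [hx c hc]
      _ = c := by group
  rw [this]
  exact hc

/-- restriction of the conjugation by `x` to a subalgebra stable under `x` and `x⁻¹`. -/
noncomputable def bp_conjRestrict (S : Subalgebra R (MonoidAlgebra R G)) (x : G)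
    (h1 : ∀ a ∈ S, bp_conj x a ∈ S) (h2 : ∀ a ∈ S, bp_conj x⁻¹ a ∈ S) : S ≃ₐ[R] S :=
  AlgEquiv.ofAlgHom
    (((bp_conj (R := R) x).toAlgHom.comp S.val).codRestrict S (fun a => h1 a a.2))
    (((bp_conj (R := R) x⁻¹).toAlgHom.comp S.val).codRestrict S (fun a => h2 a a.2))
    (AlgHom.ext fun a => Subtype.ext (bp_conj_conj_inv x (a : MonoidAlgebra R G)))
    (AlgHom.ext fun a => Subtype.ext (bp_conj_inv_conj x (a : MonoidAlgebra R G)))

theorem bp_conjRestrict_coe (S : Subalgebra R (MonoidAlgebra R G)) (x : G)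
    (h1 : ∀ a ∈ S, bp_conj x a ∈ S) (h2 : ∀ a ∈ S, bp_conj x⁻¹ a ∈ S) (a : S) :
    ((bp_conjRestrict S x h1 h2 a : S) : MonoidAlgebra R G) = bp_conj x (a : MonoidAlgebra R G) :=
  rfl

theorem bp_conjRestrict_iterate (S : Subalgebra R (MonoidAlgebra R G)) (x : G)
    (h1 : ∀ a ∈ S, bp_conj x a ∈ S) (h2 : ∀ a ∈ S, bp_conj x⁻¹ a ∈ S) (d : ℕ) (a : S) :
    ((((bp_conjRestrict S x h1 h2)^[d]) a : S) : MonoidAlgebra R G) =
      bp_conj (x ^ d) (a : MonoidAlgebra R G) := by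
  induction d with
  | zero => simp [bp_conj_one]
  | succ d ih =>
    rw [Function.iterate_succ_apply', bp_conjRestrict_coe, ih, ← bp_conj_mul, pow_succ']

variable [Finite G]

/-- if `C` centralises `H` then `Tr_K^H` preserves `C`-fixed elements. -/
theorem bp_tr_mem_fix_of_centralizes {K H C : Subgroup G} (hKH : K ≤ H)
    (hHC : ∀ t ∈ H, ∀ c ∈ C, t * c = c * t) {a : MonoidAlgebra R G} (ha : a ∈ bp_fix C) :
    bp_tr K H a ∈ bp_fix C := by
  intro c hc
  rw [bp_tr_apply, map_sum]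
  refine Finset.sum_congr rfl (fun t ht => ?_)
  have htH : t ∈ H := (bp_transv_isLT hKH).mem t ht
  rw [← bp_conj_mul, ← hHC t htH c hc, bp_conj_mul, ha c hc]

/-- the cyclic transversal `1, x, …, x^(p-1)`. -/
theorem bp_isLT_powers {P P₁ : Subgroup G} {x : G} {p : ℕ} (hP₁P : P₁ ≤ P) (hxP : x ∈ P)
    (huniq : ∀ z ∈ P, ∃ d, d < p ∧ (x ^ d)⁻¹ * z ∈ P₁ ∧
      ∀ d', d' < p → (x ^ d')⁻¹ * z ∈ P₁ → d' = d) [DecidableEq G] :
    bp_IsLT ((Finset.range p).image (fun d => x ^ d)) P₁ P := by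
  refine ⟨hP₁P, ?_, ?_⟩
  · intro t ht
    obtain ⟨d, -, rfl⟩ := Finset.mem_image.1 ht
    exact P.pow_mem hxP d
  · intro z hz
    obtain ⟨d, hd, hdz, hdu⟩ := huniq z hz
    refine ⟨x ^ d, ⟨Finset.mem_image.2 ⟨d, Finset.mem_range.2 hd, rfl⟩, hdz⟩, ?_⟩
    rintro t ⟨ht, htz⟩
    obtain ⟨d', hd', rfl⟩ := Finset.mem_image.1 ht
    rw [hdu d' (Finset.mem_range.1 hd') htz]

theorem bp_pow_injOn {P P₁ : Subgroup G} {x : G} {p : ℕ} (hxP : x ∈ P)
    (huniq : ∀ z ∈ P, ∃ d, d < p ∧ (x ^ d)⁻¹ * z ∈ P₁ ∧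
      ∀ d', d' < p → (x ^ d')⁻¹ * z ∈ P₁ → d' = d) :
    Set.InjOn (fun d => x ^ d) (Finset.range p : Set ℕ) := by
  intro d hd d' hd' hdd
  simp only [Finset.coe_range, Set.mem_Iio] at hd hd'
  simp only at hdd
  obtain ⟨d0, -, -, hdu⟩ := huniq (x ^ d) (P.pow_mem hxP d)
  have h1 := hdu d hd (by simp [P₁.one_mem])
  have h2 := hdu d' hd' (by rw [hdd]; simp [P₁.one_mem])
  rw [h1, h2]

/-- `Tr_{P₁}^P` as a sum over the cyclic transversal. -/
theorem bp_tr_eq_sum_powers {P P₁ : Subgroup G} {x : G} {p : ℕ} (hP₁P : P₁ ≤ P) (hxP : x ∈ P)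
    (huniq : ∀ z ∈ P, ∃ d, d < p ∧ (x ^ d)⁻¹ * z ∈ P₁ ∧
      ∀ d', d' < p → (x ^ d')⁻¹ * z ∈ P₁ → d' = d)
    {a : MonoidAlgebra R G} (ha : a ∈ bp_fix P₁) :
    bp_tr P₁ P a = ∑ d ∈ Finset.range p, bp_conj (x ^ d) a := by
  classical
  rw [bp_tr_eq_sum (bp_isLT_powers hP₁P hxP huniq) ha,
    Finset.sum_image (bp_pow_injOn hxP huniq)]

/-- an element of `(RG)^{P₁}` fixed by `x` is fixed by `P`. -/
theorem bp_mem_fix_of_powers {P P₁ : Subgroup G} {x : G} {p : ℕ}
    (huniq : ∀ z ∈ P, ∃ d, d < p ∧ (x ^ d)⁻¹ * z ∈ P₁ ∧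
      ∀ d', d' < p → (x ^ d')⁻¹ * z ∈ P₁ → d' = d)
    {a : MonoidAlgebra R G} (ha : a ∈ bp_fix P₁) (hx : bp_conj x a = a) : a ∈ bp_fix P := by
  have hpow : ∀ d : ℕ, bp_conj (x ^ d) a = a := by
    intro d
    induction d with
    | zero => simp [bp_conj_one]
    | succ d ih => rw [pow_succ, bp_conj_mul, hx, ih]
  intro z hz
  obtain ⟨d, -, hdz, -⟩ := huniq z hz
  rw [bp_conj_eq_of_inv_mul_mem ha hdz, hpow d]

/-- primitivity is inherited by the copy of `T` inside a larger subalgebra `S`. -/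
theorem bp_isPrim_comap {S T : Subalgebra R (MonoidAlgebra R G)} (hTS : T ≤ S)
    (j : MonoidAlgebra R G) (hjT : j ∈ T) (hj : bp_IsPrim (⟨j, hjT⟩ : T)) :
    bp_IsPrim (⟨⟨j, hTS hjT⟩, hjT⟩ : Subalgebra.comap S.val T) := by
  obtain ⟨hid, hne, hmin⟩ := hj
  have hid0 : j * j = j := congrArg Subtype.val hid
  refine ⟨?_, ?_, ?_⟩
  · apply Subtype.ext
    apply Subtype.ext
    exact hid0
  · intro h0
    apply hne
    apply Subtype.ext
    have h00 : j = 0 :=
      congrArg (fun z : Subalgebra.comap S.val T => ((z : S) : MonoidAlgebra R G)) h0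
    exact h00
  · intro e' hid' h1 h2
    have he'T : ((e' : S) : MonoidAlgebra R G) ∈ T := e'.2
    have hid'0 : ((e' : S) : MonoidAlgebra R G) * ((e' : S) : MonoidAlgebra R G) = (e' : S) :=
      congrArg (fun z : Subalgebra.comap S.val T => ((z : S) : MonoidAlgebra R G)) hid'.eq
    have h10 : j * ((e' : S) : MonoidAlgebra R G) = (e' : S) :=
      congrArg (fun z : Subalgebra.comap S.val T => ((z : S) : MonoidAlgebra R G)) h1
    have h20 : ((e' : S) : MonoidAlgebra R G) * j = (e' : S) :=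
      congrArg (fun z : Subalgebra.comap S.val T => ((z : S) : MonoidAlgebra R G)) h2
    have h3 := hmin ⟨((e' : S) : MonoidAlgebra R G), he'T⟩
      (Subtype.ext hid'0) (Subtype.ext h10) (Subtype.ext h20)
    rcases h3 with h3 | h3
    · left
      apply Subtype.ext
      apply Subtype.ext
      have h30 : ((e' : S) : MonoidAlgebra R G) = 0 := congrArg Subtype.val h3
      exact h30
    · right
      apply Subtype.ext
      apply Subtype.ext
      have h30 : ((e' : S) : MonoidAlgebra R G) = j := congrArg Subtype.val h3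
      exact h30

end Cfsg.Agent.BP
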