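import Cfsg.Agent.BP.BrauerMap
import Cfsg.Agent.BP.SourcePrep

/-!
# BP / RestrictAlg: the algebra half of L9

A decomposition of `1` in `(RG)^(S ⊔ C)` into `S`-conjugates of local primitive idempotents, and
the vanishing under `br_⟨v⟩` of the part moved by `v`.
-/

set_option autoImplicit false

namespace Cfsg.Agent.BP

open MonoidAlgebra MulAction

variable {R : Type*} [CommRing R] [IsLocalRing R] {G : Type*} [Group G]

/-- `bp_brFun` as an additive map commutes with finite sums. -/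
theorem bp_ra_brFun_sum (P : Subgroup G) {ι : Type*} (s : Finset ι) (f : ι → MonoidAlgebra R G) :
    bp_brFun P (∑ i ∈ s, f i) = ∑ i ∈ s, bp_brFun P (f i) := by
  classical
  induction s using Finset.induction_on with
  | empty => simp [bp_brFun_zero]
  | insert i s hi ih => rw [Finset.sum_insert hi, Finset.sum_insert hi, bp_brFun_add, ih]

theorem bp_brFun_bp_conj_of_mem (P : Subgroup G) (x : G) (hx : x ∈ P) (a : MonoidAlgebra R G) :
    bp_brFun P (bp_conj x a) = bp_brFun P a :=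
  bp_brFun_conj_of_mem P x hx a

variable {p : ℕ} [Fact p.Prime]

/-- The Brauer image at `V` of the sum, over the non-fixed points of a `P'`-set (`P'` a `p`-group
acting through elements of `V`), of an equivariant family vanishes. -/
theorem bp_brFun_sum_nonfixed (hpR : (p : R) ∈ IsLocalRing.maximalIdeal R) (V : Subgroup G)
    {P' : Type*} [Group P'] (hP' : IsPGroup p P') (θ : P' → G) (hθ : ∀ x, θ x ∈ V)
    {α : Type*} [Fintype α] [MulAction P' α] (ψ : α → MonoidAlgebra R G)
    (hψ : ∀ (x : P') (a : α), ψ (x • a) = bp_conj (θ x) (ψ a))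
    [DecidablePred fun a : α => a ∈ fixedPoints P' α] :
    bp_brFun V (∑ a ∈ Finset.univ.filter (fun a : α => a ∉ fixedPoints P' α), ψ a) = 0 := by
  rw [bp_ra_brFun_sum]
  ext c
  rw [MonoidAlgebra.coeff_sum, Finsupp.finsetSum_apply]
  have h0 : ((p : ℕ) : IsLocalRing.ResidueField R) = 0 := by
    have : IsLocalRing.residue R (p : R) = 0 := by
      rw [IsLocalRing.residue_eq_zero_iff]
      exact hpR
    rw [← this, map_natCast]
  have h1 := bp_sum_nonfixed_mem_span (P := P') (α := α) (R := IsLocalRing.ResidueField R) p hP'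
    (fun a => (bp_brFun V (ψ a)).coeff c) (by
      intro x a
      rw [hψ x a, bp_brFun_bp_conj_of_mem V (θ x) (hθ x)])
  rw [h0, Ideal.span_singleton_eq_bot.2 rfl, Ideal.mem_bot] at h1
  simpa using h1

variable [Finite G]

/-- **(C), one source**: for a left transversal `T` of `Q` in the `p`-group `S`, `i ∈ (RG)^Q` and
`v ∈ S`, the sum of the conjugates `t i t⁻¹` over the cosets `tQ` moved by `v` is killed by
`br_⟨v⟩`. -/
theorem bp_brFun_moved_eq_zero (hpR : (p : R) ∈ IsLocalRing.maximalIdeal R) {S Q : Subgroup G}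
    (hS : IsPGroup p S) {v : G} (hv : v ∈ S) {T : Finset G} (hT : bp_IsLT T Q S)
    {i : MonoidAlgebra R G} (hi : i ∈ bp_fix Q) [DecidablePred fun t : G => t⁻¹ * v * t ∉ Q] :
    bp_brFun (Subgroup.zpowers v)
      (∑ t ∈ T.filter (fun t => t⁻¹ * v * t ∉ Q), bp_conj t i) = 0 := by
  classical
  let v' : S := ⟨v, hv⟩
  let P' : Subgroup S := Subgroup.zpowers v'
  let α := S ⧸ Q.subgroupOf S
  haveI : Fintype α := Fintype.ofFinite _
  have hP' : IsPGroup p P' := hS.to_subgroup P'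
  have hθ : ∀ x : P', ((x : S) : G) ∈ Subgroup.zpowers v := by
    rintro ⟨x, hx⟩
    obtain ⟨k, rfl⟩ := Subgroup.mem_zpowers_iff.1 hx
    exact Subgroup.mem_zpowers_iff.2 ⟨k, by simp [v']⟩
  let ψ : α → MonoidAlgebra R G := fun q =>
    Quotient.liftOn' q (fun t : S => bp_conj (t : G) i) (by
      intro a b hab
      rw [QuotientGroup.leftRel_apply, Subgroup.mem_subgroupOf] at hab
      exact (bp_conj_eq_of_inv_mul_mem hi (by simpa using hab)).symm)
  have hψmk : ∀ t : S, ψ (QuotientGroup.mk t) = bp_conj (t : G) i := fun t => rfl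
  have hψ : ∀ (x : P') (a : α), ψ (x • a) = bp_conj ((x : S) : G) (ψ a) := by
    intro x a
    induction a using QuotientGroup.induction_on with
    | H t =>
      have : x • (QuotientGroup.mk t : α) = QuotientGroup.mk ((x : S) * t) := rfl
      rw [this, hψmk, hψmk, ← bp_conj_mul]
      rfl
  have hmain := bp_brFun_sum_nonfixed hpR (Subgroup.zpowers v) hP' (fun x : P' => ((x : S) : G)) hθ ψ hψ
  -- fixed points
  have hfix : ∀ t : S, (QuotientGroup.mk t : α) ∈ fixedPoints P' α ↔ (t : G)⁻¹ * v * t ∈ Q := by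
    intro t
    have hstab : v' • (QuotientGroup.mk t : α) = QuotientGroup.mk t ↔ (t : G)⁻¹ * v * t ∈ Q := by
      have : v' • (QuotientGroup.mk t : α) = QuotientGroup.mk (v' * t) := rfl
      rw [this, eq_comm, QuotientGroup.eq, Subgroup.mem_subgroupOf]
      simp [v', mul_assoc]
    constructor
    · intro h
      exact hstab.1 (h ⟨v', Subgroup.mem_zpowers v'⟩)
    · intro h x
      have h1 : v' ∈ stabilizer S (QuotientGroup.mk t : α) := hstab.2 h
      have h2 : P' ≤ stabilizer S (QuotientGroup.mk t : α) := (Subgroup.zpowers_le).2 h1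
      exact h2 x.2
  rw [← hmain]
  congr 1
  refine Finset.sum_bij (fun t ht => (QuotientGroup.mk (⟨t, hT.mem t (Finset.mem_filter.1 ht).1⟩ : S) : α))
    ?_ ?_ ?_ ?_
  · intro t ht
    rw [Finset.mem_filter]
    refine ⟨Finset.mem_univ _, ?_⟩
    rw [hfix]
    exact (Finset.mem_filter.1 ht).2
  · intro t ht t' ht' h
    rw [QuotientGroup.eq, Subgroup.mem_subgroupOf] at h
    exact hT.eq_of_mem (Finset.mem_filter.1 ht).1 (Finset.mem_filter.1 ht').1 (by simpa using h)
  · intro q hq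
    induction q using QuotientGroup.induction_on with
    | H h =>
      obtain ⟨t, ⟨htT, htQ⟩, -⟩ := hT.uniq (h : G) h.2
      have hq' := (Finset.mem_filter.1 hq).2
      have hmk : (QuotientGroup.mk (⟨t, hT.mem t htT⟩ : S) : α) = QuotientGroup.mk h := by
        rw [QuotientGroup.eq, Subgroup.mem_subgroupOf]
        simpa using htQ
      refine ⟨t, ?_, hmk⟩
      rw [Finset.mem_filter]
      refine ⟨htT, ?_⟩
      rw [← hmk, hfix] at hq'
      exact hq'
  · intro t ht
    rfl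


/-- **(B)**: a conjugate `x i x⁻¹` with `x⁻¹ v x ∈ Q` is fixed by `⟨v⟩ ⊔ C`. -/
theorem bp_conj_mem_fix_zpowers {S Q C : Subgroup G} (hCS : C ≤ Subgroup.centralizer (S : Set G))
    {i : MonoidAlgebra R G} (hi : i ∈ bp_fix (R := R) (Q ⊔ C)) {x v : G} (hx : x ∈ S)
    (hxv : x⁻¹ * v * x ∈ Q) : bp_conj x i ∈ bp_fix (R := R) (Subgroup.zpowers v ⊔ C) := by
  rw [bp_fix_sup, Algebra.mem_inf] at hi ⊢
  refine ⟨?_, bp_conj_mem_fix_of_centralizes ?_ hi.2⟩
  · intro h hh
    obtain ⟨k, rfl⟩ := Subgroup.mem_zpowers_iff.1 hh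
    have h1 : v ^ k * x = x * (x⁻¹ * v * x) ^ k := by
      have : (x⁻¹ * v * x) ^ k = x⁻¹ * v ^ k * x := by
        have := map_zpow (MulAut.conj x⁻¹) v k
        simp only [MulAut.conj_apply, inv_inv] at this
        exact this.symm
      rw [this]
      group
    rw [← bp_conj_mul, h1, bp_conj_mul, hi.1 _ (Q.zpow_mem hxv k)]
  · intro c hc
    exact (Subgroup.mem_centralizer_iff.1 (hCS hc)) x hx

section family

/-! ### (D) the family `ι_(m,t) = t (i m) t⁻¹`, `t` in the chosen left transversal of `Q m` in `S` -/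

variable {n : ℕ}

/-- the index set `⊔_m S / Q_m`, realised by the chosen transversals -/
noncomputable def bp_srcIdx (S : Subgroup G) (Q : Fin n → Subgroup G) : Finset (Σ _ : Fin n, G) :=
  (Finset.univ : Finset (Fin n)).sigma (fun m => bp_transv (Q m) S)

/-- the idempotent `ι_(m,t) = t (i m) t⁻¹` -/
noncomputable def bp_srcIdem (i : Fin n → MonoidAlgebra R G) (r : Σ _ : Fin n, G) :
    MonoidAlgebra R G :=
  bp_conj r.2 (i r.1)

theorem bp_mem_srcIdx (S : Subgroup G) (Q : Fin n → Subgroup G) (r : Σ _ : Fin n, G) :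
    r ∈ bp_srcIdx S Q ↔ r.2 ∈ bp_transv (Q r.1) S := by
  simp [bp_srcIdx]

theorem bp_srcIdem_idem (i : Fin n → MonoidAlgebra R G) (hidem : ∀ m, IsIdempotentElem (i m))
    (r : Σ _ : Fin n, G) : IsIdempotentElem (bp_srcIdem i r) := by
  unfold bp_srcIdem IsIdempotentElem
  rw [← map_mul, (hidem r.1).eq]

theorem bp_srcIdem_orth {S : Subgroup G} {Q : Fin n → Subgroup G} (hQS : ∀ m, Q m ≤ S)
    (i : Fin n → MonoidAlgebra R G)
    (horth : ∀ m m', ∀ x ∈ S, ∀ x' ∈ S, (m ≠ m' ∨ x⁻¹ * x' ∉ Q m) →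
      bp_conj x (i m) * bp_conj x' (i m') = 0)
    {r r' : Σ _ : Fin n, G} (hr : r ∈ bp_srcIdx S Q) (hr' : r' ∈ bp_srcIdx S Q) (hne : r ≠ r') :
    bp_srcIdem i r * bp_srcIdem i r' = 0 := by
  obtain ⟨m, t⟩ := r
  obtain ⟨m', t'⟩ := r'
  rw [bp_mem_srcIdx] at hr hr'
  simp only at hr hr'
  have hT := bp_transv_isLT (hQS m)
  have hT' := bp_transv_isLT (hQS m')
  apply horth m m' t (hT.mem t hr) t' (hT'.mem t' hr')
  by_cases hmm : m = m'
  · subst hmm
    right
    intro hmem
    apply hne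
    rw [hT.eq_of_mem hr hr' hmem]
  · left
    exact hmm

theorem bp_srcIdem_sum {S : Subgroup G} {Q : Fin n → Subgroup G}
    (i : Fin n → MonoidAlgebra R G) (hsum : ∑ m, bp_tr (Q m) S (i m) = 1) :
    ∑ r ∈ bp_srcIdx S Q, bp_srcIdem i r = 1 := by
  unfold bp_srcIdx
  rw [Finset.sum_sigma, ← hsum]
  refine Finset.sum_congr rfl (fun m _ => ?_)
  rw [bp_tr_apply]
  rfl

theorem bp_srcIdem_mem_fix {S C : Subgroup G} {Q : Fin n → Subgroup G} (hQS : ∀ m, Q m ≤ S)
    (hCS : C ≤ Subgroup.centralizer (S : Set G)) (i : Fin n → MonoidAlgebra R G)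
    (hi : ∀ m, i m ∈ bp_fix (R := R) (Q m ⊔ C)) {v : G} {r : Σ _ : Fin n, G}
    (hr : r ∈ bp_srcIdx S Q) (hrv : r.2⁻¹ * v * r.2 ∈ Q r.1) :
    bp_srcIdem i r ∈ bp_fix (R := R) (Subgroup.zpowers v ⊔ C) := by
  rw [bp_mem_srcIdx] at hr
  exact bp_conj_mem_fix_zpowers hCS (hi r.1) ((bp_transv_isLT (hQS r.1)).mem r.2 hr) hrv

/-- **(C)**: the part of the decomposition of `1` moved by `v` is killed by `br_⟨v⟩`. -/
theorem bp_srcIdem_moved (hpR : (p : R) ∈ IsLocalRing.maximalIdeal R) {S C : Subgroup G}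
    (hS : IsPGroup p S) {Q : Fin n → Subgroup G} (hQS : ∀ m, Q m ≤ S)
    (i : Fin n → MonoidAlgebra R G) (hi : ∀ m, i m ∈ bp_fix (R := R) (Q m ⊔ C)) {v : G}
    (hv : v ∈ S) [DecidablePred fun r : (Σ _ : Fin n, G) => r.2⁻¹ * v * r.2 ∉ Q r.1] :
    bp_brFun (Subgroup.zpowers v)
      (∑ r ∈ (bp_srcIdx S Q).filter (fun r => r.2⁻¹ * v * r.2 ∉ Q r.1), bp_srcIdem i r) = 0 := by
  classical
  have h1 : (bp_srcIdx S Q).filter (fun r => r.2⁻¹ * v * r.2 ∉ Q r.1) =
      (Finset.univ : Finset (Fin n)).sigma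
        (fun m => (bp_transv (Q m) S).filter (fun t => t⁻¹ * v * t ∉ Q m)) := by
    ext r
    simp [bp_srcIdx]
  rw [h1, Finset.sum_sigma, bp_ra_brFun_sum]
  refine Finset.sum_eq_zero (fun m _ => ?_)
  have hiQ : i m ∈ bp_fix (R := R) (Q m) := bp_fix_mono le_sup_left (hi m)
  exact bp_brFun_moved_eq_zero hpR hS hv (bp_transv_isLT (hQS m)) hiQ

end family

section split

/-- splitting an orthogonal family of idempotents by a predicate: the complementary part `ν` is an
idempotent orthogonal to the selected members. -/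
theorem bp_orth_split {Γ : Type*} [Ring Γ] {ι : Type*} [DecidableEq ι] (X : Finset ι) (e : ι → Γ)
    (hidem : ∀ r ∈ X, IsIdempotentElem (e r))
    (horth : ∀ r ∈ X, ∀ r' ∈ X, r ≠ r' → e r * e r' = 0) (pr : ι → Prop) [DecidablePred pr] :
    IsIdempotentElem (∑ r ∈ X.filter (fun r => ¬ pr r), e r) ∧
      (∀ r ∈ X.filter pr, e r * (∑ r' ∈ X.filter (fun r => ¬ pr r), e r') = 0 ∧
        (∑ r' ∈ X.filter (fun r => ¬ pr r), e r') * e r = 0) ∧
      (∑ r ∈ X.filter pr, e r) + (∑ r ∈ X.filter (fun r => ¬ pr r), e r) = ∑ r ∈ X, e r := by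
  refine ⟨?_, ?_, Finset.sum_filter_add_sum_filter_not X pr e⟩
  · unfold IsIdempotentElem
    rw [Finset.sum_mul]
    refine Finset.sum_congr rfl (fun r hr => ?_)
    rw [Finset.mul_sum, Finset.sum_eq_single r]
    · exact (hidem r (Finset.mem_filter.1 hr).1).eq
    · intro r' hr' hne
      exact horth r (Finset.mem_filter.1 hr).1 r' (Finset.mem_filter.1 hr').1 (Ne.symm hne)
    · intro h
      exact absurd hr h
  · intro r hr
    constructor
    · rw [Finset.mul_sum]
      refine Finset.sum_eq_zero (fun r' hr' => ?_)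
      apply horth r (Finset.mem_filter.1 hr).1 r' (Finset.mem_filter.1 hr').1
      rintro rfl
      exact (Finset.mem_filter.1 hr').2 (Finset.mem_filter.1 hr).2
    · rw [Finset.sum_mul]
      refine Finset.sum_eq_zero (fun r' hr' => ?_)
      apply horth r' (Finset.mem_filter.1 hr').1 r (Finset.mem_filter.1 hr).1
      rintro rfl
      exact (Finset.mem_filter.1 hr').2 (Finset.mem_filter.1 hr).2

end split

end Cfsg.Agent.BP
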