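import Cfsg.Agent.BP.Source
import Cfsg.Agent.BP.RestrictAlg

/-!
# BP / RestrictAlgB: (A) of the algebra half of L9

`1 = ∑_m Tr_{Q_m}^S (i_m)` in `(RG)^(S ⊔ C)` with local primitive idempotents `i_m` of
`(RG)^(Q_m ⊔ C)` whose `S`-conjugates are pairwise orthogonal (primitive decomposition + L5).
-/

set_option autoImplicit false

namespace Cfsg.Agent.BP

open MonoidAlgebra

variable {R : Type*} [CommRing R] [IsLocalRing R] {G : Type*} [Group G] [Finite G]
  {p : ℕ} [Fact p.Prime]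

section decomp

variable [SplitMonic R]

/-- **(A)**: `1 = ∑_m Tr_{Q_m}^S (i_m)` with `i_m` local primitive idempotents of
`(RG)^(Q_m ⊔ C)` all of whose `S`-conjugates are pairwise orthogonal. -/
theorem bp_local_decomp (hpR : (p : R) ∈ IsLocalRing.maximalIdeal R) (C : Subgroup G)
    (hC : (Nat.card C).Coprime p) (S : Subgroup G) (hS : IsPGroup p S)
    (hCS : C ≤ Subgroup.centralizer (S : Set G)) :
    ∃ (n : ℕ) (Q : Fin n → Subgroup G) (i : Fin n → MonoidAlgebra R G),
      (∀ m, Q m ≤ S) ∧ (∀ m, bp_IsPrimFix (Q m ⊔ C) (i m)) ∧ (∀ m, bp_brFun (Q m) (i m) ≠ 0) ∧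
      (∀ m m', ∀ x ∈ S, ∀ x' ∈ S, (m ≠ m' ∨ x⁻¹ * x' ∉ Q m) →
        bp_conj x (i m) * bp_conj x' (i m') = 0) ∧
      ∑ m, bp_tr (Q m) S (i m) = 1 := by
  classical
  haveI : Module.Finite R (bp_fix (R := R) (S ⊔ C)) := bp_fix_finite _
  obtain ⟨n, ε, hprim, horth, hsum⟩ :=
    bp_exists_prim_decomp R (1 : bp_fix (R := R) (S ⊔ C)) (IsIdempotentElem.one)
  have hj : ∀ m, bp_IsPrimFix (S ⊔ C) ((ε m : bp_fix (R := R) (S ⊔ C)) : MonoidAlgebra R G) :=
    fun m => (bp_isPrimFix_iff (S ⊔ C) _).2 ⟨(ε m).2, hprim m⟩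
  have hsrc := fun m => bp_exists_source hpR C hC S hS hCS _ (hj m)
  choose Q i hQS hi hij hji hbr htr horthi using hsrc
  have hjS : ∀ m, ((ε m : bp_fix (R := R) (S ⊔ C)) : MonoidAlgebra R G) ∈ bp_fix (R := R) S :=
    fun m => bp_fix_mono le_sup_left (ε m).2
  refine ⟨n, Q, i, hQS, hi, hbr, ?_, ?_⟩
  · intro m m' x hx x' hx' hcond
    by_cases hmm : m = m'
    · subst hmm
      have hnot : x⁻¹ * x' ∉ Q m := by
        rcases hcond with h | h
        · exact absurd rfl h
        · exact h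
      have h1 : bp_conj x' (i m) = bp_conj x (bp_conj (x⁻¹ * x') (i m)) := by
        rw [← bp_conj_mul]
        congr 1
        group
      rw [h1, ← map_mul, horthi m (x⁻¹ * x') (S.mul_mem (S.inv_mem hx) hx') hnot, map_zero]
    · have h1 : bp_conj x (i m) = bp_conj x (i m) * (ε m : MonoidAlgebra R G) := by
        conv_lhs => rw [← hij m]
        rw [map_mul, hjS m x hx]
      have h2 : bp_conj x' (i m') = (ε m' : MonoidAlgebra R G) * bp_conj x' (i m') := by
        conv_lhs => rw [← hji m']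
        rw [map_mul, hjS m' x' hx']
      have h3 : (ε m : MonoidAlgebra R G) * (ε m' : MonoidAlgebra R G) = 0 := by
        have := congrArg Subtype.val (horth m m' hmm)
        exact this
      rw [h1, h2, mul_assoc, ← mul_assoc (ε m : MonoidAlgebra R G), h3, zero_mul, mul_zero]
  · have h1 : ∀ m, bp_tr (Q m) S (i m) = (ε m : MonoidAlgebra R G) := htr
    rw [Finset.sum_congr rfl (fun m _ => h1 m)]
    have := congrArg Subtype.val hsum
    rw [AddSubmonoidClass.coe_finset_sum] at this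
    exact this

end decomp

end Cfsg.Agent.BP
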