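import Cfsg.Agent.BP.RestrictL8

/-!
# BP / RestrictCore: summing L8 over the blocks of `C_G(v)` (steps (f),(g) of L9, abstract form)

Given, for `v ∈ S`, a finite set `𝔅` of labels (the blocks of `C_G(v)`), idempotents `fhat f` of
`(RG)^(⟨v⟩ ⊔ ⟨s⟩)` with pairwise orthogonal Brauer images `fbar f`, and for every member `ι_r` of the
local decomposition fixed by `v` a label `lab r ∈ 𝔅` with `br_v(ι_r) * fbar (lab r) = br_v(ι_r)`:
`∑_{f ∈ 𝔅} w f * χ(vs · fhat f) = ∑_{r fixed} w (lab r) * χ(vs · ι_r)` for any weights `w`.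
-/

set_option autoImplicit false

namespace Cfsg.Agent.BP

open Cfsg.Agent.Helper6 Cfsg.Agent.Helper6.Cov

universe u

variable {G : Type u} [Group G] [Fintype G] {p : ℕ} [Fact p.Prime] {M : Ideal Cfsg.AlgInt}

theorem bp_restrict_core (hM : Cfsg.IsPModular p M) (χ : G → ℂ) (hχ : Cfsg.IsClassFunction G χ)
    (S C : Subgroup G) (hS : IsPGroup p S) (hC : (Nat.card C).Coprime p)
    (hCS : C ≤ Subgroup.centralizer (S : Set G)) {n : ℕ} (Q : Fin n → Subgroup G)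
    (i : Fin n → MonoidAlgebra (Rloc hM.2.1) G) (hQS : ∀ m, Q m ≤ S)
    (hi : ∀ m, bp_IsPrimFix (Q m ⊔ C) (i m))
    (horth : ∀ m m', ∀ x ∈ S, ∀ x' ∈ S, (m ≠ m' ∨ x⁻¹ * x' ∉ Q m) →
      bp_conj x (i m) * bp_conj x' (i m') = 0)
    (hsum : ∑ m, bp_tr (Q m) S (i m) = 1)
    (v s : G) (hv : v ∈ S) (hs : s ∈ C)
    {β : Type*} [DecidableEq β] (𝔅 : Finset β)
    (fhat : β → MonoidAlgebra (Rloc hM.2.1) G)
    (hfmem : ∀ f ∈ 𝔅, fhat f ∈
      bp_fix (R := Rloc hM.2.1) (Subgroup.zpowers v ⊔ Subgroup.zpowers s))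
    (hfidem : ∀ f ∈ 𝔅, IsIdempotentElem (fhat f))
    (fbar : β → MonoidAlgebra (IsLocalRing.ResidueField (Rloc hM.2.1))
      (Subgroup.centralizer ((Subgroup.zpowers v : Subgroup G) : Set G)))
    (hbr : ∀ f ∈ 𝔅, bp_brFun (Subgroup.zpowers v) (fhat f) = fbar f)
    (hforth : ∀ f ∈ 𝔅, ∀ f' ∈ 𝔅, f ≠ f' → fbar f * fbar f' = 0)
    (lab : (Σ _ : Fin n, G) → β) (hlabmem : ∀ r ∈ bp_fixIdx S Q v, lab r ∈ 𝔅)
    (hlab : ∀ r ∈ bp_fixIdx S Q v,
      bp_brFun (Subgroup.zpowers v) (bp_srcIdem i r) * fbar (lab r) =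
        bp_brFun (Subgroup.zpowers v) (bp_srcIdem i r))
    (w : β → ℂ) :
    ∑ f ∈ 𝔅, w f * bp_tau hM.2.1 χ (MonoidAlgebra.single (v * s) 1 * fhat f) =
      ∑ r ∈ bp_fixIdx S Q v,
        w (lab r) * bp_tau hM.2.1 χ (MonoidAlgebra.single (v * s) 1 * bp_srcIdem i r) := by
  classical
  have hstep : ∀ f ∈ 𝔅, bp_tau hM.2.1 χ (MonoidAlgebra.single (v * s) 1 * fhat f) =
      ∑ r ∈ (bp_fixIdx S Q v).filter (fun r => lab r = f),
        bp_tau hM.2.1 χ (MonoidAlgebra.single (v * s) 1 * bp_srcIdem i r) := by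
    intro f hf
    refine bp_restrict_l8 hM χ hχ S C hS hC hCS Q i hQS hi horth hsum v s hv hs (fhat f)
      (hfmem f hf) (hfidem f hf) (fun r => lab r = f) ?_ ?_
    · intro r hr hsel
      rw [hbr f hf, ← hsel]
      exact hlab r hr
    · intro r hr hsel
      rw [hbr f hf, ← hlab r hr, mul_assoc, hforth (lab r) (hlabmem r hr) f hf hsel, mul_zero]
  rw [Finset.sum_congr rfl (fun f hf => by rw [hstep f hf])]
  simp_rw [Finset.mul_sum]
  rw [← Finset.sum_fiberwise_of_maps_to (g := lab) (s := bp_fixIdx S Q v) (t := 𝔅) hlabmem]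
  refine Finset.sum_congr rfl (fun f _ => ?_)
  refine Finset.sum_congr rfl (fun r hr => ?_)
  rw [(Finset.mem_filter.1 hr).2]

end Cfsg.Agent.BP
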