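import Cfsg.Agent.BP.IdemCharC

/-!
# BP / L9: the abstract induction core

`S` a `p`-subgroup, `C` a subgroup of `p`-regular elements centralizing `S`.  A function `Θ` whose
values on `S ⊔ C = S × C` are given by the "induction formula"
`Θ (v s) = ∑_m ∑_{t ∈ S/Q_m, t⁻¹vt ∈ Q_m} Φ_m (t⁻¹ v t s)` with generalized characters `Φ_m` of
`Q_m ⊔ C` restricts to a generalized character of `S ⊔ C` (namely `∑_m Ind_{Q_m ⊔ C}^{S ⊔ C} Φ_m`).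
Also the companion: `(η' ∘ pr) · ψ` is a generalized character of `Q ⊔ C`.
-/

set_option autoImplicit false

namespace Cfsg.Agent.BP

universe u

variable {G : Type u} [Group G]

/-- **the induction core of L9.** -/
theorem bp_restrict_ind [Fintype G] {p : ℕ} [Fact p.Prime] (S C : Subgroup G) (hS : IsPGroup p S)
    (hC : ∀ c ∈ C, ¬ p ∣ orderOf c) (hCS : C ≤ Subgroup.centralizer (S : Set G))
    (n : ℕ) (Q : Fin n → Subgroup G) [∀ m, DecidablePred (· ∈ Q m)] (hQ : ∀ m, Q m ≤ S)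
    (Φ : ∀ m, ↥(Q m ⊔ C) → ℂ) (hΦ : ∀ m, Cfsg.IsGeneralizedCharacter ↥(Q m ⊔ C) (Φ m))
    (Θ : G → ℂ)
    (hΘ : ∀ v (_ : v ∈ S) s (hs : s ∈ C), Θ (v * s) = ∑ m, ∑ t ∈ bp_transv (Q m) S,
        (if h : t⁻¹ * v * t ∈ Q m then
          Φ m ⟨t⁻¹ * v * t * s, Subgroup.mul_mem_sup h hs⟩ else 0)) :
    Cfsg.IsGeneralizedCharacter ↥(S ⊔ C) (fun h => Θ (h : G)) := by
  classical
  have hd : S ⊓ C = ⊥ := bp_disjoint_of_pgroup hS hC
  have hLT : ∀ m, bp_IsLT (bp_transv (Q m) S) (Q m ⊔ C) (S ⊔ C) := fun m =>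
    bp_isLT_sup (bp_transv_isLT (hQ m)) hCS hd
  have hind : ∀ m, Cfsg.IsGeneralizedCharacter ↥(S ⊔ C)
      (fun h => ∑ t ∈ bp_transv (Q m) S,
        if hk : t⁻¹ * (h : G) * t ∈ Q m ⊔ C then Φ m ⟨t⁻¹ * (h : G) * t, hk⟩ else 0) := fun m =>
    bp_ind_isGeneralizedCharacter (Q m ⊔ C) (S ⊔ C) _ (hLT m) (Φ m) (hΦ m)
  have hsum := bp_gc_sum (Finset.univ : Finset (Fin n)) _ (fun m _ => hind m)
  have heq : (fun h : ↥(S ⊔ C) => Θ (h : G)) = fun h : ↥(S ⊔ C) =>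
      ∑ m, ∑ t ∈ bp_transv (Q m) S,
        if hk : t⁻¹ * (h : G) * t ∈ Q m ⊔ C then Φ m ⟨t⁻¹ * (h : G) * t, hk⟩ else 0 := by
    funext ⟨h, hh⟩
    obtain ⟨v, hv, s, hs, rfl⟩ := (bp_mem_sup_iff hCS h).mp hh
    change Θ (v * s) = _
    rw [hΘ v hv s hs]
    refine Finset.sum_congr rfl fun m _ => Finset.sum_congr rfl fun t ht => ?_
    have htS : t ∈ S := (bp_transv_isLT (hQ m)).mem t ht
    have hts : t * s = s * t := (hCS hs t htS)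
    have hconj : t⁻¹ * (v * s) * t = t⁻¹ * v * t * s := by
      calc t⁻¹ * (v * s) * t = t⁻¹ * v * (s * t) := by group
        _ = t⁻¹ * v * (t * s) := by rw [hts]
        _ = t⁻¹ * v * t * s := by group
    have hwS : t⁻¹ * v * t ∈ S := S.mul_mem (S.mul_mem (S.inv_mem htS) hv) htS
    have hiff : t⁻¹ * (v * s) * t ∈ Q m ⊔ C ↔ t⁻¹ * v * t ∈ Q m := by
      rw [hconj]
      exact bp_mul_mem_sup_iff (hQ m) hCS hd hwS hs
    by_cases hq : t⁻¹ * v * t ∈ Q m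
    · rw [dif_pos hq, dif_pos (hiff.2 hq)]
      congr 1
      exact Subtype.ext hconj.symm
    · rw [dif_neg hq, dif_neg (fun h' => hq (hiff.1 h'))]
  rw [heq]
  exact hsum

/-- companion (III'): `(η' ∘ pr) · ψ` is a generalized character of `Q ⊔ C`. -/
theorem bp_infl_mul_isGeneralizedCharacter (Q C : Subgroup G)
    (hc : C ≤ Subgroup.centralizer (Q : Set G)) (hd : Q ⊓ C = ⊥) (η' : ↥Q → ℂ)
    (hη' : Cfsg.IsGeneralizedCharacter ↥Q η') (ψ : ↥(Q ⊔ C) → ℂ)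
    (hψ : Cfsg.IsGeneralizedCharacter ↥(Q ⊔ C) ψ) :
    Cfsg.IsGeneralizedCharacter ↥(Q ⊔ C) (fun k => η' (bp_prL Q C hc hd k) * ψ k) :=
  bp_gc_mul (bp_infl_isGeneralizedCharacter Q C hc hd η' hη') hψ

theorem bp_infl_mul_isGeneralizedCharacter_of_char (Q C : Subgroup G)
    (hc : C ≤ Subgroup.centralizer (Q : Set G)) (hd : Q ⊓ C = ⊥) (η' : ↥Q → ℂ)
    (hη' : Cfsg.IsGeneralizedCharacter ↥Q η') (ψ : ↥(Q ⊔ C) → ℂ)
    (hψ : Cfsg.IsCharacter ↥(Q ⊔ C) ψ) :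
    Cfsg.IsGeneralizedCharacter ↥(Q ⊔ C) (fun k => η' (bp_prL Q C hc hd k) * ψ k) :=
  bp_infl_mul_isGeneralizedCharacter Q C hc hd η' hη' ψ
    (Helper6.IsGeneralizedCharacter.of_isCharacter hψ)

/-- the value of `(η' ∘ pr) · ψ` at `w * s`. -/
theorem bp_infl_mul_apply (Q C : Subgroup G) (hc : C ≤ Subgroup.centralizer (Q : Set G))
    (hd : Q ⊓ C = ⊥) (η' : ↥Q → ℂ) (ψ : ↥(Q ⊔ C) → ℂ) {w s : G} (hw : w ∈ Q) (hs : s ∈ C)
    (h : w * s ∈ Q ⊔ C) :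
    η' (bp_prL Q C hc hd ⟨w * s, h⟩) * ψ ⟨w * s, h⟩ = η' ⟨w, hw⟩ * ψ ⟨w * s, h⟩ := by
  rw [bp_prL_mul Q C hc hd hw hs]

end Cfsg.Agent.BP
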