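import Cfsg.Agent.BP.GAlg
import Cfsg.Agent.Helper6.GroupAlgB
import Cfsg.Agent.Helper6.CovLoc

/-!
# BP / RestrictTau: the central functional `τ_χ : Rloc[G] → ℂ`, `a ↦ χ(a)`

For a class function `χ` the linear extension of `χ` to the local group algebra is additive,
symmetric (`τ (a b) = τ (b a)`) and invariant under conjugation.
-/

set_option autoImplicit false

namespace Cfsg.Agent.BP

open Cfsg.Agent.Helper6 Cfsg.Agent.Helper6.Cov

universe u

variable {G : Type u} [Group G] [Fintype G] {M : Ideal Cfsg.AlgInt}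

/-- `a ↦ χ(a)` on the local group algebra, as an additive map -/
noncomputable def bp_tau (hM : M.IsMaximal) (χ : G → ℂ) : MonoidAlgebra (Rloc hM) G →+ ℂ where
  toFun a := gaPair χ (gaEmb hM G a)
  map_zero' := by rw [map_zero, gaPair_zero]
  map_add' a b := by rw [map_add, gaPair_add]

theorem bp_tau_apply (hM : M.IsMaximal) (χ : G → ℂ) (a : MonoidAlgebra (Rloc hM) G) :
    bp_tau hM χ a = gaPair χ (gaEmb hM G a) := rfl

/-- symmetry of the linear extension of a class function on `ℂG` -/
theorem bp_gaPair_mul_comm (χ : G → ℂ) (hχ : Cfsg.IsClassFunction G χ) (x w : MonoidAlgebra ℂ G) :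
    gaPair χ (x * w) = gaPair χ (w * x) := by
  rw [gaPair_mul, gaPair_mul']
  refine Finset.sum_congr rfl (fun s _ => ?_)
  congr 1
  refine Finset.sum_congr rfl (fun t _ => ?_)
  congr 1
  have := hχ (t * s) s
  rw [← this]
  congr 1
  group

theorem bp_tau_mul_comm (hM : M.IsMaximal) (χ : G → ℂ) (hχ : Cfsg.IsClassFunction G χ)
    (a b : MonoidAlgebra (Rloc hM) G) : bp_tau hM χ (a * b) = bp_tau hM χ (b * a) := by
  rw [bp_tau_apply, bp_tau_apply, map_mul, map_mul, bp_gaPair_mul_comm χ hχ]

/-- invariance under conjugation -/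
theorem bp_tau_conj_eq (hM : M.IsMaximal) (χ : G → ℂ) (hχ : Cfsg.IsClassFunction G χ) (t : G)
    (a : MonoidAlgebra (Rloc hM) G) : bp_tau hM χ (bp_conj t a) = bp_tau hM χ a := by
  rw [bp_conj_eq_mul, bp_tau_mul_comm hM χ hχ, ← mul_assoc, MonoidAlgebra.single_mul_single,
    inv_mul_cancel, mul_one, ← MonoidAlgebra.one_def, one_mul]

/-- moving a conjugation from the idempotent to the group element -/
theorem bp_tau_single_mul_conj (hM : M.IsMaximal) (χ : G → ℂ) (hχ : Cfsg.IsClassFunction G χ)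
    (t x : G) (a : MonoidAlgebra (Rloc hM) G) :
    bp_tau hM χ (MonoidAlgebra.single x 1 * bp_conj t a) =
      bp_tau hM χ (MonoidAlgebra.single (t⁻¹ * x * t) 1 * a) := by
  have h1 : MonoidAlgebra.single x (1 : Rloc hM) * bp_conj t a =
      bp_conj t (MonoidAlgebra.single (t⁻¹ * x * t) 1 * a) := by
    rw [map_mul, bp_conj_single]
    congr 2
    group
  rw [h1, bp_tau_conj_eq hM χ hχ]

end Cfsg.Agent.BP
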