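import Mathlib
import Cfsg.Agent.BP.Local
import Cfsg.Agent.BP.BrauerMap

/-!
# BP / L8 : the second main theorem for idempotents, pure algebra form (blueprint section 8)

`v` a `p`-element, `s` an element commuting with `v`, `Γ := (RG)^{⟨v⟩ ⊔ ⟨s⟩}`, `τ : RG →+ T` additive with
`τ (a b) = τ (b a)`.  Assume (Green's theorem on zeros, L6, given here as the hypothesis `h0`) that
`τ (vs · n) = 0` for every idempotent `n` of `Γ` killed by the Brauer map at `⟨v⟩`.  Then

* `bp_second_main_congr` : idempotents `e`, `e'` of `Γ` with the same Brauer image at `⟨v⟩` have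
  `τ (vs · e) = τ (vs · e')`   (L2' applied to `a ↦ τ (vs · a)` and the kernel of the Brauer map);
* `bp_second_main_idem` : for pairwise orthogonal idempotents `ι i` (`i ∈ idx`) and `ν` of `Γ` with sum `1`,
  `br_v ν = 0`, and an idempotent `fhat` of `Γ` such that `br_v (ι i) * br_v fhat` is `br_v (ι i)` for the selected
  `i` and `0` for the others:  `τ (vs · fhat) = Σ_{i selected} τ (vs · ι i)`.
-/

set_option autoImplicit false

namespace Cfsg.Agent.BP

open MonoidAlgebra

variable {R : Type*} [CommRing R] [IsLocalRing R] [SplitMonic R] {G : Type*} [Group G] [Finite G]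
  {p : ℕ} [Fact p.Prime]

omit [IsLocalRing R] [SplitMonic R] [Finite G] in
/-- An element fixed by `H` commutes with the group elements of `H`. -/
theorem bp_single_mul_comm_of_mem_fix {H : Subgroup G} {a : MonoidAlgebra R G} (ha : a ∈ bp_fix H)
    {x : G} (hx : x ∈ H) : single x (1 : R) * a = a * single x (1 : R) := by
  have h := ha x hx
  rw [bp_conj_eq_mul] at h
  have h2 : single x (1 : R) * a * single x⁻¹ (1 : R) * single x (1 : R) = a * single x (1 : R) := by
    rw [h]
  rw [mul_assoc, single_mul_single, inv_mul_cancel, one_mul] at h2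
  rw [← h2]
  change _ = single x (1 : R) * a * 1
  rw [mul_one]

omit [SplitMonic R] [Finite G] in
theorem bp_brFun_neg (P : Subgroup G) (a : MonoidAlgebra R G) : bp_brFun P (-a) = -bp_brFun P a := by
  ext c; simp

omit [SplitMonic R] [Finite G] in
theorem bp_brFun_sub (P : Subgroup G) (a b : MonoidAlgebra R G) :
    bp_brFun P (a - b) = bp_brFun P a - bp_brFun P b := by
  ext c; simp

omit [SplitMonic R] [Finite G] in
theorem bp_smi_brFun_finsetSum {ι : Type*} (s : Finset ι) (P : Subgroup G) (a : ι → MonoidAlgebra R G) :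
    bp_brFun P (∑ i ∈ s, a i) = ∑ i ∈ s, bp_brFun P (a i) := by
  classical
  induction s using Finset.induction_on with
  | empty => simp [bp_brFun_zero]
  | insert i s hi ih => rw [Finset.sum_insert hi, Finset.sum_insert hi, bp_brFun_add, ih]

/-- L8, congruence form. -/
theorem bp_second_main_congr (hpR : (p : R) ∈ IsLocalRing.maximalIdeal R) (v s : G)
    (hv : IsPGroup p (Subgroup.zpowers v))
    {T : Type*} [AddCommGroup T] (τ : MonoidAlgebra R G →+ T) (hτ : ∀ a b, τ (a * b) = τ (b * a))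
    (h0 : ∀ n : MonoidAlgebra R G, n ∈ bp_fix (Subgroup.zpowers v ⊔ Subgroup.zpowers s) →
      IsIdempotentElem n → bp_brFun (Subgroup.zpowers v) n = 0 → τ (single (v * s) 1 * n) = 0)
    (e e' : MonoidAlgebra R G)
    (he : e ∈ bp_fix (Subgroup.zpowers v ⊔ Subgroup.zpowers s))
    (he' : e' ∈ bp_fix (Subgroup.zpowers v ⊔ Subgroup.zpowers s))
    (hei : IsIdempotentElem e) (hei' : IsIdempotentElem e')
    (hbr : bp_brFun (Subgroup.zpowers v) e = bp_brFun (Subgroup.zpowers v) e') :
    τ (single (v * s) 1 * e) = τ (single (v * s) 1 * e') := by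
  set H : Subgroup G := Subgroup.zpowers v ⊔ Subgroup.zpowers s with hH
  have hvH : Subgroup.zpowers v ≤ H := le_sup_left
  have hvsH : v * s ∈ H :=
    H.mul_mem (hvH (Subgroup.mem_zpowers v)) ((le_sup_right : Subgroup.zpowers s ≤ H) (Subgroup.mem_zpowers s))
  have : Module.Finite R (bp_fix (R := R) H) := bp_fix_finite H
  -- the trace-like map on Γ
  let τ' : (bp_fix (R := R) H) →+ T :=
    { toFun := fun a => τ (single (v * s) 1 * (a : MonoidAlgebra R G))
      map_zero' := by
        rw [ZeroMemClass.coe_zero, mul_zero, map_zero]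
      map_add' := fun a b => by
        rw [AddMemClass.coe_add, mul_add, map_add] }
  have hτ' : ∀ a b : bp_fix (R := R) H, τ' (a * b) = τ' (b * a) := by
    intro a b
    change τ (single (v * s) 1 * ((a * b : bp_fix (R := R) H) : MonoidAlgebra R G)) =
      τ (single (v * s) 1 * ((b * a : bp_fix (R := R) H) : MonoidAlgebra R G))
    rw [MulMemClass.coe_mul, MulMemClass.coe_mul, ← mul_assoc, hτ, ← mul_assoc,
      ← bp_single_mul_comm_of_mem_fix b.2 hvsH, mul_assoc]
  -- the kernel of the Brauer map at ⟨v⟩ inside Γ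
  let K : AddSubgroup (bp_fix (R := R) H) :=
    { carrier := {a | bp_brFun (Subgroup.zpowers v) (a : MonoidAlgebra R G) = 0}
      zero_mem' := by
        change bp_brFun (Subgroup.zpowers v) ((0 : bp_fix (R := R) H) : MonoidAlgebra R G) = 0
        rw [ZeroMemClass.coe_zero, bp_brFun_zero]
      add_mem' := fun {a b} ha hb => by
        change bp_brFun (Subgroup.zpowers v) ((a + b : bp_fix (R := R) H) : MonoidAlgebra R G) = 0
        rw [AddMemClass.coe_add, bp_brFun_add, ha, hb, add_zero]
      neg_mem' := fun {a} ha => by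
        change bp_brFun (Subgroup.zpowers v) ((-a : bp_fix (R := R) H) : MonoidAlgebra R G) = 0
        rw [NegMemClass.coe_neg, bp_brFun_neg, ha, neg_zero] }
  have hmemK : ∀ a : bp_fix (R := R) H,
      a ∈ K ↔ bp_brFun (Subgroup.zpowers v) (a : MonoidAlgebra R G) = 0 := fun _ => Iff.rfl
  have hfixv : ∀ a : bp_fix (R := R) H,
      bp_CoeffInv (Subgroup.zpowers v) (a : MonoidAlgebra R G) := fun a =>
    (bp_mem_fix_iff _ _).1 (bp_fix_mono hvH a.2)
  have hKl : ∀ a x : bp_fix (R := R) H, x ∈ K → a * x ∈ K := by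
    intro a x hx
    rw [hmemK] at hx ⊢
    rw [MulMemClass.coe_mul, bp_brFun_mul p hpR _ hv _ _ (hfixv a) (hfixv x), hx, mul_zero]
  have hKr : ∀ x a : bp_fix (R := R) H, x ∈ K → x * a ∈ K := by
    intro x a hx
    rw [hmemK] at hx ⊢
    rw [MulMemClass.coe_mul, bp_brFun_mul p hpR _ hv _ _ (hfixv x) (hfixv a), hx, zero_mul]
  have hK : ∀ x ∈ bp_mG R (bp_fix (R := R) H), x ∈ K := by
    intro x hx
    refine Submodule.smul_induction_on hx ?_ ?_
    · intro π hπ y _
      rw [hmemK]
      change bp_brFun (Subgroup.zpowers v) ((π • y : bp_fix (R := R) H) : MonoidAlgebra R G) = 0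
      rw [SetLike.val_smul, bp_brFun_smul, (IsLocalRing.residue_eq_zero_iff π).2 hπ, zero_smul]
    · intro x y hx hy
      exact K.add_mem hx hy
  have h0' : ∀ n : bp_fix (R := R) H, IsIdempotentElem n → n ∈ K → τ' n = 0 := by
    intro n hn hnK
    refine h0 (n : MonoidAlgebra R G) n.2 ?_ ((hmemK n).1 hnK)
    have := congrArg (fun z : bp_fix (R := R) H => (z : MonoidAlgebra R G)) hn.eq
    simpa [IsIdempotentElem] using this
  have hE : IsIdempotentElem (⟨e, he⟩ : bp_fix (R := R) H) := Subtype.ext hei.eq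
  have hE' : IsIdempotentElem (⟨e', he'⟩ : bp_fix (R := R) H) := Subtype.ext hei'.eq
  have hEE' : (⟨e, he⟩ : bp_fix (R := R) H) - ⟨e', he'⟩ ∈ K := by
    rw [hmemK]
    change bp_brFun (Subgroup.zpowers v) (e - e') = 0
    rw [bp_brFun_sub, hbr, sub_self]
  exact bp_trace_congr_addSubgroup (R := R) τ' hτ' K hKl hKr hK h0' ⟨e, he⟩ ⟨e', he'⟩ hE hE' hEE'

omit [IsLocalRing R] [SplitMonic R] [Finite G] in
/-- A sum of pairwise orthogonal idempotents is an idempotent. -/
theorem bp_isIdempotentElem_sum {ι : Type*} (s : Finset ι) (x : ι → MonoidAlgebra R G)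
    (hidem : ∀ i ∈ s, IsIdempotentElem (x i))
    (horth : ∀ i ∈ s, ∀ j ∈ s, i ≠ j → x i * x j = 0) : IsIdempotentElem (∑ i ∈ s, x i) := by
  classical
  unfold IsIdempotentElem
  rw [Finset.sum_mul]
  refine Finset.sum_congr rfl (fun i hi => ?_)
  rw [Finset.mul_sum, Finset.sum_eq_single i]
  · exact (hidem i hi).eq
  · intro j hj hji
    exact horth i hi j hj (Ne.symm hji)
  · intro h; exact absurd hi h

/-- L8, the second main theorem for idempotents. -/
theorem bp_second_main_idem (hpR : (p : R) ∈ IsLocalRing.maximalIdeal R) (v s : G)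
    (hv : IsPGroup p (Subgroup.zpowers v))
    {T : Type*} [AddCommGroup T] (τ : MonoidAlgebra R G →+ T) (hτ : ∀ a b, τ (a * b) = τ (b * a))
    (h0 : ∀ n : MonoidAlgebra R G, n ∈ bp_fix (Subgroup.zpowers v ⊔ Subgroup.zpowers s) →
      IsIdempotentElem n → bp_brFun (Subgroup.zpowers v) n = 0 → τ (single (v * s) 1 * n) = 0)
    {r : Type*} (idx : Finset r) (ι : r → MonoidAlgebra R G) (ν : MonoidAlgebra R G)
    (hι : ∀ i ∈ idx, ι i ∈ bp_fix (Subgroup.zpowers v ⊔ Subgroup.zpowers s))
    (hidem : ∀ i ∈ idx, IsIdempotentElem (ι i))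
    (horth : ∀ i ∈ idx, ∀ j ∈ idx, i ≠ j → ι i * ι j = 0)
    (hsum : ∑ i ∈ idx, ι i + ν = 1) (hν : bp_brFun (Subgroup.zpowers v) ν = 0)
    (fhat : MonoidAlgebra R G)
    (hf : fhat ∈ bp_fix (Subgroup.zpowers v ⊔ Subgroup.zpowers s)) (hfi : IsIdempotentElem fhat)
    (sel : r → Prop) [DecidablePred sel]
    (h1 : ∀ i ∈ idx, sel i → bp_brFun (Subgroup.zpowers v) (ι i) * bp_brFun (Subgroup.zpowers v) fhat =
      bp_brFun (Subgroup.zpowers v) (ι i))
    (h2 : ∀ i ∈ idx, ¬ sel i →
      bp_brFun (Subgroup.zpowers v) (ι i) * bp_brFun (Subgroup.zpowers v) fhat = 0) :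
    τ (single (v * s) 1 * fhat) = ∑ i ∈ idx.filter sel, τ (single (v * s) 1 * ι i) := by
  classical
  set e' : MonoidAlgebra R G := ∑ i ∈ idx.filter sel, ι i with he'
  have he'mem : e' ∈ bp_fix (Subgroup.zpowers v ⊔ Subgroup.zpowers s) :=
    Subalgebra.sum_mem _ (fun i hi => hι i (Finset.mem_filter.1 hi).1)
  have he'idem : IsIdempotentElem e' :=
    bp_isIdempotentElem_sum _ ι (fun i hi => hidem i (Finset.mem_filter.1 hi).1)
      (fun i hi j hj hij => horth i (Finset.mem_filter.1 hi).1 j (Finset.mem_filter.1 hj).1 hij)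
  have hbr : bp_brFun (Subgroup.zpowers v) fhat = bp_brFun (Subgroup.zpowers v) e' := by
    have hone : bp_brFun (Subgroup.zpowers v) (∑ i ∈ idx, ι i) = 1 := by
      have : ∑ i ∈ idx, ι i = 1 - ν := by rw [← hsum]; abel
      rw [this, bp_brFun_sub, bp_brFun_one, hν, sub_zero]
    calc bp_brFun (Subgroup.zpowers v) fhat
        = bp_brFun (Subgroup.zpowers v) (∑ i ∈ idx, ι i) * bp_brFun (Subgroup.zpowers v) fhat := by
          rw [hone, one_mul]
      _ = ∑ i ∈ idx, bp_brFun (Subgroup.zpowers v) (ι i) * bp_brFun (Subgroup.zpowers v) fhat := by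
          rw [bp_smi_brFun_finsetSum, Finset.sum_mul]
      _ = ∑ i ∈ idx.filter sel, bp_brFun (Subgroup.zpowers v) (ι i) := by
          rw [Finset.sum_filter]
          refine Finset.sum_congr rfl (fun i hi => ?_)
          split_ifs with hs
          · exact h1 i hi hs
          · exact h2 i hi hs
      _ = bp_brFun (Subgroup.zpowers v) e' := by rw [he', bp_smi_brFun_finsetSum]
  rw [bp_second_main_congr hpR v s hv τ hτ h0 fhat e' hf he'mem hfi he'idem hbr, he', Finset.mul_sum,
    map_sum]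

end Cfsg.Agent.BP
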