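import Cfsg.Agent.BP.RestrictAlgB
import Cfsg.Agent.BP.RestrictTau
import Cfsg.Agent.BP.RlocInst
import Cfsg.Agent.BP.SecondMainIdem
import Cfsg.Agent.BP.GreenZeros

/-!
# BP / RestrictL8: L8 applied to the local decomposition of `1` (step (f) of L9)

For `v ∈ S`, `s ∈ C`, the members of the family `ι_(m,t) = t (i m) t⁻¹` fixed by `v`, and an
idempotent `fhat` of `(RG)^(⟨v⟩ ⊔ ⟨s⟩)` whose Brauer image at `⟨v⟩` selects a subset `sel` of the
fixed members: `χ(vs · fhat) = ∑_{r fixed, sel r} χ(vs · ι_r)`.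
-/

set_option autoImplicit false

namespace Cfsg.Agent.BP

open Cfsg.Agent.Helper6 Cfsg.Agent.Helper6.Cov

universe u

variable {G : Type u} [Group G] [Fintype G] {p : ℕ} [Fact p.Prime] {M : Ideal Cfsg.AlgInt}

/-- the members of the family fixed by `v` -/
noncomputable def bp_fixIdx {n : ℕ} (S : Subgroup G) (Q : Fin n → Subgroup G) (v : G) :
    Finset (Σ _ : Fin n, G) := by
  classical
  exact (bp_srcIdx S Q).filter (fun r => r.2⁻¹ * v * r.2 ∈ Q r.1)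

theorem bp_mem_fixIdx {n : ℕ} (S : Subgroup G) (Q : Fin n → Subgroup G) (v : G)
    (r : Σ _ : Fin n, G) :
    r ∈ bp_fixIdx S Q v ↔ r.2 ∈ bp_transv (Q r.1) S ∧ r.2⁻¹ * v * r.2 ∈ Q r.1 := by
  classical
  unfold bp_fixIdx
  rw [Finset.mem_filter, bp_mem_srcIdx]

theorem bp_restrict_l8 (hM : Cfsg.IsPModular p M) (χ : G → ℂ) (hχ : Cfsg.IsClassFunction G χ)
    (S C : Subgroup G) (hS : IsPGroup p S) (hC : (Nat.card C).Coprime p)
    (hCS : C ≤ Subgroup.centralizer (S : Set G)) {n : ℕ} (Q : Fin n → Subgroup G)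
    (i : Fin n → MonoidAlgebra (Rloc hM.2.1) G) (hQS : ∀ m, Q m ≤ S)
    (hi : ∀ m, bp_IsPrimFix (Q m ⊔ C) (i m))
    (horth : ∀ m m', ∀ x ∈ S, ∀ x' ∈ S, (m ≠ m' ∨ x⁻¹ * x' ∉ Q m) →
      bp_conj x (i m) * bp_conj x' (i m') = 0)
    (hsum : ∑ m, bp_tr (Q m) S (i m) = 1)
    (v s : G) (hv : v ∈ S) (hs : s ∈ C)
    (fhat : MonoidAlgebra (Rloc hM.2.1) G)
    (hf : fhat ∈ bp_fix (R := Rloc hM.2.1) (Subgroup.zpowers v ⊔ Subgroup.zpowers s))
    (hfi : IsIdempotentElem fhat)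
    (sel : (Σ _ : Fin n, G) → Prop) [DecidablePred sel]
    (h1 : ∀ r ∈ bp_fixIdx S Q v, sel r →
      bp_brFun (Subgroup.zpowers v) (bp_srcIdem i r) * bp_brFun (Subgroup.zpowers v) fhat =
        bp_brFun (Subgroup.zpowers v) (bp_srcIdem i r))
    (h2 : ∀ r ∈ bp_fixIdx S Q v, ¬ sel r →
      bp_brFun (Subgroup.zpowers v) (bp_srcIdem i r) * bp_brFun (Subgroup.zpowers v) fhat = 0) :
    bp_tau hM.2.1 χ (MonoidAlgebra.single (v * s) 1 * fhat) =
      ∑ r ∈ (bp_fixIdx S Q v).filter sel,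
        bp_tau hM.2.1 χ (MonoidAlgebra.single (v * s) 1 * bp_srcIdem i r) := by
  classical
  have hpR := bp_Rloc_prime_mem hM
  have hvp : IsPGroup p (Subgroup.zpowers v) := hS.to_le (Subgroup.zpowers_le.2 hv)
  have hsreg : ¬ p ∣ orderOf s := by
    intro hdvd
    have h1 : orderOf s ∣ Nat.card C := by
      have := orderOf_dvd_natCard (⟨s, hs⟩ : C)
      rwa [Subgroup.orderOf_mk] at this
    have h2 : p ∣ Nat.card C := hdvd.trans h1
    have h3 := Nat.Coprime.eq_one_of_dvd hC.symm h2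
    exact (Fact.out : p.Prime).one_lt.ne' h3
  have hvs : Commute v s := (Subgroup.mem_centralizer_iff.1 (hCS hs)) v hv
  have hτ := bp_tau_mul_comm hM.2.1 χ hχ
  have h0 : ∀ n : MonoidAlgebra (Rloc hM.2.1) G,
      n ∈ bp_fix (R := Rloc hM.2.1) (Subgroup.zpowers v ⊔ Subgroup.zpowers s) →
      IsIdempotentElem n → bp_brFun (Subgroup.zpowers v) n = 0 →
      bp_tau hM.2.1 χ (MonoidAlgebra.single (v * s) 1 * n) = 0 :=
    fun n hn hidem hb => bp_green_zeros hpR v s hvp hsreg hvs n hn hidem hb (bp_tau hM.2.1 χ) hτ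
  have hifix : ∀ m, i m ∈ bp_fix (R := Rloc hM.2.1) (Q m ⊔ C) := fun m => (hi m).1
  have hidem : ∀ m, IsIdempotentElem (i m) := fun m => (hi m).2.1
  have hle : Subgroup.zpowers v ⊔ Subgroup.zpowers s ≤ Subgroup.zpowers v ⊔ C :=
    sup_le_sup_left (Subgroup.zpowers_le.2 hs) _
  have hsplit := bp_orth_split (bp_srcIdx S Q) (bp_srcIdem i)
    (fun r _ => bp_srcIdem_idem i hidem r)
    (fun r hr r' hr' hne => bp_srcIdem_orth hQS i horth hr hr' hne)
    (fun r => r.2⁻¹ * v * r.2 ∈ Q r.1)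
  have hfixIdx : bp_fixIdx S Q v =
      (bp_srcIdx S Q).filter (fun r => r.2⁻¹ * v * r.2 ∈ Q r.1) := by
    unfold bp_fixIdx
    congr
  refine bp_second_main_idem hpR v s hvp (bp_tau hM.2.1 χ) hτ h0 (bp_fixIdx S Q v) (bp_srcIdem i)
    (∑ r ∈ (bp_srcIdx S Q).filter (fun r => ¬ r.2⁻¹ * v * r.2 ∈ Q r.1), bp_srcIdem i r)
    ?_ ?_ ?_ ?_ ?_ fhat hf hfi sel h1 h2
  · intro r hr
    rw [hfixIdx, Finset.mem_filter] at hr
    exact bp_fix_mono hle (bp_srcIdem_mem_fix hQS hCS i hifix hr.1 hr.2)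
  · intro r _
    exact bp_srcIdem_idem i hidem r
  · intro r hr r' hr' hne
    rw [hfixIdx, Finset.mem_filter] at hr hr'
    exact bp_srcIdem_orth hQS i horth hr.1 hr'.1 hne
  · rw [hfixIdx, hsplit.2.2, bp_srcIdem_sum i hsum]
  · exact bp_srcIdem_moved hpR hS hQS i hifix hv

end Cfsg.Agent.BP
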