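import Cfsg.Agent.BP.GreenStep
import Cfsg.Agent.BP.DefectB
import Cfsg.Agent.BP.SourcePrep

/-!
# BP / Source: existence of sources with orthogonal conjugates (blueprint L5)

`P` a `p`-subgroup of `G`, `C` a `p'`-subgroup centralising `P`.  For a primitive idempotent `j`
of `(RG)^(P ⊔ C)` there are `Q ≤ P` and a primitive idempotent `i` of `(RG)^(Q ⊔ C)`, `i ≤ j`,
with `br_Q i ≠ 0`, `Tr_Q^P i = j` and `i * x i x⁻¹ = 0` for `x ∈ P ∖ Q`.
-/

set_option autoImplicit false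

namespace Cfsg.Agent.BP

open MonoidAlgebra

variable {R : Type*} [CommRing R] {G : Type*} [Group G] [Finite G]

section source

variable [IsLocalRing R] [SplitMonic R] {p : ℕ} [Fact p.Prime]

/-- L5 with the terminal case (`br_P j ≠ 0` when `j` is not a proper relative trace) as a hypothesis. -/
theorem bp_exists_source_aux (hpR : (p : R) ∈ IsLocalRing.maximalIdeal R) (C : Subgroup G)
    (hterm : ∀ (P : Subgroup G), IsPGroup p P → (∀ x ∈ P, ∀ c ∈ C, x * c = c * x) →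
      ∀ j : MonoidAlgebra R G, bp_IsPrimFix (P ⊔ C) j →
        (∀ Q, Q < P → ¬ ∃ a ∈ bp_fix (R := R) (Q ⊔ C), bp_tr Q P a = j) → bp_brFun P j ≠ 0)
    (P : Subgroup G) (hP : IsPGroup p P) (hPC : ∀ x ∈ P, ∀ c ∈ C, x * c = c * x)
    (j : MonoidAlgebra R G) (hj : bp_IsPrimFix (P ⊔ C) j) :
    ∃ (Q : Subgroup G) (i : MonoidAlgebra R G), Q ≤ P ∧ bp_IsPrimFix (Q ⊔ C) i ∧ i * j = i ∧
      j * i = i ∧ bp_brFun Q i ≠ 0 ∧ bp_tr Q P i = j ∧ ∀ x ∈ P, x ∉ Q → i * bp_conj x i = 0 := by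
  classical
  induction' hn : Nat.card P using Nat.strong_induction_on with n ih generalizing P j
  have hfix_sup : ∀ (H : Subgroup G) (a : MonoidAlgebra R G),
      a ∈ bp_fix (R := R) (H ⊔ C) ↔ a ∈ bp_fix (R := R) H ∧ a ∈ bp_fix (R := R) C := by
    intro H a
    rw [bp_fix_sup, Algebra.mem_inf]
  by_cases hcase : ∃ Q₀, Q₀ < P ∧ ∃ a ∈ bp_fix (R := R) (Q₀ ⊔ C), bp_tr Q₀ P a = j
  swap
  · refine ⟨P, j, le_rfl, hj, hj.2.1, hj.2.1, hterm P hP hPC j hj ?_, bp_tr_self P ?_, ?_⟩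
    · intro Q hQ hex
      exact hcase ⟨Q, hQ, hex⟩
    · exact ((hfix_sup P j).1 hj.1).1
    · intro x hx hx'
      exact absurd hx hx'
  obtain ⟨Q₀, hQ₀, a₀, ha₀, hta₀⟩ := hcase
  obtain ⟨P₁, x, hQP₁, hP₁P, hxP, hxP₁, hnorm, hxp, hcard, huniq⟩ :=
    bp_exists_index_p P Q₀ hP hQ₀
  have hxC : ∀ c ∈ C, x * c = c * x := hPC x hxP
  have hxinvC : ∀ c ∈ C, x⁻¹ * c = c * x⁻¹ := hPC x⁻¹ (P.inv_mem hxP)
  have h1 : ∀ a ∈ bp_fix (R := R) (P₁ ⊔ C), bp_conj x a ∈ bp_fix (R := R) (P₁ ⊔ C) := by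
    intro a ha
    rw [hfix_sup] at ha ⊢
    refine ⟨bp_conj_mem_fix_of_normalizes ?_ ha.1, bp_conj_mem_fix_of_centralizes hxC ha.2⟩
    intro h hh
    have := hnorm x⁻¹ (P.inv_mem hxP) h hh
    simpa using this
  have h2 : ∀ a ∈ bp_fix (R := R) (P₁ ⊔ C), bp_conj x⁻¹ a ∈ bp_fix (R := R) (P₁ ⊔ C) := by
    intro a ha
    rw [hfix_sup] at ha ⊢
    refine ⟨bp_conj_mem_fix_of_normalizes ?_ ha.1, bp_conj_mem_fix_of_centralizes hxinvC ha.2⟩
    intro h hh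
    have := hnorm x hxP h hh
    simpa using this
  let σ := bp_conjRestrict (bp_fix (R := R) (P₁ ⊔ C)) x h1 h2
  have hσ : ∀ a, (σ^[p]) a = a := by
    intro a
    apply Subtype.ext
    rw [bp_conjRestrict_iterate]
    exact ((hfix_sup P₁ a.1).1 a.2).1 _ hxp
  let Φ : Subalgebra R (bp_fix (R := R) (P₁ ⊔ C)) :=
    Subalgebra.comap (bp_fix (R := R) (P₁ ⊔ C)).val (bp_fix (R := R) (P ⊔ C))
  have hΦ : ∀ a, a ∈ Φ ↔ σ a = a := by
    intro a
    constructor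
    · intro ha
      have ha' : (a : MonoidAlgebra R G) ∈ bp_fix (R := R) (P ⊔ C) := ha
      apply Subtype.ext
      rw [bp_conjRestrict_coe]
      exact ha' x (Subgroup.mem_sup_left hxP)
    · intro ha
      have ha' : bp_conj x (a : MonoidAlgebra R G) = a := by
        have := congrArg Subtype.val ha
        rwa [bp_conjRestrict_coe] at this
      show (a : MonoidAlgebra R G) ∈ bp_fix (R := R) (P ⊔ C)
      rw [hfix_sup]
      have ha2 := (hfix_sup P₁ a.1).1 a.2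
      exact ⟨bp_mem_fix_of_powers huniq ha2.1 ha', ha2.2⟩
  have hle : bp_fix (R := R) (P ⊔ C) ≤ bp_fix (R := R) (P₁ ⊔ C) :=
    bp_fix_mono (sup_le_sup_right hP₁P C)
  haveI : Module.Finite R (bp_fix (R := R) (P₁ ⊔ C)) := bp_fix_finite _
  haveI : Module.Finite R Φ := by
    haveI := bp_fix_finite (R := R) (P ⊔ C)
    let f : bp_fix (R := R) (P ⊔ C) →ₗ[R] Φ :=
      { toFun := fun a => ⟨⟨a.1, hle a.2⟩, a.2⟩
        map_add' := fun a b => rfl
        map_smul' := fun r a => rfl }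
    exact Module.Finite.of_surjective f (fun b => ⟨⟨b.1.1, b.2⟩, rfl⟩)
  obtain ⟨hjfix, hjprim⟩ := (bp_isPrimFix_iff (P ⊔ C) j).1 hj
  have hj' : bp_IsPrim (⟨⟨j, hle hjfix⟩, hjfix⟩ : Φ) := bp_isPrim_comap hle j hjfix hjprim
  -- the element `a`
  have ha₀' := (hfix_sup Q₀ a₀).1 ha₀
  have haS : bp_tr Q₀ P₁ a₀ ∈ bp_fix (R := R) (P₁ ⊔ C) := by
    rw [hfix_sup]
    refine ⟨bp_tr_mem hQP₁ ha₀'.1, bp_tr_mem_fix_of_centralizes hQP₁ ?_ ha₀'.2⟩
    intro t ht c hc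
    exact hPC t (hP₁P ht) c hc
  have hsum : ∀ b : bp_fix (R := R) (P₁ ⊔ C),
      ((∑ d ∈ Finset.range p, (σ^[d]) b : bp_fix (R := R) (P₁ ⊔ C)) : MonoidAlgebra R G) =
        bp_tr P₁ P (b : MonoidAlgebra R G) := by
    intro b
    rw [bp_tr_eq_sum_powers hP₁P hxP huniq ((hfix_sup P₁ b.1).1 b.2).1]
    rw [AddSubmonoidClass.coe_finset_sum]
    refine Finset.sum_congr rfl (fun d _ => ?_)
    exact bp_conjRestrict_iterate _ x h1 h2 d b
  have ha : ∑ d ∈ Finset.range p, (σ^[d]) (⟨bp_tr Q₀ P₁ a₀, haS⟩ : bp_fix (R := R) (P₁ ⊔ C)) =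
      ((⟨⟨j, hle hjfix⟩, hjfix⟩ : Φ) : bp_fix (R := R) (P₁ ⊔ C)) := by
    apply Subtype.ext
    rw [hsum]
    show bp_tr P₁ P (bp_tr Q₀ P₁ a₀) = j
    rw [bp_tr_trans hQP₁ hP₁P ha₀'.1, hta₀]
  obtain ⟨κ, hκprim, hκj, hjκ, hκtr, hκorth⟩ :=
    bp_green_step p hpR σ hσ Φ hΦ ⟨⟨j, hle hjfix⟩, hjfix⟩ hj' _ ha
  have hκfix := (hfix_sup P₁ κ.1).1 κ.2
  have hκj0 : (κ : MonoidAlgebra R G) * j = κ := congrArg Subtype.val hκj
  have hjκ0 : j * (κ : MonoidAlgebra R G) = κ := congrArg Subtype.val hjκ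
  have hκtr0 : bp_tr P₁ P (κ : MonoidAlgebra R G) = j := by
    rw [← hsum κ, hκtr]
  have hκorth0 : ∀ d, 0 < d → d < p →
      (κ : MonoidAlgebra R G) * bp_conj (x ^ d) (κ : MonoidAlgebra R G) = 0 := by
    intro d hd hdp
    have := congrArg Subtype.val (hκorth d hd hdp)
    rw [← bp_conjRestrict_iterate _ x h1 h2 d κ]
    exact this
  have hκPF : bp_IsPrimFix (P₁ ⊔ C) (κ : MonoidAlgebra R G) :=
    (bp_isPrimFix_iff (P₁ ⊔ C) κ.1).2 ⟨κ.2, hκprim⟩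
  have hP₁C : ∀ y ∈ P₁, ∀ c ∈ C, y * c = c * y := fun y hy c hc => hPC y (hP₁P hy) c hc
  obtain ⟨Q, i, hQP₁', hi, hiκ, hκi, hbr, htr, horth⟩ :=
    ih (Nat.card P₁) (by rw [← hn]; exact hcard) P₁ (hP.to_le hP₁P) hP₁C κ.1 hκPF rfl
  have hifix := (hfix_sup Q i).1 hi.1
  refine ⟨Q, i, hQP₁'.trans hP₁P, hi, ?_, ?_, hbr, ?_, ?_⟩
  · rw [← hiκ, mul_assoc, hκj0]
  · rw [← hκi, ← mul_assoc, hjκ0]
  · rw [← bp_tr_trans hQP₁' hP₁P hifix.1, htr, hκtr0]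
  · intro z hz hzQ
    by_cases hzP₁ : z ∈ P₁
    · exact horth z hzP₁ hzQ
    · obtain ⟨d, hdp, hdz, hdu⟩ := huniq z hz
      have hd0 : 0 < d := by
        rcases Nat.eq_zero_or_pos d with h0 | h0
        · exfalso
          apply hzP₁
          rw [h0] at hdz
          simpa using hdz
        · exact h0
      set y := (x ^ d)⁻¹ * z with hy
      have hzy : z = x ^ d * y := by rw [hy]; group
      have hyκ : bp_conj y i = (κ : MonoidAlgebra R G) * bp_conj y i := by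
        conv_lhs => rw [← hκi]
        rw [map_mul, hκfix.1 y hdz]
      rw [hzy, bp_conj_mul, hyκ, map_mul, ← hiκ, mul_assoc, ← mul_assoc (κ : MonoidAlgebra R G),
        hκorth0 d hd0 hdp, zero_mul, mul_zero]

/-- **L5** (sources): a primitive idempotent `j` of `(RG)^(P ⊔ C)` is the relative trace of a
local primitive idempotent `i` of `(RG)^(Q ⊔ C)` whose `P`-conjugates are pairwise orthogonal. -/
theorem bp_exists_source (hpR : (p : R) ∈ IsLocalRing.maximalIdeal R) (C : Subgroup G)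
    (hC : (Nat.card C).Coprime p) (P : Subgroup G) (hP : IsPGroup p P)
    (hCP : C ≤ Subgroup.centralizer (P : Set G))
    (j : MonoidAlgebra R G) (hj : bp_IsPrimFix (P ⊔ C) j) :
    ∃ (Q : Subgroup G) (i : MonoidAlgebra R G), Q ≤ P ∧ bp_IsPrimFix (Q ⊔ C) i ∧ i * j = i ∧
      j * i = i ∧ bp_brFun Q i ≠ 0 ∧ bp_tr Q P i = j ∧ ∀ x ∈ P, x ∉ Q → i * bp_conj x i = 0 := by
  have hPC : ∀ x ∈ P, ∀ c ∈ C, x * c = c * x := by
    intro x hx c hc
    exact (Subgroup.mem_centralizer_iff.1 (hCP hc)) x hx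
  refine bp_exists_source_aux hpR C ?_ P hP hPC j hj
  intro P' hP' hP'C j' hj' hno
  have hCP' : C ≤ Subgroup.centralizer (P' : Set G) := by
    intro c hc
    rw [Subgroup.mem_centralizer_iff]
    intro x hx
    exact hP'C x hx c hc
  refine bp_defect_local hpR hP' hC hCP' le_rfl j' hj' ?_ ?_
  · refine ⟨j', hj'.1, bp_tr_self P' ?_⟩
    have := hj'.1
    rw [bp_fix_sup, Algebra.mem_inf] at this
    exact this.1
  · intro Q' hQ' hex
    exact hno Q' hQ' hex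

end source

end Cfsg.Agent.BP
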