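import Mathlib

/-!
# BP §9: counting with the dual group

Pure group theory (Mathlib only).

* `bp_dualSub N` : the subgroup of the linear characters `D →* ℂˣ` which are trivial on `N`;
* `bp_card_dualSub` : `|bp_dualSub N| = |D : N|` if `N` contains the commutator subgroup;
* `bp_relIndex_dualSub` : `|bp_dualSub N : bp_dualSub (N ⊔ Z)| = |Z : Z ∩ N|`;
* `bp_index_dvd_card_of_stabilizer_le` : if all stabilizers of an action of `Γ` on `X` lie in `Γ₀`,
  then `|Γ : Γ₀|` divides `|X|`.
-/

set_option autoImplicit false
set_option linter.style.haveILetI false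

namespace Cfsg.Agent.BP

open scoped commutatorElement

variable {D : Type*} [Group D]

/-- the subgroup of the linear characters of `D` which are trivial on `N` -/
noncomputable def bp_dualSub (N : Subgroup D) : Subgroup (D →* ℂˣ) :=
  (MonoidHom.domRestrictHom N ℂˣ).ker

theorem bp_mem_dualSub (N : Subgroup D) (lam : D →* ℂˣ) :
    lam ∈ bp_dualSub N ↔ ∀ w ∈ N, lam w = 1 := by
  unfold bp_dualSub
  rw [MonoidHom.mem_ker, MonoidHom.domRestrictHom_apply, MonoidHom.domRestrict_eq_one_iff]

theorem bp_dualSub_anti {N N' : Subgroup D} (h : N ≤ N') : bp_dualSub N' ≤ bp_dualSub N := by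
  intro lam hlam
  rw [bp_mem_dualSub] at hlam ⊢
  exact fun w hw => hlam w (h hw)

/-- a subgroup containing the commutator subgroup is normal -/
theorem bp_normal_of_commutator_le (N : Subgroup D) (h : commutator D ≤ N) : N.Normal := by
  constructor
  intro n hn g
  have h1 : ⁅g, n⁆ ∈ commutator D := by
    rw [commutator_def]
    exact Subgroup.commutator_mem_commutator (Subgroup.mem_top g) (Subgroup.mem_top n)
  have h2 : g * n * g⁻¹ = ⁅g, n⁆ * n := by
    rw [commutatorElement_def]
    group
  rw [h2]
  exact N.mul_mem (h h1) hn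

/-- the quotient by a normal subgroup containing the commutator subgroup is commutative -/
@[reducible] def bp_quotCommGroup (N : Subgroup D) [N.Normal] (h : commutator D ≤ N) :
    CommGroup (D ⧸ N) :=
  { (inferInstance : Group (D ⧸ N)) with
    mul_comm := by
      intro a b
      induction a using QuotientGroup.induction_on with
      | H a =>
        induction b using QuotientGroup.induction_on with
        | H b =>
          rw [← QuotientGroup.mk_mul, ← QuotientGroup.mk_mul, QuotientGroup.eq]
          have h1 : ⁅b⁻¹, a⁻¹⁆ ∈ commutator D := by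
            rw [commutator_def]
            exact Subgroup.commutator_mem_commutator (Subgroup.mem_top _) (Subgroup.mem_top _)
          have h2 : (a * b)⁻¹ * (b * a) = ⁅b⁻¹, a⁻¹⁆ := by
            rw [commutatorElement_def]
            group
          rw [h2]
          exact h h1 }

/-- **the order of the dual of `D / N`** -/
theorem bp_card_dualSub [Finite D] (N : Subgroup D) (h : commutator D ≤ N) :
    Nat.card (bp_dualSub N) = N.index := by
  haveI : N.Normal := bp_normal_of_commutator_le N h
  letI : CommGroup (D ⧸ N) := bp_quotCommGroup N h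
  haveI : NeZero (Monoid.exponent (D ⧸ N)) := ⟨Monoid.exponent_ne_zero_of_finite⟩
  unfold bp_dualSub
  rw [Nat.card_congr (MonoidHom.domRestrictHomKerEquiv ℂˣ N).toEquiv]
  have h1 := CommGroup.card_monoidHom_of_hasEnoughRootsOfUnity (D ⧸ N) ℂ
  rw [Subgroup.index]
  exact h1

theorem bp_commutator_le_sup (N Z : Subgroup D) (h : commutator D ≤ N) :
    commutator D ≤ N ⊔ Z := h.trans le_sup_left

/-- **the index of the characters trivial on `N ⊔ Z` in the characters trivial on `N`** -/
theorem bp_relIndex_dualSub [Finite D] (N Z : Subgroup D) (h : commutator D ≤ N) :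
    (bp_dualSub (N ⊔ Z)).relIndex (bp_dualSub N) = N.relIndex Z := by
  haveI : N.Normal := bp_normal_of_commutator_le N h
  have hle : bp_dualSub (N ⊔ Z) ≤ bp_dualSub N := bp_dualSub_anti le_sup_left
  have h1 : (bp_dualSub (N ⊔ Z)).relIndex (bp_dualSub N) * Nat.card (bp_dualSub (N ⊔ Z)) =
      Nat.card (bp_dualSub N) := by
    rw [Subgroup.relIndex, ← Nat.card_congr (Subgroup.subgroupOfEquivOfLe hle).toEquiv]
    exact Subgroup.index_mul_card _
  rw [bp_card_dualSub N h, bp_card_dualSub (N ⊔ Z) (bp_commutator_le_sup N Z h)] at h1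
  have h2 : N.relIndex (N ⊔ Z) * (N ⊔ Z).index = N.index := Subgroup.relIndex_mul_index le_sup_left
  rw [Subgroup.relIndex_sup_left] at h2
  have hpos : 0 < (N ⊔ Z).index := Nat.pos_of_ne_zero Subgroup.index_ne_zero_of_finite
  exact Nat.eq_of_mul_eq_mul_right hpos (h1.trans h2.symm)

/-- **orbit counting**: if all point stabilizers are contained in `Γ₀`, then `|Γ : Γ₀|` divides the
number of points -/
theorem bp_index_dvd_card_of_stabilizer_le {Γ : Type*} [Group Γ] [Finite Γ] {X : Type*} [Finite X]
    [MulAction Γ X] (Γ₀ : Subgroup Γ) (h : ∀ x : X, MulAction.stabilizer Γ x ≤ Γ₀) :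
    Γ₀.index ∣ Nat.card X := by
  classical
  haveI : Fintype (MulAction.orbitRel.Quotient Γ X) := Fintype.ofFinite _
  rw [Nat.card_congr (MulAction.selfEquivSigmaOrbitsQuotientStabilizer Γ X), Nat.card_sigma]
  apply Finset.dvd_sum
  intro ω _
  exact Subgroup.index_dvd_of_le (h _)

/-- the same for a subgroup `Λ` of an ambient group acting on `X`, the stabilizers lying in a
subgroup `Λ₀` of the ambient group -/
theorem bp_relIndex_dvd_card {Γ : Type*} [Group Γ] (Λ Λ₀ : Subgroup Γ) [Finite Λ] {X : Type*}
    [Finite X]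
    [MulAction Λ X] (h : ∀ (x : X) (l : Λ), l • x = x → (l : Γ) ∈ Λ₀) :
    Λ₀.relIndex Λ ∣ Nat.card X := by
  apply bp_index_dvd_card_of_stabilizer_le (Λ₀.subgroupOf Λ)
  intro x l hl
  rw [Subgroup.mem_subgroupOf]
  exact h x l (MulAction.mem_stabilizer_iff.mp hl)

end Cfsg.Agent.BP
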