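import Mathlib
import Cfsg.Prelude.Def_Characters
import Cfsg.Prelude.Def_Blocks
import Cfsg.Prelude.Def_BlockRank
import Cfsg.Prelude.Def_BrauerPairs
import Cfsg.Prelude.Def_FusionSystem
import Cfsg.Prelude.Def_BlockFusion
import Cfsg.Agent.BP.StarStab
import Cfsg.Agent.BP.StarCount

/-!
# BP §9: the action of the dual of `D / foc(F)` on `Irr(B)`; S4684 and S4685 modulo (BP)

`bp_BPHyp p M B D e F` is the hypothesis (BP) in the weak form needed here: for every linear
character `λ` of `D` trivial on the focal subgroup and every `χ ∈ Irr(B)`, the class function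
`λ * χ` is a generalized character.

* `bp_height_zero_count` (= S4684 modulo (BP)),
* `bp_height_count` (= S4685 modulo (BP)).
-/

set_option autoImplicit false
set_option linter.style.haveILetI false

namespace Cfsg.Agent.BP

open Cfsg.Agent.Helper6 Cfsg.Agent.Helper6.Maj Cfsg.Agent.Helper6.HtCen

open scoped ComplexConjugate commutatorElement

universe u

variable {G : Type u} [Group G] {M : Ideal Cfsg.AlgInt}

/-- the hypothesis (BP), in the form needed for S4684 and S4685 -/
def bp_BPHyp (p : ℕ) [Fact p.Prime] (M : Ideal Cfsg.AlgInt) [Finite G]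
    (B : Set (Cfsg.IrrCharacter G)) (D : Subgroup G)
    (e : Set (Cfsg.IrrCharacter (Subgroup.centralizer (D : Set G)))) (F : Cfsg.FusionSystem D) :
    Prop :=
  ∀ lam : D →* ℂˣ, (∀ w : D, (w : G) ∈ F.focalSubgroup → lam w = 1) →
    ∀ χ : Cfsg.IrrCharacter G, χ ∈ B →
      Cfsg.IsGeneralizedCharacter G
        (bp_star p M D e (fun w => ((lam w : ℂˣ) : ℂ)) (χ : G → ℂ))

/-- the commutator subgroup of `D` lies in the focal subgroup -/
theorem bp_commutator_le_focal (D : Subgroup G) (F : Cfsg.FusionSystem D) :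
    commutator D ≤ F.focalSubgroup.subgroupOf D := by
  rw [commutator_def, Subgroup.commutator_le]
  intro a _ b _
  rw [Subgroup.mem_subgroupOf]
  apply Subgroup.subset_closure
  refine ⟨D, Cfsg.conjHom D (b : G), a⁻¹, F.conj_mem le_rfl b.2, ?_⟩
  rw [commutatorElement_def]
  unfold Cfsg.conjHom
  simp only [Subgroup.coe_mul, Subgroup.coe_inv, MonoidHom.coe_comp, Subgroup.coe_subtype,
    Function.comp_apply, MulEquiv.coe_toMonoidHom, MulAut.conj_apply, inv_inv]
  group

theorem bp_mem_dualSub_focal (D : Subgroup G) (F : Cfsg.FusionSystem D) (lam : D →* ℂˣ) :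
    lam ∈ bp_dualSub (F.focalSubgroup.subgroupOf D) ↔
      ∀ w : D, (w : G) ∈ F.focalSubgroup → lam w = 1 := by
  rw [bp_mem_dualSub]
  constructor
  · intro h w hw
    exact h w (Subgroup.mem_subgroupOf.mpr hw)
  · intro h w hw
    exact h w (Subgroup.mem_subgroupOf.mp hw)

/-- `λ * χ` is irreducible, lies in `B` and has the height of `χ` -/
theorem bp_star_mem [Fintype G] {p : ℕ} [hp : Fact p.Prime]
    (hM : Cfsg.IsPModular p M) (B : Set (Cfsg.IrrCharacter G)) (D : Subgroup G)
    (e : Set (Cfsg.IrrCharacter (Subgroup.centralizer (D : Set G))))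
    (hmax : Cfsg.IsMaximalBrauerPair p M B D e) (lam : D →* ℂˣ)
    (χ : Cfsg.IrrCharacter G) (hχ : χ ∈ B)
    (hgc : Cfsg.IsGeneralizedCharacter G
      (bp_star p M D e (fun w => ((lam w : ℂˣ) : ℂ)) (χ : G → ℂ))) :
    ∃ hirr : Cfsg.IsIrrCharacter G (bp_star p M D e (fun w => ((lam w : ℂˣ) : ℂ)) (χ : G → ℂ)),
      (⟨_, hirr⟩ : Cfsg.IrrCharacter G) ∈ B ∧
      Cfsg.blockHeight p B (bp_star p M D e (fun w => ((lam w : ℂˣ) : ℂ)) (χ : G → ℂ)) =
        Cfsg.blockHeight p B (χ : G → ℂ) := by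
  obtain ⟨ψ, hψB, hψ⟩ := bp_star_irr hM B D e hmax lam χ hχ hgc
  have hirr : Cfsg.IsIrrCharacter G (bp_star p M D e (fun w => ((lam w : ℂˣ) : ℂ)) (χ : G → ℂ)) :=
    hψ ▸ ψ.2
  refine ⟨hirr, ?_, ?_⟩
  · have : (⟨_, hirr⟩ : Cfsg.IrrCharacter G) = ψ := Subtype.ext hψ.symm
    rw [this]
    exact hψB
  · have h1 : bp_star p M D e (fun w => ((lam w : ℂˣ) : ℂ)) (χ : G → ℂ) 1 = (χ : G → ℂ) 1 := by
      rw [bp_star_apply_regular hM B D e hmax _ χ hχ 1 (by
        rw [orderOf_one]
        exact fun h => hp.out.one_lt.ne' (Nat.dvd_one.mp h))]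
      simp
    unfold Cfsg.blockHeight Cfsg.charDegree
    rw [h1]

/-- the point set: the irreducible characters of height `h` in `B` -/
abbrev bp_HtSet (p : ℕ) (B : Set (Cfsg.IrrCharacter G)) (h : ℕ) : Type u :=
  {χ : Cfsg.IrrCharacter G // χ ∈ B ∧ Cfsg.blockHeight p B (χ : G → ℂ) = h}

/-- **the action** of the dual of `D / foc(F)` on the characters of height `h` of `B` -/
@[reducible] noncomputable def bp_act [Fintype G] {p : ℕ} [hp : Fact p.Prime]
    (hM : Cfsg.IsPModular p M) (B : Set (Cfsg.IrrCharacter G)) (D : Subgroup G)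
    (e : Set (Cfsg.IrrCharacter (Subgroup.centralizer (D : Set G))))
    (hmax : Cfsg.IsMaximalBrauerPair p M B D e) (F : Cfsg.FusionSystem D)
    (hBP : bp_BPHyp p M B D e F) (h : ℕ) :
    MulAction (bp_dualSub (F.focalSubgroup.subgroupOf D)) (bp_HtSet p B h) where
  smul l x :=
    ⟨⟨bp_star p M D e (fun w => (((l : D →* ℂˣ) w : ℂˣ) : ℂ)) ((x : Cfsg.IrrCharacter G) : G → ℂ),
        (bp_star_mem hM B D e hmax l x.1 x.2.1
          (hBP l ((bp_mem_dualSub_focal D F l).mp l.2) x.1 x.2.1)).choose⟩,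
      (bp_star_mem hM B D e hmax l x.1 x.2.1
          (hBP l ((bp_mem_dualSub_focal D F l).mp l.2) x.1 x.2.1)).choose_spec.1,
      (bp_star_mem hM B D e hmax l x.1 x.2.1
          (hBP l ((bp_mem_dualSub_focal D F l).mp l.2) x.1 x.2.1)).choose_spec.2.trans x.2.2⟩
  one_smul x := by
    apply Subtype.ext
    apply Subtype.ext
    show bp_star p M D e (fun w => ((((1 : bp_dualSub (F.focalSubgroup.subgroupOf D)) :
      D →* ℂˣ) w : ℂˣ) : ℂ)) ((x : Cfsg.IrrCharacter G) : G → ℂ) = _
    have h1 : (fun w : D => ((((1 : bp_dualSub (F.focalSubgroup.subgroupOf D)) :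
        D →* ℂˣ) w : ℂˣ) : ℂ)) = fun _ => (1 : ℂ) := by
      funext w
      simp
    rw [h1]
    exact bp_star_one hM B D e hmax x.1 x.2.1
  mul_smul l l' x := by
    apply Subtype.ext
    apply Subtype.ext
    show bp_star p M D e (fun w => ((((l * l' : bp_dualSub (F.focalSubgroup.subgroupOf D)) :
        D →* ℂˣ) w : ℂˣ) : ℂ)) ((x : Cfsg.IrrCharacter G) : G → ℂ) =
      bp_star p M D e (fun w => (((l : D →* ℂˣ) w : ℂˣ) : ℂ))
        (bp_star p M D e (fun w => (((l' : D →* ℂˣ) w : ℂˣ) : ℂ))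
          ((x : Cfsg.IrrCharacter G) : G → ℂ))
    rw [bp_star_star hM D e]
    rfl

theorem bp_act_smul_coe [Fintype G] {p : ℕ} [hp : Fact p.Prime]
    (hM : Cfsg.IsPModular p M) (B : Set (Cfsg.IrrCharacter G)) (D : Subgroup G)
    (e : Set (Cfsg.IrrCharacter (Subgroup.centralizer (D : Set G))))
    (hmax : Cfsg.IsMaximalBrauerPair p M B D e) (F : Cfsg.FusionSystem D)
    (hBP : bp_BPHyp p M B D e F) (h : ℕ)
    (l : bp_dualSub (F.focalSubgroup.subgroupOf D)) (x : bp_HtSet p B h) :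
    ((((bp_act hM B D e hmax F hBP h).smul l x : bp_HtSet p B h) : Cfsg.IrrCharacter G) : G → ℂ) =
      bp_star p M D e (fun w => (((l : D →* ℂˣ) w : ℂˣ) : ℂ))
        ((x : Cfsg.IrrCharacter G) : G → ℂ) := rfl

/-- **S4684 modulo (BP)** -/
theorem bp_height_zero_count [Fintype G] {p : ℕ} [hp : Fact p.Prime]
    (hM : Cfsg.IsPModular p M) (B : Set (Cfsg.IrrCharacter G)) (D : Subgroup G)
    (e : Set (Cfsg.IrrCharacter (Subgroup.centralizer (D : Set G))))
    (hmax : Cfsg.IsMaximalBrauerPair p M B D e) (F : Cfsg.FusionSystem D)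
    (hF : Cfsg.IsBlockFusionSystemOn p M B D e F) (hBP : bp_BPHyp p M B D e F) :
    (F.focalSubgroup.subgroupOf D).index ∣
      Nat.card {χ : Cfsg.IrrCharacter G // χ ∈ B ∧ Cfsg.blockHeight p B (χ : G → ℂ) = 0} := by
  classical
  haveI : Finite (Cfsg.IrrCharacter G) := irr_finite
  letI act := bp_act hM B D e hmax F hBP 0
  have h1 := bp_relIndex_dvd_card (bp_dualSub (F.focalSubgroup.subgroupOf D)) ⊥
    (X := bp_HtSet p B 0) (by
      intro x l hl
      rw [Subgroup.mem_bot]
      have hl' := (bp_mem_dualSub_focal D F l).mp l.2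
      have hst := bp_stable_of_focal (M := M) (p := p) B D e F hF l hl'
      have hfix : bp_star p M D e (fun w => (((l : D →* ℂˣ) w : ℂˣ) : ℂ))
          ((x : Cfsg.IrrCharacter G) : G → ℂ) = ((x : Cfsg.IrrCharacter G) : G → ℂ) := by
        have := congrArg (fun y : bp_HtSet p B 0 => ((y : Cfsg.IrrCharacter G) : G → ℂ)) hl
        exact this
      apply MonoidHom.ext
      intro w
      exact bp_lam_eq_one_of_height_zero hM B D e hmax l hst x.1 x.2.1 x.2.2 hfix w)
  rw [Subgroup.relIndex_bot_left,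
    bp_card_dualSub _ (bp_commutator_le_focal D F)] at h1
  exact h1

/-- **S4685 modulo (BP)** -/
theorem bp_height_count [Fintype G] {p : ℕ} [hp : Fact p.Prime]
    (hM : Cfsg.IsPModular p M) (B : Set (Cfsg.IrrCharacter G)) (D : Subgroup G)
    (e : Set (Cfsg.IrrCharacter (Subgroup.centralizer (D : Set G))))
    (hmax : Cfsg.IsMaximalBrauerPair p M B D e) (F : Cfsg.FusionSystem D)
    (hF : Cfsg.IsBlockFusionSystemOn p M B D e F) (hBP : bp_BPHyp p M B D e F) (h : ℕ) :
    ((D ⊓ Subgroup.centralizer (D : Set G) ⊓ F.focalSubgroup).subgroupOf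
        (D ⊓ Subgroup.centralizer (D : Set G))).index ∣
      Nat.card {χ : Cfsg.IrrCharacter G // χ ∈ B ∧ Cfsg.blockHeight p B (χ : G → ℂ) = h} := by
  classical
  haveI : Finite (Cfsg.IrrCharacter G) := irr_finite
  letI act := bp_act hM B D e hmax F hBP h
  have h1 := bp_relIndex_dvd_card (bp_dualSub (F.focalSubgroup.subgroupOf D))
    (bp_dualSub (F.focalSubgroup.subgroupOf D ⊔
      (D ⊓ Subgroup.centralizer (D : Set G)).subgroupOf D))
    (X := bp_HtSet p B h) (by
      intro x l hl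
      have hl' := (bp_mem_dualSub_focal D F l).mp l.2
      have hst := bp_stable_of_focal (M := M) (p := p) B D e F hF l hl'
      have hfix : bp_star p M D e (fun w => (((l : D →* ℂˣ) w : ℂˣ) : ℂ))
          ((x : Cfsg.IrrCharacter G) : G → ℂ) = ((x : Cfsg.IrrCharacter G) : G → ℂ) := by
        have := congrArg (fun y : bp_HtSet p B h => ((y : Cfsg.IrrCharacter G) : G → ℂ)) hl
        exact this
      rw [bp_mem_dualSub]
      have hNk : F.focalSubgroup.subgroupOf D ≤ (l : D →* ℂˣ).ker := by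
        intro w hw
        rw [MonoidHom.mem_ker]
        exact (bp_mem_dualSub _ l).mp l.2 w hw
      have hZk : (D ⊓ Subgroup.centralizer (D : Set G)).subgroupOf D ≤ (l : D →* ℂˣ).ker := by
        intro w hw
        rw [MonoidHom.mem_ker]
        rw [Subgroup.mem_subgroupOf] at hw
        exact bp_lam_eq_one_of_mem_center hM B D e hmax l hst x.1 x.2.1 hfix (w : G) w.2 hw.2
      intro w hw
      exact MonoidHom.mem_ker.mp ((sup_le hNk hZk) hw))
  rw [bp_relIndex_dualSub _ _ (bp_commutator_le_focal D F),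
    Subgroup.relIndex_subgroupOf inf_le_left] at h1
  rw [← Subgroup.relIndex, Subgroup.inf_relIndex_left]
  exact h1

end Cfsg.Agent.BP
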