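import Mathlib

/-!
# BP / Watanabe (S4644), part A: coprime action and the choice of a linear character

`D` a finite abelian `p`-group, `E` a `p'`-group of automorphisms of `D`, `Z₀` a subgroup of
`E`-fixed points, `u` an `E`-fixed point outside `Z₀`: there is an `E`-invariant linear character
of `D`, trivial on `Z₀`, with `λ(u) ≠ 1`.
-/

set_option autoImplicit false

namespace Cfsg.Agent.BP

section coprime

variable {D : Type*} [CommGroup D] [Finite D]

/-- the norm map of a finite group of automorphisms of an abelian group -/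
noncomputable def bp_wat_norm (E : Subgroup (MulAut D)) : D →* D :=
  haveI := Fintype.ofFinite E
  ∏ t : E, ((t : MulAut D) : D ≃* D).toMonoidHom

theorem bp_wat_norm_apply (E : Subgroup (MulAut D)) [Fintype E] (x : D) :
    bp_wat_norm E x = ∏ t : E, (t : MulAut D) x := by
  unfold bp_wat_norm
  rw [MonoidHom.finset_prod_apply]
  have : ∀ (i1 i2 : Fintype E), (@Finset.univ E i1) = (@Finset.univ E i2) := by
    intro i1 i2
    ext t
    simp
  rw [this (Fintype.ofFinite E) ‹Fintype E›]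
  rfl

theorem bp_wat_norm_fixed (E : Subgroup (MulAut D)) (x : D) (hx : ∀ t ∈ E, t x = x) :
    bp_wat_norm E x = x ^ Nat.card E := by
  haveI := Fintype.ofFinite E
  rw [bp_wat_norm_apply, Finset.prod_congr rfl (fun (t : ↥E) _ => hx (t : MulAut D) t.2), Finset.prod_const,
    Finset.card_univ, Nat.card_eq_fintype_card]

theorem bp_wat_norm_smul (E : Subgroup (MulAut D)) (s : MulAut D) (hs : s ∈ E) (x : D) :
    bp_wat_norm E (s x) = bp_wat_norm E x := by
  haveI := Fintype.ofFinite E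
  rw [bp_wat_norm_apply, bp_wat_norm_apply]
  refine Fintype.prod_equiv (Equiv.mulRight (⟨s, hs⟩ : E)) _ _ (fun t => ?_)
  rfl

/-- the commutator subgroup `[D, E]` -/
def bp_wat_comm (E : Subgroup (MulAut D)) : Subgroup D :=
  Subgroup.closure {y | ∃ t ∈ E, ∃ x : D, y = t x * x⁻¹}

theorem bp_wat_norm_comm (E : Subgroup (MulAut D)) (w : D) (hw : w ∈ bp_wat_comm E) :
    bp_wat_norm E w = 1 := by
  have hle : bp_wat_comm E ≤ (bp_wat_norm E).ker := by
    unfold bp_wat_comm
    rw [Subgroup.closure_le]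
    rintro y ⟨t, ht, x, rfl⟩
    rw [SetLike.mem_coe, MonoidHom.mem_ker, map_mul, map_inv, bp_wat_norm_smul E t ht,
      mul_inv_cancel]
  exact MonoidHom.mem_ker.mp (hle hw)

/-- coprime action: a fixed point in `[D, E]` is trivial -/
theorem bp_wat_fixed_comm_eq_one (p : ℕ) [hp : Fact p.Prime] (hD : IsPGroup p D)
    (E : Subgroup (MulAut D)) (hE : (Nat.card E).Coprime p) (w : D)
    (hw : w ∈ bp_wat_comm E) (hfix : ∀ t ∈ E, t w = w) : w = 1 := by
  have h1 : w ^ Nat.card E = 1 := by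
    rw [← bp_wat_norm_fixed E w hfix]
    exact bp_wat_norm_comm E w hw
  obtain ⟨k, hk⟩ := hD w
  have h2 : orderOf w ∣ Nat.card E := orderOf_dvd_of_pow_eq_one h1
  have h3 : orderOf w ∣ p ^ k := orderOf_dvd_of_pow_eq_one hk
  have h4 : Nat.Coprime (Nat.card E) (p ^ k) := Nat.Coprime.pow_right k hE
  exact orderOf_eq_one_iff.mp (Nat.eq_one_of_dvd_coprimes h4 h2 h3)

/-- **choice of the linear character** -/
theorem bp_wat_exists_char (p : ℕ) [hp : Fact p.Prime] (hD : IsPGroup p D)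
    (E : Subgroup (MulAut D)) (hE : (Nat.card E).Coprime p) (Z₀ : Subgroup D)
    (hZ₀ : ∀ z ∈ Z₀, ∀ t ∈ E, t z = z) (u : D) (hu : ∀ t ∈ E, t u = u) (huZ : u ∉ Z₀) :
    ∃ lam : D →* ℂˣ, (∀ t ∈ E, ∀ w, lam (t w) = lam w) ∧ (∀ z ∈ Z₀, lam z = 1) ∧ lam u ≠ 1 := by
  set N : Subgroup D := Z₀ ⊔ bp_wat_comm E with hN
  have huN : u ∉ N := by
    intro h
    rw [hN, Subgroup.mem_sup] at h
    obtain ⟨z, hz, w, hw, hzw⟩ := h
    have hwfix : ∀ t ∈ E, t w = w := by
      intro t ht
      have hw' : w = z⁻¹ * u := by rw [← hzw, inv_mul_cancel_left]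
      rw [hw', map_mul, map_inv, hZ₀ z hz t ht, hu t ht]
    have hw1 := bp_wat_fixed_comm_eq_one p hD E hE w hw hwfix
    apply huZ
    rw [← hzw, hw1, mul_one]
    exact hz
  haveI : NeZero (Monoid.exponent (D ⧸ N)) := ⟨Monoid.exponent_ne_zero_of_finite⟩
  have hne : (QuotientGroup.mk' N u) ≠ 1 := by
    intro h
    exact huN ((QuotientGroup.eq_one_iff u).mp h)
  obtain ⟨φ, hφ⟩ := CommGroup.exists_apply_ne_one_of_hasEnoughRootsOfUnity (D ⧸ N) ℂ hne
  refine ⟨φ.comp (QuotientGroup.mk' N), ?_, ?_, hφ⟩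
  · intro t ht w
    have h1 : t w * w⁻¹ ∈ N :=
      Subgroup.mem_sup_right (Subgroup.subset_closure ⟨t, ht, w, rfl⟩)
    have h2 : QuotientGroup.mk' N (t w) = QuotientGroup.mk' N w := by
      rw [← mul_inv_eq_one, ← map_inv, ← map_mul]
      exact (QuotientGroup.eq_one_iff _).mpr h1
    rw [MonoidHom.comp_apply, MonoidHom.comp_apply, h2]
  · intro z hz
    rw [MonoidHom.comp_apply]
    have : QuotientGroup.mk' N z = 1 := (QuotientGroup.eq_one_iff z).mpr (Subgroup.mem_sup_left hz)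
    rw [this, map_one]

end coprime

end Cfsg.Agent.BP
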