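import Cfsg.Agent.BP.WatA

/-!
# Watanabe's theorem, piece (c'): `bp_wat_exists_char` for subgroups `P`, `T` of a group

`P` abelian `p`-subgroup, `T ≤ N_G(P)` with `|T : C_T(P)|` prime to `p`, `Z₀ ≤ P` centralized
by `T`, `u ∈ P` centralized by `T`, `u ∉ Z₀`: there is a `T`-invariant linear character of `P`
which is trivial on `Z₀` and not trivial at `u`.
-/

namespace Cfsg.Agent.BP

open Subgroup

variable {G : Type*} [Group G]

/-- The action map `T → Aut P` for `T ≤ N_G(P)`. -/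
noncomputable def bp_wat_kappa (P T : Subgroup G) (hTN : T ≤ normalizer (P : Set G)) :
    ↥T →* MulAut ↥P :=
  P.normalizerMonoidHom.comp (Subgroup.inclusion hTN)

theorem bp_wat_kappa_apply (P T : Subgroup G) (hTN : T ≤ normalizer (P : Set G)) (t : ↥T)
    (w : ↥P) : ((bp_wat_kappa P T hTN t) w : G) = t * w * (t : G)⁻¹ := rfl

theorem bp_wat_kappa_ker (P T : Subgroup G) (hTN : T ≤ normalizer (P : Set G)) :
    (bp_wat_kappa P T hTN).ker = (centralizer (P : Set G)).subgroupOf T := by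
  ext t
  rw [MonoidHom.mem_ker, mem_subgroupOf, mem_centralizer_iff]
  constructor
  · intro h w hw
    have h1 := congrArg (fun f : MulAut ↥P => ((f ⟨w, hw⟩ : ↥P) : G)) h
    simp only [bp_wat_kappa_apply, MulAut.one_apply] at h1
    exact (mul_inv_eq_iff_eq_mul.mp h1).symm
  · intro h
    ext w
    rw [bp_wat_kappa_apply, MulAut.one_apply, ← h w w.2, mul_inv_cancel_right]

theorem bp_wat_card_range (P T : Subgroup G) (hTN : T ≤ normalizer (P : Set G)) :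
    Nat.card (bp_wat_kappa P T hTN).range = (centralizer (P : Set G)).relIndex T := by
  rw [← Subgroup.index_ker, bp_wat_kappa_ker]
  rfl

theorem bp_wat_exists_char_subgroup [Finite G] (p : ℕ) [hp : Fact p.Prime] (P T : Subgroup G)
    (hP : IsPGroup p P) (hPab : ∀ x ∈ P, ∀ y ∈ P, x * y = y * x)
    (hTN : T ≤ normalizer (P : Set G))
    (hcop : ((centralizer (P : Set G)).relIndex T).Coprime p)
    (Z₀ : Subgroup G) (hZ₀P : Z₀ ≤ P) (hZ₀ : ∀ z ∈ Z₀, ∀ t ∈ T, t * z * t⁻¹ = z)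
    (u : G) (huP : u ∈ P) (hu : ∀ t ∈ T, t * u * t⁻¹ = u) (huZ : u ∉ Z₀) :
    ∃ lam : ↥P →* ℂˣ,
      (∀ t ∈ T, ∀ w (hw : w ∈ P) (hw' : t * w * t⁻¹ ∈ P), lam ⟨t * w * t⁻¹, hw'⟩ = lam ⟨w, hw⟩) ∧
      (∀ z (hz : z ∈ Z₀), lam ⟨z, hZ₀P hz⟩ = 1) ∧ lam ⟨u, huP⟩ ≠ 1 := by
  let _ : CommGroup ↥P :=
    { (inferInstance : Group ↥P) with
      mul_comm := fun a b => Subtype.ext (hPab a a.2 b b.2) }
  obtain ⟨lam, h1, h2, h3⟩ := bp_wat_exists_char (D := ↥P) p hP (bp_wat_kappa P T hTN).range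
    (by rw [bp_wat_card_range]; exact hcop) (Z₀.subgroupOf P)
    (by
      rintro z hz _ ⟨t, rfl⟩
      ext
      rw [bp_wat_kappa_apply]
      exact hZ₀ z (mem_subgroupOf.mp hz) t t.2)
    ⟨u, huP⟩
    (by
      rintro _ ⟨t, rfl⟩
      ext
      rw [bp_wat_kappa_apply]
      exact hu t t.2)
    (by
      intro h
      exact huZ (mem_subgroupOf.mp h))
  refine ⟨lam, ?_, ?_, h3⟩
  · intro t ht w hw hw'
    have := h1 (bp_wat_kappa P T hTN ⟨t, ht⟩) ⟨⟨t, ht⟩, rfl⟩ ⟨w, hw⟩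
    rw [← this]
    rfl
  · intro z hz
    exact h2 ⟨z, hZ₀P hz⟩ (mem_subgroupOf.mpr hz)

end Cfsg.Agent.BP
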