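import Mathlib
import Cfsg.Prelude.Def_Characters
import Cfsg.Prelude.Def_Blocks
import Cfsg.Prelude.Def_BlockRank
import Cfsg.Prelude.Def_BlockLocal
import Cfsg.Prelude.Def_BrauerPairs
import Cfsg.Agent.Helper6.IndFun
import Cfsg.Agent.Helper6.HtCenC
import Cfsg.Agent.Helper6.PrincipalPairs
import Cfsg.Agent.BP.StarAct
import Cfsg.Agent.BP.BPGlue
import Cfsg.Agent.BP.BPMain

/-!
# Watanabe's theorem (S4644), piece (a1): the dual of `P / [P, T]` acts freely on `Irr(B)`

`P` an abelian defect group, `(P, e)` a maximal Brauer pair of `B`, `T = N_G(P, e)`.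

* `bp_wat_inv P e η` : the function `η` on `P` is invariant under `T`;
* `bp_wat_stable` : a `T`-invariant function on `P` is `bp_stable` (fusion of subpairs of `(P, e)`
  is controlled by `T`, helper6's `exists_mul_of_conj_central`);
* `bp_wat_star_mem` : for a `T`-invariant linear character `λ` and `χ ∈ Irr(B)`, `λ * χ` is an
  irreducible character in `B` (from (BP) = `bp_main` and (C5) = `bp_star_irr`);
* `bp_wat_free` : `λ * χ = χ` forces `λ = 1` (helper9's `bp_lam_eq_one_of_mem_center`, `Z(P) = P`).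
-/

set_option autoImplicit false
set_option linter.style.haveILetI false

namespace Cfsg.Agent.BP

open Cfsg.Agent.Helper6 Cfsg.Agent.Helper6.HtCen

universe u

variable {G : Type u} [Group G] {M : Ideal Cfsg.AlgInt}

/-- invariance of a function on `P` under the stabilizer `T = N_G(P, e)` of the pair `(P, e)` -/
def bp_wat_inv (P : Subgroup G)
    (e : Set (Cfsg.IrrCharacter (Subgroup.centralizer (P : Set G)))) (η : P → ℂ) : Prop :=
  ∀ t : G, t ∈ Subgroup.normalizer (P : Set G) →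
    Cfsg.StabilizesBlock (Subgroup.centralizer (P : Set G)) e t →
    ∀ w w' : P, (w' : G) = t * (w : G) * t⁻¹ → η w' = η w

/-- the second component of a pair below `(P, e)` is a block -/
theorem bp_wat_isPBlock_of_le {p : ℕ} (a : Cfsg.BrauerPairIdx G) (P : Subgroup G)
    (e : Set (Cfsg.IrrCharacter (Subgroup.centralizer (P : Set G)))) (he : Cfsg.IsPBlock M e)
    (h : Relation.ReflTransGen (Cfsg.NormalSubpairRel p M) a ⟨P, e⟩) : Cfsg.IsPBlock M a.2 := by
  rcases Relation.ReflTransGen.cases_head h with h0 | ⟨b, hab, -⟩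
  · subst h0
    exact he
  · exact hab.1.2

/-- **`T`-invariant functions are stable** (`P` abelian): fusion of subpairs of `(P, e)` is
controlled by `T = N_G(P, e)` -/
theorem bp_wat_stable [Fintype G] {p : ℕ} [hp : Fact p.Prime]
    (hM : Cfsg.IsPModular p M) (B : Set (Cfsg.IrrCharacter G)) (P : Subgroup G)
    (e : Set (Cfsg.IrrCharacter (Subgroup.centralizer (P : Set G))))
    (hmax : Cfsg.IsMaximalBrauerPair p M B P e)
    (hPab : P ≤ Subgroup.centralizer (P : Set G)) (η : P → ℂ) (hη : bp_wat_inv P e η) :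
    bp_stable p M P e η := by
  intro a x hle₀ hle w hw
  obtain ⟨Q₀, f₀⟩ := a
  have hQP : Q₀ ≤ P := SubpairLE.le' (M := M) (p := p) ⟨Q₀, f₀⟩ ⟨P, e⟩ hle₀
  have hQxP : Q₀.map (MulAut.conj x).toMonoidHom ≤ P :=
    SubpairLE.le' (M := M) (p := p) (conjPair x ⟨Q₀, f₀⟩) ⟨P, e⟩ hle
  have hf₀ : Cfsg.IsPBlock M f₀ :=
    bp_wat_isPBlock_of_le (M := M) (p := p) ⟨Q₀, f₀⟩ P e hmax.1.1.2 hle₀
  have hPQ₀ : P ≤ Subgroup.centralizer (Q₀ : Set G) :=
    hPab.trans (Subgroup.centralizer_le hQP)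
  have hPH : P ≤ Subgroup.centralizer
      ((Q₀.map (MulAut.conj x).toMonoidHom : Subgroup G) : Set G) :=
    hPab.trans (Subgroup.centralizer_le hQxP)
  obtain ⟨c, hc, hcxN, hcxS⟩ :=
    exists_mul_of_conj_central hM B P e hmax Q₀ f₀ hf₀ hle₀ hPQ₀ x hle hPH
  have hwP : w ∈ P := hQP hw
  have hxw : x * w * x⁻¹ ∈ Q₀.map (MulAut.conj x).toMonoidHom := ⟨w, hw, rfl⟩
  have hxwP : x * w * x⁻¹ ∈ P := hQxP hxw
  have hcomm : c * (x * w * x⁻¹) = (x * w * x⁻¹) * c :=
    (Subgroup.mem_centralizer_iff.mp hc (x * w * x⁻¹) hxw).symm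
  have hconj : x * w * x⁻¹ = (c * x) * w * (c * x)⁻¹ := by
    have h1 : (c * x) * w * (c * x)⁻¹ = c * (x * w * x⁻¹) * c⁻¹ := by group
    rw [h1, hcomm]
    group
  rw [extendByZero_mem P η hxwP, extendByZero_mem P η hwP]
  exact hη (c * x) hcxN hcxS ⟨w, hwP⟩ ⟨x * w * x⁻¹, hxwP⟩ hconj

/-- `T`-invariance of a linear character, in terms of the complex-valued function -/
theorem bp_wat_stable_lam [Fintype G] {p : ℕ} [hp : Fact p.Prime]
    (hM : Cfsg.IsPModular p M) (B : Set (Cfsg.IrrCharacter G)) (P : Subgroup G)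
    (e : Set (Cfsg.IrrCharacter (Subgroup.centralizer (P : Set G))))
    (hmax : Cfsg.IsMaximalBrauerPair p M B P e)
    (hPab : P ≤ Subgroup.centralizer (P : Set G)) (lam : P →* ℂˣ)
    (hlam : bp_wat_inv P e (fun w => ((lam w : ℂˣ) : ℂ))) :
    bp_stable p M P e (fun w => ((lam w : ℂˣ) : ℂ)) :=
  bp_wat_stable hM B P e hmax hPab _ hlam

/-- **the action**: for a `T`-invariant linear character `λ` of the abelian defect group `P` and
`χ ∈ Irr(B)`, `λ * χ` is an irreducible character in `B` of the same height -/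
theorem bp_wat_star_mem [Fintype G] {p : ℕ} [hp : Fact p.Prime]
    (hM : Cfsg.IsPModular p M) (B : Set (Cfsg.IrrCharacter G)) (P : Subgroup G)
    (e : Set (Cfsg.IrrCharacter (Subgroup.centralizer (P : Set G))))
    (hmax : Cfsg.IsMaximalBrauerPair p M B P e)
    (hPab : P ≤ Subgroup.centralizer (P : Set G)) (lam : P →* ℂˣ)
    (hlam : bp_wat_inv P e (fun w => ((lam w : ℂˣ) : ℂ)))
    (χ : Cfsg.IrrCharacter G) (hχ : χ ∈ B) :
    ∃ ψ : Cfsg.IrrCharacter G, ψ ∈ B ∧
      (ψ : G → ℂ) = bp_star p M P e (fun w => ((lam w : ℂˣ) : ℂ)) (χ : G → ℂ) ∧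
      Cfsg.blockHeight p B (ψ : G → ℂ) = Cfsg.blockHeight p B (χ : G → ℂ) := by
  have hst := bp_wat_stable_lam hM B P e hmax hPab lam hlam
  have hgc : Cfsg.IsGeneralizedCharacter G
      (bp_star p M P e (fun w => ((lam w : ℂˣ) : ℂ)) (χ : G → ℂ)) :=
    bp_main hM B P e hmax _ (bp_linear_isGeneralizedCharacter lam) hst (χ : G → ℂ)
      (IsIrrCharacter.isCharacter χ.2)
  obtain ⟨hirr, hmem, hht⟩ := bp_star_mem hM B P e hmax lam χ hχ hgc
  exact ⟨⟨_, hirr⟩, hmem, rfl, hht⟩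

/-- **freeness**: a `T`-invariant linear character of the abelian defect group `P` fixing some
`χ ∈ Irr(B)` is trivial -/
theorem bp_wat_free [Fintype G] {p : ℕ} [hp : Fact p.Prime]
    (hM : Cfsg.IsPModular p M) (B : Set (Cfsg.IrrCharacter G)) (P : Subgroup G)
    (e : Set (Cfsg.IrrCharacter (Subgroup.centralizer (P : Set G))))
    (hmax : Cfsg.IsMaximalBrauerPair p M B P e)
    (hPab : P ≤ Subgroup.centralizer (P : Set G)) (lam : P →* ℂˣ)
    (hlam : bp_wat_inv P e (fun w => ((lam w : ℂˣ) : ℂ)))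
    (χ : Cfsg.IrrCharacter G) (hχ : χ ∈ B)
    (hfix : bp_star p M P e (fun w => ((lam w : ℂˣ) : ℂ)) (χ : G → ℂ) = (χ : G → ℂ)) :
    lam = 1 := by
  have hst := bp_wat_stable_lam hM B P e hmax hPab lam hlam
  ext w
  have h1 := bp_lam_eq_one_of_mem_center hM B P e hmax lam hst χ hχ hfix (w : G) w.2 (hPab w.2)
  have h2 : (⟨(w : G), w.2⟩ : P) = w := Subtype.ext rfl
  rw [h2] at h1
  rw [h1]
  rfl

end Cfsg.Agent.BP
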