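import Mathlib
import Cfsg.Prelude.Def_Characters
import Cfsg.Prelude.Def_Blocks
import Cfsg.Prelude.Def_BlockRank
import Cfsg.Prelude.Def_BlockLocal
import Cfsg.Prelude.Def_BrauerPairs
import Cfsg.Agent.BP.WatC
import Cfsg.Agent.BP.StarStab
import Cfsg.Agent.Helper6.MajD

/-!
# S4644 (Watanabe), part C2: abelian defect groups — `T = N_G(D, e)` controls the fusion of the
cyclic subpairs, and the **trace formula**
`∑_{χ ∈ B} ⟨η * χ, χ⟩ = ∑_{u ∈ D} |C_T(u)|/|T| · η(u) · l(b_u)`.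
-/

set_option autoImplicit false
set_option linter.style.haveILetI false

namespace Cfsg.Agent.BP

open Cfsg.Agent.Helper6 Cfsg.Agent.Helper6.Maj Cfsg.Agent.Helper6.K4 Cfsg.Agent.Helper6.HtCen

open scoped ComplexConjugate

universe u

variable {G : Type u} [Group G] {M : Ideal Cfsg.AlgInt}

/-- conjugation of the pair at `u` by an element of `N_G(D, e)` -/
theorem bp_wat_tr_conjPair_pairAt_of_stab [Fintype G] {p : ℕ} [hp : Fact p.Prime]
    (hM : Cfsg.IsPModular p M) (D : Subgroup G)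
    (e : Set (Cfsg.IrrCharacter (Subgroup.centralizer (D : Set G))))
    (hDe : Cfsg.IsBrauerPair p M D e) (u : G) (hu : u ∈ D) (t : G)
    (ht : t ∈ pairStabilizer D e) :
    conjPair t (bp_pairAt p M D e u) = bp_pairAt p M D e (t * u * t⁻¹) := by
  apply bp_eq_pairAt hM D e hDe
  · have h1 := reflTransGen_conjPair (M := M) (p := p) t _ _ (bp_pairAt_le hM D e hDe u hu)
    rwa [conjPair_eq_self_of_stabilizes hM.2.1 D e hDe.2 t ht.1 ht.2] at h1
  · show (bp_pairAt p M D e u).1.map (MulAut.conj t).toMonoidHom = _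
    rw [bp_pairAt_fst, map_conj_zpowers]

/-- **abelian defect groups**: the elements carrying `(⟨u⟩, e_u)` to a pair below `(D, e)` are
the products `t c` with `t ∈ N_G(D, e)`, `c ∈ C_G(u)` -/
theorem bp_wat_tr_ctl_abelian [Fintype G] {p : ℕ} [hp : Fact p.Prime]
    (hM : Cfsg.IsPModular p M) (B : Set (Cfsg.IrrCharacter G)) (D : Subgroup G)
    (e : Set (Cfsg.IrrCharacter (Subgroup.centralizer (D : Set G))))
    (hmax : Cfsg.IsMaximalBrauerPair p M B D e)
    (hPab : D ≤ Subgroup.centralizer (D : Set G)) :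
    bp_wat_tr_ctl p M D e (pairStabilizer D e) := by
  have hDe := hmax.1
  intro u hu h
  constructor
  · intro hle
    have hB := bp_pairAt_isPBlock hM B D e hDe u hu
    have hle0 := bp_pairAt_le hM D e hDe.1 u hu
    obtain ⟨f, hf⟩ := HtCen.pair_eq_mk (Subgroup.zpowers u) (bp_pairAt p M D e u)
      (bp_pairAt_fst p D e u)
    rw [hf] at hB hle hle0
    have hQD : Subgroup.zpowers u ≤ D := by
      rw [Subgroup.zpowers_le]; exact hu
    have hPQ₀ : D ≤ Subgroup.centralizer ((Subgroup.zpowers u : Subgroup G) : Set G) := by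
      intro x hx
      rw [Subgroup.mem_centralizer_iff]
      intro q hq
      exact Subgroup.mem_centralizer_iff.mp (hPab hx) q (hQD hq)
    have hQxD : (Subgroup.zpowers u).map (MulAut.conj h).toMonoidHom ≤ D :=
      SubpairLE.le' (M := M) (p := p) (conjPair h ⟨Subgroup.zpowers u, f⟩) ⟨D, e⟩ hle
    have hPH : D ≤ Subgroup.centralizer
        (((Subgroup.zpowers u).map (MulAut.conj h).toMonoidHom : Subgroup G) : Set G) := by
      intro x hx
      rw [Subgroup.mem_centralizer_iff]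
      intro q hq
      exact Subgroup.mem_centralizer_iff.mp (hPab hx) q (hQxD hq)
    obtain ⟨c, hc, hcN, hcst⟩ := exists_mul_of_conj_central hM B D e hmax (Subgroup.zpowers u) f
      hB.1.2 hle0 hPQ₀ h hle hPH
    rw [mem_centralizer_map_conj_iff] at hc
    refine ⟨c * h, ⟨hcN, hcst⟩, h⁻¹ * c⁻¹ * h, ?_, by group⟩
    have := Subgroup.inv_mem _ hc
    have e1 : (h⁻¹ * c * h)⁻¹ = h⁻¹ * c⁻¹ * h := by group
    rwa [e1] at this
  · rintro ⟨t, ht, c, hc, rfl⟩
    rw [← conjPair_conjPair, bp_conjPair_pairAt_of_centralizer hM B D e hDe u hu c hc,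
      bp_wat_tr_conjPair_pairAt_of_stab hM D e hDe.1 u hu t ht]
    exact bp_pairAt_le hM D e hDe.1 _ ((Subgroup.mem_normalizer_iff.mp ht.1 u).mp hu)

/-- the constant function `1` is stable -/
theorem bp_wat_tr_stable_one {p : ℕ} (D : Subgroup G)
    (e : Set (Cfsg.IrrCharacter (Subgroup.centralizer (D : Set G)))) :
    bp_stable p M D e (fun _ => (1 : ℂ)) := by
  intro a x hle hlex w hw
  have h1 : w ∈ D := (SubpairLE.le' (M := M) (p := p) a ⟨D, e⟩ hle) hw
  have h2 : x * w * x⁻¹ ∈ D := by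
    apply (SubpairLE.le' (M := M) (p := p) (conjPair x a) ⟨D, e⟩ hlex)
    exact ⟨w, hw, rfl⟩
  have e1 : ∀ y : G, y ∈ D → Cfsg.extendByZero D (fun _ : D => (1 : ℂ)) y = 1 := by
    intro y hy
    have : y = ((⟨y, hy⟩ : D) : G) := rfl
    rw [this]
    unfold Cfsg.extendByZero
    exact Subtype.val_injective.extend_apply _ _ (⟨y, hy⟩ : D)
  rw [e1 _ h1, e1 _ h2]

/-- **trace of the contributions**: `∑_{χ ∈ B} m^{(u, e_u)}_{χχ} = l(e_u)` for `u ∈ D` -/
theorem bp_wat_tr_sum_contribP_self [Fintype G] {p : ℕ} [hp : Fact p.Prime]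
    (hM : Cfsg.IsPModular p M) (B : Set (Cfsg.IrrCharacter G)) (D : Subgroup G)
    (e : Set (Cfsg.IrrCharacter (Subgroup.centralizer (D : Set G))))
    (hmax : Cfsg.IsMaximalBrauerPair p M B D e) (u : G) (hu : u ∈ D) :
    ∑ᶠ χ ∈ B, contribP p (bp_pairAt p M D e u) (χ : G → ℂ) (χ : G → ℂ) u =
      (Cfsg.blockRank p (bp_pairAt p M D e u).2 : ℂ) := by
  classical
  have hup := bp_star_orderOf_of_mem_pGroup D hmax.1.1.1 u hu
  obtain ⟨f, hf, hle, hind⟩ := bp_exists_pair_below hM B D e hmax u hu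
  have hpe : (⟨Subgroup.zpowers u, f⟩ : Cfsg.BrauerPairIdx G) = bp_pairAt p M D e u :=
    bp_eq_pairAt hM D e hmax.1.1 ⟨Subgroup.zpowers u, f⟩ u hle rfl
  rw [← hpe]
  haveI : Fintype (Subgroup.centralizer ((Subgroup.zpowers u : Subgroup G) : Set G)) :=
    Fintype.ofFinite _
  have h1 := sum_secPart_self hM B u hup
    (Subgroup.centralizer ((Subgroup.zpowers u : Subgroup G) : Set G))
    (K4.centralizer_zpowers_eq' u) f hind
  rw [← h1]
  apply finsum_mem_congr rfl
  intro χ _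
  rw [contribP_eq]

open Classical in
/-- **the trace formula** for a control subgroup `S` -/
theorem bp_wat_tr_trace_ctl [Fintype G] {p : ℕ} [hp : Fact p.Prime]
    (hM : Cfsg.IsPModular p M) (B : Set (Cfsg.IrrCharacter G)) (D : Subgroup G)
    (e : Set (Cfsg.IrrCharacter (Subgroup.centralizer (D : Set G))))
    (hmax : Cfsg.IsMaximalBrauerPair p M B D e) (S : Subgroup G)
    (hctl : bp_wat_tr_ctl p M D e S) (η : D → ℂ) (hη : bp_stable p M D e η) :
    ∑ᶠ χ ∈ B, Cfsg.classInner (bp_star p M D e η (χ : G → ℂ)) (χ : G → ℂ) =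
      ∑ u : D, (Nat.card (S ⊓ Subgroup.centralizer (Subgroup.zpowers (u : G) : Set G) :
          Subgroup G) : ℂ) / (Nat.card S : ℂ) *
        (η u * (Cfsg.blockRank p (bp_pairAt p M D e (u : G)).2 : ℂ)) := by
  haveI : Finite (Cfsg.IrrCharacter G) := irr_finite
  have hBfin : B.Finite := Set.toFinite B
  have h1 : ∀ χ ∈ B, Cfsg.classInner (bp_star p M D e η ((χ : Cfsg.IrrCharacter G) : G → ℂ))
      (χ : G → ℂ) =
      ∑ u : D, bp_wat_tr_wD p M D e S η (fun _ => (1 : ℂ)) (χ : G → ℂ) (χ : G → ℂ) (u : G) := by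
    intro χ hχ
    have hcf : Cfsg.IsClassFunction G (χ : G → ℂ) :=
      IsCharacter.isClassFunction (IsIrrCharacter.isCharacter χ.2)
    have h2 := bp_wat_tr_inner_star_eq_sum hM B D e hmax S hctl η (fun _ => (1 : ℂ)) hη
      (bp_wat_tr_stable_one D e) (χ : G → ℂ) (χ : G → ℂ) hcf hcf
    rwa [bp_star_one hM B D e hmax χ hχ] at h2
  rw [finsum_mem_congr rfl h1, finsum_mem_eq_finite_toFinset_sum _ hBfin, Finset.sum_comm]
  apply Finset.sum_congr rfl
  intro u _
  have h3 := bp_wat_tr_sum_contribP_self hM B D e hmax (u : G) u.2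
  rw [finsum_mem_eq_finite_toFinset_sum _ hBfin] at h3
  have e1 : Cfsg.extendByZero D η (u : G) = η u := by
    unfold Cfsg.extendByZero
    exact Subtype.val_injective.extend_apply _ _ u
  have e2 : Cfsg.extendByZero D (fun _ : D => (1 : ℂ)) (u : G) = 1 := by
    unfold Cfsg.extendByZero
    exact Subtype.val_injective.extend_apply _ _ u
  unfold bp_wat_tr_wD
  rw [← h3, Finset.mul_sum, Finset.mul_sum]
  apply Finset.sum_congr rfl
  intro χ _
  rw [e1, e2, map_one, mul_one]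

open Classical in
/-- **the trace formula for abelian defect groups**: for a `T`-invariant `η`,
`∑_{χ ∈ B} ⟨η * χ, χ⟩ = ∑_{u ∈ D} |C_T(u)|/|T| · η(u) · l(e_u)`, `T = N_G(D, e)` -/
theorem bp_wat_tr_trace [Fintype G] {p : ℕ} [hp : Fact p.Prime]
    (hM : Cfsg.IsPModular p M) (B : Set (Cfsg.IrrCharacter G)) (D : Subgroup G)
    (e : Set (Cfsg.IrrCharacter (Subgroup.centralizer (D : Set G))))
    (hmax : Cfsg.IsMaximalBrauerPair p M B D e)
    (hPab : D ≤ Subgroup.centralizer (D : Set G)) (η : D → ℂ) (hη : bp_wat_inv D e η) :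
    ∑ᶠ χ ∈ B, Cfsg.classInner (bp_star p M D e η (χ : G → ℂ)) (χ : G → ℂ) =
      ∑ u : D, (Nat.card (pairStabilizer D e ⊓
          Subgroup.centralizer (Subgroup.zpowers (u : G) : Set G) : Subgroup G) : ℂ) /
          (Nat.card (pairStabilizer D e) : ℂ) *
        (η u * (Cfsg.blockRank p (bp_pairAt p M D e (u : G)).2 : ℂ)) :=
  bp_wat_tr_trace_ctl hM B D e hmax _ (bp_wat_tr_ctl_abelian hM B D e hmax hPab) η
    (bp_wat_stable hM B D e hmax hPab η hη)

end Cfsg.Agent.BP
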