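import Mathlib
import Cfsg.Prelude.Def_Characters
import Cfsg.Prelude.Def_Blocks
import Cfsg.Prelude.Def_BlockRank
import Cfsg.Prelude.Def_BlockLocal
import Cfsg.Prelude.Def_BrauerPairs
import Cfsg.Agent.BP.WatC2

/-!
# S4644 (Watanabe), part C3: the two consequences of the trace formula used in the induction

For an abelian defect group `D`, `T = N_G(D, e)` and the weights `w(u) = |C_T(u)|/|T|`:
* `bp_wat_count`: `k(B) = ∑_{u ∈ D} w(u) l(e_u)`;
* `bp_wat_fix_zero`: `∑_{u ∈ D} w(u) λ(u) l(e_u) = 0` for a `T`-invariant linear character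
  `λ ≠ 1` of `D` (the action of `λ` on `Irr(B)` has no fixed point).
-/

set_option autoImplicit false
set_option linter.style.haveILetI false

namespace Cfsg.Agent.BP

open Cfsg.Agent.Helper6 Cfsg.Agent.Helper6.Maj Cfsg.Agent.Helper6.K4 Cfsg.Agent.Helper6.HtCen

open scoped ComplexConjugate

universe u

variable {G : Type u} [Group G] {M : Ideal Cfsg.AlgInt}

/-- the weight `|C_T(u)| / |T|` of an element `u`, `T = N_G(D, e)` -/
noncomputable def bp_wat_weight [Finite G] (D : Subgroup G)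
    (e : Set (Cfsg.IrrCharacter (Subgroup.centralizer (D : Set G)))) (u : G) : ℂ :=
  (Nat.card (pairStabilizer D e ⊓
      Subgroup.centralizer (Subgroup.zpowers u : Set G) : Subgroup G) : ℂ) /
    (Nat.card (pairStabilizer D e) : ℂ)

theorem bp_wat_weight_ne_zero [Finite G] (D : Subgroup G)
    (e : Set (Cfsg.IrrCharacter (Subgroup.centralizer (D : Set G)))) (u : G) :
    bp_wat_weight D e u ≠ 0 := by
  unfold bp_wat_weight
  apply div_ne_zero
  · have : 0 < Nat.card (pairStabilizer D e ⊓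
        Subgroup.centralizer (Subgroup.zpowers u : Set G) : Subgroup G) := Nat.card_pos
    exact_mod_cast this.ne'
  · have : 0 < Nat.card (pairStabilizer D e) := Nat.card_pos
    exact_mod_cast this.ne'

/-- the weight of an element centralized by `T` is `1` -/
theorem bp_wat_weight_eq_one [Finite G] (D : Subgroup G)
    (e : Set (Cfsg.IrrCharacter (Subgroup.centralizer (D : Set G)))) (u : G)
    (hu : ∀ t ∈ pairStabilizer D e, t * u * t⁻¹ = u) :
    bp_wat_weight D e u = 1 := by
  unfold bp_wat_weight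
  have h1 : pairStabilizer D e ⊓ Subgroup.centralizer (Subgroup.zpowers u : Set G) =
      pairStabilizer D e := by
    apply inf_eq_left.mpr
    intro t ht
    rw [K4.centralizer_zpowers_eq', Subgroup.mem_centralizer_singleton_iff]
    have := hu t ht
    calc t * u = t * u * t⁻¹ * t := by group
      _ = u * t := by rw [this]
  rw [h1]
  apply div_self
  have : 0 < Nat.card (pairStabilizer D e) := Nat.card_pos
  exact_mod_cast this.ne'

/-- the constant function `1` is `T`-invariant -/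
theorem bp_wat_inv_one (D : Subgroup G)
    (e : Set (Cfsg.IrrCharacter (Subgroup.centralizer (D : Set G)))) :
    bp_wat_inv D e (fun _ => (1 : ℂ)) := fun _ _ _ _ _ _ => rfl

open Classical in
/-- **Brauer's count through the abelian defect group**: `k(B) = ∑_{u ∈ D} |C_T(u)|/|T| l(e_u)` -/
theorem bp_wat_count [Fintype G] {p : ℕ} [hp : Fact p.Prime]
    (hM : Cfsg.IsPModular p M) (B : Set (Cfsg.IrrCharacter G)) (D : Subgroup G)
    (e : Set (Cfsg.IrrCharacter (Subgroup.centralizer (D : Set G))))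
    (hmax : Cfsg.IsMaximalBrauerPair p M B D e)
    (hPab : D ≤ Subgroup.centralizer (D : Set G)) :
    (Nat.card B : ℂ) = ∑ u : D, bp_wat_weight D e (u : G) *
      (Cfsg.blockRank p (bp_pairAt p M D e (u : G)).2 : ℂ) := by
  haveI : Finite (Cfsg.IrrCharacter G) := irr_finite
  have hBfin : B.Finite := Set.toFinite B
  have h1 := bp_wat_tr_trace hM B D e hmax hPab (fun _ => (1 : ℂ)) (bp_wat_inv_one D e)
  have h2 : ∑ᶠ χ ∈ B, Cfsg.classInner (bp_star p M D e (fun _ => (1 : ℂ))
      ((χ : Cfsg.IrrCharacter G) : G → ℂ)) (χ : G → ℂ) = (Nat.card B : ℂ) := by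
    have h3 : ∀ χ ∈ B, Cfsg.classInner (bp_star p M D e (fun _ => (1 : ℂ))
        ((χ : Cfsg.IrrCharacter G) : G → ℂ)) (χ : G → ℂ) = 1 := by
      intro χ hχ
      rw [bp_star_one hM B D e hmax χ hχ]
      exact classInner_irr_self χ.2
    rw [finsum_mem_congr rfl h3, finsum_mem_eq_finite_toFinset_sum _ hBfin, Finset.sum_const,
      nsmul_eq_mul, mul_one, ← Set.ncard_eq_toFinset_card B hBfin, ← Nat.card_coe_set_eq]
  rw [← h2, h1]
  apply Finset.sum_congr rfl
  intro u _
  unfold bp_wat_weight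
  rw [one_mul]

open Classical in
/-- **no fixed points**: `∑_{u ∈ D} |C_T(u)|/|T| λ(u) l(e_u) = 0` for a `T`-invariant linear
character `λ ≠ 1` of the abelian defect group `D` -/
theorem bp_wat_fix_zero [Fintype G] {p : ℕ} [hp : Fact p.Prime]
    (hM : Cfsg.IsPModular p M) (B : Set (Cfsg.IrrCharacter G)) (D : Subgroup G)
    (e : Set (Cfsg.IrrCharacter (Subgroup.centralizer (D : Set G))))
    (hmax : Cfsg.IsMaximalBrauerPair p M B D e)
    (hPab : D ≤ Subgroup.centralizer (D : Set G)) (lam : D →* ℂˣ)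
    (hlam : bp_wat_inv D e (fun w => ((lam w : ℂˣ) : ℂ))) (hne : lam ≠ 1) :
    ∑ u : D, bp_wat_weight D e (u : G) *
      (((lam u : ℂˣ) : ℂ) * (Cfsg.blockRank p (bp_pairAt p M D e (u : G)).2 : ℂ)) = 0 := by
  have h1 := bp_wat_tr_trace hM B D e hmax hPab (fun w => ((lam w : ℂˣ) : ℂ)) hlam
  have h2 : ∑ᶠ χ ∈ B, Cfsg.classInner (bp_star p M D e (fun w => ((lam w : ℂˣ) : ℂ))
      ((χ : Cfsg.IrrCharacter G) : G → ℂ)) (χ : G → ℂ) = 0 := by
    apply finsum_mem_eq_zero_of_forall_eq_zero
    intro χ hχ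
    obtain ⟨ψ, -, hψ, -⟩ := bp_wat_star_mem hM B D e hmax hPab lam hlam χ hχ
    rw [← hψ]
    apply classInner_irr_ne ψ.2 χ.2
    intro heq
    apply hne
    apply bp_wat_free hM B D e hmax hPab lam hlam χ hχ
    rw [← hψ, heq]
  rw [h2] at h1
  rw [h1]
  rfl

end Cfsg.Agent.BP
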