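import Mathlib
import Cfsg.Prelude.Def_Characters
import Cfsg.Prelude.Def_Blocks
import Cfsg.Prelude.Def_BlockLocal
import Cfsg.Prelude.Def_BrauerPairs
import Cfsg.Agent.Helper6.InertialTrivial
import Cfsg.Agent.Helper6.StabilizerBlock

/-!
# Watanabe's theorem (S4644), piece (ii): the inertial quotient is a `p'`-group

`(P, e)` a maximal Brauer pair of `B` with `P` abelian, `T = N_G(P, e)`.  Then
`|T : C_G(P)|` is prime to `p` (the `p`-elements of `T` centralize `P`, helper6's
`pElement_mem_centralizer_of_stabilizes`; a Sylow `p`-subgroup of `T` therefore lies in `C_G(P)`).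
-/

set_option autoImplicit false
set_option linter.style.haveILetI false

namespace Cfsg.Agent.BP

open Cfsg.Agent.Helper6

universe u

variable {G : Type u} [Group G] {M : Ideal Cfsg.AlgInt}

/-- a Sylow `p`-subgroup of the inertial group `T = N_G(P, e)` of a maximal pair with abelian
first component lies in `C_G(P)` -/
theorem bp_watidx_sylow_le [Finite G] {p : ℕ} [hp : Fact p.Prime]
    (hM : Cfsg.IsPModular p M) (B : Set (Cfsg.IrrCharacter G)) (P : Subgroup G)
    (e : Set (Cfsg.IrrCharacter (Subgroup.centralizer (P : Set G))))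
    (hmax : Cfsg.IsMaximalBrauerPair p M B P e)
    (hab : ∀ x ∈ P, ∀ y ∈ P, x * y = y * x)
    (T : Subgroup G)
    (hT : ∀ g : G, g ∈ T ↔ (g ∈ Subgroup.normalizer (P : Set G) ∧
      Cfsg.StabilizesBlock (Subgroup.centralizer (P : Set G)) e g))
    (S : Sylow p T) :
    (S : Subgroup T) ≤ (Subgroup.centralizer (P : Set G)).subgroupOf T := by
  classical
  haveI : Fintype G := Fintype.ofFinite G
  intro s hs
  obtain ⟨k, hk⟩ := IsPGroup.iff_orderOf.mp S.2 ⟨s, hs⟩
  have hk' : orderOf ((s : T) : G) = p ^ k := by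
    rw [← hk, Subgroup.orderOf_coe]
    exact Subgroup.orderOf_coe (⟨s, hs⟩ : (S : Subgroup T))
  have hsT := (hT (s : G)).mp s.2
  exact Subgroup.mem_subgroupOf.mpr
    (pElement_mem_centralizer_of_stabilizes hM B P e hmax hab (s : G) hsT.1 hsT.2 k hk')

/-- **the inertial quotient is a `p'`-group**: `|T : C_G(P)|` is prime to `p` for the inertial
group `T = N_G(P, e)` of a maximal pair `(P, e)` with `P` abelian -/
theorem bp_watidx_coprime [Finite G] {p : ℕ} [hp : Fact p.Prime]
    (hM : Cfsg.IsPModular p M) (B : Set (Cfsg.IrrCharacter G)) (P : Subgroup G)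
    (e : Set (Cfsg.IrrCharacter (Subgroup.centralizer (P : Set G))))
    (hmax : Cfsg.IsMaximalBrauerPair p M B P e)
    (hab : ∀ x ∈ P, ∀ y ∈ P, x * y = y * x)
    (T : Subgroup G)
    (hT : ∀ g : G, g ∈ T ↔ (g ∈ Subgroup.normalizer (P : Set G) ∧
      Cfsg.StabilizesBlock (Subgroup.centralizer (P : Set G)) e g)) :
    ((Subgroup.centralizer (P : Set G)).relIndex T).Coprime p := by
  classical
  obtain ⟨S⟩ : Nonempty (Sylow p T) := inferInstance
  have hS := bp_watidx_sylow_le hM B P e hmax hab T hT S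
  have h1 : ((Subgroup.centralizer (P : Set G)).subgroupOf T).index ∣ (S : Subgroup T).index :=
    Subgroup.index_dvd_of_le hS
  have h2 : ¬ p ∣ (S : Subgroup T).index := S.not_dvd_index
  have h3 : ¬ p ∣ (Subgroup.centralizer (P : Set G)).relIndex T := fun h => h2 (h.trans h1)
  exact ((Nat.Prime.coprime_iff_not_dvd hp.out).mpr h3).symm

/-- the centralizer of `P` lies in the inertial group `T = N_G(P, e)` -/
theorem bp_watidx_centralizer_le
    (P : Subgroup G)
    (e : Set (Cfsg.IrrCharacter (Subgroup.centralizer (P : Set G))))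
    (T : Subgroup G)
    (hT : ∀ g : G, g ∈ T ↔ (g ∈ Subgroup.normalizer (P : Set G) ∧
      Cfsg.StabilizesBlock (Subgroup.centralizer (P : Set G)) e g)) :
    Subgroup.centralizer (P : Set G) ≤ T := by
  intro g hg
  exact (hT g).mpr ⟨Subgroup.centralizer_le_normalizer _ hg,
    stabilizesBlock_of_mem_centralizer _ _ g hg⟩

end Cfsg.Agent.BP
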