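import Mathlib
import Cfsg.Prelude.Def_Characters
import Cfsg.Prelude.Def_Blocks
import Cfsg.Prelude.Def_BlockLocal
import Cfsg.Prelude.Def_BrauerPairs
import Cfsg.Agent.Helper6.InertialTrivial
import Cfsg.Agent.Helper6.StabilizerBlock
import Cfsg.Agent.Helper6.DefectCenter
import Cfsg.Agent.Helper6.K4H
import Cfsg.Agent.BP.WatIdx
import Cfsg.Agent.BP.WatA2

/-!
# Watanabe's theorem (S4644): the statement-facing facts

From the hypotheses of the frozen statement (`hPD : IsDefectGroup p M B P`,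
`hc : IsInducedBlock M (centralizer P) c B`, `hT`, `hu`, `huT`, `hH`) the facts consumed by the
internal form of the theorem: `(P, c)` is a maximal Brauer pair, `T = pairStabilizer P c`,
`T ≤ N_G(P)`, `|T : C_G(P)|` prime to `p`, `P ≤ C_G(P) ≤ T ≤ H`, and the bookkeeping for
`⊥ ⊔ zpowers u`.
-/

set_option autoImplicit false
set_option linter.style.haveILetI false

namespace Cfsg.Agent.BP

open Cfsg.Agent.Helper6

universe u

variable {G : Type u} [Group G] {M : Ideal Cfsg.AlgInt}

/-- the root of a block with defect group `P` gives a maximal Brauer pair -/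
theorem bp_watglue_max [Finite G] {p : ℕ} [hp : Fact p.Prime]
    (hM : Cfsg.IsPModular p M) (B : Set (Cfsg.IrrCharacter G)) (P : Subgroup G)
    (hPD : Cfsg.IsDefectGroup p M B P)
    (c : Set (Cfsg.IrrCharacter (Subgroup.centralizer (P : Set G))))
    (hc : Cfsg.IsInducedBlock M (Subgroup.centralizer (P : Set G)) c B) :
    Cfsg.IsMaximalBrauerPair p M B P c := by
  classical
  haveI : Fintype G := Fintype.ofFinite G
  exact K4.isMaximalBrauerPair_of_root hM B P hPD c hc

/-- a defect group is a `p`-group -/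
theorem bp_watglue_isPGroup [Finite G] {p : ℕ} [hp : Fact p.Prime]
    (hM : Cfsg.IsPModular p M) (B : Set (Cfsg.IrrCharacter G)) (hB : Cfsg.IsPBlock M B)
    (P : Subgroup G) (hPD : Cfsg.IsDefectGroup p M B P) : IsPGroup p P :=
  IsDefectGroup.isPGroup hM B hB P hPD

/-- commutativity of `P` as an inclusion -/
theorem bp_watglue_le_centralizer (P : Subgroup G)
    (hPab : ∀ x ∈ P, ∀ y ∈ P, x * y = y * x) : P ≤ Subgroup.centralizer (P : Set G) := by
  intro x hx
  rw [Subgroup.mem_centralizer_iff]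
  intro y hy
  exact hPab y hy x hx

/-- the subgroup `T` of the frozen statement is the stabilizer of the pair -/
theorem bp_watglue_T_eq [Finite G] (P : Subgroup G)
    (c : Set (Cfsg.IrrCharacter (Subgroup.centralizer (P : Set G)))) (T : Subgroup G)
    (hT : ∀ g : G, g ∈ T ↔ (g ∈ Subgroup.normalizer (P : Set G) ∧
      Cfsg.StabilizesBlock (Subgroup.centralizer (P : Set G)) c g)) :
    T = pairStabilizer P c := by
  ext g
  rw [hT g, mem_pairStabilizer]

/-- the characterisation `hT` for the stabilizer of the pair -/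
theorem bp_watglue_hT_pairStabilizer [Finite G] (P : Subgroup G)
    (c : Set (Cfsg.IrrCharacter (Subgroup.centralizer (P : Set G)))) :
    ∀ g : G, g ∈ pairStabilizer P c ↔ (g ∈ Subgroup.normalizer (P : Set G) ∧
      Cfsg.StabilizesBlock (Subgroup.centralizer (P : Set G)) c g) :=
  fun g => mem_pairStabilizer P c g

/-- `T ≤ N_G(P)` -/
theorem bp_watglue_T_le_normalizer (P : Subgroup G)
    (c : Set (Cfsg.IrrCharacter (Subgroup.centralizer (P : Set G)))) (T : Subgroup G)
    (hT : ∀ g : G, g ∈ T ↔ (g ∈ Subgroup.normalizer (P : Set G) ∧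
      Cfsg.StabilizesBlock (Subgroup.centralizer (P : Set G)) c g)) :
    T ≤ Subgroup.normalizer (P : Set G) :=
  fun g hg => ((hT g).mp hg).1

/-- `|T : C_G(P)|` is prime to `p`, from the hypotheses of the frozen statement -/
theorem bp_watglue_coprime [Finite G] {p : ℕ} [hp : Fact p.Prime]
    (hM : Cfsg.IsPModular p M) (B : Set (Cfsg.IrrCharacter G)) (P : Subgroup G)
    (hPD : Cfsg.IsDefectGroup p M B P)
    (hPab : ∀ x ∈ P, ∀ y ∈ P, x * y = y * x)
    (c : Set (Cfsg.IrrCharacter (Subgroup.centralizer (P : Set G))))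
    (hc : Cfsg.IsInducedBlock M (Subgroup.centralizer (P : Set G)) c B) (T : Subgroup G)
    (hT : ∀ g : G, g ∈ T ↔ (g ∈ Subgroup.normalizer (P : Set G) ∧
      Cfsg.StabilizesBlock (Subgroup.centralizer (P : Set G)) c g)) :
    ((Subgroup.centralizer (P : Set G)).relIndex T).Coprime p :=
  bp_watidx_coprime hM B P c (bp_watglue_max hM B P hPD c hc) hPab T hT

/-- monotonicity of the index over `C_G(P)` inside `N_G(P)` -/
theorem bp_watglue_relIndex_dvd (P T T' : Subgroup G)
    (hTN : T ≤ Subgroup.normalizer (P : Set G)) (hle : T' ≤ T) :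
    (Subgroup.centralizer (P : Set G)).relIndex T' ∣
      (Subgroup.centralizer (P : Set G)).relIndex T := by
  rw [← bp_wat_card_range P T hTN, ← bp_wat_card_range P T' (hle.trans hTN)]
  apply Subgroup.card_dvd_of_le
  rintro _ ⟨t, rfl⟩
  exact ⟨⟨(t : G), hle t.2⟩, rfl⟩

/-- the index stays prime to `p` for the subgroups of `T`: e.g. the inertial groups
`T ⊓ C_G(Q)` of the localised pairs -/
theorem bp_watglue_coprime_of_le {p : ℕ} (P T T' : Subgroup G)
    (hTN : T ≤ Subgroup.normalizer (P : Set G)) (hle : T' ≤ T)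
    (hcop : ((Subgroup.centralizer (P : Set G)).relIndex T).Coprime p) :
    ((Subgroup.centralizer (P : Set G)).relIndex T').Coprime p :=
  Nat.Coprime.coprime_dvd_left (bp_watglue_relIndex_dvd P T T' hTN hle) hcop

/-- `T` fixes `u`, so `T ≤ C_G(u)` -/
theorem bp_watglue_T_le (T : Subgroup G) (u : G) (huT : ∀ g ∈ T, g * u * g⁻¹ = u)
    (H : Subgroup G) (hH : H = Subgroup.centralizer ({u} : Set G)) : T ≤ H := by
  intro g hg
  rw [hH, Subgroup.mem_centralizer_singleton_iff]
  have h := huT g hg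
  calc g * u = g * u * g⁻¹ * g := by group
    _ = u * g := by rw [h]

/-- `C_G(P) ≤ C_G(u)` for `u ∈ P` -/
theorem bp_watglue_centralizer_le (P : Subgroup G) (u : G) (hu : u ∈ P)
    (H : Subgroup G) (hH : H = Subgroup.centralizer ({u} : Set G)) :
    Subgroup.centralizer (P : Set G) ≤ H := by
  rw [hH]
  exact Subgroup.centralizer_le (Set.singleton_subset_iff.mpr hu)

/-- `P ≤ C_G(u)` for `u ∈ P`, `P` abelian -/
theorem bp_watglue_P_le (P : Subgroup G) (hPab : ∀ x ∈ P, ∀ y ∈ P, x * y = y * x)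
    (u : G) (hu : u ∈ P) (H : Subgroup G) (hH : H = Subgroup.centralizer ({u} : Set G)) :
    P ≤ H :=
  (bp_watglue_le_centralizer P hPab).trans (bp_watglue_centralizer_le P u hu H hH)

/-- `C_G(u) = C_G(⊥ ⊔ ⟨u⟩)` -/
theorem bp_watglue_centralizer_bot_sup (u : G) :
    Subgroup.centralizer ({u} : Set G) =
      Subgroup.centralizer (((⊥ : Subgroup G) ⊔ Subgroup.zpowers u : Subgroup G) : Set G) := by
  rw [bot_sup_eq, K4.centralizer_zpowers_eq']

/-- `C_G(⊥) = ⊤` -/
theorem bp_watglue_centralizer_bot :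
    Subgroup.centralizer (((⊥ : Subgroup G) : Subgroup G) : Set G) = ⊤ := by
  ext g
  simp [Subgroup.mem_centralizer_iff]

/-- `T ⊓ C_G(⊥) = T` -/
theorem bp_watglue_inf_centralizer_bot (T : Subgroup G) :
    T ⊓ Subgroup.centralizer (((⊥ : Subgroup G) : Subgroup G) : Set G) = T := by
  rw [bp_watglue_centralizer_bot, inf_top_eq]

/-- the invariance hypothesis at `Q = ⊥` -/
theorem bp_watglue_fixed_bot (T : Subgroup G) (u : G) (huT : ∀ g ∈ T, g * u * g⁻¹ = u) :
    ∀ t ∈ T ⊓ Subgroup.centralizer (((⊥ : Subgroup G) : Subgroup G) : Set G),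
      t * u * t⁻¹ = u :=
  fun t ht => huT t ht.1

end Cfsg.Agent.BP
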