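import Mathlib
import Cfsg.Prelude.Def_Characters
import Cfsg.Prelude.Def_Blocks
import Cfsg.Prelude.Def_BlockLocal
import Cfsg.Prelude.Def_BlockRank
import Cfsg.Prelude.Def_BrauerPairs
import Cfsg.Agent.Helper6.FreeActionNilpotent
import Cfsg.Agent.Helper6.NilAbF
import Cfsg.Agent.Helper6.K4G
import Cfsg.Agent.Helper6.K4H
import Cfsg.Agent.Helper6.SectionOrthD
import Cfsg.Agent.Helper6.SubpairUnique
import Cfsg.Agent.Helper6.MaximalPairDefect

/-!
# S4644 (Watanabe), piece (ID): transport of induced blocks between a subgroup of a subgroup and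
the corresponding subgroup of the whole group
-/

set_option autoImplicit false
set_option linter.style.haveILetI false

namespace Cfsg.Agent.BP

open Cfsg.Agent.Helper6 Cfsg.Agent.Helper6.K4 Cfsg.Agent.Helper6.NilAb

universe u

variable {G : Type u} [Group G] {M : Ideal Cfsg.AlgInt}

/-- a subgroup `L'` of the group `K` and the corresponding subgroup `L` of `G` -/
def bp_watid_equiv (K : Subgroup G) (L' : Subgroup K) (L : Subgroup G)
    (hL : ∀ g : G, g ∈ L ↔ ∃ hg : g ∈ K, (⟨g, hg⟩ : K) ∈ L') : L' ≃* L where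
  toFun x := ⟨((x : K) : G), (hL _).mpr ⟨(x : K).2, x.2⟩⟩
  invFun y := ⟨⟨(y : G), ((hL y).mp y.2).1⟩, ((hL y).mp y.2).2⟩
  left_inv _ := Subtype.ext (Subtype.ext rfl)
  right_inv _ := Subtype.ext rfl
  map_mul' _ _ := Subtype.ext rfl

theorem bp_watid_coe_equiv (K : Subgroup G) (L' : Subgroup K) (L : Subgroup G)
    (hL : ∀ g : G, g ∈ L ↔ ∃ hg : g ∈ K, (⟨g, hg⟩ : K) ∈ L') (x : L') :
    ((bp_watid_equiv K L' L hL x : L) : G) = ((x : K) : G) := rfl

/-- the central character induced inside a subgroup `L'` of the group `K` from `C_K(P)` is the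
central character induced inside the subgroup `L` of `G` from `C_G(P)` -/
theorem bp_watid_inducedCentralCharIn (K P : Subgroup G) (hPK : P ≤ K)
    (hCK : Subgroup.centralizer (P : Set G) ≤ K) (L' : Subgroup K) (L : Subgroup G)
    (hL : ∀ g : G, g ∈ L ↔ ∃ hg : g ∈ K, (⟨g, hg⟩ : K) ∈ L')
    (ξ : Cfsg.IrrCharacter (Subgroup.centralizer (P : Set G))) (h : K) :
    Cfsg.inducedCentralCharIn L' (Subgroup.centralizer ((P.subgroupOf K : Subgroup K) : Set K))
      (irrComp (centSubEquiv K P hPK hCK) ξ :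
        Subgroup.centralizer ((P.subgroupOf K : Subgroup K) : Set K) → ℂ) h =
    Cfsg.inducedCentralCharIn L (Subgroup.centralizer (P : Set G))
      (ξ : Subgroup.centralizer (P : Set G) → ℂ) (h : G) := by
  unfold Cfsg.inducedCentralCharIn
  refine finsum_mem_eq_of_bijOn (centSubEquiv K P hPK hCK) ?_ ?_
  · refine ⟨?_, (centSubEquiv K P hPK hCK).injective.injOn, ?_⟩
    · rintro k ⟨x, hx⟩
      refine ⟨bp_watid_equiv K L' L hL x, ?_⟩
      rw [bp_watid_coe_equiv, coe_centSubEquiv]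
      have := congrArg Subtype.val hx
      simpa using this
    · rintro k₀ ⟨x, hx⟩
      refine ⟨(centSubEquiv K P hPK hCK).symm k₀, ⟨(bp_watid_equiv K L' L hL).symm x, ?_⟩,
        (centSubEquiv K P hPK hCK).apply_symm_apply k₀⟩
      apply Subtype.ext
      have h1 : ((((bp_watid_equiv K L' L hL).symm x : L') : K) : G) = (x : G) := rfl
      have h2 : ((((centSubEquiv K P hPK hCK).symm k₀ :
          Subgroup.centralizer ((P.subgroupOf K : Subgroup K) : Set K)) : K) : G) = (k₀ : G) := rfl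
      simp only [Subgroup.coe_mul, Subgroup.coe_inv, h1, h2]
      exact hx
  · intro k _
    rw [irrComp_apply, irrComp_apply, map_one]

/-- **transport of induction inside a subgroup**: `e` induces `β` inside the subgroup `L` of `G`
iff the local copy of `e` induces the copy of `β` inside the subgroup `L'` of the group `K` -/
theorem bp_watid_isInducedBlockIn_iff (K P : Subgroup G) (hPK : P ≤ K)
    (hCK : Subgroup.centralizer (P : Set G) ≤ K) (L' : Subgroup K) (L : Subgroup G)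
    (hL : ∀ g : G, g ∈ L ↔ ∃ hg : g ∈ K, (⟨g, hg⟩ : K) ∈ L')
    (e : Set (Cfsg.IrrCharacter (Subgroup.centralizer (P : Set G)))) (he : Cfsg.IsPBlock M e)
    (β : Set (Cfsg.IrrCharacter L)) :
    Cfsg.IsInducedBlockIn M L' (Subgroup.centralizer ((P.subgroupOf K : Subgroup K) : Set K))
        (localBlock K P hPK hCK e) (irrComp (bp_watid_equiv K L' L hL) '' β) ↔
      Cfsg.IsInducedBlockIn M L (Subgroup.centralizer (P : Set G)) e β := by
  constructor
  · rintro ⟨-, hβ, h⟩
    refine ⟨he, ?_, ?_⟩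
    · have h0 := isPBlock_image_irrComp (M := M) (bp_watid_equiv K L' L hL).symm _ hβ
      have h1 := image_irrComp_symm_cancel (bp_watid_equiv K L' L hL).symm β
      rw [MulEquiv.symm_symm] at h1
      rwa [h1] at h0
    · intro ξ hξ χ hχ y
      have h1 := h (irrComp (centSubEquiv K P hPK hCK) ξ) ⟨ξ, hξ, rfl⟩
        (irrComp (bp_watid_equiv K L' L hL) χ) ⟨χ, hχ, rfl⟩
        ((bp_watid_equiv K L' L hL).symm y)
      rw [bp_watid_inducedCentralCharIn K P hPK hCK L' L hL] at h1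
      have h2 : Cfsg.centralChar (irrComp (bp_watid_equiv K L' L hL) χ : L' → ℂ)
          ((bp_watid_equiv K L' L hL).symm y) = Cfsg.centralChar (χ : L → ℂ) y := by
        have := centralChar_comp_mulEquiv (bp_watid_equiv K L' L hL) (χ : L → ℂ)
          ((bp_watid_equiv K L' L hL).symm y)
        rw [(bp_watid_equiv K L' L hL).apply_symm_apply] at this
        exact this
      rw [h2] at h1
      exact h1
  · rintro ⟨-, hβ, h⟩
    refine ⟨isPBlock_localBlock K P hPK hCK e he,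
      isPBlock_image_irrComp (bp_watid_equiv K L' L hL) β hβ, ?_⟩
    rintro _ ⟨ξ, hξ, rfl⟩ _ ⟨χ, hχ, rfl⟩ x
    rw [bp_watid_inducedCentralCharIn K P hPK hCK L' L hL]
    have h2 : Cfsg.centralChar (irrComp (bp_watid_equiv K L' L hL) χ : L' → ℂ) x =
        Cfsg.centralChar (χ : L → ℂ) (bp_watid_equiv K L' L hL x) :=
      centralChar_comp_mulEquiv (bp_watid_equiv K L' L hL) (χ : L → ℂ) x
    rw [h2]
    exact h ξ hξ χ hχ (bp_watid_equiv K L' L hL x)

section Pairs

variable [Finite G] {p : ℕ} [hp : Fact p.Prime]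

/-- the block of `C_G(Q)` induced by `c` is the block of the subpair of `(P, c)` on `Q`
(`NilAb.subpairLE_of_isInducedBlockIn` without the maximality hypothesis) -/
theorem bp_watid_subpairLE_of_induced (hM : Cfsg.IsPModular p M)
    (P : Subgroup G) (c : Set (Cfsg.IrrCharacter (Subgroup.centralizer (P : Set G))))
    (hPc : Cfsg.IsBrauerPair p M P c) (Q : Subgroup G) (hQP : Q ≤ P)
    (hPH : P ≤ Subgroup.centralizer (Q : Set G))
    (hCH : Subgroup.centralizer (P : Set G) ≤ Subgroup.centralizer (Q : Set G))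
    (f : Set (Cfsg.IrrCharacter (Subgroup.centralizer (Q : Set G))))
    (hf : Cfsg.IsInducedBlockIn M (Subgroup.centralizer (Q : Set G))
      (Subgroup.centralizer (P : Set G)) c f) :
    Cfsg.SubpairLE p M Q f P c := by
  classical
  haveI : Fintype G := Fintype.ofFinite G
  haveI : Fintype (Subgroup.centralizer (Q : Set G)) := Fintype.ofFinite _
  have hPN : P ≤ Subgroup.normalizer (Q : Set G) :=
    hPH.trans (Subgroup.centralizer_le_normalizer _)
  obtain ⟨f₀, hf₀, hle⟩ := exists_subpairLE hM _ P Q c hPc hQP rfl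
  have hn := isNormalSubpair_of_subpairLE_of_le_normalizer hM P Q c f₀ hPc hQP hPN hle
  have hcoef : ∀ t : Subgroup.centralizer (Q : Set G), Cfsg.blockCoeff f₀ t =
      Cfsg.subgroupBlockCoeff (Subgroup.centralizer (Q : Set G)) f₀ (t : G) :=
    fun t => (subgroupBlockCoeff_of_mem _ _ _ t.2).symm
  have hpair := isBrauerPairOf_stabilizer_of_isNormalSubpair (M := M) (p := p) Q P
    (Subgroup.centralizer (Q : Set G)) f₀ c hn hPH hCH f₀ hf₀ hcoef
  have hpair' : Cfsg.IsBrauerPairOf p M f (P.subgroupOf (Subgroup.centralizer (Q : Set G)))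
      (localBlock (Subgroup.centralizer (Q : Set G)) P hPH hCH c) :=
    isBrauerPairOf_of_isInducedBlock hM f _ hpair.1.1 _
      ((isInducedBlockIn_iff_localBlock _ P hPH hCH c f).mp hf)
  have hff : f₀ = f := (existsUnique_isBrauerPairOf hM _ _ hpair.1).unique hpair hpair'
  rw [← hff]
  exact hle

/-- conversely, for an abelian `P`, the block of the subpair of `(P, c)` on `Q ≤ P` is the block
of `C_G(Q)` induced by `c` -/
theorem bp_watid_induced_of_subpairLE (hM : Cfsg.IsPModular p M)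
    (P : Subgroup G) (hab : ∀ x ∈ P, ∀ y ∈ P, x * y = y * x)
    (c : Set (Cfsg.IrrCharacter (Subgroup.centralizer (P : Set G))))
    (hPc : Cfsg.IsBrauerPair p M P c) (Q : Subgroup G) (hQP : Q ≤ P)
    (f : Set (Cfsg.IrrCharacter (Subgroup.centralizer (Q : Set G))))
    (hf : Cfsg.SubpairLE p M Q f P c) :
    Cfsg.IsInducedBlockIn M (Subgroup.centralizer (Q : Set G))
      (Subgroup.centralizer (P : Set G)) c f := by
  classical
  haveI : Fintype G := Fintype.ofFinite G
  have hPH : P ≤ Subgroup.centralizer (Q : Set G) := by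
    intro x hx
    rw [Subgroup.mem_centralizer_iff]
    intro y hy
    exact hab y (hQP hy) x hx
  have hCH : Subgroup.centralizer (P : Set G) ≤ Subgroup.centralizer (Q : Set G) :=
    Subgroup.centralizer_le hQP
  obtain ⟨f', hf'⟩ := exists_isInducedBlockIn hM (Subgroup.centralizer (Q : Set G)) P hPc.1 hab
    hPH hCH c hPc.2
  have h1 := bp_watid_subpairLE_of_induced hM P c hPc Q hQP hPH hCH f' hf'
  have h2 : f = f' := subpairLE_unique hM _ P Q c hPc hQP rfl f f' hf h1
  rw [h2]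
  exact hf'

omit [Finite G] hp in
/-- the block of `L` induced by `c` inside `L` is unique -/
theorem bp_watid_isInducedBlockIn_unique (hM : Cfsg.IsPModular p M) (L P : Subgroup G)
    (hPL : P ≤ L) (hCL : Subgroup.centralizer (P : Set G) ≤ L)
    (c : Set (Cfsg.IrrCharacter (Subgroup.centralizer (P : Set G))))
    (γ γ' : Set (Cfsg.IrrCharacter L))
    (h : Cfsg.IsInducedBlockIn M L (Subgroup.centralizer (P : Set G)) c γ)
    (h' : Cfsg.IsInducedBlockIn M L (Subgroup.centralizer (P : Set G)) c γ') : γ = γ' :=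
  isInducedBlock_unique hM.2.1 _ _ γ γ'
    ((isInducedBlockIn_iff_localBlock L P hPL hCL c γ).mp h)
    ((isInducedBlockIn_iff_localBlock L P hPL hCL c γ').mp h')

/-- **(ID0)**: for a central element `v` the block `b_v` is `B` -/
theorem bp_watid_central (hM : Cfsg.IsPModular p M) (B : Set (Cfsg.IrrCharacter G)) (v : G)
    (hv : v ∈ Subgroup.center G)
    (b : Set (Cfsg.IrrCharacter (Subgroup.centralizer ((Subgroup.zpowers v : Subgroup G) : Set G))))
    (hb : Cfsg.IsBrauerPairOf p M B (Subgroup.zpowers v) b) :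
    Cfsg.blockRank p b = Cfsg.blockRank p B ∧ Nat.card b = Nat.card B := by
  classical
  haveI : Fintype G := Fintype.ofFinite G
  have hK : Subgroup.centralizer ((Subgroup.zpowers v : Subgroup G) : Set G) = ⊤ := by
    rw [Subgroup.centralizer_eq_top_iff_subset]
    intro x hx
    exact (Subgroup.zpowers_le.mpr hv) hx
  have hab : Subgroup.zpowers v ≤ Subgroup.centralizer ((Subgroup.zpowers v : Subgroup G) : Set G) := by
    rw [hK]
    exact le_top
  have h1 := isInducedBlock_of_isBrauerPairOf hM B (Subgroup.zpowers v) hab b hb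
  have h2 := induced_top_eq hM.2.1 _ hK b B h1
  rw [h2]
  exact ⟨blockRank_image_irrComp p _ B, Nat.card_image_of_injective (irrComp_injective _) B⟩

/-- **(ID1)**: for `P C_G(P) ≤ K ≤ G` and `w ∈ P`, the block of `C_K(w)` below the local copy of
`(P, e)` in the group `K` has the rank and the number of characters of the block of
`L = K ∩ C_G(w)` induced by `e` -/
theorem bp_watid_rank_card (hM : Cfsg.IsPModular p M) (P : Subgroup G) (hP : IsPGroup p P)
    (hab : ∀ x ∈ P, ∀ y ∈ P, x * y = y * x)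
    (e : Set (Cfsg.IrrCharacter (Subgroup.centralizer (P : Set G)))) (he : Cfsg.IsPBlock M e)
    (K : Subgroup G) (hPK : P ≤ K) (hCK : Subgroup.centralizer (P : Set G) ≤ K)
    (w : K) (hw : (w : G) ∈ P)
    (g₁ : Set (Cfsg.IrrCharacter
      (Subgroup.centralizer ((Subgroup.zpowers w : Subgroup K) : Set K))))
    (hg₁ : Cfsg.SubpairLE p M (Subgroup.zpowers w) g₁ (P.subgroupOf K)
      (localBlock K P hPK hCK e))
    (L : Subgroup G) (hL : ∀ g : G, g ∈ L ↔ g ∈ K ∧ g * (w : G) = (w : G) * g)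
    (γ : Set (Cfsg.IrrCharacter L))
    (hγ : Cfsg.IsInducedBlockIn M L (Subgroup.centralizer (P : Set G)) e γ) :
    Cfsg.blockRank p g₁ = Cfsg.blockRank p γ ∧ Nat.card g₁ = Nat.card γ := by
  classical
  have hPc' : Cfsg.IsBrauerPair p M (P.subgroupOf K) (localBlock K P hPK hCK e) :=
    ⟨hP.comap_subtype, isPBlock_localBlock K P hPK hCK e he⟩
  have hQP' : Subgroup.zpowers w ≤ P.subgroupOf K :=
    Subgroup.zpowers_le.mpr (Subgroup.mem_subgroupOf.mpr hw)
  have hab' : ∀ x ∈ P.subgroupOf K, ∀ y ∈ P.subgroupOf K, x * y = y * x := by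
    intro x hx y hy
    apply Subtype.ext
    exact hab _ (Subgroup.mem_subgroupOf.mp hx) _ (Subgroup.mem_subgroupOf.mp hy)
  have h1 := bp_watid_induced_of_subpairLE hM (P.subgroupOf K) hab' _ hPc' (Subgroup.zpowers w)
    hQP' g₁ hg₁
  have hL' : ∀ g : G, g ∈ L ↔ ∃ hg : g ∈ K,
      (⟨g, hg⟩ : K) ∈ Subgroup.centralizer ((Subgroup.zpowers w : Subgroup K) : Set K) := by
    intro g
    rw [hL g]
    constructor
    · rintro ⟨hg, hc⟩
      refine ⟨hg, ?_⟩
      rw [Subgroup.zpowers_eq_closure, Subgroup.centralizer_closure,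
        Subgroup.mem_centralizer_singleton_iff]
      exact Subtype.ext hc
    · rintro ⟨hg, hc⟩
      refine ⟨hg, ?_⟩
      rw [Subgroup.zpowers_eq_closure, Subgroup.centralizer_closure,
        Subgroup.mem_centralizer_singleton_iff] at hc
      exact congrArg Subtype.val hc
  obtain ⟨ψ, hψ⟩ : ∃ ψ, ψ = bp_watid_equiv K
    (Subgroup.centralizer ((Subgroup.zpowers w : Subgroup K) : Set K)) L hL' := ⟨_, rfl⟩
  have h2 : irrComp ψ '' (irrComp ψ.symm '' g₁) = g₁ := image_irrComp_symm_cancel ψ g₁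
  rw [← h2, hψ] at h1
  have h3 := (bp_watid_isInducedBlockIn_iff K P hPK hCK _ L hL' e he _).mp h1
  have hPL : P ≤ L := by
    intro x hx
    rw [hL]
    exact ⟨hPK hx, hab x hx _ hw⟩
  have hCL : Subgroup.centralizer (P : Set G) ≤ L := by
    intro x hx
    rw [hL]
    exact ⟨hCK hx, (Subgroup.mem_centralizer_iff.mp hx _ hw).symm⟩
  have h4 := bp_watid_isInducedBlockIn_unique hM L P hPL hCL e _ _ hγ h3
  rw [h4, ← hψ]
  exact ⟨(blockRank_image_irrComp p ψ.symm g₁).symm,
    (Nat.card_image_of_injective (irrComp_injective ψ.symm) g₁).symm⟩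

/-- **(ID2)**: the symmetric form consumed by the induction step: the block of `C_{K₁}(w₁)`
below `(P, e)` read in `K₁` and the block of `C_{K₂}(w₂)` below `(P, e)` read in `K₂` have the
same rank and the same number of characters when `K₁ ∩ C_G(w₁) = K₂ ∩ C_G(w₂)` -/
theorem bp_watid_symm (hM : Cfsg.IsPModular p M) (P : Subgroup G) (hP : IsPGroup p P)
    (hab : ∀ x ∈ P, ∀ y ∈ P, x * y = y * x)
    (e : Set (Cfsg.IrrCharacter (Subgroup.centralizer (P : Set G)))) (he : Cfsg.IsPBlock M e)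
    (K₁ : Subgroup G) (hPK₁ : P ≤ K₁) (hCK₁ : Subgroup.centralizer (P : Set G) ≤ K₁)
    (K₂ : Subgroup G) (hPK₂ : P ≤ K₂) (hCK₂ : Subgroup.centralizer (P : Set G) ≤ K₂)
    (w₁ : K₁) (hw₁ : (w₁ : G) ∈ P) (w₂ : K₂) (hw₂ : (w₂ : G) ∈ P)
    (hL : ∀ g : G, (g ∈ K₁ ∧ g * (w₁ : G) = (w₁ : G) * g) ↔
      (g ∈ K₂ ∧ g * (w₂ : G) = (w₂ : G) * g))
    (g₁ : Set (Cfsg.IrrCharacter
      (Subgroup.centralizer ((Subgroup.zpowers w₁ : Subgroup K₁) : Set K₁))))
    (hg₁ : Cfsg.SubpairLE p M (Subgroup.zpowers w₁) g₁ (P.subgroupOf K₁)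
      (localBlock K₁ P hPK₁ hCK₁ e))
    (g₂ : Set (Cfsg.IrrCharacter
      (Subgroup.centralizer ((Subgroup.zpowers w₂ : Subgroup K₂) : Set K₂))))
    (hg₂ : Cfsg.SubpairLE p M (Subgroup.zpowers w₂) g₂ (P.subgroupOf K₂)
      (localBlock K₂ P hPK₂ hCK₂ e)) :
    Cfsg.blockRank p g₁ = Cfsg.blockRank p g₂ ∧ Nat.card g₁ = Nat.card g₂ := by
  classical
  obtain ⟨L, hL₁⟩ : ∃ L : Subgroup G, ∀ g : G, g ∈ L ↔
      g ∈ K₁ ∧ g * (w₁ : G) = (w₁ : G) * g := by
    refine ⟨K₁ ⊓ Subgroup.centralizer ({(w₁ : G)} : Set G), fun g => ?_⟩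
    rw [Subgroup.mem_inf, Subgroup.mem_centralizer_singleton_iff]
  have hL₂ : ∀ g : G, g ∈ L ↔ g ∈ K₂ ∧ g * (w₂ : G) = (w₂ : G) * g :=
    fun g => (hL₁ g).trans (hL g)
  have hPL : P ≤ L := by
    intro x hx
    rw [hL₁]
    exact ⟨hPK₁ hx, hab x hx _ hw₁⟩
  have hCL : Subgroup.centralizer (P : Set G) ≤ L := by
    intro x hx
    rw [hL₁]
    exact ⟨hCK₁ hx, (Subgroup.mem_centralizer_iff.mp hx _ hw₁).symm⟩
  obtain ⟨γ, hγ⟩ := exists_isInducedBlockIn hM L P hP hab hPL hCL e he
  obtain ⟨a1, a2⟩ := bp_watid_rank_card hM P hP hab e he K₁ hPK₁ hCK₁ w₁ hw₁ g₁ hg₁ L hL₁ γ hγ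
  obtain ⟨b1, b2⟩ := bp_watid_rank_card hM P hP hab e he K₂ hPK₂ hCK₂ w₂ hw₂ g₂ hg₂ L hL₂ γ hγ
  exact ⟨a1.trans b1.symm, a2.trans b2.symm⟩

end Pairs

end Cfsg.Agent.BP
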