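import Mathlib
import Cfsg.Prelude.Def_Characters
import Cfsg.Prelude.Def_Blocks
import Cfsg.Prelude.Def_BlockRank
import Cfsg.Prelude.Def_BlockLocal
import Cfsg.Prelude.Def_BrauerPairs
import Cfsg.Agent.BP.NilA

/-!
# S4644 (Watanabe): the interface definitions

`(D, e)` is a maximal Brauer pair of a block with `D` abelian, `T = N_G(D, e)`.  For `Q ≤ D`:

* `bp_watq_blk M D e Q` : the block of `C_G(Q)` induced by `e` inside `C_G(Q)` (`∅` if there is none),
* `bp_watq_k`, `bp_watq_l` : its number of characters and its `p`-regular rank,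
* `bp_watq_inv D 𝒯 lam` : the linear character `lam` of `D` is invariant under the subgroup `𝒯`,
* `bp_watq_FP p M D e T Q` : **the fixed point formula for the block `bp_watq_blk Q` of `C_G(Q)`,
  read inside `G`**: for every `T ∩ C_G(Q)`-invariant linear character `lam` of `D`,
  `[lam = 1] k(b_Q) |T_Q| = ∑_{v ∈ D} |C_{T_Q}(v)| lam(v) l(b_{Q⟨v⟩})`.
-/

set_option autoImplicit false

namespace Cfsg.Agent.BP

universe u

variable {G : Type u} [Group G]

/-- the existence statement behind `bp_watq_blk` -/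
def bp_watq_ex (M : Ideal Cfsg.AlgInt) (D : Subgroup G)
    (e : Set (Cfsg.IrrCharacter (Subgroup.centralizer (D : Set G)))) (Q : Subgroup G) : Prop :=
  ∃ f : Set (Cfsg.IrrCharacter (Subgroup.centralizer (Q : Set G))),
    Cfsg.IsInducedBlockIn M (Subgroup.centralizer (Q : Set G))
      (Subgroup.centralizer (D : Set G)) e f

open Classical in
/-- the block of `C_G(Q)` induced by `e` inside `C_G(Q)`; `∅` if there is none -/
noncomputable def bp_watq_blk (M : Ideal Cfsg.AlgInt) (D : Subgroup G)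
    (e : Set (Cfsg.IrrCharacter (Subgroup.centralizer (D : Set G)))) (Q : Subgroup G) :
    Set (Cfsg.IrrCharacter (Subgroup.centralizer (Q : Set G))) :=
  if h : bp_watq_ex M D e Q then h.choose else ∅

theorem bp_watq_blk_spec (M : Ideal Cfsg.AlgInt) (D : Subgroup G)
    (e : Set (Cfsg.IrrCharacter (Subgroup.centralizer (D : Set G)))) (Q : Subgroup G)
    (h : bp_watq_ex M D e Q) :
    Cfsg.IsInducedBlockIn M (Subgroup.centralizer (Q : Set G))
      (Subgroup.centralizer (D : Set G)) e (bp_watq_blk M D e Q) := by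
  unfold bp_watq_blk
  rw [dif_pos h]
  exact h.choose_spec

/-- `k(b_Q)` -/
noncomputable def bp_watq_k (M : Ideal Cfsg.AlgInt) (D : Subgroup G)
    (e : Set (Cfsg.IrrCharacter (Subgroup.centralizer (D : Set G)))) (Q : Subgroup G) : ℕ :=
  Nat.card (bp_watq_blk M D e Q)

/-- `l(b_Q)` -/
noncomputable def bp_watq_l (p : ℕ) (M : Ideal Cfsg.AlgInt) (D : Subgroup G)
    (e : Set (Cfsg.IrrCharacter (Subgroup.centralizer (D : Set G)))) (Q : Subgroup G) : ℕ :=
  Cfsg.blockRank p (bp_watq_blk M D e Q)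

/-- the linear character `lam` of `D` is invariant under conjugation by the elements of `𝒯` -/
def bp_watq_inv (D 𝒯 : Subgroup G) (lam : D →* ℂˣ) : Prop :=
  ∀ t ∈ 𝒯, ∀ w : D, ∀ h : t * (w : G) * t⁻¹ ∈ D, lam ⟨t * (w : G) * t⁻¹, h⟩ = lam w

open Classical in
/-- **the fixed point formula at `Q`**, read inside `G` -/
def bp_watq_FP (p : ℕ) (M : Ideal Cfsg.AlgInt) (D : Subgroup G)
    (e : Set (Cfsg.IrrCharacter (Subgroup.centralizer (D : Set G)))) (T Q : Subgroup G) : Prop :=
  ∀ lam : D →* ℂˣ, bp_watq_inv D (T ⊓ Subgroup.centralizer (Q : Set G)) lam →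
    (if lam = 1 then (bp_watq_k M D e Q : ℂ) *
        (Nat.card (T ⊓ Subgroup.centralizer (Q : Set G) : Subgroup G) : ℂ) else 0) =
      ∑ᶠ v : D, (Nat.card (T ⊓ Subgroup.centralizer (Q : Set G) ⊓
          Subgroup.centralizer ((Subgroup.zpowers (v : G) : Subgroup G) : Set G) : Subgroup G) : ℂ) *
        ((lam v : ℂˣ) : ℂ) * (bp_watq_l p M D e (Q ⊔ Subgroup.zpowers (v : G)) : ℂ)

end Cfsg.Agent.BP
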