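import Mathlib
import Cfsg.Prelude.Def_Characters
import Cfsg.Prelude.Def_Blocks
import Cfsg.Prelude.Def_BlockRank
import Cfsg.Prelude.Def_BlockLocal
import Cfsg.Prelude.Def_BrauerPairs
import Cfsg.Agent.BP.WatA2
import Cfsg.Agent.BP.WatQ

/-!
# Watanabe's theorem (S4644): the core induction over the subgroups `Q ≤ D`

From the fixed point formulas `bp_watq_FP p M D e T Q` for all `Q ≤ D` (helper4's interface, file
`WatQ.lean`) we derive, for `Q ≤ D` and `u ∈ D` fixed by `T ∩ C_G(Q)`:
`l(b_Q) = l(b_{Q⟨u⟩})` and `k(b_Q) = k(b_{Q⟨u⟩})` (`bp_watk_core`).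

Strong induction on `|D| - |Q|`; pure finite sums plus helper3's character `bp_wat_exists_char_subgroup`.
-/

set_option autoImplicit false
set_option linter.style.haveILetI false

namespace Cfsg.Agent.BP

open Subgroup

universe u

variable {G : Type u} [Group G]

/-- monotonicity of the coprimality hypothesis in `T` -/
theorem bp_watk_cop_mono (p : ℕ) (P T T' : Subgroup G) (hTN : T ≤ normalizer (P : Set G))
    (hT' : T' ≤ T) (hcop : ((centralizer (P : Set G)).relIndex T).Coprime p) :
    ((centralizer (P : Set G)).relIndex T').Coprime p := by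
  have hT'N : T' ≤ normalizer (P : Set G) := hT'.trans hTN
  rw [← bp_wat_card_range P T' hT'N]
  rw [← bp_wat_card_range P T hTN] at hcop
  have hle : (bp_wat_kappa P T' hT'N).range ≤ (bp_wat_kappa P T hTN).range := by
    rintro _ ⟨t, rfl⟩
    refine ⟨⟨(t : G), hT' t.2⟩, ?_⟩
    ext w
    rfl
  exact Nat.Coprime.coprime_dvd_left (Subgroup.card_dvd_of_le hle) hcop

/-- the centralizer of `Q ⊔ ⟨u⟩` -/
theorem bp_watk_mem_centralizer_sup (Q : Subgroup G) (u t : G) :
    t ∈ centralizer ((Q ⊔ zpowers u : Subgroup G) : Set G) ↔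
      t ∈ centralizer (Q : Set G) ∧ u * t = t * u := by
  constructor
  · intro h
    refine ⟨centralizer_le (show (Q : Set G) ⊆ ((Q ⊔ zpowers u : Subgroup G) : Set G) from
      fun x hx => (le_sup_left : Q ≤ Q ⊔ zpowers u) hx) h, ?_⟩
    exact mem_centralizer_iff.mp h u ((le_sup_right : zpowers u ≤ Q ⊔ zpowers u)
      (mem_zpowers u))
  · rintro ⟨hQ, hu⟩
    have hle : Q ⊔ zpowers u ≤ centralizer ({t} : Set G) := by
      apply sup_le
      · intro x hx
        rw [mem_centralizer_singleton_iff]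
        exact mem_centralizer_iff.mp hQ x hx
      · rw [zpowers_le, mem_centralizer_singleton_iff]
        exact hu
    rw [mem_centralizer_iff]
    intro x hx
    exact mem_centralizer_singleton_iff.mp (hle hx)

/-- strict growth of the order -/
theorem bp_watk_card_lt [Finite G] {A B : Subgroup G} (h : A ≤ B) (hne : A ≠ B) :
    Nat.card A < Nat.card B :=
  lt_of_le_of_ne (Subgroup.card_le_of_le h)
    (fun heq => hne (Subgroup.eq_of_le_of_card_ge h heq.ge))

set_option maxHeartbeats 800000 in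
/-- **the core of Watanabe's theorem**: induction over the subgroups of `D` -/
theorem bp_watk_core [Finite G] {p : ℕ} [hp : Fact p.Prime] (M : Ideal Cfsg.AlgInt)
    (D : Subgroup G) (e : Set (Cfsg.IrrCharacter (Subgroup.centralizer (D : Set G))))
    (T : Subgroup G) (hD : IsPGroup p D) (hDab : ∀ x ∈ D, ∀ y ∈ D, x * y = y * x)
    (hTN : T ≤ normalizer (D : Set G))
    (hcop : ((centralizer (D : Set G)).relIndex T).Coprime p)
    (hFP : ∀ Q : Subgroup G, Q ≤ D → bp_watq_FP p M D e T Q) :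
    ∀ (n : ℕ) (Q : Subgroup G), Q ≤ D → Nat.card D - Nat.card Q = n → ∀ u ∈ D,
      (∀ t ∈ T ⊓ centralizer (Q : Set G), t * u * t⁻¹ = u) →
      bp_watq_l p M D e Q = bp_watq_l p M D e (Q ⊔ zpowers u) ∧
        bp_watq_k M D e Q = bp_watq_k M D e (Q ⊔ zpowers u) := by
  classical
  intro n
  induction n using Nat.strong_induction_on with
  | _ n ih =>
  intro Q hQD hn u huD hfix
  by_cases huQ : u ∈ Q
  · have hsup : Q ⊔ zpowers u = Q := sup_eq_left.mpr (zpowers_le.mpr huQ)
    rw [hsup]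
    exact ⟨rfl, rfl⟩
  haveI : Fintype D := Fintype.ofFinite D
  obtain ⟨TQ, hTQ⟩ : ∃ TQ : Subgroup G, TQ = T ⊓ centralizer (Q : Set G) := ⟨_, rfl⟩
  have hQuD : Q ⊔ zpowers u ≤ D := sup_le hQD (zpowers_le.mpr huD)
  -- the stabilizer does not change
  have hTQu : T ⊓ centralizer ((Q ⊔ zpowers u : Subgroup G) : Set G) = TQ := by
    rw [hTQ]
    ext t
    rw [mem_inf, mem_inf, bp_watk_mem_centralizer_sup]
    constructor
    · rintro ⟨h1, h2, -⟩
      exact ⟨h1, h2⟩
    · rintro ⟨h1, h2⟩
      refine ⟨h1, h2, ?_⟩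
      have h3 := hfix t (mem_inf.mpr ⟨h1, h2⟩)
      calc u * t = (t * u * t⁻¹) * t := by rw [h3]
        _ = t * u := by group
  -- the induction hypothesis at the elements outside `Q`
  have hout : ∀ v : D, (v : G) ∉ Q →
      bp_watq_l p M D e (Q ⊔ zpowers (v : G)) =
        bp_watq_l p M D e (Q ⊔ zpowers u ⊔ zpowers (v : G)) := by
    intro v hv
    have hQ'D : Q ⊔ zpowers (v : G) ≤ D := sup_le hQD (zpowers_le.mpr v.2)
    have hne : Q ≠ Q ⊔ zpowers (v : G) := by
      intro heq
      apply hv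
      rw [heq]
      exact (le_sup_right : zpowers (v : G) ≤ Q ⊔ zpowers (v : G)) (mem_zpowers _)
    have hlt : Nat.card Q < Nat.card (Q ⊔ zpowers (v : G) : Subgroup G) :=
      bp_watk_card_lt le_sup_left hne
    have hle : Nat.card (Q ⊔ zpowers (v : G) : Subgroup G) ≤ Nat.card D :=
      Subgroup.card_le_of_le hQ'D
    have hm : Nat.card D - Nat.card (Q ⊔ zpowers (v : G) : Subgroup G) < n := by omega
    have hfix' : ∀ t ∈ T ⊓ centralizer ((Q ⊔ zpowers (v : G) : Subgroup G) : Set G),
        t * u * t⁻¹ = u := by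
      intro t ht
      apply hfix t
      rw [mem_inf] at ht ⊢
      exact ⟨ht.1, ((bp_watk_mem_centralizer_sup Q (v : G) t).mp ht.2).1⟩
    have h1 := (ih _ hm (Q ⊔ zpowers (v : G)) hQ'D rfl u huD hfix').1
    rw [h1, sup_right_comm]
  -- the two fixed point formulas, subtracted
  have hkey : ∀ lam : D →* ℂˣ, bp_watq_inv D TQ lam →
      (if lam = 1 then (bp_watq_k M D e Q : ℂ) * (Nat.card TQ : ℂ) else 0) -
        (if lam = 1 then (bp_watq_k M D e (Q ⊔ zpowers u) : ℂ) * (Nat.card TQ : ℂ) else 0) =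
      (Nat.card TQ : ℂ) *
        ((bp_watq_l p M D e Q : ℂ) - (bp_watq_l p M D e (Q ⊔ zpowers u) : ℂ)) *
        ∑ v ∈ Finset.univ.filter (fun v : D => (v : G) ∈ Q), ((lam v : ℂˣ) : ℂ) := by
    intro lam hinv
    have h1 := hFP Q hQD lam (by rw [← hTQ]; exact hinv)
    have h2 := hFP (Q ⊔ zpowers u) hQuD lam (by rw [hTQu]; exact hinv)
    rw [hTQu] at h2
    rw [← hTQ] at h1
    rw [finsum_eq_sum_of_fintype] at h1 h2
    have hA1 : (if lam = 1 then (bp_watq_k M D e Q : ℂ) * (Nat.card TQ : ℂ) else 0) =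
        ∑ v : D, (Nat.card (TQ ⊓ centralizer ((zpowers (v : G) : Subgroup G) : Set G) :
            Subgroup G) : ℂ) * ((lam v : ℂˣ) : ℂ) *
          (bp_watq_l p M D e (Q ⊔ zpowers (v : G)) : ℂ) := by
      by_cases hl1 : lam = 1
      · rw [if_pos hl1] at h1 ⊢
        exact h1
      · rw [if_neg hl1] at h1 ⊢
        exact h1
    have hA2 : (if lam = 1 then (bp_watq_k M D e (Q ⊔ zpowers u) : ℂ) * (Nat.card TQ : ℂ)
        else 0) =
        ∑ v : D, (Nat.card (TQ ⊓ centralizer ((zpowers (v : G) : Subgroup G) : Set G) :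
            Subgroup G) : ℂ) * ((lam v : ℂˣ) : ℂ) *
          (bp_watq_l p M D e (Q ⊔ zpowers u ⊔ zpowers (v : G)) : ℂ) := by
      by_cases hl1 : lam = 1
      · rw [if_pos hl1] at h2 ⊢
        exact h2
      · rw [if_neg hl1] at h2 ⊢
        exact h2
    rw [hA1, hA2, ← Finset.sum_sub_distrib, Finset.mul_sum, Finset.sum_filter]
    apply Finset.sum_congr rfl
    intro v _
    by_cases hv : (v : G) ∈ Q
    · rw [if_pos hv]
      have e1 : Q ⊔ zpowers (v : G) = Q := sup_eq_left.mpr (zpowers_le.mpr hv)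
      have e2 : Q ⊔ zpowers u ⊔ zpowers (v : G) = Q ⊔ zpowers u :=
        sup_eq_left.mpr ((zpowers_le.mpr hv).trans le_sup_left)
      have e3 : TQ ⊓ centralizer ((zpowers (v : G) : Subgroup G) : Set G) = TQ := by
        apply inf_eq_left.mpr
        rw [hTQ]
        intro t ht
        exact centralizer_le (show ((zpowers (v : G) : Subgroup G) : Set G) ⊆ (Q : Set G) from
          fun x hx => (zpowers_le.mpr hv) hx) (mem_inf.mp ht).2
      rw [e1, e2, e3]
      ring
    · rw [if_neg hv, hout v hv]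
      ring
  -- the order of `TQ` and the number of elements of `Q` are not zero
  have hc : (Nat.card TQ : ℂ) ≠ 0 := by
    have : 0 < Nat.card TQ := Nat.card_pos
    exact_mod_cast this.ne'
  -- a character trivial on `Q`, not trivial at `u`
  have hTQN : TQ ≤ normalizer (D : Set G) := by
    rw [hTQ]
    exact inf_le_left.trans hTN
  have hcopQ : ((centralizer (D : Set G)).relIndex TQ).Coprime p := by
    rw [hTQ]
    exact bp_watk_cop_mono p D T _ hTN inf_le_left hcop
  obtain ⟨lam₀, hinv₀, htriv₀, hne₀⟩ := bp_wat_exists_char_subgroup p D TQ hD hDab hTQN hcopQ Q hQD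
    (by
      intro z hz t ht
      rw [hTQ] at ht
      have h1 := mem_centralizer_iff.mp (mem_inf.mp ht).2 z hz
      calc t * z * t⁻¹ = (z * t) * t⁻¹ := by rw [h1]
        _ = z := by group)
    u huD (by rw [hTQ]; exact hfix) huQ
  have hinv₀' : bp_watq_inv D TQ lam₀ := by
    intro t ht w h
    exact hinv₀ t ht (w : G) w.2 h
  have hlam₀ : lam₀ ≠ 1 := by
    intro h
    apply hne₀
    rw [h]
    rfl
  have hδ : (bp_watq_l p M D e Q : ℂ) - (bp_watq_l p M D e (Q ⊔ zpowers u) : ℂ) = 0 := by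
    have h1 := hkey lam₀ hinv₀'
    rw [if_neg hlam₀, if_neg hlam₀, sub_zero] at h1
    have hsum : ∑ v ∈ Finset.univ.filter (fun v : D => (v : G) ∈ Q), ((lam₀ v : ℂˣ) : ℂ) =
        ((Finset.univ.filter (fun v : D => (v : G) ∈ Q)).card : ℂ) := by
      rw [Finset.sum_congr rfl (g := fun _ => (1 : ℂ))]
      · simp
      · intro v hv
        rw [Finset.mem_filter] at hv
        have := htriv₀ (v : G) hv.2
        have h2 : (⟨(v : G), hQD hv.2⟩ : D) = v := Subtype.ext rfl
        rw [h2] at this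
        rw [this]
        rfl
    rw [hsum] at h1
    have hN : ((Finset.univ.filter (fun v : D => (v : G) ∈ Q)).card : ℂ) ≠ 0 := by
      have : 0 < (Finset.univ.filter (fun v : D => (v : G) ∈ Q)).card := by
        apply Finset.card_pos.mpr
        refine ⟨(1 : D), ?_⟩
        rw [Finset.mem_filter]
        exact ⟨Finset.mem_univ _, Q.one_mem⟩
      exact_mod_cast this.ne'
    have h3 := h1.symm
    rcases mul_eq_zero.mp h3 with h4 | h4
    · rcases mul_eq_zero.mp h4 with h5 | h5
      · exact absurd h5 hc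
      · exact h5
    · exact absurd h4 hN
  have hl : bp_watq_l p M D e Q = bp_watq_l p M D e (Q ⊔ zpowers u) := by
    have := sub_eq_zero.mp hδ
    exact_mod_cast this
  refine ⟨hl, ?_⟩
  have hinv1 : bp_watq_inv D TQ 1 := by
    intro t _ w h
    rfl
  have h1 := hkey 1 hinv1
  rw [if_pos rfl, if_pos rfl, hδ, mul_zero, zero_mul, ← sub_mul] at h1
  rcases mul_eq_zero.mp h1 with h2 | h2
  · have := sub_eq_zero.mp h2
    exact_mod_cast this
  · exact absurd h2 hc

end Cfsg.Agent.BP
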