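import Mathlib
import Cfsg.Prelude.Def_Characters
import Cfsg.Prelude.Def_Blocks
import Cfsg.Prelude.Def_BlockRank
import Cfsg.Prelude.Def_BlockLocal
import Cfsg.Prelude.Def_BrauerPairs
import Cfsg.Agent.Helper6.LocalTransport
import Cfsg.Agent.Helper6.MaximalPairDefect
import Cfsg.Agent.Helper6.FreeActionNilpotent
import Cfsg.Agent.Helper6.NilAbF
import Cfsg.Agent.Helper6.K4G
import Cfsg.Agent.Helper6.K4H
import Cfsg.Agent.BP.StarStab
import Cfsg.Agent.BP.WatIdx
import Cfsg.Agent.BP.WatQ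
import Cfsg.Agent.BP.WatK

/-!
# Watanabe's theorem (S4644): the identifications at `Q = ⊥` and `Q = ⟨u⟩`, and the final form

* `bp_watl_blk_eq` : `bp_watq_blk M D e Q = β` for every `β` induced in `C_G(Q)` by `e`;
* `bp_watl_bot` : `l(b_⊥) = l(B)` and `k(b_⊥) = k(B)`;
* `bp_watl_at` : `l(b_{⊥ ⊔ ⟨u⟩}) = l(f)` and `k(b_{⊥ ⊔ ⟨u⟩}) = k(f)` for the block `f` of
  `H = C_G(u)` induced by `e` inside `H`;
* `bp_watl_final` : the statement of S4644 from the fixed point formulas `bp_watq_FP`.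
-/

set_option autoImplicit false
set_option linter.style.haveILetI false

namespace Cfsg.Agent.BP

open Cfsg.Agent.Helper6 Cfsg.Agent.Helper6.K4 Cfsg.Agent.Helper6.NilAb

universe u

variable {G : Type u} [Group G] {M : Ideal Cfsg.AlgInt}

/-- uniqueness: `bp_watq_blk` is any block induced by `e` inside `C_G(Q)` -/
theorem bp_watl_blk_eq (hM : M.IsMaximal) (D Q : Subgroup G)
    (hDK : D ≤ Subgroup.centralizer (Q : Set G))
    (hCK : Subgroup.centralizer (D : Set G) ≤ Subgroup.centralizer (Q : Set G))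
    (e : Set (Cfsg.IrrCharacter (Subgroup.centralizer (D : Set G))))
    (β : Set (Cfsg.IrrCharacter (Subgroup.centralizer (Q : Set G))))
    (hβ : Cfsg.IsInducedBlockIn M (Subgroup.centralizer (Q : Set G))
      (Subgroup.centralizer (D : Set G)) e β) :
    bp_watq_blk M D e Q = β := by
  have hspec := bp_watq_blk_spec M D e Q ⟨β, hβ⟩
  have h1 := (isInducedBlockIn_iff_localBlock _ D hDK hCK e β).mp hβ
  have h2 := (isInducedBlockIn_iff_localBlock _ D hDK hCK e _).mp hspec
  exact isInducedBlock_unique hM _ _ _ β h2 h1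

/-- transport of `IsInducedBlockIn` along an equality of subgroups -/
theorem bp_watl_isInducedBlockIn_castBlock {H X : Subgroup G} (h : H = X) (C : Subgroup G)
    (c : Set (Cfsg.IrrCharacter C)) (f : Set (Cfsg.IrrCharacter H))
    (hf : Cfsg.IsInducedBlockIn M H C c f) : Cfsg.IsInducedBlockIn M X C c (castBlock h f) := by
  subst h
  exact hf

theorem bp_watl_card_castBlock {H X : Subgroup G} (h : H = X) (f : Set (Cfsg.IrrCharacter H)) :
    Nat.card (castBlock h f) = Nat.card f := by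
  subst h
  rfl

/-- `C_G(⊥ ⊔ ⟨u⟩) = C_G(u)` -/
theorem bp_watl_centralizer_bot_sup (u : G) :
    Subgroup.centralizer ({u} : Set G) =
      Subgroup.centralizer (((⊥ : Subgroup G) ⊔ Subgroup.zpowers u : Subgroup G) : Set G) := by
  ext t
  rw [bp_watk_mem_centralizer_sup, Subgroup.mem_centralizer_singleton_iff]
  constructor
  · intro h
    refine ⟨?_, h.symm⟩
    rw [Subgroup.mem_centralizer_iff]
    intro x hx
    rw [SetLike.mem_coe, Subgroup.mem_bot] at hx
    rw [hx, one_mul, mul_one]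
  · rintro ⟨-, h⟩
    exact h.symm

/-- **the block at `Q = ⊥` is `B`** -/
theorem bp_watl_bot [Fintype G] {p : ℕ} [hp : Fact p.Prime] (hM : Cfsg.IsPModular p M)
    (B : Set (Cfsg.IrrCharacter G)) (P : Subgroup G)
    (c : Set (Cfsg.IrrCharacter (Subgroup.centralizer (P : Set G))))
    (hmax : Cfsg.IsMaximalBrauerPair p M B P c)
    (hPab : P ≤ Subgroup.centralizer (P : Set G)) :
    bp_watq_l p M P c ⊥ = Cfsg.blockRank p B ∧ bp_watq_k M P c ⊥ = Nat.card B := by
  have htop : Subgroup.centralizer (((⊥ : Subgroup G) : Subgroup G) : Set G) = ⊤ := by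
    rw [Subgroup.centralizer_eq_top_iff_subset]
    intro x hx
    rw [SetLike.mem_coe, Subgroup.mem_bot] at hx
    rw [hx]
    exact Subgroup.one_mem _
  have hQP : (⊥ : Subgroup G) ≤ P := bot_le
  have hPX : P ≤ Subgroup.centralizer (((⊥ : Subgroup G) : Subgroup G) : Set G) := by
    rw [htop]
    exact le_top
  have hCX : Subgroup.centralizer (P : Set G) ≤
      Subgroup.centralizer (((⊥ : Subgroup G) : Subgroup G) : Set G) := by
    rw [htop]
    exact le_top
  obtain ⟨β, hβ⟩ := exists_isInducedBlockIn hM _ P hmax.1.1.1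
    (fun x hx y hy => (Subgroup.mem_centralizer_iff.mp (hPab hy) x hx)) hPX hCX c hmax.1.1.2
  have heqβ := bp_watl_blk_eq hM.2.1 P ⊥ hPX hCX c β hβ
  have hle := subpairLE_of_isInducedBlockIn hM B P c hmax ⊥ hQP hPX hCX β hβ
  have hpair := isBrauerPairOf_of_subpairLE hM P _ c _ hle B hmax.1
  have hQab : (⊥ : Subgroup G) ≤ Subgroup.centralizer (((⊥ : Subgroup G) : Subgroup G) : Set G) :=
    bot_le
  have hind := isInducedBlock_of_isBrauerPairOf hM B _ hQab _ hpair
  have heq := induced_top_eq hM.2.1 _ htop _ B hind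
  constructor
  · unfold bp_watq_l
    rw [heqβ, heq, blockRank_image_irrComp]
  · unfold bp_watq_k
    rw [heqβ, heq]
    exact Nat.card_image_of_injective (irrComp_injective _) B

/-- **the block at `Q = ⊥ ⊔ ⟨u⟩` is `f`** -/
theorem bp_watl_at (hM : M.IsMaximal) (p : ℕ) (P : Subgroup G)
    (c : Set (Cfsg.IrrCharacter (Subgroup.centralizer (P : Set G))))
    (hPab : P ≤ Subgroup.centralizer (P : Set G)) (u : G) (hu : u ∈ P)
    (H : Subgroup G) (hH : H = Subgroup.centralizer ({u} : Set G))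
    (f : Set (Cfsg.IrrCharacter H))
    (hf : Cfsg.IsInducedBlockIn M H (Subgroup.centralizer (P : Set G)) c f) :
    bp_watq_l p M P c (⊥ ⊔ Subgroup.zpowers u) = Cfsg.blockRank p f ∧
      bp_watq_k M P c (⊥ ⊔ Subgroup.zpowers u) = Nat.card f := by
  have hHX : H = Subgroup.centralizer
      (((⊥ : Subgroup G) ⊔ Subgroup.zpowers u : Subgroup G) : Set G) :=
    hH.trans (bp_watl_centralizer_bot_sup u)
  have hQP : (⊥ : Subgroup G) ⊔ Subgroup.zpowers u ≤ P :=
    sup_le bot_le (Subgroup.zpowers_le.mpr hu)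
  have hPX : P ≤ Subgroup.centralizer
      (((⊥ : Subgroup G) ⊔ Subgroup.zpowers u : Subgroup G) : Set G) :=
    hPab.trans (Subgroup.centralizer_le hQP)
  have hCX : Subgroup.centralizer (P : Set G) ≤ Subgroup.centralizer
      (((⊥ : Subgroup G) ⊔ Subgroup.zpowers u : Subgroup G) : Set G) :=
    Subgroup.centralizer_le hQP
  have hβ := bp_watl_isInducedBlockIn_castBlock hHX _ c f hf
  have heqβ := bp_watl_blk_eq hM P _ hPX hCX c _ hβ
  constructor
  · unfold bp_watq_l
    rw [heqβ, blockRank_castBlock]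
  · unfold bp_watq_k
    rw [heqβ, bp_watl_card_castBlock]

/-- **Watanabe's theorem** (S4644) from the fixed point formulas -/
theorem bp_watl_final [Finite G] {p : ℕ} [hp : Fact p.Prime] (hM : Cfsg.IsPModular p M)
    (B : Set (Cfsg.IrrCharacter G)) (P : Subgroup G)
    (hPD : Cfsg.IsDefectGroup p M B P) (hPab : ∀ x ∈ P, ∀ y ∈ P, x * y = y * x)
    (c : Set (Cfsg.IrrCharacter (Subgroup.centralizer (P : Set G))))
    (hc : Cfsg.IsInducedBlock M (Subgroup.centralizer (P : Set G)) c B)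
    (T : Subgroup G)
    (hT : ∀ g : G, g ∈ T ↔ (g ∈ Subgroup.normalizer (P : Set G) ∧
      Cfsg.StabilizesBlock (Subgroup.centralizer (P : Set G)) c g))
    (u : G) (hu : u ∈ P) (huT : ∀ g ∈ T, g * u * g⁻¹ = u)
    (H : Subgroup G) (hH : H = Subgroup.centralizer ({u} : Set G))
    (f : Set (Cfsg.IrrCharacter H))
    (hf : Cfsg.IsInducedBlockIn M H (Subgroup.centralizer (P : Set G)) c f)
    (hFP : ∀ Q : Subgroup G, Q ≤ P → bp_watq_FP p M P c T Q) :
    Cfsg.blockRank p B = Cfsg.blockRank p f ∧ Nat.card B = Nat.card f := by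
  classical
  haveI := Fintype.ofFinite G
  have hmax := isMaximalBrauerPair_of_root hM B P hPD c hc
  have hPab' : P ≤ Subgroup.centralizer (P : Set G) := by
    intro x hx
    rw [Subgroup.mem_centralizer_iff]
    intro y hy
    exact hPab y hy x hx
  have hTN : T ≤ Subgroup.normalizer (P : Set G) := fun g hg => ((hT g).mp hg).1
  have hcop := bp_watidx_coprime hM B P c hmax hPab T hT
  have hcore := bp_watk_core M P c T hmax.1.1.1 hPab hTN hcop hFP _ ⊥ bot_le rfl u hu
    (fun t ht => huT t (Subgroup.mem_inf.mp ht).1)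
  obtain ⟨hb1, hb2⟩ := bp_watl_bot hM B P c hmax hPab'
  obtain ⟨ha1, ha2⟩ := bp_watl_at hM.2.1 p P c hPab' u hu H hH f hf
  exact ⟨by rw [← hb1, hcore.1, ha1], by rw [← hb2, hcore.2, ha2]⟩

end Cfsg.Agent.BP
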