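import Mathlib
import Cfsg.Prelude.Def_Characters
import Cfsg.Prelude.Def_Blocks
import Cfsg.Prelude.Def_BlockRank
import Cfsg.Prelude.Def_BlockLocal
import Cfsg.Prelude.Def_BrauerPairs
import Cfsg.Agent.BP.WatQ
import Cfsg.Agent.Helper6.NilAbF

/-!
# S4644 (Watanabe): the fixed point formula at `Q ≤ D`, from the abstract formula in the group
`C_G(Q)`

* `bp_watq_FPabs p M K` : the abstract fixed point formula for ALL blocks with abelian defect group of
  the group `K` (= (TR) + free action),
* `bp_watq_IDl p M D e Q _ _` : the identification of the ranks of the subsections of the block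
  `b_Q` of `C_G(Q)` with the numbers `l(b_{Q⟨v⟩})`,
* `bp_watq_FP_of_abs` : these two give `bp_watq_FP p M D e T Q`.
-/

set_option autoImplicit false
set_option linter.style.haveILetI false

namespace Cfsg.Agent.BP

open Cfsg.Agent.Helper6 Cfsg.Agent.Helper6.K4

universe u

variable {G : Type u} [Group G] {M : Ideal Cfsg.AlgInt}

open Classical in
/-- the abstract fixed point formula for the blocks with abelian defect groups of one group `K` -/
def bp_watq_FPabs (p : ℕ) (M : Ideal Cfsg.AlgInt) (K : Type u) [Group K] : Prop :=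
  ∀ (b : Set (Cfsg.IrrCharacter K)) (D' : Subgroup K)
    (e' : Set (Cfsg.IrrCharacter (Subgroup.centralizer (D' : Set K)))),
    Cfsg.IsMaximalBrauerPair p M b D' e' → (∀ x ∈ D', ∀ y ∈ D', x * y = y * x) →
    ∀ T' : Subgroup K, (∀ g : K, g ∈ T' ↔ (g ∈ Subgroup.normalizer (D' : Set K) ∧
        Cfsg.StabilizesBlock (Subgroup.centralizer (D' : Set K)) e' g)) →
    ∀ lam : D' →* ℂˣ, bp_watq_inv D' T' lam →
    ∀ ℓ : D' → ℕ, (∀ (v : D') (β : Set (Cfsg.IrrCharacter
        (Subgroup.centralizer ((Subgroup.zpowers (v : K) : Subgroup K) : Set K)))),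
        Cfsg.SubpairLE p M (Subgroup.zpowers (v : K)) β D' e' → Cfsg.blockRank p β = ℓ v) →
      (if lam = 1 then (Nat.card b : ℂ) * (Nat.card T' : ℂ) else 0) =
        ∑ᶠ v : D', (Nat.card (T' ⊓ Subgroup.centralizer
            ((Subgroup.zpowers (v : K) : Subgroup K) : Set K) : Subgroup K) : ℂ) *
          ((lam v : ℂˣ) : ℂ) * (ℓ v : ℂ)

theorem bp_watq_le_centralizer (D Q : Subgroup G) (hab : ∀ x ∈ D, ∀ y ∈ D, x * y = y * x)
    (hQD : Q ≤ D) : D ≤ Subgroup.centralizer (Q : Set G) := fun u hu =>
  Subgroup.mem_centralizer_iff.mpr (fun q hq => hab q (hQD hq) u hu)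

theorem bp_watq_centralizer_le (D Q : Subgroup G) (hQD : Q ≤ D) :
    Subgroup.centralizer (D : Set G) ≤ Subgroup.centralizer (Q : Set G) :=
  Subgroup.centralizer_le (by exact_mod_cast hQD)

/-- the identification of the ranks of the subsections of `b_Q` (in the group `C_G(Q)`) -/
def bp_watq_IDl (p : ℕ) (M : Ideal Cfsg.AlgInt) (D : Subgroup G)
    (e : Set (Cfsg.IrrCharacter (Subgroup.centralizer (D : Set G)))) (Q : Subgroup G)
    (hDK : D ≤ Subgroup.centralizer (Q : Set G))
    (hCK : Subgroup.centralizer (D : Set G) ≤ Subgroup.centralizer (Q : Set G)) : Prop :=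
  ∀ (v : D.subgroupOf (Subgroup.centralizer (Q : Set G)))
    (β : Set (Cfsg.IrrCharacter (Subgroup.centralizer
      ((Subgroup.zpowers (v : Subgroup.centralizer (Q : Set G)) :
        Subgroup (Subgroup.centralizer (Q : Set G))) : Set (Subgroup.centralizer (Q : Set G)))))),
    Cfsg.SubpairLE p M (Subgroup.zpowers (v : Subgroup.centralizer (Q : Set G))) β
      (D.subgroupOf (Subgroup.centralizer (Q : Set G)))
      (localBlock (Subgroup.centralizer (Q : Set G)) D hDK hCK e) →
    Cfsg.blockRank p β =
      bp_watq_l p M D e (Q ⊔ Subgroup.zpowers (((v : Subgroup.centralizer (Q : Set G)) : G)))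

/-- normalizers: `K ∩ N_G(D)` read in `K`, for `D ≤ K` -/
theorem bp_watq_mem_normalizer_subgroupOf_iff (K D : Subgroup G) (hDK : D ≤ K) (g : K) :
    g ∈ Subgroup.normalizer ((D.subgroupOf K : Subgroup K) : Set K) ↔
      (g : G) ∈ Subgroup.normalizer (D : Set G) := by
  rw [Subgroup.mem_normalizer_iff, Subgroup.mem_normalizer_iff]
  constructor
  · intro h x
    constructor
    · intro hx
      have := (h ⟨x, hDK hx⟩).mp (Subgroup.mem_subgroupOf.mpr hx)
      exact Subgroup.mem_subgroupOf.mp this
    · intro hx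
      have hxK : x ∈ K := by
        have h2 : x = (g : G)⁻¹ * ((g : G) * x * (g : G)⁻¹) * (g : G) := by group
        rw [h2]
        exact K.mul_mem (K.mul_mem (K.inv_mem g.2) (hDK hx)) g.2
      have := (h ⟨x, hxK⟩).mpr (Subgroup.mem_subgroupOf.mpr hx)
      exact Subgroup.mem_subgroupOf.mp this
  · intro h x
    rw [Subgroup.mem_subgroupOf, Subgroup.mem_subgroupOf]
    exact h (x : G)

/-- centralizers of cyclic subgroups: `K ∩ C_G(v)` read in `K` -/
theorem bp_watq_mem_centralizer_zpowers_iff (K : Subgroup G) (v k : K) :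
    k ∈ Subgroup.centralizer ((Subgroup.zpowers v : Subgroup K) : Set K) ↔
      (k : G) ∈ Subgroup.centralizer ((Subgroup.zpowers (v : G) : Subgroup G) : Set G) := by
  rw [centralizer_zpowers_eq', centralizer_zpowers_eq', Subgroup.mem_centralizer_singleton_iff,
    Subgroup.mem_centralizer_singleton_iff]
  constructor
  · intro h
    exact congrArg Subtype.val h
  · intro h
    exact Subtype.ext h

theorem bp_watq_card_subgroupOf [Finite G] (Y K : Subgroup G) :
    Nat.card (Y.subgroupOf K) = Nat.card (Y ⊓ K : Subgroup G) := by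
  rw [← Subgroup.inf_subgroupOf_right Y K]
  exact Nat.card_congr (Subgroup.subgroupOfEquivOfLe inf_le_right).toEquiv

open Classical in
/-- **the fixed point formula at `Q`** from the abstract formula in `C_G(Q)` and the
identification of the subsections -/
theorem bp_watq_FP_of_abs [Fintype G] {p : ℕ} [hp : Fact p.Prime]
    (hM : Cfsg.IsPModular p M) (B : Set (Cfsg.IrrCharacter G)) (D : Subgroup G)
    (e : Set (Cfsg.IrrCharacter (Subgroup.centralizer (D : Set G))))
    (hmax : Cfsg.IsMaximalBrauerPair p M B D e)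
    (hab : ∀ x ∈ D, ∀ y ∈ D, x * y = y * x) (T : Subgroup G)
    (hT : ∀ g : G, g ∈ T ↔ (g ∈ Subgroup.normalizer (D : Set G) ∧
      Cfsg.StabilizesBlock (Subgroup.centralizer (D : Set G)) e g))
    (Q : Subgroup G) (hQD : Q ≤ D)
    (hABS : bp_watq_FPabs p M (Subgroup.centralizer (Q : Set G)))
    (hID : bp_watq_IDl p M D e Q (bp_watq_le_centralizer D Q hab hQD)
      (bp_watq_centralizer_le D Q hQD)) :
    bp_watq_FP p M D e T Q := by
  intro lam hlam
  have hDK := bp_watq_le_centralizer D Q hab hQD
  have hCK := bp_watq_centralizer_le D Q hQD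
  have hDe : Cfsg.IsBrauerPair p M D e := hmax.1.1
  -- the block of `C_G(Q)`
  have hex : bp_watq_ex M D e Q :=
    exists_isInducedBlockIn hM (Subgroup.centralizer (Q : Set G)) D hDe.1 hab hDK hCK e hDe.2
  have hf := bp_watq_blk_spec M D e Q hex
  have hmaxK := isMaximalBrauerPair_localBlock_of_isInducedBlockIn hM B D e hmax Q hQD hDK hCK
    _ hf
  have hab' : ∀ x ∈ D.subgroupOf (Subgroup.centralizer (Q : Set G)),
      ∀ y ∈ D.subgroupOf (Subgroup.centralizer (Q : Set G)), x * y = y * x := by
    intro x hx y hy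
    apply Subtype.ext
    exact hab _ (Subgroup.mem_subgroupOf.mp hx) _ (Subgroup.mem_subgroupOf.mp hy)
  -- the inertial group
  have hT' : ∀ g : Subgroup.centralizer (Q : Set G),
      g ∈ T.subgroupOf (Subgroup.centralizer (Q : Set G)) ↔
      (g ∈ Subgroup.normalizer ((D.subgroupOf (Subgroup.centralizer (Q : Set G)) :
          Subgroup (Subgroup.centralizer (Q : Set G))) : Set (Subgroup.centralizer (Q : Set G))) ∧
        Cfsg.StabilizesBlock (Subgroup.centralizer
          ((D.subgroupOf (Subgroup.centralizer (Q : Set G)) :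
            Subgroup (Subgroup.centralizer (Q : Set G))) : Set (Subgroup.centralizer (Q : Set G))))
          (localBlock (Subgroup.centralizer (Q : Set G)) D hDK hCK e) g) := by
    intro g
    rw [Subgroup.mem_subgroupOf, hT, bp_watq_mem_normalizer_subgroupOf_iff _ D hDK]
    constructor
    · rintro ⟨h1, h2⟩
      exact ⟨h1, (stabilizesBlock_localBlock_iff' _ D hDK hCK e g h1).mpr h2⟩
    · rintro ⟨h1, h2⟩
      exact ⟨h1, (stabilizesBlock_localBlock_iff' _ D hDK hCK e g h1).mp h2⟩
  -- the linear character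
  set eqv : D.subgroupOf (Subgroup.centralizer (Q : Set G)) ≃* D :=
    Subgroup.subgroupOfEquivOfLe hDK with heqv
  have heqv_coe : ∀ w : D.subgroupOf (Subgroup.centralizer (Q : Set G)),
      ((eqv w : D) : G) = ((w : Subgroup.centralizer (Q : Set G)) : G) := fun w => rfl
  set lam' : D.subgroupOf (Subgroup.centralizer (Q : Set G)) →* ℂˣ :=
    lam.comp eqv.toMonoidHom with hlam'
  have hlam'app : ∀ w, lam' w = lam (eqv w) := fun w => rfl
  have hinv' : bp_watq_inv (D.subgroupOf (Subgroup.centralizer (Q : Set G)))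
      (T.subgroupOf (Subgroup.centralizer (Q : Set G))) lam' := by
    intro t ht w h
    rw [hlam'app, hlam'app]
    have htT : (t : G) ∈ T ⊓ Subgroup.centralizer (Q : Set G) :=
      ⟨Subgroup.mem_subgroupOf.mp ht, t.2⟩
    have h' : (t : G) * ((eqv w : D) : G) * (t : G)⁻¹ ∈ D := Subgroup.mem_subgroupOf.mp h
    have := hlam (t : G) htT (eqv w) h'
    rw [← this]
    congr 1
  have h1iff : lam' = 1 ↔ lam = 1 := by
    constructor
    · intro h
      ext w
      have := congrArg (fun φ : D.subgroupOf (Subgroup.centralizer (Q : Set G)) →* ℂˣ =>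
        φ (eqv.symm w)) h
      simp only [hlam'app, MulEquiv.apply_symm_apply, MonoidHom.one_apply] at this
      rw [this]
      rfl
    · intro h
      ext w
      rw [hlam'app, h]
      rfl
  have key := hABS (bp_watq_blk M D e Q) _ _ hmaxK hab' _ hT' lam' hinv'
    (fun v => bp_watq_l p M D e
      (Q ⊔ Subgroup.zpowers (((v : Subgroup.centralizer (Q : Set G)) : G)))) hID
  -- rewriting
  have hcardT : Nat.card (T.subgroupOf (Subgroup.centralizer (Q : Set G))) =
      Nat.card (T ⊓ Subgroup.centralizer (Q : Set G) : Subgroup G) :=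
    bp_watq_card_subgroupOf T _
  have hcardC : ∀ v : D.subgroupOf (Subgroup.centralizer (Q : Set G)),
      Nat.card (T.subgroupOf (Subgroup.centralizer (Q : Set G)) ⊓ Subgroup.centralizer
        ((Subgroup.zpowers (v : Subgroup.centralizer (Q : Set G)) :
          Subgroup (Subgroup.centralizer (Q : Set G))) :
            Set (Subgroup.centralizer (Q : Set G))) :
          Subgroup (Subgroup.centralizer (Q : Set G))) =
      Nat.card (T ⊓ Subgroup.centralizer (Q : Set G) ⊓ Subgroup.centralizer
        ((Subgroup.zpowers ((eqv v : D) : G) : Subgroup G) : Set G) : Subgroup G) := by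
    intro v
    have h1 : T.subgroupOf (Subgroup.centralizer (Q : Set G)) ⊓ Subgroup.centralizer
        ((Subgroup.zpowers (v : Subgroup.centralizer (Q : Set G)) :
          Subgroup (Subgroup.centralizer (Q : Set G))) :
            Set (Subgroup.centralizer (Q : Set G))) =
        (T ⊓ Subgroup.centralizer
          ((Subgroup.zpowers ((eqv v : D) : G) : Subgroup G) : Set G)).subgroupOf
          (Subgroup.centralizer (Q : Set G)) := by
      ext k
      rw [Subgroup.mem_inf, Subgroup.mem_subgroupOf, Subgroup.mem_subgroupOf, Subgroup.mem_inf,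
        bp_watq_mem_centralizer_zpowers_iff]
      rfl
    rw [h1, bp_watq_card_subgroupOf, inf_right_comm]
  have hrhs : ∑ᶠ v : D.subgroupOf (Subgroup.centralizer (Q : Set G)),
      (Nat.card (T.subgroupOf (Subgroup.centralizer (Q : Set G)) ⊓ Subgroup.centralizer
        ((Subgroup.zpowers (v : Subgroup.centralizer (Q : Set G)) :
          Subgroup (Subgroup.centralizer (Q : Set G))) :
            Set (Subgroup.centralizer (Q : Set G))) :
          Subgroup (Subgroup.centralizer (Q : Set G))) : ℂ) * ((lam' v : ℂˣ) : ℂ) *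
        (bp_watq_l p M D e
          (Q ⊔ Subgroup.zpowers (((v : Subgroup.centralizer (Q : Set G)) : G))) : ℂ) =
      ∑ᶠ v : D, (Nat.card (T ⊓ Subgroup.centralizer (Q : Set G) ⊓
          Subgroup.centralizer ((Subgroup.zpowers (v : G) : Subgroup G) : Set G) : Subgroup G) : ℂ) *
        ((lam v : ℂˣ) : ℂ) * (bp_watq_l p M D e (Q ⊔ Subgroup.zpowers (v : G)) : ℂ) := by
    rw [← finsum_comp_equiv eqv.toEquiv]
    apply finsum_congr
    intro v
    rw [hcardC v]
    rfl
  rw [show (bp_watq_k M D e Q : ℂ) = (Nat.card (bp_watq_blk M D e Q) : ℂ) from rfl, ← hcardT]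
  by_cases h : lam = 1
  · rw [if_pos h]
    rw [if_pos (h1iff.mpr h)] at key
    rw [key, hrhs]
  · rw [if_neg h]
    rw [if_neg (fun h' => h (h1iff.mp h'))] at key
    rw [key, hrhs]

end Cfsg.Agent.BP
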