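import Mathlib
import Cfsg.Prelude.Def_Characters
import Cfsg.Prelude.Def_Blocks
import Cfsg.Prelude.Def_BlockRank
import Cfsg.Prelude.Def_BlockLocal
import Cfsg.Prelude.Def_BrauerPairs
import Cfsg.Agent.BP.WatQ2
import Cfsg.Agent.BP.WatC2

/-!
# S4644 (Watanabe): the abstract fixed point formula `bp_watq_FPabs` holds in every finite group

From the trace formula `bp_wat_tr_trace` (helper9) and the free action `bp_wat_star_mem`,
`bp_wat_free` (helper2).
-/

set_option autoImplicit false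
set_option linter.style.haveILetI false

namespace Cfsg.Agent.BP

open Cfsg.Agent.Helper6 Cfsg.Agent.Helper6.HtCen

universe u

variable {M : Ideal Cfsg.AlgInt}

/-- **the abstract fixed point formula** -/
theorem bp_watq_FPabs_holds {K : Type u} [Group K] [Fintype K] {p : ℕ} [hp : Fact p.Prime]
    (hM : Cfsg.IsPModular p M) : bp_watq_FPabs p M K := by
  classical
  intro b D' e' hmax hab T' hT' lam hinv ℓ hℓ
  haveI : Finite (Cfsg.IrrCharacter K) := irr_finite
  have hbfin : b.Finite := Set.toFinite b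
  have hPab : D' ≤ Subgroup.centralizer (D' : Set K) := fun u hu =>
    Subgroup.mem_centralizer_iff.mpr (fun q hq => hab q hq u hu)
  have hTeq : pairStabilizer D' e' = T' := by
    ext g
    rw [mem_pairStabilizer, hT']
  have hη : bp_wat_inv D' e' (fun w => ((lam w : ℂˣ) : ℂ)) := by
    intro t htN hst w w' hww'
    have htT : t ∈ T' := (hT' t).mpr ⟨htN, hst⟩
    have h : t * (w : K) * t⁻¹ ∈ D' := hww' ▸ w'.2
    have h1 := hinv t htT w h
    have h2 : w' = ⟨t * (w : K) * t⁻¹, h⟩ := Subtype.ext hww'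
    show ((lam w' : ℂˣ) : ℂ) = ((lam w : ℂˣ) : ℂ)
    rw [h2, h1]
  have hTR := bp_wat_tr_trace hM b D' e' hmax hPab _ hη
  rw [hTeq] at hTR
  -- the ranks
  have hrank : ∀ u : D', Cfsg.blockRank p (bp_pairAt p M D' e' (u : K)).2 = ℓ u := by
    intro u
    obtain ⟨f, hf⟩ := pair_eq_mk (Subgroup.zpowers (u : K)) (bp_pairAt p M D' e' (u : K))
      (bp_pairAt_fst p D' e' (u : K))
    have hle := bp_pairAt_le hM D' e' hmax.1.1 (u : K) u.2
    rw [hf] at hle ⊢
    exact hℓ u f hle
  -- the left side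
  have hLHS : ∑ᶠ χ ∈ b, Cfsg.classInner
      (bp_star p M D' e' (fun w => ((lam w : ℂˣ) : ℂ)) (χ : K → ℂ)) (χ : K → ℂ) =
      if lam = 1 then (Nat.card b : ℂ) else 0 := by
    by_cases h1 : lam = 1
    · rw [if_pos h1]
      have h2 : ∀ χ ∈ b, Cfsg.classInner
          (bp_star p M D' e' (fun w => ((lam w : ℂˣ) : ℂ))
            ((χ : Cfsg.IrrCharacter K) : K → ℂ)) (χ : K → ℂ) = 1 := by
        intro χ hχ
        have h3 : (fun w : D' => ((lam w : ℂˣ) : ℂ)) = fun _ => (1 : ℂ) := by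
          funext w
          rw [h1]
          rfl
        rw [h3, bp_star_one hM b D' e' hmax χ hχ, classInner_irr_self χ.2]
      rw [finsum_mem_congr rfl h2, finsum_mem_eq_finite_toFinset_sum _ hbfin, Finset.sum_const,
        nsmul_eq_mul, mul_one, ← Set.ncard_eq_toFinset_card b hbfin, Nat.card_coe_set_eq]
    · rw [if_neg h1]
      apply finsum_mem_eq_zero_of_forall_eq_zero
      intro χ hχ
      obtain ⟨ψ, -, hψeq, -⟩ := bp_wat_star_mem hM b D' e' hmax hPab lam hη χ hχ
      rw [← hψeq]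
      apply classInner_irr_ne ψ.2 χ.2
      intro heq
      apply h1
      exact bp_wat_free hM b D' e' hmax hPab lam hη χ hχ (hψeq.symm.trans heq)
  rw [hLHS] at hTR
  have hT0 : (Nat.card T' : ℂ) ≠ 0 := by
    have : 0 < Nat.card T' := Nat.card_pos
    exact_mod_cast this.ne'
  have hsum : ∑ᶠ v : D', (Nat.card (T' ⊓ Subgroup.centralizer
        ((Subgroup.zpowers (v : K) : Subgroup K) : Set K) : Subgroup K) : ℂ) *
        ((lam v : ℂˣ) : ℂ) * (ℓ v : ℂ) =
      (∑ u : D', (Nat.card (T' ⊓ Subgroup.centralizer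
        ((Subgroup.zpowers (u : K) : Subgroup K) : Set K) : Subgroup K) : ℂ) / (Nat.card T' : ℂ) *
        (((lam u : ℂˣ) : ℂ) * (Cfsg.blockRank p (bp_pairAt p M D' e' (u : K)).2 : ℂ))) *
        (Nat.card T' : ℂ) := by
    rw [finsum_eq_sum_of_fintype, Finset.sum_mul]
    apply Finset.sum_congr rfl
    intro u _
    rw [hrank u]
    field_simp
  rw [hsum, ← hTR]
  by_cases h1 : lam = 1
  · rw [if_pos h1, if_pos h1]
  · rw [if_neg h1, if_neg h1, zero_mul]

/-- **the fixed point formulas at all `Q ≤ D`**, modulo the identification of the subsections -/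
theorem bp_watq_FP_all {G : Type u} [Group G] [Fintype G] {p : ℕ} [hp : Fact p.Prime]
    (hM : Cfsg.IsPModular p M) (B : Set (Cfsg.IrrCharacter G)) (D : Subgroup G)
    (e : Set (Cfsg.IrrCharacter (Subgroup.centralizer (D : Set G))))
    (hmax : Cfsg.IsMaximalBrauerPair p M B D e)
    (hab : ∀ x ∈ D, ∀ y ∈ D, x * y = y * x) (T : Subgroup G)
    (hT : ∀ g : G, g ∈ T ↔ (g ∈ Subgroup.normalizer (D : Set G) ∧
      Cfsg.StabilizesBlock (Subgroup.centralizer (D : Set G)) e g))
    (hID : ∀ (Q : Subgroup G) (hQD : Q ≤ D),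
      bp_watq_IDl p M D e Q (bp_watq_le_centralizer D Q hab hQD) (bp_watq_centralizer_le D Q hQD)) :
    ∀ Q : Subgroup G, Q ≤ D → bp_watq_FP p M D e T Q := by
  intro Q hQD
  haveI : Fintype (Subgroup.centralizer (Q : Set G)) := Fintype.ofFinite _
  exact bp_watq_FP_of_abs hM B D e hmax hab T hT Q hQD (bp_watq_FPabs_holds hM) (hID Q hQD)

end Cfsg.Agent.BP
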