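import Mathlib
import Cfsg.Prelude.Def_Characters
import Cfsg.Prelude.Def_Blocks
import Cfsg.Prelude.Def_BlockRank
import Cfsg.Prelude.Def_BlockLocal
import Cfsg.Prelude.Def_BrauerPairs
import Cfsg.Agent.BP.WatQ3

/-!
# S4644 (Watanabe): comparison of block induction inside a subgroup `K` (read in the group `↥K`)
and inside `G`

For `D·C_G(D) ≤ K ≤ G`, a subgroup `L'` of the group `↥K` and the subgroup `L` of `G` with the same
elements, the block of `↥L'` induced (inside `↥K`) by `localBlock K D e` is the transport of the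
block of `↥L` induced (inside `G`) by `e`.
-/

set_option autoImplicit false
set_option linter.style.haveILetI false

namespace Cfsg.Agent.BP

open Cfsg.Agent.Helper6 Cfsg.Agent.Helper6.K4

universe u

variable {G : Type u} [Group G] {M : Ideal Cfsg.AlgInt}

/-- the obvious isomorphism between a subgroup `L'` of `↥K` and the subgroup `L` of `G` with the
same elements -/
def bp_watq_kappa (K L : Subgroup G) (L' : Subgroup K)
    (hL : ∀ g : K, g ∈ L' ↔ (g : G) ∈ L) (hLK : L ≤ K) : L' ≃* L where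
  toFun x := ⟨((x : K) : G), (hL x).mp x.2⟩
  invFun y := ⟨⟨(y : G), hLK y.2⟩, (hL _).mpr y.2⟩
  left_inv _ := Subtype.ext (Subtype.ext rfl)
  right_inv _ := Subtype.ext rfl
  map_mul' _ _ := Subtype.ext rfl

theorem bp_watq_coe_kappa (K L : Subgroup G) (L' : Subgroup K)
    (hL : ∀ g : K, g ∈ L' ↔ (g : G) ∈ L) (hLK : L ≤ K) (x : L') :
    ((bp_watq_kappa K L L' hL hLK x : L) : G) = ((x : K) : G) := rfl

/-- the induced central characters agree -/
theorem bp_watq_inducedCentralCharIn_sub (K D L : Subgroup G) (L' : Subgroup K)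
    (hL : ∀ g : K, g ∈ L' ↔ (g : G) ∈ L) (hLK : L ≤ K) (hDK : D ≤ K)
    (hCK : Subgroup.centralizer (D : Set G) ≤ K)
    (ξ : Cfsg.IrrCharacter (Subgroup.centralizer (D : Set G))) (h : K) :
    Cfsg.inducedCentralCharIn L' (Subgroup.centralizer ((D.subgroupOf K : Subgroup K) : Set K))
      (irrComp (centSubEquiv K D hDK hCK) ξ :
        Subgroup.centralizer ((D.subgroupOf K : Subgroup K) : Set K) → ℂ) h =
    Cfsg.inducedCentralCharIn L (Subgroup.centralizer (D : Set G))
      (ξ : Subgroup.centralizer (D : Set G) → ℂ) (h : G) := by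
  unfold Cfsg.inducedCentralCharIn
  refine finsum_mem_eq_of_bijOn (centSubEquiv K D hDK hCK) ?_ ?_
  · refine ⟨?_, (centSubEquiv K D hDK hCK).injective.injOn, ?_⟩
    · rintro k ⟨x, hx⟩
      refine ⟨⟨((x : K) : G), (hL x).mp x.2⟩, ?_⟩
      rw [coe_centSubEquiv]
      have := congrArg Subtype.val hx
      exact this
    · rintro k₂ ⟨x₂, hx₂⟩
      refine ⟨(centSubEquiv K D hDK hCK).symm k₂, ⟨⟨⟨(x₂ : G), hLK x₂.2⟩, (hL _).mpr x₂.2⟩, ?_⟩,
        (centSubEquiv K D hDK hCK).apply_symm_apply k₂⟩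
      apply Subtype.ext
      have h1 : (((centSubEquiv K D hDK hCK).symm k₂ :
          Subgroup.centralizer ((D.subgroupOf K : Subgroup K) : Set K)) : K) =
          ⟨(k₂ : G), hCK k₂.2⟩ := by
        apply Subtype.ext
        have := coe_centSubEquiv K D hDK hCK ((centSubEquiv K D hDK hCK).symm k₂)
        rw [(centSubEquiv K D hDK hCK).apply_symm_apply] at this
        exact this.symm
      rw [h1]
      exact hx₂
  · intro k _
    rw [irrComp_apply, irrComp_apply, map_one]

/-- **the comparison of the induced blocks** -/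
theorem bp_watq_induced_eq_image (hM : M.IsMaximal) (K D L : Subgroup G) (L' : Subgroup K)
    (hL : ∀ g : K, g ∈ L' ↔ (g : G) ∈ L) (hLK : L ≤ K) (hDK : D ≤ K)
    (hCK : Subgroup.centralizer (D : Set G) ≤ K)
    (e : Set (Cfsg.IrrCharacter (Subgroup.centralizer (D : Set G))))
    (β' : Set (Cfsg.IrrCharacter L')) (γ : Set (Cfsg.IrrCharacter L))
    (hβ' : Cfsg.IsInducedBlockIn M L'
      (Subgroup.centralizer ((D.subgroupOf K : Subgroup K) : Set K))
      (localBlock K D hDK hCK e) β')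
    (hγ : Cfsg.IsInducedBlockIn M L (Subgroup.centralizer (D : Set G)) e γ) :
    β' = irrComp (bp_watq_kappa K L L' hL hLK) '' γ := by
  obtain ⟨he, hγB, hγc⟩ := hγ
  obtain ⟨-, hβB, hβc⟩ := hβ'
  obtain ⟨ξ, hξ⟩ := isPBlock_nonempty' hM e he
  obtain ⟨χ, hχ⟩ := isPBlock_nonempty' hM γ hγB
  obtain ⟨χ', hχ'⟩ := isPBlock_nonempty' hM β' hβB
  set κ := bp_watq_kappa K L L' hL hLK with hκ
  have hξ' : irrComp (centSubEquiv K D hDK hCK) ξ ∈ localBlock K D hDK hCK e := ⟨ξ, hξ, rfl⟩
  -- `χ'` and the transport of `χ` lie in the same block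
  have hsame : Cfsg.SameBlock M (χ' : L' → ℂ) (irrComp κ χ : L' → ℂ) := by
    intro h'
    have h1 := hβc _ hξ' χ' hχ' h'
    rw [bp_watq_inducedCentralCharIn_sub K D L L' hL hLK hDK hCK ξ (h' : K)] at h1
    have h2 := hγc ξ hξ χ hχ (κ h')
    rw [bp_watq_coe_kappa] at h2
    have h3 : Cfsg.centralChar (irrComp κ χ : L' → ℂ) h' =
        Cfsg.centralChar (χ : L → ℂ) (κ h') :=
      centralChar_comp_mulEquiv κ (χ : L → ℂ) h'
    rw [h3]
    have h4 := MemLocalIdeal.sub hM h2 h1
    rwa [sub_sub_sub_cancel_left] at h4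
  have hmem : irrComp κ χ ∈ β' := by
    rw [eq_blockOf_of_mem hM β' hβB χ' hχ']
    exact hsame
  have hblk : Cfsg.IsPBlock M (irrComp κ '' γ) := isPBlock_image_irrComp κ γ hγB
  rw [eq_blockOf_of_mem hM β' hβB _ hmem,
    eq_blockOf_of_mem hM _ hblk (irrComp κ χ) ⟨χ, hχ, rfl⟩]

end Cfsg.Agent.BP
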