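import Mathlib
import Cfsg.Prelude.Def_Characters
import Cfsg.Prelude.Def_Blocks
import Cfsg.Prelude.Def_BlockRank
import Cfsg.Prelude.Def_BlockLocal
import Cfsg.Prelude.Def_BrauerPairs
import Cfsg.Agent.BP.WatQ5

/-!
# S4644 (Watanabe): the identification of the subsections of `b_Q` and the fixed point formulas
at all `Q ≤ D`

* `bp_watq_IDl_holds` : for `Q ≤ D`, `K = C_G(Q)`, `v ∈ D`: the block of `C_K(v)` below the maximal
  pair `(D, e)` read in `K` has the rank `l(b_{Q⟨v⟩})`,
* `bp_watq_FP_holds` : the fixed point formulas `bp_watq_FP p M D e T Q` for all `Q ≤ D`.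
-/

set_option autoImplicit false
set_option linter.style.haveILetI false

namespace Cfsg.Agent.BP

open Cfsg.Agent.Helper6 Cfsg.Agent.Helper6.K4 Cfsg.Agent.Helper6.NilAb

universe u

variable {G : Type u} [Group G] {M : Ideal Cfsg.AlgInt}

theorem bp_watq_mem_centralizer_sup_zpowers_iff (Q : Subgroup G) (v g : G) :
    g ∈ Subgroup.centralizer ((Q ⊔ Subgroup.zpowers v : Subgroup G) : Set G) ↔
      g ∈ Subgroup.centralizer (Q : Set G) ∧ g * v = v * g := by
  constructor
  · intro h
    refine ⟨Subgroup.centralizer_le (by exact_mod_cast (le_sup_left : Q ≤ Q ⊔ Subgroup.zpowers v)) h,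
      ?_⟩
    have h1 := Subgroup.mem_centralizer_iff.mp h v
      ((le_sup_right : Subgroup.zpowers v ≤ Q ⊔ Subgroup.zpowers v) (Subgroup.mem_zpowers v))
    exact h1.symm
  · rintro ⟨h1, h2⟩
    have hz : Subgroup.zpowers g ≤ Subgroup.centralizer
        ((Q ⊔ Subgroup.zpowers v : Subgroup G) : Set G) := by
      rw [Subgroup.le_centralizer_iff, sup_le_iff]
      constructor
      · rw [← Subgroup.le_centralizer_iff, Subgroup.zpowers_le]
        exact h1
      · rw [Subgroup.zpowers_le, centralizer_zpowers_eq', Subgroup.mem_centralizer_singleton_iff]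
        exact h2.symm
    exact hz (Subgroup.mem_zpowers g)

/-- **the identification of the subsections of `b_Q`** -/
theorem bp_watq_IDl_holds [Fintype G] {p : ℕ} [hp : Fact p.Prime]
    (hM : Cfsg.IsPModular p M) (B : Set (Cfsg.IrrCharacter G)) (D : Subgroup G)
    (e : Set (Cfsg.IrrCharacter (Subgroup.centralizer (D : Set G))))
    (hmax : Cfsg.IsMaximalBrauerPair p M B D e)
    (hab : ∀ x ∈ D, ∀ y ∈ D, x * y = y * x) (Q : Subgroup G) (hQD : Q ≤ D) :
    bp_watq_IDl p M D e Q (bp_watq_le_centralizer D Q hab hQD) (bp_watq_centralizer_le D Q hQD) := by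
  classical
  intro v β hβ
  have hDK := bp_watq_le_centralizer D Q hab hQD
  have hCK := bp_watq_centralizer_le D Q hQD
  have hDe : Cfsg.IsBrauerPair p M D e := hmax.1.1
  haveI : Fintype (Subgroup.centralizer (Q : Set G)) := Fintype.ofFinite _
  -- the block of `C_G(Q)` and its maximal pair
  have hex : bp_watq_ex M D e Q :=
    exists_isInducedBlockIn hM (Subgroup.centralizer (Q : Set G)) D hDe.1 hab hDK hCK e hDe.2
  have hf := bp_watq_blk_spec M D e Q hex
  have hmaxK := isMaximalBrauerPair_localBlock_of_isInducedBlockIn hM B D e hmax Q hQD hDK hCK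
    _ hf
  have hD'e' := hmaxK.1.1
  have hab' : ∀ x ∈ D.subgroupOf (Subgroup.centralizer (Q : Set G)),
      ∀ y ∈ D.subgroupOf (Subgroup.centralizer (Q : Set G)), x * y = y * x := by
    intro x hx y hy
    apply Subtype.ext
    exact hab _ (Subgroup.mem_subgroupOf.mp hx) _ (Subgroup.mem_subgroupOf.mp hy)
  -- the element `v`
  have hvD' : (v : Subgroup.centralizer (Q : Set G)) ∈
      D.subgroupOf (Subgroup.centralizer (Q : Set G)) := v.2
  have hv₀ : ((v : Subgroup.centralizer (Q : Set G)) : G) ∈ D := Subgroup.mem_subgroupOf.mp v.2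
  have hzD' : Subgroup.zpowers (v : Subgroup.centralizer (Q : Set G)) ≤
      D.subgroupOf (Subgroup.centralizer (Q : Set G)) := by
    rw [Subgroup.zpowers_le]; exact hvD'
  have hPH' : D.subgroupOf (Subgroup.centralizer (Q : Set G)) ≤ Subgroup.centralizer
      ((Subgroup.zpowers (v : Subgroup.centralizer (Q : Set G)) :
        Subgroup (Subgroup.centralizer (Q : Set G))) : Set (Subgroup.centralizer (Q : Set G))) :=
    bp_watq_le_centralizer _ _ hab' hzD'
  have hCH' := bp_watq_centralizer_le (D.subgroupOf (Subgroup.centralizer (Q : Set G)))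
    (Subgroup.zpowers (v : Subgroup.centralizer (Q : Set G))) hzD'
  -- in `K`: `β` is the induced block
  obtain ⟨β₀, hβ₀⟩ := exists_isInducedBlockIn hM
    (Subgroup.centralizer ((Subgroup.zpowers (v : Subgroup.centralizer (Q : Set G)) :
        Subgroup (Subgroup.centralizer (Q : Set G))) : Set (Subgroup.centralizer (Q : Set G))))
    (D.subgroupOf (Subgroup.centralizer (Q : Set G))) hD'e'.1 hab' hPH' hCH' _ hD'e'.2
  have hle₀ := subpairLE_of_isInducedBlockIn hM _ _ _ hmaxK
    (Subgroup.zpowers (v : Subgroup.centralizer (Q : Set G))) hzD' hPH' hCH' β₀ hβ₀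
  have hββ₀ : β = β₀ := subpairLE_unique hM _ _ _ _ hD'e' hzD' rfl β β₀ hβ hle₀
  rw [hββ₀]
  -- in `G`
  have hQ'D : Q ⊔ Subgroup.zpowers ((v : Subgroup.centralizer (Q : Set G)) : G) ≤ D :=
    sup_le hQD (by rw [Subgroup.zpowers_le]; exact hv₀)
  have hex' : bp_watq_ex M D e
      (Q ⊔ Subgroup.zpowers ((v : Subgroup.centralizer (Q : Set G)) : G)) :=
    exists_isInducedBlockIn hM _ D hDe.1 hab (bp_watq_le_centralizer D _ hab hQ'D)
      (bp_watq_centralizer_le D _ hQ'D) e hDe.2
  have hγ := bp_watq_blk_spec M D e _ hex'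
  have hL : ∀ g : Subgroup.centralizer (Q : Set G),
      g ∈ Subgroup.centralizer ((Subgroup.zpowers (v : Subgroup.centralizer (Q : Set G)) :
        Subgroup (Subgroup.centralizer (Q : Set G))) : Set (Subgroup.centralizer (Q : Set G))) ↔
      (g : G) ∈ Subgroup.centralizer
        ((Q ⊔ Subgroup.zpowers ((v : Subgroup.centralizer (Q : Set G)) : G) : Subgroup G) :
          Set G) := by
    intro g
    rw [bp_watq_mem_centralizer_sup_zpowers_iff, bp_watq_mem_centralizer_zpowers_iff,
      centralizer_zpowers_eq', Subgroup.mem_centralizer_singleton_iff]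
    constructor
    · intro h
      exact ⟨g.2, h⟩
    · rintro ⟨-, h⟩
      exact h
  have hLK : Subgroup.centralizer
      ((Q ⊔ Subgroup.zpowers ((v : Subgroup.centralizer (Q : Set G)) : G) : Subgroup G) :
        Set G) ≤ Subgroup.centralizer (Q : Set G) :=
    Subgroup.centralizer_le (by exact_mod_cast (le_sup_left :
      Q ≤ Q ⊔ Subgroup.zpowers ((v : Subgroup.centralizer (Q : Set G)) : G)))
  have himg := bp_watq_induced_eq_image hM.2.1 (Subgroup.centralizer (Q : Set G)) D _ _ hL hLK
    hDK hCK e β₀ _ hβ₀ hγ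
  rw [himg, blockRank_image_irrComp]
  rfl

/-- **the fixed point formulas at all `Q ≤ D`** -/
theorem bp_watq_FP_holds [Fintype G] {p : ℕ} [hp : Fact p.Prime]
    (hM : Cfsg.IsPModular p M) (B : Set (Cfsg.IrrCharacter G)) (D : Subgroup G)
    (e : Set (Cfsg.IrrCharacter (Subgroup.centralizer (D : Set G))))
    (hmax : Cfsg.IsMaximalBrauerPair p M B D e)
    (hab : ∀ x ∈ D, ∀ y ∈ D, x * y = y * x) (T : Subgroup G)
    (hT : ∀ g : G, g ∈ T ↔ (g ∈ Subgroup.normalizer (D : Set G) ∧
      Cfsg.StabilizesBlock (Subgroup.centralizer (D : Set G)) e g)) :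
    ∀ Q : Subgroup G, Q ≤ D → bp_watq_FP p M D e T Q :=
  bp_watq_FP_all hM B D e hmax hab T hT
    (fun Q hQD => bp_watq_IDl_holds hM B D e hmax hab Q hQD)

end Cfsg.Agent.BP
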