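import Mathlib
import Cfsg.Prelude.Def_Characters
import Cfsg.Prelude.Def_Blocks
import Cfsg.Prelude.Def_BlockRank
import Cfsg.Prelude.Def_BlockLocal
import Cfsg.Agent.Helper6.LocalTransport
import Cfsg.Agent.Helper6.BrCorrD
import Cfsg.Agent.Helper6.K4G

/-!
# Watanabe's theorem (S4644): transport of `IsInducedBlockIn` from a subgroup `K` (as a group)
to the ambient group

`K ≤ G`; `X'`, `C'` subgroups of the group `↥K`; `X`, `C` subgroups of `G`; `κ : X' ≃* X` and
`φ : C' ≃* C` isomorphisms compatible with the inclusions into `G`.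

* `bp_watt_inducedCentralCharIn` : the induced central characters correspond;
* `bp_watt_isInducedBlockIn` : `IsInducedBlockIn M X' C' (irrComp φ '' e) g₁` (in `↥K`) implies
  `IsInducedBlockIn M X C e (irrComp κ.symm '' g₁)` (in `G`);
* `bp_watt_rank_card` : ranks and cardinalities of `g₁` and of its transport agree.
-/

set_option autoImplicit false
set_option linter.style.haveILetI false

namespace Cfsg.Agent.BP

open Cfsg.Agent.Helper6 Cfsg.Agent.Helper6.K4

universe u

variable {G : Type u} [Group G] {M : Ideal Cfsg.AlgInt}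

/-- the induced central character computed in the group `↥K` and in `G` -/
theorem bp_watt_inducedCentralCharIn (K : Subgroup G) (X' C' : Subgroup K) (X C : Subgroup G)
    (κ : X' ≃* X) (hκ : ∀ x : X', ((κ x : X) : G) = ((x : K) : G))
    (φ : C' ≃* C) (hφ : ∀ c : C', ((φ c : C) : G) = ((c : K) : G))
    (ξ : C → ℂ) (h : X') :
    Cfsg.inducedCentralCharIn X' C' (fun c => ξ (φ c)) ((h : K)) =
      Cfsg.inducedCentralCharIn X C ξ ((κ h : X) : G) := by
  unfold Cfsg.inducedCentralCharIn
  refine finsum_mem_eq_of_bijOn φ ?_ ?_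
  · refine ⟨?_, φ.injective.injOn, ?_⟩
    · rintro c ⟨x, hx⟩
      refine ⟨κ x, ?_⟩
      rw [hκ, hκ, hφ]
      have := congrArg (fun k : K => (k : G)) hx
      simpa using this
    · rintro c ⟨x, hx⟩
      refine ⟨φ.symm c, ⟨κ.symm x, ?_⟩, φ.apply_symm_apply c⟩
      apply Subtype.ext
      have h1 : (((κ.symm x : X') : K) : G) = (x : G) := by
        have := hκ (κ.symm x)
        rw [κ.apply_symm_apply] at this
        exact this.symm
      have h2 : (((φ.symm c : C') : K) : G) = (c : G) := by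
        have := hφ (φ.symm c)
        rw [φ.apply_symm_apply] at this
        exact this.symm
      have h3 : ((h : K) : G) = ((κ h : X) : G) := (hκ h).symm
      simp only [Subgroup.coe_mul, Subgroup.coe_inv]
      rw [h1, h2, h3]
      exact hx
  · intro c _
    show ξ (φ c) / ξ (φ 1) = ξ (φ c) / ξ 1
    rw [map_one]

/-- **transport of the induced block** from the group `↥K` to `G` -/
theorem bp_watt_isInducedBlockIn (K : Subgroup G) (X' C' : Subgroup K) (X C : Subgroup G)
    (κ : X' ≃* X) (hκ : ∀ x : X', ((κ x : X) : G) = ((x : K) : G))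
    (φ : C' ≃* C) (hφ : ∀ c : C', ((φ c : C) : G) = ((c : K) : G))
    (e : Set (Cfsg.IrrCharacter C)) (he : Cfsg.IsPBlock M e) (g₁ : Set (Cfsg.IrrCharacter X'))
    (h : Cfsg.IsInducedBlockIn M X' C' (irrComp φ '' e) g₁) :
    Cfsg.IsInducedBlockIn M X C e (irrComp κ.symm '' g₁) := by
  obtain ⟨-, hg₁, hc⟩ := h
  refine ⟨he, isPBlock_image_irrComp κ.symm g₁ hg₁, ?_⟩
  rintro ξ hξ _ ⟨χ, hχ, rfl⟩ x
  have h1 := hc (irrComp φ ξ) ⟨ξ, hξ, rfl⟩ χ hχ (κ.symm x)
  have e1 : (irrComp φ ξ : C' → ℂ) = fun c => (ξ : C → ℂ) (φ c) := rfl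
  rw [e1, bp_watt_inducedCentralCharIn K X' C' X C κ hκ φ hφ (ξ : C → ℂ) (κ.symm x),
    κ.apply_symm_apply] at h1
  have e2 : Cfsg.centralChar (irrComp κ.symm χ : X → ℂ) x =
      Cfsg.centralChar (χ : X' → ℂ) (κ.symm x) := by
    have := centralChar_comp_mulEquiv κ.symm (χ : X' → ℂ) x
    exact this
  rw [e2]
  exact h1

/-- rank and cardinality are preserved by the transport -/
theorem bp_watt_rank_card (p : ℕ) {X' X : Type u} [Group X'] [Group X] (κ : X' ≃* X)
    (g₁ : Set (Cfsg.IrrCharacter X')) :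
    Cfsg.blockRank p (irrComp κ.symm '' g₁) = Cfsg.blockRank p g₁ ∧
      Nat.card (irrComp κ.symm '' g₁) = Nat.card g₁ :=
  ⟨blockRank_image_irrComp p κ.symm g₁, Nat.card_image_of_injective (irrComp_injective _) g₁⟩

end Cfsg.Agent.BP
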