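import Mathlib
import Cfsg.Prelude.Def_Characters
import Cfsg.Prelude.Def_Blocks
import Cfsg.Prelude.Def_BlockRank
import Cfsg.Prelude.Def_BlockLocal
import Cfsg.Prelude.Def_BrauerPairs
import Cfsg.Agent.Helper6.LocalTransport
import Cfsg.Agent.Helper6.SubpairUnique
import Cfsg.Agent.Helper6.FreeActionNilpotent
import Cfsg.Agent.Helper6.NilAbF
import Cfsg.Agent.BP.WatQ2
import Cfsg.Agent.BP.WatK
import Cfsg.Agent.BP.WatL
import Cfsg.Agent.BP.WatT

/-!
# Watanabe's theorem (S4644): the identification (ID-l) of the subsections of `b_Q`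

For `Q ≤ D`, `K = C_G(Q)` and `v ∈ D`: the block `β` of `C_K(v)` (a subgroup of the group `↥K`)
below the pair `(D, e)` read in `K` has the rank `l(b_{Q⟨v⟩})` (`bp_watu_IDl`), which is helper4's
hypothesis `bp_watq_IDl`.
-/

set_option autoImplicit false
set_option linter.style.haveILetI false

namespace Cfsg.Agent.BP

open Cfsg.Agent.Helper6 Cfsg.Agent.Helper6.K4 Cfsg.Agent.Helper6.NilAb

universe u

variable {G : Type u} [Group G] {M : Ideal Cfsg.AlgInt}

/-- membership in the centralizer of `⟨v⟩` inside the group `↥K` -/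
theorem bp_watu_mem_centralizer_zpowers (K : Subgroup G) (v x : K) :
    x ∈ Subgroup.centralizer ((Subgroup.zpowers v : Subgroup K) : Set K) ↔
      (v : G) * (x : G) = (x : G) * (v : G) := by
  constructor
  · intro h
    have h1 := Subgroup.mem_centralizer_iff.mp h v (Subgroup.mem_zpowers v)
    exact congrArg (fun k : K => (k : G)) h1
  · intro h
    have hle : Subgroup.zpowers v ≤ Subgroup.centralizer ({x} : Set K) := by
      rw [Subgroup.zpowers_le, Subgroup.mem_centralizer_singleton_iff]
      exact Subtype.ext h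
    rw [Subgroup.mem_centralizer_iff]
    intro y hy
    exact Subgroup.mem_centralizer_singleton_iff.mp (hle hy)

/-- the centralizer of `v` in `K = C_G(Q)`, as a group, is `C_G(Q ⊔ ⟨v⟩)` -/
def bp_watu_kappa (Q : Subgroup G) (v : Subgroup.centralizer (Q : Set G)) :
    Subgroup.centralizer ((Subgroup.zpowers v : Subgroup (Subgroup.centralizer (Q : Set G))) :
        Set (Subgroup.centralizer (Q : Set G))) ≃*
      Subgroup.centralizer ((Q ⊔ Subgroup.zpowers (v : G) : Subgroup G) : Set G) where
  toFun x := ⟨((x : Subgroup.centralizer (Q : Set G)) : G), by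
    rw [bp_watk_mem_centralizer_sup]
    exact ⟨(x : Subgroup.centralizer (Q : Set G)).2,
      (bp_watu_mem_centralizer_zpowers _ v x).mp x.2⟩⟩
  invFun y := ⟨⟨(y : G), ((bp_watk_mem_centralizer_sup Q (v : G) (y : G)).mp y.2).1⟩, by
    rw [bp_watu_mem_centralizer_zpowers]
    exact ((bp_watk_mem_centralizer_sup Q (v : G) (y : G)).mp y.2).2⟩
  left_inv x := Subtype.ext (Subtype.ext rfl)
  right_inv y := Subtype.ext rfl
  map_mul' a b := Subtype.ext rfl

theorem bp_watu_coe_kappa (Q : Subgroup G) (v : Subgroup.centralizer (Q : Set G))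
    (x : Subgroup.centralizer ((Subgroup.zpowers v : Subgroup (Subgroup.centralizer (Q : Set G))) :
        Set (Subgroup.centralizer (Q : Set G)))) :
    ((bp_watu_kappa Q v x : _) : G) = ((x : Subgroup.centralizer (Q : Set G)) : G) := rfl

set_option maxHeartbeats 1000000 in
/-- **(ID-l)**: the subsections of the block `b_Q` of `C_G(Q)` are the blocks `b_{Q⟨v⟩}` -/
theorem bp_watu_IDl [Fintype G] {p : ℕ} [hp : Fact p.Prime] (hM : Cfsg.IsPModular p M)
    (B : Set (Cfsg.IrrCharacter G)) (D : Subgroup G)
    (e : Set (Cfsg.IrrCharacter (Subgroup.centralizer (D : Set G))))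
    (hmax : Cfsg.IsMaximalBrauerPair p M B D e)
    (hab : ∀ x ∈ D, ∀ y ∈ D, x * y = y * x) (Q : Subgroup G) (hQD : Q ≤ D) :
    bp_watq_IDl p M D e Q (bp_watq_le_centralizer D Q hab hQD)
      (bp_watq_centralizer_le D Q hQD) := by
  classical
  intro v β hle
  have hDK := bp_watq_le_centralizer D Q hab hQD
  have hCK := bp_watq_centralizer_le D Q hQD
  have hDe : Cfsg.IsBrauerPair p M D e := hmax.1.1
  haveI : Fintype (Subgroup.centralizer (Q : Set G)) := Fintype.ofFinite _
  -- the block `b_Q` of `K = C_G(Q)` and its maximal pair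
  have hex : bp_watq_ex M D e Q :=
    exists_isInducedBlockIn hM (Subgroup.centralizer (Q : Set G)) D hDe.1 hab hDK hCK e hDe.2
  have hf := bp_watq_blk_spec M D e Q hex
  have hmaxK := isMaximalBrauerPair_localBlock_of_isInducedBlockIn hM B D e hmax Q hQD hDK hCK
    _ hf
  have hDeK : Cfsg.IsBrauerPair p M (D.subgroupOf (Subgroup.centralizer (Q : Set G)))
      (localBlock (Subgroup.centralizer (Q : Set G)) D hDK hCK e) := hmaxK.1.1
  have hab' : ∀ x ∈ D.subgroupOf (Subgroup.centralizer (Q : Set G)),
      ∀ y ∈ D.subgroupOf (Subgroup.centralizer (Q : Set G)), x * y = y * x := by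
    intro x hx y hy
    apply Subtype.ext
    exact hab _ (Subgroup.mem_subgroupOf.mp hx) _ (Subgroup.mem_subgroupOf.mp hy)
  -- inside the group `K`: `β` is induced by `e_K`
  have hvD : (v : Subgroup.centralizer (Q : Set G)) ∈
      D.subgroupOf (Subgroup.centralizer (Q : Set G)) := v.2
  have hQ'D : Subgroup.zpowers (v : Subgroup.centralizer (Q : Set G)) ≤
      D.subgroupOf (Subgroup.centralizer (Q : Set G)) := Subgroup.zpowers_le.mpr hvD
  have hDX : D.subgroupOf (Subgroup.centralizer (Q : Set G)) ≤
      Subgroup.centralizer ((Subgroup.zpowers (v : Subgroup.centralizer (Q : Set G)) :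
        Subgroup (Subgroup.centralizer (Q : Set G))) : Set (Subgroup.centralizer (Q : Set G))) := by
    intro x hx
    rw [bp_watu_mem_centralizer_zpowers]
    exact congrArg (fun k : Subgroup.centralizer (Q : Set G) => (k : G))
      (hab' _ hvD _ hx)
  have hCX : Subgroup.centralizer ((D.subgroupOf (Subgroup.centralizer (Q : Set G)) :
        Subgroup (Subgroup.centralizer (Q : Set G))) : Set (Subgroup.centralizer (Q : Set G))) ≤
      Subgroup.centralizer ((Subgroup.zpowers (v : Subgroup.centralizer (Q : Set G)) :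
        Subgroup (Subgroup.centralizer (Q : Set G))) : Set (Subgroup.centralizer (Q : Set G))) :=
    Subgroup.centralizer_le (by exact_mod_cast hQ'D)
  obtain ⟨g', hg'⟩ := exists_isInducedBlockIn hM
    (Subgroup.centralizer ((Subgroup.zpowers (v : Subgroup.centralizer (Q : Set G)) :
        Subgroup (Subgroup.centralizer (Q : Set G))) : Set (Subgroup.centralizer (Q : Set G))))
    (D.subgroupOf (Subgroup.centralizer (Q : Set G))) hDeK.1 hab' hDX hCX _ hDeK.2
  have hle' := subpairLE_of_isInducedBlockIn hM _ _ _ hmaxK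
    (Subgroup.zpowers (v : Subgroup.centralizer (Q : Set G))) hQ'D hDX hCX g' hg'
  have hβg : β = g' := subpairLE_unique hM _ _ _ _ hDeK hQ'D rfl β g' hle hle'
  -- transport to `G`
  have hind := bp_watt_isInducedBlockIn (M := M) (Subgroup.centralizer (Q : Set G))
    (Subgroup.centralizer ((Subgroup.zpowers (v : Subgroup.centralizer (Q : Set G)) :
        Subgroup (Subgroup.centralizer (Q : Set G))) : Set (Subgroup.centralizer (Q : Set G))))
    (Subgroup.centralizer ((D.subgroupOf (Subgroup.centralizer (Q : Set G)) :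
        Subgroup (Subgroup.centralizer (Q : Set G))) : Set (Subgroup.centralizer (Q : Set G))))
    (Subgroup.centralizer ((Q ⊔ Subgroup.zpowers ((v : Subgroup.centralizer (Q : Set G)) : G) :
        Subgroup G) : Set G))
    (Subgroup.centralizer (D : Set G))
    (bp_watu_kappa Q (v : Subgroup.centralizer (Q : Set G)))
    (bp_watu_coe_kappa Q (v : Subgroup.centralizer (Q : Set G)))
    (centSubEquiv (Subgroup.centralizer (Q : Set G)) D hDK hCK)
    (coe_centSubEquiv (Subgroup.centralizer (Q : Set G)) D hDK hCK)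
    e hDe.2 g' hg'
  have hvG : ((v : Subgroup.centralizer (Q : Set G)) : G) ∈ D := Subgroup.mem_subgroupOf.mp hvD
  have hQvD : Q ⊔ Subgroup.zpowers ((v : Subgroup.centralizer (Q : Set G)) : G) ≤ D :=
    sup_le hQD (Subgroup.zpowers_le.mpr hvG)
  have heq := bp_watl_blk_eq hM.2.1 D
    (Q ⊔ Subgroup.zpowers ((v : Subgroup.centralizer (Q : Set G)) : G))
    (bp_watq_le_centralizer D _ hab hQvD) (bp_watq_centralizer_le D _ hQvD) e _ hind
  unfold bp_watq_l
  rw [heq, hβg]
  exact (blockRank_image_irrComp p _ g').symm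

end Cfsg.Agent.BP
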